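import Cfsg.Agent.Lib.Lie.SzClass

/-!
Subfield subgroups of the Suzuki groups.
-/

set_option autoImplicit false

namespace CA.SzEmb

open Cfsg MulAction CA.SzBasic CA.SzGroup CA.SzClass Subgroup
open Matrix hiding J J_inv mul_inv_rev

variable {F : Type*} [Field F] [Fintype F] {m : ℕ} [hy : Hyp F m]

section Emb

variable {K : Type*} [Field K] [Fintype K] {k : ℕ} [hk : Hyp K k] (φ : K →+* F)
include hy hk φ

theorem dvd_of_hom : 2 * k + 1 ∣ 2 * m + 1 := by
  let _ := φ.toAlgebra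
  have h := Module.card_eq_pow_finrank (K := K) (V := F)
  rw [hy.hF, hk.hF, ← pow_mul] at h
  exact ⟨_, Nat.pow_right_injective le_rfl h⟩

theorem th_map (x : K) : th F (φ x) = φ (th K x) := by
  obtain ⟨d, hd⟩ := dvd_of_hom φ
  obtain ⟨j, rfl⟩ : Odd d := (Nat.odd_mul.1 (hd ▸ odd_two_mul_add_one m)).2
  have h1 : m + 1 = (2 * k + 1) * j + (k + 1) := by nlinarith
  rw [th_apply, th_apply, ← map_pow, h1, pow_add, pow_mul x, pow_mul 2, ← hk.hF, FiniteField.pow_card_pow]

/-- the map on matrices -/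
def embSL : G K →* SpecialLinearGroup (Fin 4) F := (SpecialLinearGroup.map φ).comp (Sz K k).subtype

theorem embSL_val (g : G K) : ((embSL φ g : SpecialLinearGroup (Fin 4) F) : Matrix (Fin 4) (Fin 4) F) =
    (mat g).map φ := rfl

theorem embSL_T (a b : K) : embSL φ (T a b) = (T (φ a) (φ b) : G F) := by
  apply Subtype.ext
  show _ = mat _
  rw [embSL_val, mat_T, mat_T]
  ext i j; fin_cases i <;> fin_cases j <;> simp [f_def, th_map]

theorem embSL_D (μ : Kˣ) : embSL φ (D μ) = (D (Units.map (φ : K →* F) μ) : G F) := by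
  apply Subtype.ext
  show _ = mat _
  rw [embSL_val, mat_D, mat_D]
  ext i j; fin_cases i <;> fin_cases j <;> simp [th_map]

theorem embSL_J : embSL φ (J K) = (J F : G F) := by
  apply Subtype.ext
  show _ = mat _
  rw [embSL_val, mat_J, mat_J]
  ext i j; fin_cases i <;> fin_cases j <;> simp

theorem embSL_mem (g : G K) : embSL φ g ∈ Sz F m := by
  refine induction_on (P := fun g => embSL φ g ∈ Sz F m) (fun g h hg hh => ?_) (fun a b => ?_) (fun μ => ?_) ?_ g
  · rw [map_mul]; exact mul_mem hg hh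
  · rw [embSL_T]; exact Subtype.prop _
  · rw [embSL_D]; exact Subtype.prop _
  · rw [embSL_J]; exact Subtype.prop _

/-- the embedding of Suzuki groups induced by a field embedding -/
def emb : G K →* G F := (embSL φ).codRestrict _ (embSL_mem φ)

theorem mat_emb (g : G K) : mat (emb φ g) = (mat g).map φ := rfl

theorem emb_T (a b : K) : emb φ (T a b) = T (φ a) (φ b) := Subtype.ext (embSL_T φ a b)

theorem emb_D (μ : Kˣ) : emb φ (D μ) = D (Units.map (φ : K →* F) μ) := Subtype.ext (embSL_D φ μ)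

theorem emb_J : emb φ (J K) = J F := Subtype.ext (embSL_J φ)

theorem emb_injective : Function.Injective (emb φ) := fun g h e => by
  apply mat_injective
  have h1 := congrArg mat e
  rw [mat_emb, mat_emb] at h1
  exact Matrix.map_injective φ.injective h1

theorem range_emb : (emb φ).range = SzClass.Sub φ.fieldRange := by
  apply le_antisymm
  · rintro _ ⟨g, rfl⟩
    refine induction_on (P := fun g => emb φ g ∈ SzClass.Sub φ.fieldRange) (fun g h hg hh => ?_) (fun a b => ?_)
      (fun μ => ?_) ?_ g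
    · rw [map_mul]; exact mul_mem hg hh
    · rw [emb_T]; exact T_mem_Sub ⟨a, rfl⟩ ⟨b, rfl⟩
    · rw [emb_D]; exact D_mem_Sub ⟨μ, rfl⟩
    · rw [emb_J]; exact J_mem_Sub
  · refine Sub_le ?_ ?_ ⟨_, emb_J φ⟩
    · rintro _ ⟨a, rfl⟩ _ ⟨b, rfl⟩
      exact ⟨_, emb_T φ a b⟩
    · rintro μ ⟨a, ha⟩
      have h0 : a ≠ 0 := by rintro rfl; exact μ.ne_zero (by rw [← ha, map_zero])
      refine ⟨D (Units.mk0 a h0), ?_⟩
      rw [emb_D]; congr 1; exact Units.ext ha

/-- the subfield subgroup is a Suzuki group -/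
noncomputable def subEquiv : SzClass.Sub φ.fieldRange ≃* G K :=
  (MulEquiv.subgroupCongr (range_emb φ).symm).trans (MonoidHom.ofInjective (emb_injective φ)).symm

theorem card_Sub : Nat.card (SzClass.Sub φ.fieldRange) = (2 ^ (2 * k + 1)) ^ 2 * ((2 ^ (2 * k + 1)) ^ 2 + 1) * (2 ^ (2 * k + 1) - 1) := by
  rw [Nat.card_congr (subEquiv φ).toEquiv, card_G]

end Emb

include hy

theorem exists_card_subfield (L : Subfield F) : ∃ k : ℕ, Nat.card L = 2 ^ (2 * k + 1) ∧ 2 * k + 1 ∣ 2 * m + 1 := by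
  classical
  have h := Module.card_eq_pow_finrank (K := L) (V := F)
  rw [hy.hF] at h
  obtain ⟨n, hn, e⟩ := (Nat.dvd_prime_pow Nat.prime_two).1 (h ▸ dvd_pow_self (Fintype.card L) Module.finrank_pos.ne')
  rw [e, ← pow_mul] at h
  have h2 := Nat.pow_right_injective le_rfl h
  obtain ⟨k, rfl⟩ : Odd n := (Nat.odd_mul.1 (h2 ▸ odd_two_mul_add_one m)).1
  exact ⟨k, by rw [Nat.card_eq_fintype_card, e], _, h2⟩

omit hy in
theorem subfield_eq_of_card {L L' : Subfield F} (h : Nat.card L = Nat.card L') : L = L' := by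
  classical
  have key : ∀ {L L' : Subfield F}, Nat.card L = Nat.card L' → L ≤ L' := by
    intro L L' h x hx
    have h1 : 1 < Nat.card L' := Finite.one_lt_card
    have hp : (Polynomial.X ^ Nat.card L' - Polynomial.X : Polynomial F) ≠ 0 := FiniteField.X_pow_card_sub_X_ne_zero F h1
    have hr : ∀ (M : Subfield F), Nat.card M = Nat.card L' → ∀ y ∈ M,
        y ∈ (Polynomial.X ^ Nat.card L' - Polynomial.X : Polynomial F).roots.toFinset := by
      intro M hM y hy
      have := congrArg Subtype.val (FiniteField.pow_card (⟨y, hy⟩ : M))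
      rw [← Nat.card_eq_fintype_card, hM] at this
      rw [Multiset.mem_toFinset, Polynomial.mem_roots hp]
      simpa [sub_eq_zero] using this
    have h2 : (L' : Set F).toFinset = (Polynomial.X ^ Nat.card L' - Polynomial.X : Polynomial F).roots.toFinset := by
      refine Finset.eq_of_subset_of_card_le (fun y hy => hr L' rfl y (by simpa using hy)) ?_
      refine (Multiset.toFinset_card_le _).trans ((Polynomial.card_roots' _).trans ?_)
      rw [FiniteField.X_pow_card_sub_X_natDegree_eq F h1, Set.toFinset_card, Nat.card_eq_fintype_card]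
      rfl
    have := hr L h x hx
    rw [← h2] at this
    simpa using this
  exact le_antisymm (key h) (key h.symm)

theorem exists_hyp (L : Subfield F) (h : ∃ x ∈ L, x ≠ 0 ∧ x ≠ 1) :
    ∃ k : ℕ, 1 ≤ k ∧ Nat.card L = 2 ^ (2 * k + 1) ∧ 2 * k + 1 ∣ 2 * m + 1 := by
  classical
  obtain ⟨k, h1, h2⟩ := exists_card_subfield L
  refine ⟨k, Nat.pos_of_ne_zero ?_, h1, h2⟩
  rintro rfl
  obtain ⟨x, hx, h0, h3⟩ := h
  have : Nat.card L ≤ 2 := h1.le
  have h4 := Finset.card_le_univ ({0, 1, ⟨x, hx⟩} : Finset L)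
  rw [Finset.card_eq_three.2 ⟨_, _, _, zero_ne_one, fun e => h0 (congrArg Subtype.val e).symm,
    fun e => h3 (congrArg Subtype.val e).symm, rfl⟩, ← Nat.card_eq_fintype_card] at h4
  omega

omit hy in
theorem exists_hom_range {K : Type*} [Field K] [Fintype K] (L : Subfield F) (h : Nat.card L = Fintype.card K) :
    ∃ φ : K →+* F, φ.fieldRange = L := by
  classical
  let e : K ≃+* L := FiniteField.ringEquivOfCardEq (by rw [← h, Nat.card_eq_fintype_card])
  refine ⟨L.subtype.comp e, le_antisymm ?_ fun x hx => ⟨e.symm ⟨x, hx⟩, by simp⟩⟩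
  rintro _ ⟨x, rfl⟩
  exact (e x).2

theorem exists_hom {K : Type*} [Field K] [Fintype K] {n : ℕ} (hK : Fintype.card K = 2 ^ n) (h : n ∣ 2 * m + 1) :
    Nonempty (K →+* F) := by
  have : CharP K 2 := by
    obtain ⟨p, hp, j, hpp, hn⟩ := FiniteField.card' K
    have h1 : p ∣ 2 ^ n := by rw [← hK, hn]; exact dvd_pow_self p j.ne_zero
    have h2 : p = 2 := (Nat.prime_dvd_prime_iff_eq hpp Nat.prime_two).mp (hpp.dvd_of_dvd_pow h1)
    exact h2 ▸ hp
  let _ := ZMod.algebra K 2
  let _ := ZMod.algebra F 2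
  have h1 := Module.card_eq_pow_finrank (K := ZMod 2) (V := K)
  have h2 := Module.card_eq_pow_finrank (K := ZMod 2) (V := F)
  rw [ZMod.card, hK] at h1
  rw [ZMod.card, hy.hF] at h2
  obtain ⟨φ⟩ := FiniteField.nonempty_algHom_of_finrank_dvd (F := ZMod 2) (K := K) (L := F)
    (by rw [← Nat.pow_right_injective le_rfl h1, ← Nat.pow_right_injective le_rfl h2]; exact h)
  exact ⟨φ⟩

theorem card_inj {k l : ℕ} (h : (2 ^ (2 * k + 1)) ^ 2 * ((2 ^ (2 * k + 1)) ^ 2 + 1) * (2 ^ (2 * k + 1) - 1) =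
    (2 ^ (2 * l + 1)) ^ 2 * ((2 ^ (2 * l + 1)) ^ 2 + 1) * (2 ^ (2 * l + 1) - 1)) : k = l := by
  have key : StrictMono fun k : ℕ => (2 ^ (2 * k + 1)) ^ 2 * ((2 ^ (2 * k + 1)) ^ 2 + 1) * (2 ^ (2 * k + 1) - 1) := by
    intro a b hab
    have h1 : 2 ^ (2 * a + 1) < 2 ^ (2 * b + 1) := Nat.pow_lt_pow_right (by norm_num) (by omega)
    have h2 : 1 < 2 ^ (2 * a + 1) := Nat.one_lt_two_pow (by omega)
    exact mul_lt_mul'' (mul_lt_mul'' (by gcongr) (by gcongr) (by positivity) (by positivity)) (by omega)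
      (by positivity) (by omega)
  exact key.injective h

end CA.SzEmb
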