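/-
Certificates for the torus, the Poincaré polynomials and the Coxeter relations (generated).
-/
import Cfsg.Agent.Lib.Lie.ChevOrd

set_option autoImplicit false
set_option Elab.async false

namespace CA.Chev

open Cfsg.Lie

variable {K : Type*} [Field K]

theorem smith_B2 : smithChk tabB2 (tb8 [0x8000, 0x201]) (tb8 [0x102, 0x80])
    (tb8 [0x201, 0x100]) (tb8 [0x8101, 0x100]) (getN [1, 2]) = true := by decide +kernel
theorem card_ker_B2 [Finite K] : Nat.card (tor (D := chevB2) (K := K)).ker = Nat.gcd 2 (Nat.card K - 1) := by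
  rw [card_tor_ker tab_B2 smith_B2]
  change ([1, 2].map fun d => Nat.gcd d (Nat.card K - 1)).prod = _
  simp [sq]
theorem pc0_B2 : poinChk tabB2 3 6 1 (nb 0x1020000030400)
    [1, 1, 1, 1] = true := by decide +kernel
theorem pc1_B2 : poinChk tabB2 1 3 0 (nb 0x1000002)
    [1, 1] = true := by decide +kernel
theorem poin_B2' (q : ℕ) : poin (JM chevB2 3) q =
    evalL [1, 1, 1, 1] q * (evalL [1, 1] q * 1) := by
  rw [poin_of_chk tab_B2 pc0_B2, poin_of_chk tab_B2 pc1_B2,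
    JM_zero, poin_empty]
theorem poin_B2 {q : ℕ} (hq : 1 ≤ q) : (q - 1) ^ 2 * poin (JM chevB2 3) q = (q ^ 2 - 1) * (q ^ 4 - 1) := by
  rw [poin_B2']
  have h : ∀ k, 1 ≤ q ^ k := fun k => Nat.one_le_pow k q hq
  simp only [evalL, List.foldr]
  zify [hq, h]
  ring
theorem card_W_B2 : Nat.card (W chevB2) = 8 := by
  rw [card_W, ← JM_univ]
  exact (poin_B2' 1).trans (by decide +kernel)
theorem card_group_B2 [Finite K] : Nat.gcd 2 (Nat.card K - 1) * Nat.card (chevB2.group K) =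
    Nat.card K ^ 4 * ((Nat.card K ^ 2 - 1) * (Nat.card K ^ 4 - 1)) := by
  have h := card_group (D := chevB2) (K := K)
  rw [card_ker_B2] at h
  rw [← poin_B2 (Nat.card_pos (α := K)), ← mul_assoc]
  exact h
theorem cox_B2 : ∃ e : W chevB2 ≃* (CoxeterMatrix.B 2).Group, ∀ i, e (sW i) = (CoxeterMatrix.B 2).simple i :=
  exists_coxeter tab_B2 (CoxeterMatrix.B 2) (show ∀ i j : Fin 2, ordChk tabB2 [i, j] ((CoxeterMatrix.B 2) i j) i = true by decide +kernel)
theorem coxOrd_B2 : orderOf ((List.finRange 2).map (CoxeterMatrix.B 2).simple).prod = 4 :=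
  orderOf_coxeter tab_B2 cox_B2 (0 : Fin 2) (show ordChk tabB2 (List.range tabB2.l) 4 0 = true by decide +kernel)

theorem smith_G2 : smithChk tabG2 (tb8 [0x8000, 0x201]) (tb8 [0x102, 0x80])
    (tb8 [0x201, 0x100]) (tb8 [0x8101, 0x100]) (getN [1, 1]) = true := by decide +kernel
theorem card_ker_G2 [Finite K] : Nat.card (tor (D := chevG2) (K := K)).ker = 1 := by
  rw [card_tor_ker tab_G2 smith_G2]
  change ([1, 1].map fun d => Nat.gcd d (Nat.card K - 1)).prod = _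
  simp [sq]
theorem pc0_G2 : poinChk tabG2 3 9 2 (nb 0x1020300000405060000)
    [1, 1, 1, 1, 1, 1] = true := by decide +kernel
theorem pc1_G2 : poinChk tabG2 2 1 0 (nb 0x102)
    [1, 1] = true := by decide +kernel
theorem poin_G2' (q : ℕ) : poin (JM chevG2 3) q =
    evalL [1, 1, 1, 1, 1, 1] q * (evalL [1, 1] q * 1) := by
  rw [poin_of_chk tab_G2 pc0_G2, poin_of_chk tab_G2 pc1_G2,
    JM_zero, poin_empty]
theorem poin_G2 {q : ℕ} (hq : 1 ≤ q) : (q - 1) ^ 2 * poin (JM chevG2 3) q = (q ^ 2 - 1) * (q ^ 6 - 1) := by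
  rw [poin_G2']
  have h : ∀ k, 1 ≤ q ^ k := fun k => Nat.one_le_pow k q hq
  simp only [evalL, List.foldr]
  zify [hq, h]
  ring
theorem card_W_G2 : Nat.card (W chevG2) = 12 := by
  rw [card_W, ← JM_univ]
  exact (poin_G2' 1).trans (by decide +kernel)
theorem card_group_G2 [Finite K] : 1 * Nat.card (chevG2.group K) =
    Nat.card K ^ 6 * ((Nat.card K ^ 2 - 1) * (Nat.card K ^ 6 - 1)) := by
  have h := card_group (D := chevG2) (K := K)
  rw [card_ker_G2] at h
  rw [← poin_G2 (Nat.card_pos (α := K)), ← mul_assoc]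
  exact h
theorem cox_G2 : ∃ e : W chevG2 ≃* (CoxeterMatrix.G₂).Group, ∀ i, e (sW i) = (CoxeterMatrix.G₂).simple i :=
  exists_coxeter tab_G2 (CoxeterMatrix.G₂) (show ∀ i j : Fin 2, ordChk tabG2 [i, j] ((CoxeterMatrix.G₂) i j) i = true by decide +kernel)
theorem coxOrd_G2 : orderOf ((List.finRange 2).map (CoxeterMatrix.G₂).simple).prod = 6 :=
  orderOf_coxeter tab_G2 cox_G2 (0 : Fin 2) (show ordChk tabG2 (List.range tabG2.l) 6 0 = true by decide +kernel)

theorem smith_D4 : smithChk tabD4 (tb8 [0x80, 0x8081, 0x808182, 0x1010202]) (tb8 [0x80, 0x8002, 0x800280, 0x1010080])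
    (tb8 [0x1000000, 0x2000001, 0x1800100, 0x2010000]) (tb8 [0x181, 0x1010082, 0x1000081, 0x1]) (getN [1, 1, 2, 2]) = true := by decide +kernel
theorem card_ker_D4 [Finite K] : Nat.card (tor (D := chevD4) (K := K)).ker = Nat.gcd 2 (Nat.card K - 1) ^ 2 := by
  rw [card_tor_ker tab_D4 smith_D4]
  change ([1, 1, 2, 2].map fun d => Nat.gcd d (Nat.card K - 1)).prod = _
  simp [sq]
theorem pc0_D4 : poinChk tabD4 15 23 13 (nb 0x1020303040503040405050506060607070806070808090a)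
    [1, 1, 3, 3, 4, 4, 3, 3, 1, 1] = true := by decide +kernel
theorem pc1_D4 : poinChk tabD4 13 12 5 (nb 0x1020000000000000000000000)
    [1, 1] = true := by decide +kernel
theorem pc2_D4 : poinChk tabD4 5 13 1 (nb 0x100000200000000000000000000)
    [1, 1] = true := by decide +kernel
theorem pc3_D4 : poinChk tabD4 1 6 0 (nb 0x1000000000200)
    [1, 1] = true := by decide +kernel
theorem poin_D4' (q : ℕ) : poin (JM chevD4 15) q =
    evalL [1, 1, 3, 3, 4, 4, 3, 3, 1, 1] q * (evalL [1, 1] q * (evalL [1, 1] q * (evalL [1, 1] q * 1))) := by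
  rw [poin_of_chk tab_D4 pc0_D4, poin_of_chk tab_D4 pc1_D4, poin_of_chk tab_D4 pc2_D4, poin_of_chk tab_D4 pc3_D4,
    JM_zero, poin_empty]
theorem poin_D4 {q : ℕ} (hq : 1 ≤ q) : (q - 1) ^ 4 * poin (JM chevD4 15) q = (q ^ 2 - 1) * (q ^ 4 - 1) * (q ^ 4 - 1) * (q ^ 6 - 1) := by
  rw [poin_D4']
  have h : ∀ k, 1 ≤ q ^ k := fun k => Nat.one_le_pow k q hq
  simp only [evalL, List.foldr]
  zify [hq, h]
  ring
theorem card_W_D4 : Nat.card (W chevD4) = 192 := by
  rw [card_W, ← JM_univ]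
  exact (poin_D4' 1).trans (by decide +kernel)
theorem card_group_D4 [Finite K] : Nat.gcd 2 (Nat.card K - 1) ^ 2 * Nat.card (chevD4.group K) =
    Nat.card K ^ 12 * ((Nat.card K ^ 2 - 1) * (Nat.card K ^ 4 - 1) * (Nat.card K ^ 4 - 1) * (Nat.card K ^ 6 - 1)) := by
  have h := card_group (D := chevD4) (K := K)
  rw [card_ker_D4] at h
  rw [← poin_D4 (Nat.card_pos (α := K)), ← mul_assoc]
  exact h
theorem cox_D4 : ∃ e : W chevD4 ≃* (coxeterD4).Group, ∀ i, e (sW i) = (coxeterD4).simple i :=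
  exists_coxeter tab_D4 (coxeterD4) (show ∀ i j : Fin 4, ordChk tabD4 [i, j] ((coxeterD4) i j) i = true by decide +kernel)
theorem coxOrd_D4 : orderOf ((List.finRange 4).map (coxeterD4).simple).prod = 6 :=
  orderOf_coxeter tab_D4 cox_D4 (0 : Fin 4) (show ordChk tabD4 (List.range tabD4.l) 6 0 = true by decide +kernel)

theorem smith_F4 : smithChk tabF4 (tb8 [0x80, 0x800001, 0x8081, 0x80818181]) (tb8 [0x80, 0x800002, 0x8080, 0x80020200])
    (tb8 [0x81010000, 0x83020001, 0x82020000, 0x81020100]) (tb8 [0x181, 0x1810002, 0x20082, 0x10081]) (getN [1, 1, 1, 1]) = true := by decide +kernel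
theorem card_ker_F4 [Finite K] : Nat.card (tor (D := chevF4) (K := K)).ker = 1 := by
  rw [card_tor_ker tab_F4 smith_F4]
  change ([1, 1, 1, 1].map fun d => Nat.gcd d (Nat.card K - 1)).prod = _
  simp [sq]
theorem pc0_F4 : poinChk tabF4 15 44 14 (nb 0x10000000203040505060708000000060708000000000000090a0b000000090a0b0c0c0d0e0f00000010000000)
    [1, 1, 1, 1, 2, 2, 2, 2, 2, 2, 2, 2, 1, 1, 1, 1] = true := by decide +kernel
theorem pc1_F4 : poinChk tabF4 14 6 6 (nb 0x1020300040506)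
    [1, 1, 1, 1, 1, 1] = true := by decide +kernel
theorem pc2_F4 : poinChk tabF4 6 5 2 (nb 0x10200030400)
    [1, 1, 1, 1] = true := by decide +kernel
theorem pc3_F4 : poinChk tabF4 2 4 0 (nb 0x100020000)
    [1, 1] = true := by decide +kernel
theorem poin_F4' (q : ℕ) : poin (JM chevF4 15) q =
    evalL [1, 1, 1, 1, 2, 2, 2, 2, 2, 2, 2, 2, 1, 1, 1, 1] q * (evalL [1, 1, 1, 1, 1, 1] q * (evalL [1, 1, 1, 1] q * (evalL [1, 1] q * 1))) := by
  rw [poin_of_chk tab_F4 pc0_F4, poin_of_chk tab_F4 pc1_F4, poin_of_chk tab_F4 pc2_F4, poin_of_chk tab_F4 pc3_F4,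
    JM_zero, poin_empty]
theorem poin_F4 {q : ℕ} (hq : 1 ≤ q) : (q - 1) ^ 4 * poin (JM chevF4 15) q = (q ^ 2 - 1) * (q ^ 6 - 1) * (q ^ 8 - 1) * (q ^ 12 - 1) := by
  rw [poin_F4']
  have h : ∀ k, 1 ≤ q ^ k := fun k => Nat.one_le_pow k q hq
  simp only [evalL, List.foldr]
  zify [hq, h]
  ring
theorem card_W_F4 : Nat.card (W chevF4) = 1152 := by
  rw [card_W, ← JM_univ]
  exact (poin_F4' 1).trans (by decide +kernel)
theorem card_group_F4 [Finite K] : 1 * Nat.card (chevF4.group K) =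
    Nat.card K ^ 24 * ((Nat.card K ^ 2 - 1) * (Nat.card K ^ 6 - 1) * (Nat.card K ^ 8 - 1) * (Nat.card K ^ 12 - 1)) := by
  have h := card_group (D := chevF4) (K := K)
  rw [card_ker_F4] at h
  rw [← poin_F4 (Nat.card_pos (α := K)), ← mul_assoc]
  exact h
theorem cox_F4 : ∃ e : W chevF4 ≃* (CoxeterMatrix.F₄).Group, ∀ i, e (sW i) = (CoxeterMatrix.F₄).simple i :=
  exists_coxeter tab_F4 (CoxeterMatrix.F₄) (show ∀ i j : Fin 4, ordChk tabF4 [i, j] ((CoxeterMatrix.F₄) i j) i = true by decide +kernel)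
theorem coxOrd_F4 : orderOf ((List.finRange 4).map (CoxeterMatrix.F₄).simple).prod = 12 :=
  orderOf_coxeter tab_F4 cox_F4 (0 : Fin 4) (show ordChk tabF4 (List.range tabF4.l) 12 0 = true by decide +kernel)

theorem smith_E6 : smithChk tabE6 (tb8 [0x80, 0x8000, 0x80008101, 0x8081008202, 0x800181, 0x808182830084]) (tb8 [0x80, 0x8000, 0x8000008002, 0x800280, 0x80028000, 0x800402800000])
    (tb8 [0x810100000000, 0x820200000000, 0x830200000001, 0x850400000100, 0x840400010000, 0x830401000000]) (tb8 [0x10081, 0x1008100, 0x100008202, 0x10000008304, 0x282, 0x181]) (getN [1, 1, 1, 1, 1, 3]) = true := by decide +kernel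
theorem card_ker_E6 [Finite K] : Nat.card (tor (D := chevE6) (K := K)).ker = Nat.gcd 3 (Nat.card K - 1) := by
  rw [card_tor_ker tab_E6 smith_E6]
  change ([1, 1, 1, 1, 1, 3].map fun d => Nat.gcd d (Nat.card K - 1)).prod = _
  simp [sq]
theorem pc0_E6 : poinChk tabE6 63 71 61 (nb 0x1020304050405060607080708090a0b05060707080908090a0b08090a0b090a0b0a0b0b0c0c0d0c0d0e0c0d0e0f0c0d0e0f0e0f101011120c0d0e0f100f10111112131213141516)
    [1, 1, 1, 2, 3, 3, 4, 5, 5, 5, 6, 6, 5, 5, 5, 4, 3, 3, 2, 1, 1, 1] = true := by decide +kernel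
theorem pc1_E6 : poinChk tabE6 61 25 53 (nb 0x102030403040505060700000000000405060607080708090a00)
    [1, 1, 2, 3, 3, 3, 3, 2, 1, 1] = true := by decide +kernel
theorem pc2_E6 : poinChk tabE6 53 38 5 (nb 0x10202030304000000000000000000000000000000000000000000000000000000000000000000)
    [1, 2, 2, 1] = true := by decide +kernel
theorem pc3_E6 : poinChk tabE6 5 16 4 (nb 0x100000000000000000000020000030000)
    [1, 1, 1] = true := by decide +kernel
theorem pc4_E6 : poinChk tabE6 4 5 0 (nb 0x10000020000)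
    [1, 1] = true := by decide +kernel
theorem poin_E6' (q : ℕ) : poin (JM chevE6 63) q =
    evalL [1, 1, 1, 2, 3, 3, 4, 5, 5, 5, 6, 6, 5, 5, 5, 4, 3, 3, 2, 1, 1, 1] q * (evalL [1, 1, 2, 3, 3, 3, 3, 2, 1, 1] q * (evalL [1, 2, 2, 1] q * (evalL [1, 1, 1] q * (evalL [1, 1] q * 1)))) := by
  rw [poin_of_chk tab_E6 pc0_E6, poin_of_chk tab_E6 pc1_E6, poin_of_chk tab_E6 pc2_E6, poin_of_chk tab_E6 pc3_E6, poin_of_chk tab_E6 pc4_E6,
    JM_zero, poin_empty]
theorem poin_E6 {q : ℕ} (hq : 1 ≤ q) : (q - 1) ^ 6 * poin (JM chevE6 63) q = (q ^ 2 - 1) * (q ^ 5 - 1) * (q ^ 6 - 1) * (q ^ 8 - 1) * (q ^ 9 - 1) * (q ^ 12 - 1) := by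
  rw [poin_E6']
  have h : ∀ k, 1 ≤ q ^ k := fun k => Nat.one_le_pow k q hq
  simp only [evalL, List.foldr]
  zify [hq, h]
  ring
theorem card_W_E6 : Nat.card (W chevE6) = 51840 := by
  rw [card_W, ← JM_univ]
  exact (poin_E6' 1).trans (by decide +kernel)
theorem card_group_E6 [Finite K] : Nat.gcd 3 (Nat.card K - 1) * Nat.card (chevE6.group K) =
    Nat.card K ^ 36 * ((Nat.card K ^ 2 - 1) * (Nat.card K ^ 5 - 1) * (Nat.card K ^ 6 - 1) * (Nat.card K ^ 8 - 1) * (Nat.card K ^ 9 - 1) * (Nat.card K ^ 12 - 1)) := by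
  have h := card_group (D := chevE6) (K := K)
  rw [card_ker_E6] at h
  rw [← poin_E6 (Nat.card_pos (α := K)), ← mul_assoc]
  exact h
theorem cox_E6 : ∃ e : W chevE6 ≃* (CoxeterMatrix.E₆).Group, ∀ i, e (sW i) = (CoxeterMatrix.E₆).simple i :=
  exists_coxeter tab_E6 (CoxeterMatrix.E₆) (show ∀ i j : Fin 6, ordChk tabE6 [i, j] ((CoxeterMatrix.E₆) i j) i = true by decide +kernel)
theorem coxOrd_E6 : orderOf ((List.finRange 6).map (CoxeterMatrix.E₆).simple).prod = 12 :=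
  orderOf_coxeter tab_E6 cox_E6 (0 : Fin 6) (show ordChk tabE6 (List.range tabE6.l) 12 0 = true by decide +kernel)

theorem smith_E7 : smithChk tabE7 (tb8 [0x80, 0x8000, 0x80008101, 0x8081008202, 0x808182008303, 0x800181, 0x80818283838083]) (tb8 [0x80, 0x8000, 0x800000008002, 0x800280, 0x80028000, 0x8002800000, 0x80040280000000])
    (tb8 [0x81010000000000, 0x82020000000000, 0x83020000000001, 0x85040000000100, 0x84040000010000, 0x83040001000000, 0x82040100000000]) (tb8 [0x10081, 0x1008100, 0x100008202, 0x10000008304, 0x1000000008406, 0x282, 0x181]) (getN [1, 1, 1, 1, 1, 1, 2]) = true := by decide +kernel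
theorem card_ker_E7 [Finite K] : Nat.card (tor (D := chevE7) (K := K)).ker = Nat.gcd 2 (Nat.card K - 1) := by
  rw [card_tor_ker tab_E7 smith_E7]
  change ([1, 1, 1, 1, 1, 1, 2].map fun d => Nat.gcd d (Nat.card K - 1)).prod = _
  simp [sq]
theorem pc0_E7 : poinChk tabE7 127 125 126 (nb 0x102030405060705060708070809090a0b08090a0a0b0c0b0c0d0e0c0d0e0f1011090a0b0b0c0d0c0d0e0f0d0e0f10110d0e0f10110e0f10110f101110111112121312131412131415121314151612131415161415161716171818191a12131415161715161718171819191a1b18191a1a1b1c1b1c1d1e1c1d1e1f202122)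
    [1, 1, 1, 1, 2, 2, 3, 3, 4, 4, 5, 5, 6, 6, 6, 6, 7, 7, 6, 6, 6, 6, 5, 5, 4, 4, 3, 3, 2, 2, 1, 1, 1, 1] = true := by decide +kernel
theorem pc1_E7 : poinChk tabE7 126 32 122 (nb 0x102030405060405060706070808090a070809090a0b0a0b0c0d0b0c0d0e0f1000)
    [1, 1, 1, 2, 2, 3, 3, 3, 3, 3, 3, 2, 2, 1, 1, 1] = true := by decide +kernel
theorem pc2_E7 : poinChk tabE7 122 16 90 (nb 0x102030304050405060705060708090000)
    [1, 1, 2, 2, 3, 2, 2, 1, 1] = true := by decide +kernel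
theorem pc3_E7 : poinChk tabE7 90 63 26 (nb 0x1020000000000000000000000000000000000000000000000000000000000000000000000000000000000000000000000000000000000000000000000000000)
    [1, 1] = true := by decide +kernel
theorem pc4_E7 : poinChk tabE7 26 14 10 (nb 0x10002000003000000040000000000)
    [1, 1, 1, 1] = true := by decide +kernel
theorem pc5_E7 : poinChk tabE7 10 7 8 (nb 0x100000002030000)
    [1, 1, 1] = true := by decide +kernel
theorem pc6_E7 : poinChk tabE7 8 3 0 (nb 0x1020000)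
    [1, 1] = true := by decide +kernel
theorem poin_E7' (q : ℕ) : poin (JM chevE7 127) q =
    evalL [1, 1, 1, 1, 2, 2, 3, 3, 4, 4, 5, 5, 6, 6, 6, 6, 7, 7, 6, 6, 6, 6, 5, 5, 4, 4, 3, 3, 2, 2, 1, 1, 1, 1] q * (evalL [1, 1, 1, 2, 2, 3, 3, 3, 3, 3, 3, 2, 2, 1, 1, 1] q * (evalL [1, 1, 2, 2, 3, 2, 2, 1, 1] q * (evalL [1, 1] q * (evalL [1, 1, 1, 1] q * (evalL [1, 1, 1] q * (evalL [1, 1] q * 1)))))) := by
  rw [poin_of_chk tab_E7 pc0_E7, poin_of_chk tab_E7 pc1_E7, poin_of_chk tab_E7 pc2_E7, poin_of_chk tab_E7 pc3_E7, poin_of_chk tab_E7 pc4_E7, poin_of_chk tab_E7 pc5_E7, poin_of_chk tab_E7 pc6_E7,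
    JM_zero, poin_empty]
theorem poin_E7 {q : ℕ} (hq : 1 ≤ q) : (q - 1) ^ 7 * poin (JM chevE7 127) q = (q ^ 2 - 1) * (q ^ 6 - 1) * (q ^ 8 - 1) * (q ^ 10 - 1) * (q ^ 12 - 1) * (q ^ 14 - 1) * (q ^ 18 - 1) := by
  rw [poin_E7']
  have h : ∀ k, 1 ≤ q ^ k := fun k => Nat.one_le_pow k q hq
  simp only [evalL, List.foldr]
  zify [hq, h]
  ring
theorem card_W_E7 : Nat.card (W chevE7) = 2903040 := by
  rw [card_W, ← JM_univ]
  exact (poin_E7' 1).trans (by decide +kernel)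
theorem card_group_E7 [Finite K] : Nat.gcd 2 (Nat.card K - 1) * Nat.card (chevE7.group K) =
    Nat.card K ^ 63 * ((Nat.card K ^ 2 - 1) * (Nat.card K ^ 6 - 1) * (Nat.card K ^ 8 - 1) * (Nat.card K ^ 10 - 1) * (Nat.card K ^ 12 - 1) * (Nat.card K ^ 14 - 1) * (Nat.card K ^ 18 - 1)) := by
  have h := card_group (D := chevE7) (K := K)
  rw [card_ker_E7] at h
  rw [← poin_E7 (Nat.card_pos (α := K)), ← mul_assoc]
  exact h
theorem cox_E7 : ∃ e : W chevE7 ≃* (CoxeterMatrix.E₇).Group, ∀ i, e (sW i) = (CoxeterMatrix.E₇).simple i :=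
  exists_coxeter tab_E7 (CoxeterMatrix.E₇) (show ∀ i j : Fin 7, ordChk tabE7 [i, j] ((CoxeterMatrix.E₇) i j) i = true by decide +kernel)
theorem coxOrd_E7 : orderOf ((List.finRange 7).map (CoxeterMatrix.E₇).simple).prod = 18 :=
  orderOf_coxeter tab_E7 cox_E7 (0 : Fin 7) (show ordChk tabE7 (List.range tabE7.l) 18 0 = true by decide +kernel)

theorem smith_E8 : smithChk tabE8 (tb8 [0x80, 0x8000, 0x80008101, 0x8081008202, 0x808182008303, 0x80818283008404, 0x800181, 0x8081828384838182]) (tb8 [0x80, 0x8000, 0x80000000008002, 0x800280, 0x80028000, 0x8002800000, 0x800280000000, 0x8004028000000000])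
    (tb8 [0x8101000000000000, 0x8202000000000000, 0x8302000000000001, 0x8504000000000100, 0x8404000000010000, 0x8304000001000000, 0x8204000100000000, 0x8104010000000000]) (tb8 [0x10081, 0x1008100, 0x100008202, 0x10000008304, 0x1000000008406, 0x100000000008508, 0x282, 0x181]) (getN [1, 1, 1, 1, 1, 1, 1, 1]) = true := by decide +kernel
theorem card_ker_E8 [Finite K] : Nat.card (tor (D := chevE8) (K := K)).ker = 1 := by
  rw [card_tor_ker tab_E8 smith_E8]
  change ([1, 1, 1, 1, 1, 1, 1, 1].map fun d => Nat.gcd d (Nat.card K - 1)).prod = _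
  simp [sq]
theorem pc0_E8 : poinChk tabE8 255 239 127 (nb 0x10203040506070708090a0b0c0d08090a0b0c0d0e0b0c0d0e0f0d0e0f100f10111112130e0f10111011121213141112131314151415161712131414151615161718161718191a1718191a1b1c1d131415151617161718191718191a1b18191a1b1c1d18191a1b1c1d191a1b1c1d1a1b1c1d1b1c1d1c1d1d1e1e1f1e1f201e1f20211e1f2021221e1f202122231e1f202122232021222324222324252425262627281e1f20212223242122232425232425262526272728292425262726272828292a272829292a2b2a2b2c2d28292a2a2b2c2b2c2d2e2c2d2e2f302d2e2f303132332e2f30313233343435363738393a)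
    [1, 1, 1, 1, 1, 1, 2, 2, 2, 2, 3, 3, 4, 4, 4, 4, 5, 5, 6, 6, 6, 6, 7, 7, 7, 7, 7, 7, 8, 8, 7, 7, 7, 7, 7, 7, 6, 6, 6, 6, 5, 5, 4, 4, 4, 4, 3, 3, 2, 2, 2, 2, 1, 1, 1, 1, 1, 1] = true := by decide +kernel
theorem pc1_E8 : poinChk tabE8 127 119 63 (nb 0x10002000003000000040000000005000000000006000000000006000000000700000008000009000a0b0000000000000700000000080000000900000a000b0c0000000a00000b000c0d00000c000d0e000e0f1000000d000e0f000f1011001011121300111213141516001213141516171718191a1b1c00)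
    [1, 1, 1, 1, 1, 2, 2, 2, 2, 3, 3, 3, 3, 3, 3, 3, 3, 3, 3, 2, 2, 2, 2, 1, 1, 1, 1, 1] = true := by decide +kernel
theorem pc2_E8 : poinChk tabE8 63 78 62 (nb 0x1000000000000000000000000000000000000000000020000000000000000000300000000000400000506000000000005000006070000070809000008090a0b0c0000090a0b0c0d0d0e0f10110000)
    [1, 1, 1, 1, 2, 2, 2, 2, 3, 2, 2, 2, 2, 1, 1, 1, 1] = true := by decide +kernel
theorem pc3_E8 : poinChk tabE8 62 11 30 (nb 0x10203040505060708090000)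
    [1, 1, 1, 1, 2, 1, 1, 1, 1] = true := by decide +kernel
theorem pc4_E8 : poinChk tabE8 30 10 14 (nb 0x102030404050607000000)
    [1, 1, 1, 2, 1, 1, 1] = true := by decide +kernel
theorem pc5_E8 : poinChk tabE8 14 21 10 (nb 0x1000000000203040000000000000000000000000000)
    [1, 1, 1, 1] = true := by decide +kernel
theorem pc6_E8 : poinChk tabE8 10 7 8 (nb 0x100020300000000)
    [1, 1, 1] = true := by decide +kernel
theorem pc7_E8 : poinChk tabE8 8 5 0 (nb 0x10200000000)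
    [1, 1] = true := by decide +kernel
theorem poin_E8' (q : ℕ) : poin (JM chevE8 255) q =
    evalL [1, 1, 1, 1, 1, 1, 2, 2, 2, 2, 3, 3, 4, 4, 4, 4, 5, 5, 6, 6, 6, 6, 7, 7, 7, 7, 7, 7, 8, 8, 7, 7, 7, 7, 7, 7, 6, 6, 6, 6, 5, 5, 4, 4, 4, 4, 3, 3, 2, 2, 2, 2, 1, 1, 1, 1, 1, 1] q * (evalL [1, 1, 1, 1, 1, 2, 2, 2, 2, 3, 3, 3, 3, 3, 3, 3, 3, 3, 3, 2, 2, 2, 2, 1, 1, 1, 1, 1] q * (evalL [1, 1, 1, 1, 2, 2, 2, 2, 3, 2, 2, 2, 2, 1, 1, 1, 1] q * (evalL [1, 1, 1, 1, 2, 1, 1, 1, 1] q * (evalL [1, 1, 1, 2, 1, 1, 1] q * (evalL [1, 1, 1, 1] q * (evalL [1, 1, 1] q * (evalL [1, 1] q * 1))))))) := by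
  rw [poin_of_chk tab_E8 pc0_E8, poin_of_chk tab_E8 pc1_E8, poin_of_chk tab_E8 pc2_E8, poin_of_chk tab_E8 pc3_E8, poin_of_chk tab_E8 pc4_E8, poin_of_chk tab_E8 pc5_E8, poin_of_chk tab_E8 pc6_E8, poin_of_chk tab_E8 pc7_E8,
    JM_zero, poin_empty]
theorem poin_E8 {q : ℕ} (hq : 1 ≤ q) : (q - 1) ^ 8 * poin (JM chevE8 255) q = (q ^ 2 - 1) * (q ^ 8 - 1) * (q ^ 12 - 1) * (q ^ 14 - 1) * (q ^ 18 - 1) * (q ^ 20 - 1) * (q ^ 24 - 1) * (q ^ 30 - 1) := by
  rw [poin_E8']
  have h : ∀ k, 1 ≤ q ^ k := fun k => Nat.one_le_pow k q hq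
  simp only [evalL, List.foldr]
  zify [hq, h]
  ring
theorem card_W_E8 : Nat.card (W chevE8) = 696729600 := by
  rw [card_W, ← JM_univ]
  exact (poin_E8' 1).trans (by decide +kernel)
theorem card_group_E8 [Finite K] : 1 * Nat.card (chevE8.group K) =
    Nat.card K ^ 120 * ((Nat.card K ^ 2 - 1) * (Nat.card K ^ 8 - 1) * (Nat.card K ^ 12 - 1) * (Nat.card K ^ 14 - 1) * (Nat.card K ^ 18 - 1) * (Nat.card K ^ 20 - 1) * (Nat.card K ^ 24 - 1) * (Nat.card K ^ 30 - 1)) := by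
  have h := card_group (D := chevE8) (K := K)
  rw [card_ker_E8] at h
  rw [← poin_E8 (Nat.card_pos (α := K)), ← mul_assoc]
  exact h
theorem cox_E8 : ∃ e : W chevE8 ≃* (CoxeterMatrix.E₈).Group, ∀ i, e (sW i) = (CoxeterMatrix.E₈).simple i :=
  exists_coxeter tab_E8 (CoxeterMatrix.E₈) (show ∀ i j : Fin 8, ordChk tabE8 [i, j] ((CoxeterMatrix.E₈) i j) i = true by decide +kernel)
theorem coxOrd_E8 : orderOf ((List.finRange 8).map (CoxeterMatrix.E₈).simple).prod = 30 :=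
  orderOf_coxeter tab_E8 cox_E8 (0 : Fin 8) (show ordChk tabE8 (List.range tabE8.l) 30 0 = true by decide +kernel)

end CA.Chev
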