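/-
Certificates for embeddings of root systems, graph automorphisms and special isogenies (generated).
-/
import Cfsg.Agent.Lib.Lie.ChevTw
import Cfsg.Agent.Lib.Lie.ChevOrdCert

set_option autoImplicit false
set_option Elab.async false

namespace CA.Chev

open Cfsg.Lie

variable {K : Type*} [Field K]

/-- root map -/
noncomputable def φB2F4 : ℕ → ℕ := nb 0x1e1c1b1916141311
/-- signs -/
noncomputable def ηB2F4 : ℕ → ℤ := zb 0x11111111
theorem tw_B2F4 : twChk tabB2 tabF4 0 φB2F4 (nb 0x7000605000400000300020100000000000000000000000000000000000000)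
    ηB2F4 (fun _ => 1) = true := by decide +kernel
theorem twS_B2F4 : simChk tabB2 tabF4 φB2F4 ηB2F4 [1, 2] = true := by decide +kernel
variable (K) in
/-- the substitution -/
noncomputable def twB2F4 : Tw chevB2 chevF4 K K :=
  Tw.ofChk tab_B2 tab_F4 tw_B2F4 (by simp) (fun _ => RingHom.id K) (by simp)
theorem twB2F4_pos (r : Rt chevB2) : Pos ((twB2F4 K).φ r) ↔ Pos r := (simChk_spec tab_B2 tab_F4 twS_B2F4).2 r
/-- node map -/
def ιB2F4 (i : Nd chevB2) : Nd chevF4 := ⟨[1, 2].getD i 0, ((simChk_spec tab_B2 tab_F4 twS_B2F4).1 i).1.1⟩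
theorem twB2F4_sim (i : Nd chevB2) : (twB2F4 K).φ (sim i) = sim (ιB2F4 i) :=
  Fin.ext ((simChk_spec tab_B2 tab_F4 twS_B2F4).1 i).1.2
theorem twB2F4_f (r : Rt chevB2) (t : K) : (twB2F4 K).f r t = ηB2F4 r * t := rfl
theorem twB2F4_f_sim (i : Nd chevB2) (t : K) : (twB2F4 K).f (sim i) t = t := by
  rw [twB2F4_f, sim_val, ((simChk_spec tab_B2 tab_F4 twS_B2F4).1 i).2, Int.cast_one, one_mul]

/-- root map -/
noncomputable def φD4E8 : ℕ → ℕ := nb 0x9894938f8e8d89888382877e71686d6c67666261605c5b57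
/-- signs -/
noncomputable def ηD4E8 : ℕ → ℤ := zb 0x111111881111111188111111
theorem tw_D4E8 : twChk tabD4 tabE8 0 φD4E8 (nb 0x17000000161500000014131200000011100d0000000f0e0000000c0000000000000000000000000b00000009080000000a0706000000050403000000020100000000000000000000000000000000000000000000000000000000000000000000000000000000000000000000000000000000000000000000000000000000000000000000000000000000000000000000000000000000000000)
    ηD4E8 (fun _ => 1) = true := by decide +kernel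
theorem twS_D4E8 : simChk tabD4 tabE8 φD4E8 ηD4E8 [1, 3, 2, 4] = true := by decide +kernel
variable (K) in
/-- the substitution -/
noncomputable def twD4E8 : Tw chevD4 chevE8 K K :=
  Tw.ofChk tab_D4 tab_E8 tw_D4E8 (by simp) (fun _ => RingHom.id K) (by simp)
theorem twD4E8_pos (r : Rt chevD4) : Pos ((twD4E8 K).φ r) ↔ Pos r := (simChk_spec tab_D4 tab_E8 twS_D4E8).2 r
/-- node map -/
def ιD4E8 (i : Nd chevD4) : Nd chevE8 := ⟨[1, 3, 2, 4].getD i 0, ((simChk_spec tab_D4 tab_E8 twS_D4E8).1 i).1.1⟩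
theorem twD4E8_sim (i : Nd chevD4) : (twD4E8 K).φ (sim i) = sim (ιD4E8 i) :=
  Fin.ext ((simChk_spec tab_D4 tab_E8 twS_D4E8).1 i).1.2
theorem twD4E8_f (r : Rt chevD4) (t : K) : (twD4E8 K).f r t = ηD4E8 r * t := rfl
theorem twD4E8_f_sim (i : Nd chevD4) (t : K) : (twD4E8 K).f (sim i) t = t := by
  rw [twD4E8_f, sim_val, ((simChk_spec tab_D4 tab_E8 twS_D4E8).1 i).2, Int.cast_one, one_mul]

/-- root map -/
noncomputable def φE6E8 : ℕ → ℕ := nb 0xccc2bcb9b8b2afaeabaaa9a6a5a4a3a29c9998959493908f8e8d8a8988878483827f7e7b7471706d6c6b686766656261605f5c5b5a5756534d4c4b4a4946454441403d3736332d23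
/-- signs -/
noncomputable def ηE6E8 : ℕ → ℤ := zb 0x111111111111111111111111111111111111111111111111111111111111111111111111
theorem tw_E6E8 : twChk tabE6 tabE8 0 φE6E8 (nb 0x4700000000000000000046000000000045000044430000000000420000414000003f3e3d00003c3b3a3938000000000037000036350000343332000031302f2e00002d2c2b2a00002928270000262500002400000000000023000022210000201f1e00001d1c1b1a00001918171600001514130000121100001000000000000f0e0d0c0b00000a09080000070600000500000000000403000002000000000001000000000000000000000000000000000000000000000000000000000000000000000000000000000000000000)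
    ηE6E8 (fun _ => 1) = true := by decide +kernel
theorem twS_E6E8 : simChk tabE6 tabE8 φE6E8 ηE6E8 [0, 1, 2, 3, 4, 5] = true := by decide +kernel
variable (K) in
/-- the substitution -/
noncomputable def twE6E8 : Tw chevE6 chevE8 K K :=
  Tw.ofChk tab_E6 tab_E8 tw_E6E8 (by simp) (fun _ => RingHom.id K) (by simp)
theorem twE6E8_pos (r : Rt chevE6) : Pos ((twE6E8 K).φ r) ↔ Pos r := (simChk_spec tab_E6 tab_E8 twS_E6E8).2 r
/-- node map -/
def ιE6E8 (i : Nd chevE6) : Nd chevE8 := ⟨[0, 1, 2, 3, 4, 5].getD i 0, ((simChk_spec tab_E6 tab_E8 twS_E6E8).1 i).1.1⟩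
theorem twE6E8_sim (i : Nd chevE6) : (twE6E8 K).φ (sim i) = sim (ιE6E8 i) :=
  Fin.ext ((simChk_spec tab_E6 tab_E8 twS_E6E8).1 i).1.2
theorem twE6E8_f (r : Rt chevE6) (t : K) : (twE6E8 K).f r t = ηE6E8 r * t := rfl
theorem twE6E8_f_sim (i : Nd chevE6) (t : K) : (twE6E8 K).f (sim i) t = t := by
  rw [twE6E8_f, sim_val, ((simChk_spec tab_E6 tab_E8 twS_E6E8).1 i).2, Int.cast_one, one_mul]

/-- root map -/
noncomputable def φE7E8 : ℕ → ℕ := nb 0xe2dbd6d2cfcdccc8c5c3c2bfbdbcbab9b8b5b3b2b0afaeacabaaa9a7a6a5a4a3a29f9d9c9a99989695949391908f8e8d8b8a89888785848382807f7e7c7b7976747371706f6d6c6b6a68676665646261605f5e5c5b5a595756555352504d4c4b4a49484645444341403f3d3c3a3736353332302d2c2a272322201d19140d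
/-- signs -/
noncomputable def ηE7E8 : ℕ → ℤ := zb 0x111111111111111111111111111111111111111111111111111111111111111111111111111111111111111111111111111111111111111111111111111111
theorem tw_E7E8 : twChk tabE7 tabE8 0 φE7E8 (nb 0x7d0000000000007c000000007b0000007a00007900787700000076000075007473000072007170006f6e6d00006c006b6a006968670066656463006261605f5e5d00005c005b5a005958570056555453005251504f4e004d4c4b4a49004847464500444342004140003f00003e003d3c003b3a390038373635003433323130002f2e2d2c2b002a2928270026252400232200210000201f1e1d1c1b001a1918170016151400131200110000100f0e000d0c000b00000a090008000007000000060500040000030000000200000000010000000000000000000000000000000000000000)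
    ηE7E8 (fun _ => 1) = true := by decide +kernel
theorem twS_E7E8 : simChk tabE7 tabE8 φE7E8 ηE7E8 [0, 1, 2, 3, 4, 5, 6] = true := by decide +kernel
variable (K) in
/-- the substitution -/
noncomputable def twE7E8 : Tw chevE7 chevE8 K K :=
  Tw.ofChk tab_E7 tab_E8 tw_E7E8 (by simp) (fun _ => RingHom.id K) (by simp)
theorem twE7E8_pos (r : Rt chevE7) : Pos ((twE7E8 K).φ r) ↔ Pos r := (simChk_spec tab_E7 tab_E8 twS_E7E8).2 r
/-- node map -/
def ιE7E8 (i : Nd chevE7) : Nd chevE8 := ⟨[0, 1, 2, 3, 4, 5, 6].getD i 0, ((simChk_spec tab_E7 tab_E8 twS_E7E8).1 i).1.1⟩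
theorem twE7E8_sim (i : Nd chevE7) : (twE7E8 K).φ (sim i) = sim (ιE7E8 i) :=
  Fin.ext ((simChk_spec tab_E7 tab_E8 twS_E7E8).1 i).1.2
theorem twE7E8_f (r : Rt chevE7) (t : K) : (twE7E8 K).f r t = ηE7E8 r * t := rfl
theorem twE7E8_f_sim (i : Nd chevE7) (t : K) : (twE7E8 K).f (sim i) t = t := by
  rw [twE7E8_f, sim_val, ((simChk_spec tab_E7 tab_E8 twS_E7E8).1 i).2, Int.cast_one, one_mul]

/-- root map -/
noncomputable def φE6 : ℕ → ℕ := nb 0x47464542374441363f34313c2d2926244340353e33303d322f2e3b2c28253a2b27392a380f1d0e201c0d221f1b0c1918150a17140912070423211e1a0b1613081106031005020100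
/-- signs -/
noncomputable def ηE6 : ℕ → ℤ := zb 0x111181181881818188181181118181181811118181181811181181881818188181181111
theorem tw_E6 : twChk tabE6 tabE6 0 φE6 (nb 0x47464542374441363f34313c2d2926244340353e33303d322f2e3b2c28253a2b27392a380f1d0e201c0d221f1b0c1918150a17140912070423211e1a0b1613081106031005020100)
    ηE6 (fun _ => 1) = true := by decide +kernel
theorem twS_E6 : simChk tabE6 tabE6 φE6 ηE6 [5, 1, 4, 3, 2, 0] = true := by decide +kernel
variable (K) in
/-- the substitution -/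
noncomputable def twE6 : Tw chevE6 chevE6 K K :=
  Tw.ofChk tab_E6 tab_E6 tw_E6 (by simp) (fun _ => RingHom.id K) (by simp)
theorem twE6_pos (r : Rt chevE6) : Pos ((twE6 K).φ r) ↔ Pos r := (simChk_spec tab_E6 tab_E6 twS_E6).2 r
/-- node map -/
def ιE6 (i : Nd chevE6) : Nd chevE6 := ⟨[5, 1, 4, 3, 2, 0].getD i 0, ((simChk_spec tab_E6 tab_E6 twS_E6).1 i).1.1⟩
theorem twE6_sim (i : Nd chevE6) : (twE6 K).φ (sim i) = sim (ιE6 i) :=
  Fin.ext ((simChk_spec tab_E6 tab_E6 twS_E6).1 i).1.2
theorem twE6_f (r : Rt chevE6) (t : K) : (twE6 K).f r t = ηE6 r * t := rfl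
theorem twE6_f_sim (i : Nd chevE6) (t : K) : (twE6 K).f (sim i) t = t := by
  rw [twE6_f, sim_val, ((simChk_spec tab_E6 tab_E6 twS_E6).1 i).2, Int.cast_one, one_mul]

/-- root map -/
noncomputable def φD4a : ℕ → ℕ := nb 0x17161115100d140f130e0c12050b090408030a0702060100
/-- signs -/
noncomputable def ηD4a : ℕ → ℤ := zb 0x118181818111111818181811
theorem tw_D4a : twChk tabD4 tabD4 0 φD4a (nb 0x171614110f0c1513100e120d0a05090704020b0806030100)
    ηD4a (fun _ => 1) = true := by decide +kernel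
theorem twS_D4a : simChk tabD4 tabD4 φD4a ηD4a [2, 1, 3, 0] = true := by decide +kernel
variable (K) in
/-- the substitution -/
noncomputable def twD4a : Tw chevD4 chevD4 K K :=
  Tw.ofChk tab_D4 tab_D4 tw_D4a (by simp) (fun _ => RingHom.id K) (by simp)
theorem twD4a_pos (r : Rt chevD4) : Pos ((twD4a K).φ r) ↔ Pos r := (simChk_spec tab_D4 tab_D4 twS_D4a).2 r
/-- node map -/
def ιD4a (i : Nd chevD4) : Nd chevD4 := ⟨[2, 1, 3, 0].getD i 0, ((simChk_spec tab_D4 tab_D4 twS_D4a).1 i).1.1⟩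
theorem twD4a_sim (i : Nd chevD4) : (twD4a K).φ (sim i) = sim (ιD4a i) :=
  Fin.ext ((simChk_spec tab_D4 tab_D4 twS_D4a).1 i).1.2
theorem twD4a_f (r : Rt chevD4) (t : K) : (twD4a K).f r t = ηD4a r * t := rfl
theorem twD4a_f_sim (i : Nd chevD4) (t : K) : (twD4a K).f (sim i) t = t := by
  rw [twD4a_f, sim_val, ((simChk_spec tab_D4 tab_D4 twS_D4a).1 i).2, Int.cast_one, one_mul]

/-- root map -/
noncomputable def φD4b : ℕ → ℕ := nb 0x171614110f0c1513100e120d0a05090704020b0806030100
/-- signs -/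
noncomputable def ηD4b : ℕ → ℤ := zb 0x111881881111111188188111
theorem tw_D4b : twChk tabD4 tabD4 0 φD4b (nb 0x17161115100d140f130e0c12050b090408030a0702060100)
    ηD4b (fun _ => 1) = true := by decide +kernel
theorem twS_D4b : simChk tabD4 tabD4 φD4b ηD4b [3, 1, 0, 2] = true := by decide +kernel
variable (K) in
/-- the substitution -/
noncomputable def twD4b : Tw chevD4 chevD4 K K :=
  Tw.ofChk tab_D4 tab_D4 tw_D4b (by simp) (fun _ => RingHom.id K) (by simp)
theorem twD4b_pos (r : Rt chevD4) : Pos ((twD4b K).φ r) ↔ Pos r := (simChk_spec tab_D4 tab_D4 twS_D4b).2 r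
/-- node map -/
def ιD4b (i : Nd chevD4) : Nd chevD4 := ⟨[3, 1, 0, 2].getD i 0, ((simChk_spec tab_D4 tab_D4 twS_D4b).1 i).1.1⟩
theorem twD4b_sim (i : Nd chevD4) : (twD4b K).φ (sim i) = sim (ιD4b i) :=
  Fin.ext ((simChk_spec tab_D4 tab_D4 twS_D4b).1 i).1.2
theorem twD4b_f (r : Rt chevD4) (t : K) : (twD4b K).f r t = ηD4b r * t := rfl
theorem twD4b_f_sim (i : Nd chevD4) (t : K) : (twD4b K).f (sim i) t = t := by
  rw [twD4b_f, sim_val, ((simChk_spec tab_D4 tab_D4 twS_D4b).1 i).2, Int.cast_one, one_mul]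

/-- root map -/
noncomputable def φD4c : ℕ → ℕ := nb 0x171614151312110f100e0c0d0a0b09070806050402030100
/-- signs -/
noncomputable def ηD4c : ℕ → ℤ := zb 0x111111111111111111111111
theorem tw_D4c : twChk tabD4 tabD4 0 φD4c (nb 0x171614151312110f100e0c0d0a0b09070806050402030100)
    ηD4c (fun _ => 1) = true := by decide +kernel
theorem twS_D4c : simChk tabD4 tabD4 φD4c ηD4c [0, 1, 3, 2] = true := by decide +kernel
variable (K) in
/-- the substitution -/
noncomputable def twD4c : Tw chevD4 chevD4 K K :=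
  Tw.ofChk tab_D4 tab_D4 tw_D4c (by simp) (fun _ => RingHom.id K) (by simp)
theorem twD4c_pos (r : Rt chevD4) : Pos ((twD4c K).φ r) ↔ Pos r := (simChk_spec tab_D4 tab_D4 twS_D4c).2 r
/-- node map -/
def ιD4c (i : Nd chevD4) : Nd chevD4 := ⟨[0, 1, 3, 2].getD i 0, ((simChk_spec tab_D4 tab_D4 twS_D4c).1 i).1.1⟩
theorem twD4c_sim (i : Nd chevD4) : (twD4c K).φ (sim i) = sim (ιD4c i) :=
  Fin.ext ((simChk_spec tab_D4 tab_D4 twS_D4c).1 i).1.2
theorem twD4c_f (r : Rt chevD4) (t : K) : (twD4c K).f r t = ηD4c r * t := rfl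
theorem twD4c_f_sim (i : Nd chevD4) (t : K) : (twD4c K).f (sim i) t = t := by
  rw [twD4c_f, sim_val, ((simChk_spec tab_D4 tab_D4 twS_D4c).1 i).2, Int.cast_one, one_mul]

/-- root map -/
noncomputable def φB2 : ℕ → ℕ := nb 0x607040502030001
/-- exponents -/
noncomputable def eB2 : ℕ → ℕ := nb 0x102020101020201
theorem tw_B2 : twChk tabB2 tabB2 2 φB2 (nb 0x607040502030001)
    (fun _ => 1) eB2 = true := by decide +kernel
theorem twS_B2 : simChk tabB2 tabB2 φB2 (fun _ => 1) [1, 0] = true := by decide +kernel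
variable (K) in
/-- the substitution -/
noncomputable def twB2 [CharP K 2] : Tw chevB2 chevB2 K K :=
  Tw.ofChk tab_B2 tab_B2 tw_B2 (by exact_mod_cast CharP.cast_eq_zero K 2) (frobExp K 2)
    (frobExp_apply (by decide +kernel : allLt 8 (fun r => decide (eB2 r = 1 ∨ eB2 r = 2)) = true))
theorem twB2_pos [CharP K 2] (r : Rt chevB2) : Pos ((twB2 K).φ r) ↔ Pos r := (simChk_spec tab_B2 tab_B2 twS_B2).2 r
/-- node map -/
def ιB2 (i : Nd chevB2) : Nd chevB2 := ⟨[1, 0].getD i 0, ((simChk_spec tab_B2 tab_B2 twS_B2).1 i).1.1⟩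
theorem twB2_sim [CharP K 2] (i : Nd chevB2) : (twB2 K).φ (sim i) = sim (ιB2 i) :=
  Fin.ext ((simChk_spec tab_B2 tab_B2 twS_B2).1 i).1.2
theorem twB2_f [CharP K 2] (r : Rt chevB2) (t : K) : (twB2 K).f r t = t ^ eB2 r := by
  rw [twB2, Tw.ofChk_f, Int.cast_one, one_mul]

/-- root map -/
noncomputable def φF4 : ℕ → ℕ := nb 0x2c28272f26241d2e2d2b202a1f1a1825231c291e19221b210e140d161106130c0a171510050f040201120b0900080703
/-- exponents -/
noncomputable def eF4 : ℕ → ℕ := nb 0x10101020101010202020202020202010101020202010101010101020202010101020202020202020201010102010101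
theorem tw_F4 : twChk tabF4 tabF4 2 φF4 (nb 0x2c28272f26241d2e2d2b202a1f1a1825231c291e19221b210e140d161106130c0a171510050f040201120b0900080703)
    (fun _ => 1) eF4 = true := by decide +kernel
theorem twS_F4 : simChk tabF4 tabF4 φF4 (fun _ => 1) [3, 2, 1, 0] = true := by decide +kernel
variable (K) in
/-- the substitution -/
noncomputable def twF4 [CharP K 2] : Tw chevF4 chevF4 K K :=
  Tw.ofChk tab_F4 tab_F4 tw_F4 (by exact_mod_cast CharP.cast_eq_zero K 2) (frobExp K 2)
    (frobExp_apply (by decide +kernel : allLt 48 (fun r => decide (eF4 r = 1 ∨ eF4 r = 2)) = true))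
theorem twF4_pos [CharP K 2] (r : Rt chevF4) : Pos ((twF4 K).φ r) ↔ Pos r := (simChk_spec tab_F4 tab_F4 twS_F4).2 r
/-- node map -/
def ιF4 (i : Nd chevF4) : Nd chevF4 := ⟨[3, 2, 1, 0].getD i 0, ((simChk_spec tab_F4 tab_F4 twS_F4).1 i).1.1⟩
theorem twF4_sim [CharP K 2] (i : Nd chevF4) : (twF4 K).φ (sim i) = sim (ιF4 i) :=
  Fin.ext ((simChk_spec tab_F4 tab_F4 twS_F4).1 i).1.2
theorem twF4_f [CharP K 2] (r : Rt chevF4) (t : K) : (twF4 K).f r t = t ^ eF4 r := by
  rw [twF4, Tw.ofChk_f, Int.cast_one, one_mul]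

/-- root map -/
noncomputable def φG2 : ℕ → ℕ := nb 0x9080b0a0607040501000302
/-- exponents -/
noncomputable def eG2 : ℕ → ℕ := nb 0x10103030301010303030101
theorem tw_G2 : twChk tabG2 tabG2 3 φG2 (nb 0x9080b0a0607040501000302)
    (fun _ => 1) eG2 = true := by decide +kernel
theorem twS_G2 : simChk tabG2 tabG2 φG2 (fun _ => 1) [1, 0] = true := by decide +kernel
variable (K) in
/-- the substitution -/
noncomputable def twG2 [CharP K 3] : Tw chevG2 chevG2 K K :=
  Tw.ofChk tab_G2 tab_G2 tw_G2 (by exact_mod_cast CharP.cast_eq_zero K 3) (frobExp K 3)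
    (frobExp_apply (by decide +kernel : allLt 12 (fun r => decide (eG2 r = 1 ∨ eG2 r = 3)) = true))
theorem twG2_pos [CharP K 3] (r : Rt chevG2) : Pos ((twG2 K).φ r) ↔ Pos r := (simChk_spec tab_G2 tab_G2 twS_G2).2 r
/-- node map -/
def ιG2 (i : Nd chevG2) : Nd chevG2 := ⟨[1, 0].getD i 0, ((simChk_spec tab_G2 tab_G2 twS_G2).1 i).1.1⟩
theorem twG2_sim [CharP K 3] (i : Nd chevG2) : (twG2 K).φ (sim i) = sim (ιG2 i) :=
  Fin.ext ((simChk_spec tab_G2 tab_G2 twS_G2).1 i).1.2
theorem twG2_f [CharP K 3] (r : Rt chevG2) (t : K) : (twG2 K).f r t = t ^ eG2 r := by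
  rw [twG2, Tw.ofChk_f, Int.cast_one, one_mul]

theorem tor_injective_G2 : Function.Injective (tor (D := chevG2) (K := K)) :=
  tor_injective_of_smith tab_G2 smith_G2 (by decide +kernel)
theorem tor_injective_F4 : Function.Injective (tor (D := chevF4) (K := K)) :=
  tor_injective_of_smith tab_F4 smith_F4 (by decide +kernel)
theorem tor_injective_E8 : Function.Injective (tor (D := chevE8) (K := K)) :=
  tor_injective_of_smith tab_E8 smith_E8 (by decide +kernel)

/-- the torus of the universal Chevalley group is `(Kˣ)^l` -/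
theorem torH_injective {D : ChevalleyDatum} [Good D] (hD : D ∈ [chevG2, chevB2, chevD4, chevF4, chevE6, chevE7, chevE8]) :
    Function.Injective (stG_R3 (D := D) (K := K)).torH := by
  simp only [List.mem_cons, List.not_mem_nil, or_false] at hD
  rcases hD with rfl | rfl | rfl | rfl | rfl | rfl | rfl
  · exact torH_injective_of_tw (Tw.field _ (RingHom.id K)) id (fun _ => rfl) tor_injective_G2
  · exact torH_injective_of_tw (twB2F4 K) _ twB2F4_sim tor_injective_F4
  · exact torH_injective_of_tw (twD4E8 K) _ twD4E8_sim tor_injective_E8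
  · exact torH_injective_of_tw (Tw.field _ (RingHom.id K)) id (fun _ => rfl) tor_injective_F4
  · exact torH_injective_of_tw (twE6E8 K) _ twE6E8_sim tor_injective_E8
  · exact torH_injective_of_tw (twE7E8 K) _ twE7E8_sim tor_injective_E8
  · exact torH_injective_of_tw (Tw.field _ (RingHom.id K)) id (fun _ => rfl) tor_injective_E8

end CA.Chev
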