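/-
Steinberg's theorem: the group presented by (R1), (R2) is centrally closed; Schur multipliers of Chevalley groups.
-/
import Cfsg.Agent.Lib.Lie.H22St2
import Cfsg.Agent.Lib.Lie.ChevTwCert

set_option autoImplicit false
set_option Elab.async false

namespace CA.Chev

open Equiv Cfsg.Lie Cfsg.Lie.ChevalleyDatum CA.SchurFilt Subgroup
open scoped commutatorElement

variable {D : ChevalleyDatum} [Good D] {K : Type*} [Field K] {Γ E : Type*} [Group Γ] [Group E]

theorem pair_of_sim {P : Rt D → Rt D → Prop} (hP : ∀ w ∈ RA D, ∀ r s, P r s → P (w r) (w s))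
    (h : ∀ i s, P (sim i) s) (r s : Rt D) : P r s := by
  obtain ⟨w, hw, i, rfl⟩ := exists_W_sim r
  obtain ⟨s, rfl⟩ := w.surjective s
  exact hP w (W_le_RA hw) _ _ (h i s)

/-- Cartan integers from a table -/
noncomputable def prT (T : Tab) (r s : ℕ) : ℤ := sumLt T.l fun j => T.co r j * T.wt s j

/-- the check for the types `E` -/
noncomputable def slChk (T : Tab) (w : List ℕ) : Bool := allLt T.l fun i => allLt T.n fun s =>
  decide (prT T (T.simple i) s = prT T s (T.simple i)) && (decide (prT T (T.simple i) s < 0) ||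
    (decide (nb (getN w i) s < T.n) && decide (prT T (nb (getN w i) s) s = 1) &&
      decide (0 ≤ prT T (T.simple i) (nb (getN w i) s)) &&
      decide (prT T (T.simple i) (nb (getN w i) s) ≤ prT T (T.simple i) s)))

theorem sl_of_chk {T : Tab} (hT : tab D = T) {w : List ℕ} (h : slChk T w = true) : (∀ r s : Rt D, pr r s = pr s r) ∧
    ∀ r s : Rt D, 0 ≤ pr r s → ∃ a b, rt s = rt a + rt b ∧ 0 ≤ pr r a ∧ 0 ≤ pr r b := by
  have e : ∀ r s : Rt D, prT T r s = pr r s := fun r s => (pr_eq_tab hT r s).symm
  subst hT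
  simp only [slChk, allLt_iff, Bool.and_eq_true, Bool.or_eq_true, decide_eq_true_eq] at h
  refine ⟨pair_of_sim (fun w hw r s h => by rwa [pr_map hw, pr_map hw]) fun i s => ?_,
    pair_of_sim (fun w hw r s h h' => ?_) fun i s h' => ?_⟩
  · rw [← e, ← e]; exact (h i i.2 s s.2).1
  · obtain ⟨a, b, h1, h2, h3⟩ := h (pr_map hw r s ▸ h')
    exact ⟨w a, w b, by rw [← lin_rt hw, h1, map_add, lin_rt hw, lin_rt hw], by rwa [pr_map hw], by rwa [pr_map hw]⟩
  · rcases (h i i.2 s s.2).2 with h | ⟨⟨⟨h1, h2⟩, h3⟩, h4⟩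
    · exact absurd (e (sim i) s ▸ h') (not_le.2 h)
    have h2 : pr ⟨_, h1⟩ s = 1 := (e ⟨_, h1⟩ s).symm.trans h2
    have h3 : 0 ≤ pr (sim i) ⟨_, h1⟩ := e (sim i) ⟨_, h1⟩ ▸ h3
    have h4 : pr (sim i) ⟨_, h1⟩ ≤ pr (sim i) s := e (sim i) ⟨_, h1⟩ ▸ e (sim i) s ▸ h4
    have h5 : rt s = rt ⟨_, h1⟩ + rt (refl ⟨_, h1⟩ s) := by rw [rt_refl, h2]; simp
    exact ⟨_, _, h5, h3, by have := pr_sum h5 (sim i); omega⟩

theorem sl_E6 : slChk tabE6 [0x2e1918171615141312111012111010100000000000000403020100000000040302040304030202010101020101010000000000000000000000000000000000000000000000000001, 0x2f002522211d1d1d12111000000010100e0e0e0706050403020100000005000000040304030202010101020101010000000000000004030205020101010000000403020202030200, 0x2e1918171600000012111012111010000a090807060500000001070605050000000a0a09080908010101000000000000000000000000000005000101010000000000000000000001, 0x301900171615141300001015151000100a0908000005040302000a0a0500040302000004030202000000020004030000000000000000000005020004030000000000000000000003,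 0x2e1918001615001312110012110012120a00080706000403000107060007040300040300030000010001040100010000000000000000000007040100010000000000000000000001, 0x2e1918170015140012001012001010100a09000700050400020107000505040002040004000200010100020101000000000000000000000005020101000000000000000000000001] = true := by decide +kernel
theorem sl_E7 : slChk tabE7 [0x5e0045383736352e2d2c2b2d2c2b2c2b2b100f0e0d0c0b0a090807060504030201000000000000000000000a09080707000000000006050403060504060506050404030303020202020101010101030202020201010101010101010101000000000000000000000000000000000504040303030202020202020202030200, 0x5d201f1e1d1c1b00000000161514131211100f0e0d0c0b0a090807000000000201100f0e0d0c0b0a0908070a090807070000000002000000000f0e0e0d0c0d0c0b0b0c0b0b020202020101010101000000000000000000010101010101000000000000000000000000000000000000000000000000000000000000000001, 0x5f20001e1d1c1b1a1918171615141312110000000000000a0908070605040302001918171817170a0908070000000007060504030200000000060504060506050404030303020202020000000000030202020200000000050404030303000000000000000000000000000000000000000000000000000000000000000003,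 0x5d201f001d1c1b1a191817000000131211100f0e0d0c0b00000007060504030001100f0e0d0c0b000000070f0e0e0700060504030006050403000000060506050404030303000000000100010101030005040401010101000000010101000000000000000000000000000000000000000000000000000000000000000001, 0x5d201f1e001c1b1a001817161514000011100f0e00000b0a090800060504000201100f0e00000b0a0908000a09080009060504000206050400060504000006050404000000020002020101000101050200020201000101010101000001000000000000000000000000000000000000000000000000000000000000000001, 0x5d201f1e1d001b1a19001716001413120010000e0d0c000a09000706050003020110000e0d0c000a0900070a09000707060500030206050003060500060500050000030003020200020101010001030202000201010001010001010100000000000000000000000000000000000000000000000000000000000000000001, 0x5d201f1e1d1c001a191800161500130011100f000d000b0a000807060004030201100f000d000b0a0008070a00080707060004030206000403060004060006000400030300020202000101010100030202020001010100010100010001000000000000000000000000000000000000000000000000000000000000000001]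 = true := by decide +kernel
theorem sl_E8 : slChk tabE8 [0x787775726e69635d5854514f4e4e0000000000000034312f2e2e2b292828262525242424211f1e1e1c1b1b1a1a1a18171716161615151515131212111111101010100f0f0f0f0f0e0e0e0e0e0e0e000000000000000000000000000000070707070707000000000000050505050504040404030303020201000100020100030201000403020100050403020100050403020100040302010003020100020100010000000000000000000000000000000000000000000000000302010002010001000002010001000001000000020100010000010000000100000000010000000000000000000000000000000000000001, 0x787775726e6963000054514f4e4e47003e3b39383834312f2e2e2b2928282625252424240000000000000000000018171716161615151515131212111111101010100f0f0f0f0f000000000015100c0b0b0a0a0a090909090808080808070707070707000000000015000000000004040404030303020201000100020100030201000403020100100403020100000000000000000000000003020100020100010000090904030201000000000000030201000201000100000302010002010001000002010001000001000000000000000000000000000100000000010000000000000100000000000000000000000001,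 0x787775726e69005d0054514f4e4e47423e3b39383800000000002b292828262525242424211f1e1e1c1b1b1a1a1a18171716161615151515000000000000000000000f0f0f0f0f0e0e0e0e0e0e000c0b0b0a0a0a09090909080808080800000000000f0606060606060000000000040404040303030202010001000201000302010004030201000000000000000e0403020100000000000003020100020100010000060004030201000403020100030201000201000100000000000000000000000002010001000001000000020100010000010000000100000000000000000000000100000000000000000000000001, 0x787775726e00635d5800514f4e4e4742003b39383834312f2e2e00000000262525242424211f1e1e1c1b1b1a1a1a000000000000151515151312121111111010101000000000150e0e0e0e0e000e0c0b0b0a0a0a0909090900000000150707070707000606060606000505050505000000000303030202010001000201000302010000000000000500030201000500030201000e0302010000000000020100010000060500030201000603020100000000000201000100000302010002010001000000000000000001000000020100010000010000000000000000010000000000000100000000000000000000000001, 0x787775720069635d5854004f4e4e47423e0039383834002f2e2e2b292828000000242424211f1e1e0000001a1a1a1817171616160000001a1312121111110000001a0f0f0f0f000e0e0e0e000e0e0c0b0b0a0a0a0000001a080808080007070707000706060606000605050505000404040400000002020100010002010000000000040002010005040002010005040002010004000201000e020100000000010000060504000201000400020100060201000000000100000502010000000001000002010001000000000000020100010000000000000100000000010000000000000100000000000000000000000001,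 0x787775006e69635d585451004e4e47423e3b0038383431002e2e2b00282826252500002821001e1e1c1b1b00001e18171700001e1515150013121200001e101010000f0f0f000f0e0e0e000e0e0e0c0b0b00001e0909090008080800080707070007070606060006060505050005040404000303030000010001000000000300010004030001000504030001000504030001000403000100030001000e0100000000060504030001000403000100030001000601000000000300010005010000000004010000000001000000040100000000010000000100000000010000000000000100000000000000000000000001, 0x7d7700726e69635d5854514f005147423e3b39003b34312f00312b29002b26002b242400211f00211c00211a1a0018002116160015150015130021111100101000100f0f000f0f0e0e000e0e0e0e0c00210a0a000909000908080008080707000707070606000606060505000505040400040303000202000000000200000302000004030200000504030200000504030200000403020000030200000200000e0000060504030200000403020000030200000200000600000302000002000005000002000004000003000000020000040000030000000300000000030000000000000300000000000000000000000003, 0x7a007b74706b655f5a5653534e004944403d3d38003633332e002d2d28002d250024002423231e00231b001a001a23170016001615001515231200110011100010100f000f0f0f0e000e0e0e0e0e230b000a000a09000909080008080807000707070706000606060605000505050400040403000302000100010002010003020100040302010005040302010005040302010004030201000302010002010001000e060504030201000403020100030201000201000100060302010002010001000502010001000401000302020100010004010003020100030202010003020202020100030202020202020202030200]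 = true := by decide +kernel

/-- a root detecting a torus element of order `n` -/
def K1T {D : ChevalleyDatum} (n : ℤ) (r s : Rt D) : Prop := ∃ β, pr β r % n = 0 ∧ pr β s % n ≠ 0
instance {D : ChevalleyDatum} (n : ℤ) (r s : Rt D) : Decidable (K1T n r s) := inferInstanceAs (Decidable (∃ _, _))

/-- two roots exchanged by a reflection -/
def Sw1 {D : ChevalleyDatum} (r s : Rt D) : Prop := cT r s = [] ∧ ∃ β, wt s = wt r - pr β r • wt β ∧ pr β r % 2 = 0
instance {D : ChevalleyDatum} (r s : Rt D) : Decidable (Sw1 r s) := inferInstanceAs (Decidable (_ ∧ ∃ _, _))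

/-- a root is a sum of two roots with commuting root groups -/
def SumT (r : Rt D) : Prop := ∃ a, cT r a = [] ∧ a ≠ ng r ∧ ∃ b, cT r b = [] ∧ b ≠ ng r ∧ b ≠ a ∧ b ≠ ng a ∧
  cT a b = [(r, 1, 1, 1)]
instance (r : Rt D) : Decidable (SumT r) := inferInstanceAs (Decidable (∃ _, _))

variable {A : Sys D K Γ} {p : E →* Γ}

theorem zpow_eq_one_iff_of {g : Kˣ} {n : ℕ} (hg : orderOf g = n) (k : ℤ) : (g : K) ^ k = 1 ↔ k % n = 0 := by
  rw [← Units.val_zpow_eq_zpow_val, Units.val_eq_one, ← orderOf_dvd_iff_zpow_eq_one, hg, Int.dvd_iff_emod_eq_zero]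

theorem K1T.k1 {g : Kˣ} {n : ℕ} (hg : orderOf g = n) {r s : Rt D} (h : K1T n r s) : A.K1 r s := by
  obtain ⟨β, h1, h2⟩ := h
  exact Sys.k1_of_h β g ((zpow_eq_one_iff_of hg _).2 h1) fun h => h2 ((zpow_eq_one_iff_of hg _).1 h)

theorem exists_gen [Finite K] {n : ℕ} (h : Nat.card K = n + 1) : ∃ g : Kˣ, orderOf g = n := by
  obtain ⟨g, hg⟩ := IsCyclic.exists_generator (α := Kˣ)
  exact ⟨g, by rw [orderOf_eq_card_of_forall_mem_zpowers hg, Nat.card_units, h]; rfl⟩

theorem three_cases [Finite K] (h : Nat.card K = 3) : (2 : K) ≠ 0 ∧ ∀ t : K, t = 0 ∨ t = 1 ∨ t = -1 := by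
  have := Fintype.ofFinite K
  rw [Nat.card_eq_fintype_card] at h
  refine ⟨fun h2 => ?_, fun t => ?_⟩
  · have := FiniteField.cast_card_eq_zero K
    rw [h] at this
    exact one_ne_zero (α := K) (by push_cast at this; linear_combination this - h2)
  · have := FiniteField.pow_card t
    rw [h] at this
    have : t * ((t - 1) * (t + 1)) = 0 := by linear_combination this
    simpa [sub_eq_zero, add_eq_zero_iff_eq_neg] using this

theorem two_eq_zero [Finite K] (h : Nat.card K = 4) : (2 : K) = 0 := by
  have := Fintype.ofFinite K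
  have h1 := FiniteField.cast_card_eq_zero K
  rw [← Nat.card_eq_fintype_card, h] at h1
  exact pow_eq_zero_iff (two_ne_zero) |>.1 (by push_cast at h1; linear_combination h1)

variable (hc : p.ker ≤ center E) (hs : Function.Surjective p)
  (hT : ∀ g h, p g ∈ A.H → p h ∈ A.H → ⁅g, h⁆ ∈ center E)

/-- the relations (R1), (R2) lift -/
def Sys.Lifts (A : Sys D K Γ) (p : E →* Γ) : Prop :=
  ∃ φ : D.SteinbergCover K →* E, ∀ r t, p (φ ((stC D K).x r t)) = A.x r t

include hc hs

theorem SumT.lc {r : Rt D} (h : SumT r) : A.LC p r r := by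
  obtain ⟨a, h1, h2, b, h3, h4, h5, h6, h7⟩ := h
  exact Sys.LC.of_sum hc hs h5 h6 h7 (by simp) (Sys.comm_of_nil h1 h2) (Sys.comm_of_nil h3 h4)

theorem Sw1.lc [Finite K] (hK : Nat.card K = 3) {r s : Rt D} (h : Sw1 r s) (h' : s ≠ ng r) : A.LC p r s := by
  obtain ⟨h1, β, h2, h3⟩ := h
  exact Sys.LC.of_swap1 hc hs (three_cases hK).2 (three_cases hK).1 h1 h' (wt_injective (by rw [wt_refl, h2]))
    (Int.even_iff.2 h3)

omit hc hs in
/-- the roots of `B₂` -/
def rB (i : Fin 8) : Rt chevB2 := i

theorem lc_B2_long {A : Sys chevB2 K Γ} (h : A.K1 (rB 4) (rB 6)) : A.LC p (rB 4) (rB 4) := by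
  refine Sys.LC.of_cz hc hs fun t x hx u => ?_
  have := Sys.cw_mem_cz hc hs (a := rB 2) (b := rB 7) (by decide +kernel) (by decide +kernel)
    (Sys.comm_of_nil (by decide +kernel) (by decide +kernel)) (Sys.comm_of_nil (by decide +kernel) (by decide +kernel))
    hx 1 (-u)
  rw [cw, show cT (rB 2) (rB 7) = [(rB 6, 1, 1, 1), (rB 4, -1, 2, 1)] by decide +kernel] at this
  simpa using (mul_mem_cancel_left ((Sys.LC.of_k1 hc hs h
    (Sys.comm_of_nil (by decide +kernel) (by decide +kernel))).cz hc hs hx _)).1 this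

theorem lc_B2_short {A : Sys chevB2 K Γ} (h2 : (2 : K) = 0) (h : A.K1 (rB 3) (rB 5)) : A.LC p (rB 5) (rB 5) := by
  refine Sys.LC.of_cz hc hs fun t x hx u => ?_
  have := Sys.cw_mem_cz hc hs (a := rB 1) (b := rB 7) (by decide +kernel) (by decide +kernel)
    (fun t u => by
      rw [← commutatorElement_eq_one_iff_commute, Sys.comm_eq (r := rB 3) (C := 2) (by decide +kernel)
        (by decide +kernel) (by decide +kernel)]
      simp [h2]) (Sys.comm_of_nil (by decide +kernel) (by decide +kernel)) hx 1 u
  rw [cw, show cT (rB 1) (rB 7) = [(rB 5, -1, 1, 1), (rB 3, 1, 2, 1)] by decide +kernel] at this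
  simp only [List.map_cons, List.map_nil, List.prod_cons, List.prod_nil, mul_one] at this
  simpa using (mul_mem_cancel_right ((Sys.LC.of_k1 hc hs h
    (Sys.comm_of_nil (by decide +kernel) (by decide +kernel))).symm.cz hc hs hx _)).1 this

include hT

theorem lifts_big (hK : ∃ s : Finset K, 4 < s.card) (h1 : ∀ i, A.LC p (sim i) (sim i)) : A.Lifts p := by
  obtain ⟨v, hv⟩ := exists_pow_ne hK (d := 2) (by norm_num) (by norm_num)
  exact Sys.lifts_torus hc hs hT h1 (fun i => ⟨sim i, v, by rw [pr_self]; exact_mod_cast hv⟩)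
    fun i s a b => Or.inl (Sys.k1_of_big hK a b)

theorem lifts_big1 (hK : ∃ s : Finset K, 4 < s.card) (h : ∀ i : Nd D, ∃ β, pr β (sim i) = 1) : A.Lifts p :=
  lifts_big hc hs hT hK fun i => (h i).elim fun _ => Sys.LC.of_big hc hs hK

theorem lifts_four [Finite K] (hK : Nat.card K = 4) (h1 : ∀ i, A.LC p (sim i) (sim i))
    (h : ∀ (i : Nd D) s, s = sim i ∨ s = ng (sim i) ∨ K1T 3 (sim i) s ∨ K1T 3 s (sim i)) : A.Lifts p := by
  obtain ⟨g, hg⟩ := exists_gen (n := 3) hK
  exact Sys.lifts_torus hc hs hT h1 (fun i => ⟨sim i, g, fun e => by simpa using (zpow_eq_one_iff_of hg _).1 e⟩)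
    fun i s a b => (((h i s).resolve_left a).resolve_left b).imp (K1T.k1 hg) fun h => Or.inl (h.k1 hg)

theorem lifts_three [Finite K] (hK : Nat.card K = 3) (h1 : ∀ i : Nd D, ∃ β, pr β (sim i) = 1) {P : Rt D → Rt D → Prop}
    (hP : ∀ r s, P r s → s ≠ ng r → A.LC p r s)
    (h : ∀ (i : Nd D) s, s = sim i ∨ s = ng (sim i) ∨ K1T 2 (sim i) s ∨ K1T 2 s (sim i) ∨ P (sim i) s) :
    A.Lifts p := by
  obtain ⟨g, hg⟩ := exists_gen (n := 2) hK
  exact Sys.lifts_torus hc hs hT (fun i => Sys.LC.self3 hc hs (three_cases hK).2 _)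
    (fun i => (h1 i).imp fun β hβ => ⟨g, fun e => by simpa [hβ] using (zpow_eq_one_iff_of hg _).1 e⟩)
    fun i s a b => (((h i s).resolve_left a).resolve_left b).imp (K1T.k1 hg) fun h => h.imp (K1T.k1 hg)
      fun h => hP _ _ h b

omit hT in
theorem lifts_B2_three [Finite K] (hK : Nat.card K = 3) {A : Sys chevB2 K Γ}
    (hT : ∀ g h, p g ∈ A.H → p h ∈ A.H → ⁅g, h⁆ ∈ center E) : A.Lifts p := by
  obtain ⟨g, hg⟩ := exists_gen (n := 2) hK
  obtain ⟨h2, h3⟩ := three_cases hK
  have t1 : ∀ r : Rt chevB2, ((∃ β, pr β r = 1) ∧ ∀ a b, pr a b = 0 → ∀ c ∈ cT a b, c.1 ≠ r) ∨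
      ∃ a b, b ≠ a ∧ b ≠ ng a ∧ (cT a b = [(r, 2, 1, 1)] ∧ cT r a = [] ∧ a ≠ ng r ∧ K1T 2 r a ∧ cT r b = [] ∧
      b ≠ ng r ∧ K1T 2 r b) ∧ ∀ a' b', pr a' b' = 0 → ∀ c ∈ cT a' b', c.1 = r → (a' = a ∧ b' = b) ∨ (a' = b ∧ b' = a) := by
    decide +kernel
  have t2 : ∀ r s : Rt chevB2, s = r ∨ s = ng r ∨ K1T 2 r s ∨ K1T 2 s r ∨ Sw1 r s ∨ (pr r s = 0 ∧ cT r s ≠ []) := by
    decide +kernel
  have : ∀ r, ∃ Y, A.Gv p r Y ∧ ∀ a b, pr a b = 0 → ∀ c ∈ cT a b, c.1 = r →
      ⁅(A.X {a}).comap p, (A.X {b}).comap p⁆ ≤ Y := fun r => by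
    rcases t1 r with ⟨⟨β, h⟩, h'⟩ | ⟨a, b, n1, n2, ⟨c1, c2, c3, c4, c5, c6, c7⟩, c8⟩
    · obtain ⟨Y, hY⟩ := Sys.exists_Gv hc hs hT (Sys.LC.self3 hc hs h3 r) (A.h_mem β g) (c := (g : K) ^ pr β r)
        (fun e => by simpa [h] using (zpow_eq_one_iff_of hg _).1 e) (A.h_conj _ _ _)
      exact ⟨Y, hY, fun a b e c hc e' => absurd e' (h' a b e c hc)⟩
    have l1 : A.LC p r a := Sys.LC.of_k1 hc hs (c4.k1 hg) (Sys.comm_of_nil c2 c3)
    have l2 : A.LC p r b := Sys.LC.of_k1 hc hs (c7.k1 hg) (Sys.comm_of_nil c5 c6)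
    have ce := Sys.comm_eq (A := A) n1 n2 c1
    refine ⟨_, Sys.Gv_of_comm hc hs (by simpa using h2) ce l1 fun t u x y x' y' hx hy hx' hy' => ?_,
      fun a' b' e c hc e' => ?_⟩
    · rcases h3 u with rfl | rfl | rfl
      · rw [comm_congr hc rfl (b' := 1) (by simpa using hy), comm_congr hc (a := x') (a' := 1) (by simpa using hx') rfl]
        simp
      · exact comm_congr hc (by rw [hx, hx', mul_one]) (hy.trans hy'.symm)
      · have e : p ⁅x, y'⁆ = A.x r (((2 : ℤ) : K) * t * 1) := by rw [map_commutatorElement, hx, hy', ce]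
        rw [comm_congr hc rfl (b' := y'⁻¹) (by rw [hy, map_inv, hy', A.x_neg]),
          comm_congr hc (a := x') (a' := x⁻¹) (by rw [hx', map_inv, hx, ← A.x_neg, mul_neg_one]) rfl,
          show ⁅x, y'⁻¹⁆ = y'⁻¹ * ⁅x, y'⁆⁻¹ * y' by simp only [commutatorElement_def]; group,
          show ⁅x⁻¹, y'⁆ = x⁻¹ * ⁅x, y'⁆⁻¹ * x by simp only [commutatorElement_def]; group, mul_assoc, mul_assoc,
          (l1 _ _ _ _ e hx).inv_left.eq, (l2 _ _ _ _ e hy').inv_left.eq]
        simp
    · rcases c8 a' b' e c hc e' with ⟨rfl, rfl⟩ | ⟨rfl, rfl⟩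
      · rfl
      · rw [commutator_comm]
  choose Y hY hY' using this
  refine Sys.exists_lifts hc hs hT Y hY fun r s a b => (((t2 r s).resolve_left a).resolve_left b).imp (K1T.k1 hg)
    fun h => h.imp (K1T.k1 hg) fun h t u x y hx hy => ?_
  rcases h with h | ⟨h, h'⟩
  · exact (h.lc hc hs hK b t u x y hx hy).commutator_eq ▸ one_mem _
  obtain ⟨c, hc⟩ := List.exists_mem_of_ne_nil _ h'
  refine SetLike.le_def.1 (le_iSup₂_of_le c.1 (cmb_of_mem hc) (hY' _ r s h c hc rfl)) (commutator_mem_commutator ?_ ?_)
  · exact mem_comap.2 (hx ▸ A.x_mem (Set.mem_singleton r) _)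
  · exact mem_comap.2 (hy ▸ A.x_mem (Set.mem_singleton s) _)

omit hc hs hT

theorem f1_G2 : ∀ i : Nd chevG2, ∃ β, pr β (sim i) = 1 := by decide +kernel
theorem f1_D4 : ∀ i : Nd chevD4, ∃ β, pr β (sim i) = 1 := by decide +kernel
theorem f1_F4 : ∀ i : Nd chevF4, ∃ β, pr β (sim i) = 1 := by decide +kernel
theorem sim_B2 : ∀ i : Nd chevB2, sim i = rB 5 ∨ sim i = rB 4 := by decide +kernel
theorem sl_D4 (r s : Rt chevD4) : pr r s = pr s r :=
  pair_of_sim (P := fun r s => pr r s = pr s r) (fun w hw r s h => by rwa [pr_map hw, pr_map hw]) (by decide +kernel) r s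

theorem k3_B2 : ∀ (i : Nd chevB2) s, s = sim i ∨ s = ng (sim i) ∨ K1T 3 (sim i) s ∨ K1T 3 s (sim i) := by
  decide +kernel
theorem k3_D4 : ∀ (i : Nd chevD4) s, s = sim i ∨ s = ng (sim i) ∨ K1T 3 (sim i) s ∨ K1T 3 s (sim i) := by
  decide +kernel
theorem k3_F4 : ∀ (i : Nd chevF4) s, s = sim i ∨ s = ng (sim i) ∨ K1T 3 (sim i) s ∨ K1T 3 s (sim i) := by
  decide +kernel
theorem k2_D4 : ∀ (i : Nd chevD4) s, s = sim i ∨ s = ng (sim i) ∨ K1T 2 (sim i) s ∨ K1T 2 s (sim i) ∨
    (pr (sim i) s = 0 ∧ ∃ b m, wt m = wt (sim i) - pr b (sim i) • wt b ∧ pr b (sim i) % 2 = 1 ∧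
      ∃ a, wt s = wt m - pr a m • wt a ∧ pr a b = 0 ∧ pr a (sim i) % 2 = 1) := by decide +kernel
theorem k2_F4 : ∀ (i : Nd chevF4) s, s = sim i ∨ s = ng (sim i) ∨ K1T 2 (sim i) s ∨ K1T 2 s (sim i) ∨
    Sw1 (sim i) s := by decide +kernel
theorem sum_D4 : ∀ i : Nd chevD4, SumT (sim i) := by decide +kernel
theorem sum_F4 : ∀ i : Nd chevF4, SumT (sim i) := by decide +kernel
theorem misc_B2 : pr (rB 7) (rB 5) = 1 ∧ rB 6 ≠ rB 4 ∧ rB 6 ≠ ng (rB 4) ∧ K1T 3 (rB 3) (rB 5) ∧ K1T 3 (rB 4) (rB 6) := by
  decide +kernel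

theorem card_cases (h : ¬ ∃ s : Finset K, 4 < s.card) :
    Finite K ∧ (Nat.card K = 2 ∨ Nat.card K = 3 ∨ Nat.card K = 4) := by
  rcases finite_or_infinite K with h1 | h1
  · have := Fintype.ofFinite K
    have h2 : ¬ 4 < Nat.card K := fun h' => h ⟨Finset.univ, by rwa [Finset.card_univ, ← Nat.card_eq_fintype_card]⟩
    have := Finite.one_lt_card (α := K)
    exact ⟨h1, by omega⟩
  · obtain ⟨s, hs⟩ := Infinite.exists_subset_card_eq K 5
    exact absurd ⟨s, by omega⟩ h

/-- the types and fields for which Steinberg's relations lift -/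
def OK (D : ChevalleyDatum) (K : Type*) : Prop := D ∈ [chevE6, chevE7, chevE8] ∨
  (D ∈ [chevB2, chevD4, chevF4] ∧ Nat.card K ≠ 2) ∨ (D = chevG2 ∧ ∃ s : Finset K, 4 < s.card)

omit [Good D] in
theorem OK.mem (h : OK D K) : D ∈ [chevG2, chevB2, chevD4, chevF4, chevE6, chevE7, chevE8] := by
  simp only [OK, List.mem_cons, List.not_mem_nil, or_false] at h ⊢
  tauto

omit [Good D] in
theorem OK.of_big (hD : D ∈ [chevG2, chevB2, chevD4, chevF4, chevE6, chevE7, chevE8])
    (hK : ∃ s : Finset K, 4 < s.card) : OK D K := by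
  have : Nat.card K ≠ 2 := fun h => by
    obtain ⟨s, hs⟩ := hK
    have := Nat.finite_of_card_ne_zero (h ▸ two_ne_zero)
    have := Fintype.ofFinite K
    have := s.card_le_univ
    rw [← Nat.card_eq_fintype_card] at this; omega
  simp only [OK, List.mem_cons, List.not_mem_nil, or_false] at hD ⊢
  tauto

theorem OK.perfect (h : OK D K) (A : Sys D K Γ) (hG : A.G = ⊤) : commutator Γ = ⊤ := by
  have : Nat.card K ≠ 2 → ∃ a : K, a ≠ 0 ∧ a ≠ 1 := fun h => by
    by_contra hn
    push Not at hn
    exact h (Nat.card_eq_two_iff.2 ⟨0, 1, zero_ne_one, Set.eq_univ_of_forall fun a => by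
      by_cases e : a = 0
      · exact Or.inl e
      · exact Or.inr (hn a e)⟩)
  rcases h with h | ⟨h, h'⟩ | ⟨rfl, s, hs⟩
  · simp only [List.mem_cons, List.not_mem_nil, or_false] at h
    rcases h with rfl | rfl | rfl
    exacts [perfect_E6 A hG, perfect_E7 A hG, perfect_E8 A hG]
  · exact perfect_of_mem (OK.mem (Or.inr (Or.inl ⟨h, h'⟩))) A hG fun _ => this h'
  · classical
    obtain ⟨a, -, ha⟩ : ∃ a ∈ s, a ∉ ({0, 1} : Finset K) := Finset.exists_mem_notMem_of_card_lt_card (by
      rw [Finset.card_pair zero_ne_one]; omega)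
    exact perfect_G2 A hG ⟨a, by simpa using ha⟩

include hc hs in
theorem OK.lifts (h : OK D K) (hG : A.G = ⊤) : A.Lifts p := by
  have hT := Sys.hT_of_perfect hc hs hG (h.perfect A hG)
  rcases h with h | ⟨h, h'⟩ | ⟨rfl, h⟩
  · simp only [List.mem_cons, List.not_mem_nil, or_false] at h
    rcases h with rfl | rfl | rfl
    · exact Sys.lifts_sl (sl_of_chk tab_E6 sl_E6).1 (sl_of_chk tab_E6 sl_E6).2 hc hs hT
    · exact Sys.lifts_sl (sl_of_chk tab_E7 sl_E7).1 (sl_of_chk tab_E7 sl_E7).2 hc hs hT
    · exact Sys.lifts_sl (sl_of_chk tab_E8 sl_E8).1 (sl_of_chk tab_E8 sl_E8).2 hc hs hT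
  · simp only [List.mem_cons, List.not_mem_nil, or_false] at h
    by_cases hK : ∃ s : Finset K, 4 < s.card
    · rcases h with rfl | rfl | rfl
      · refine lifts_big hc hs hT hK fun i => ?_
        rcases sim_B2 i with e | e <;> rw [e]
        · exact Sys.LC.of_big hc hs hK misc_B2.1
        · exact lc_B2_long hc hs (Sys.k1_of_big hK misc_B2.2.1 misc_B2.2.2.1)
      · exact lifts_big1 hc hs hT hK f1_D4
      · exact lifts_big1 hc hs hT hK f1_F4
    obtain ⟨_, hK | hK | hK⟩ := card_cases hK
    · exact absurd hK h'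
    · rcases h with rfl | rfl | rfl
      · exact lifts_B2_three hc hs hK hT
      · refine lifts_three hc hs hT hK f1_D4 (P := fun r s => pr r s = 0 ∧ ∃ b m, wt m = wt r - pr b r • wt b ∧
          pr b r % 2 = 1 ∧ ∃ a, wt s = wt m - pr a m • wt a ∧ pr a b = 0 ∧ pr a r % 2 = 1) ?_ k2_D4
        rintro r s ⟨h1, b, m, h2, h3, a, h4, h5, h6⟩ -
        obtain rfl : refl b r = m := wt_injective (by rw [wt_refl, h2])
        exact Sys.LC.of_swap2 hc hs (three_cases hK).2 (three_cases hK).1 sl_D4 h1 h5
          (wt_injective (by rw [wt_refl, h4])) (Int.odd_iff.2 h6) (Int.odd_iff.2 h3)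
      · exact lifts_three hc hs hT hK f1_F4 (fun r s h => Sw1.lc hc hs hK h) k2_F4
    · obtain ⟨g, hg⟩ := exists_gen (n := 3) hK
      rcases h with rfl | rfl | rfl
      · refine lifts_four hc hs hT hK (fun i => ?_) k3_B2
        rcases sim_B2 i with e | e <;> rw [e]
        · exact lc_B2_short hc hs (two_eq_zero hK) (K1T.k1 hg misc_B2.2.2.2.1)
        · exact lc_B2_long hc hs (K1T.k1 hg misc_B2.2.2.2.2)
      · exact lifts_four hc hs hT hK (fun i => (sum_D4 i).lc hc hs) k3_D4
      · exact lifts_four hc hs hT hK (fun i => (sum_F4 i).lc hc hs) k3_F4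
  · exact lifts_big1 hc hs hT h f1_G2

include hc hs in
/-- over a finite field the relations lift when the kernel has exponent prime to the characteristic -/
theorem lifts_coprime [Finite K] {l m : ℕ} [Fact l.Prime] [CharP K l] (hm : ∀ z ∈ p.ker, z ^ m = 1)
    (hl : l.Coprime m) : A.Lifts p := by
  have h0 : ∀ {S : Set (Rt D)}, Nil S → ∃ M : Subgroup E, (∀ e, e ∈ M ↔ p e ∈ A.X S ∧ ∃ k, e ^ l ^ k = 1) ∧
      (∀ e ∈ M, p e = 1 → e = 1) ∧ ∀ v ∈ A.X S, ∃ e ∈ M, p e = v := fun {S} hS => by
    have := Fintype.ofFinite K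
    obtain ⟨n, -, hn⟩ := FiniteField.card K l
    have h1 := A.card_X hS
    rw [Nat.card_eq_fintype_card (α := K), hn, ← pow_mul] at h1
    have : Finite (A.X S) := Nat.finite_of_card_ne_zero (h1 ▸ pow_ne_zero _ (Fact.out : l.Prime).ne_zero)
    exact exists_pcpl hc hs hm hl _ (IsPGroup.of_card h1)
  have h1 : ∀ r t, ∃ y, p y = A.x r t ∧ ∃ k, y ^ l ^ k = 1 := fun r t => by
    obtain ⟨M, h1, -, h3⟩ := h0 (nil_single r)
    obtain ⟨y, h4, h5⟩ := h3 _ (A.x_mem (Set.mem_singleton r) t)
    exact ⟨y, h5, ((h1 y).1 h4).2⟩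
  choose y h1 h2 using h1
  have h3 : ∀ {S : Set (Rt D)}, Nil S → ∃ M : Subgroup E, (∀ r ∈ S, ∀ t, y r t ∈ M) ∧
      ∀ a ∈ M, ∀ b ∈ M, p a = p b → a = b := fun hS => by
    obtain ⟨M, a, b, -⟩ := h0 hS
    exact ⟨M, fun r hr t => (a _).2 ⟨h1 r t ▸ A.x_mem hr t, h2 r t⟩, fun u hu v hv e =>
      inv_mul_eq_one.1 (b _ (mul_mem (inv_mem hu) hv) (by simp [e]))⟩
  refine (exists_liftC (x := y) (fun r t u => ?_) fun {r s} a b t u => ?_).imp fun φ hφ r t => by rw [hφ, h1]
  · obtain ⟨M, h4, h5⟩ := h3 (nil_single r)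
    exact h5 _ (h4 r rfl _) _ (mul_mem (h4 r rfl _) (h4 r rfl _)) (by simp [h1, A.add])
  · obtain ⟨f, f1, f2⟩ := exists_sep a b
    obtain ⟨g, g1, g2⟩ := exists_sep a.symm (ng_eq_iff.not.1 (Ne.symm b))
    have hS := nil_of_fun (f + g)
    have hr : r ∈ {r : Rt D | 0 < (f + g) (rt r)} := by simpa [f1] using g2
    have hs' : s ∈ {r : Rt D | 0 < (f + g) (rt r)} := by simpa [g1] using f2
    obtain ⟨M, h4, h5⟩ := h3 hS
    refine h5 _ (mul_mem (h4 s hs' _) (h4 r hr _)) _
      (mul_mem (mul_mem (h4 r hr _) (h4 s hs' _)) (M.list_prod_mem fun z hz => ?_)) ?_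
    · obtain ⟨c, hc, rfl⟩ := List.mem_map.1 hz
      exact h4 _ (hS.2 r hr s hs' _ (cmb_of_mem hc)) _
    · rw [map_mul, map_mul, map_mul, map_cw p h1, h1, h1, A.comm a b]

universe u v

/-- Steinberg's theorem -/
theorem OK.cc (h : OK D K) : CC.{_, v} (D.SteinbergCover K) := fun _ _ p hs hc => by
  obtain ⟨φ, hφ⟩ := h.lifts (A := stC D K) hc hs stC_G
  exact ⟨φ, (stC D K).hom_ext stC_G hφ⟩

theorem finite_stG [Finite K] (h : D ∈ [chevG2, chevB2, chevD4, chevF4, chevE6, chevE7, chevE8]) :
    Finite (D.SteinbergGroup K) := by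
  refine Nat.finite_of_card_ne_zero ?_
  rw [card_stG (torH_injective h)]
  exact mul_ne_zero Nat.card_pos.ne' Nat.card_pos.ne'

theorem OK.has_one [Finite K] (h : OK D K) : Cfsg.HasCyclicSchurMultiplier (D.SteinbergGroup K) 1 := by
  obtain ⟨e, -⟩ := exists_equiv_st (D := D) (K := K)
  have := finite_stG (K := K) h.mem
  exact (h.cc.congr e).has_one

theorem OK.has [Finite K] (h : OK D K) {n : ℕ} (hn : Nat.card (tor (D := D) (K := K)).ker = n)
    (h' : n = 1 ∨ n.Prime) : Cfsg.HasCyclicSchurMultiplier (D.group K) n := by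
  have := finite_stG (K := K) h.mem
  have h1 : Nat.card ((stG D K).θG stG_G).ker = n := by
    rw [← hn, ← card_center_stG (torH_injective h.mem), (stG D K).center_eq stG_G, Sys0.θG_ker]
  refine CA.SchurCov.has_of_cover (σ := (stG D K).θG stG_G) ⟨(stG D K).θG_surjective _,
    by rw [Sys0.θG_ker, (stG D K).center_eq stG_G], h.perfect _ stG_G ▸ le_top⟩ h.has_one ?_
  have : IsCyclic ((stG D K).θG stG_G).ker := by
    rcases h' with rfl | h'
    · have := (Nat.card_eq_one_iff_unique.1 h1).1
      infer_instance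
    · have := Fact.mk h'
      exact isCyclic_of_prime_card h1
  exact (h1 ▸ zmodCyclicMulEquiv this).symm

end CA.Chev
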