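/-
The tabulated data of types `D₄`, `B₂` and the matrix models.
-/
import Cfsg.Agent.Lib.Lie.H22ModZ
import Cfsg.Agent.Lib.Lie.H23Uni1

set_option autoImplicit false

namespace CA.Chev

open Matrix Cfsg.Lie Cfsg.Lie.ChevalleyDatum Subgroup CA.CForm CA.CForm.Form

variable {D : ChevalleyDatum} [Good D] {K : Type*} [Field K]

theorem θ_ker_le (hp : commutator (D.SteinbergCover K) = ⊤) {G : Type*} [Group G] (ψ : D.SteinbergCover K →* G)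
    (hψ : Function.Surjective ψ) (h : center G ≠ ⊤) : ψ.ker ≤ (stC D K).θ.ker := by
  rw [← (stC D K).center_eq stC_G]
  refine ker_le_center hp ψ fun e => h (eq_top_iff.2 fun g _ => ?_)
  obtain ⟨g, rfl⟩ := hψ g
  rw [show ψ g = 1 from e.ge (mem_top g)]; exact one_mem _

theorem Sys.equiv_quot {G : Type*} [Group G] (A : Sys D K G) (hG : A.G = ⊤) :
    Nonempty (D.group K ≃* G ⧸ center G) :=
  ⟨((QuotientGroup.quotientMulEquivOfEq ((A.center_eq hG).trans (A.θG_ker hG).symm)).trans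
    (QuotientGroup.quotientKerEquivOfSurjective _ (A.θG_surjective hG))).symm⟩

theorem equiv_quot (hp : commutator (D.SteinbergCover K) = ⊤) {G : Type*} [Group G] (ψ : D.SteinbergCover K →* G)
    (hψ : Function.Surjective ψ) (h : center G ≠ ⊤) : Nonempty (D.group K ≃* G ⧸ center G) :=
  ((stC D K).quot ψ hψ (θ_ker_le hp ψ hψ h)).equiv_quot ((stC D K).quot_G stC_G _ _ _)

/-- the structure constants match -/
def IsoChk {κ : Type} [Fintype κ] (v : Rt D → κ → ℤ) (ε : Rt D → ℤ) (n : Rt D → Rt D → ℤ) (r s : Rt D) : Prop :=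
  v s ≠ v r ∧ v r + v s ≠ 0 ∧ ((cT r s = [] ∧ ∀ k, v k ≠ v r + v s) ∨ ∃ k, v k = v r + v s ∧
    ((cT r s = [(k, n r s * ε r * ε s * ε k, 1, 1)] ∧ (∀ k', v k' ≠ v r + v k) ∧ ∀ k', v k' ≠ v s + v k) ∨
    (∃ k', v k' = v r + v k ∧ cT r s = [(k, n r s * ε r * ε s * ε k, 1, 1), (k', n r s * n r k / 2 * ε s * ε k', 2, 1)] ∧
      ∀ k', v k' ≠ v s + v k) ∨
    ∃ k', v k' = v s + v k ∧ cT r s = [(k, n r s * ε r * ε s * ε k, 1, 1), (k', n s r * n s k / 2 * ε r * ε k', 1, 2)] ∧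
      ∀ k', v k' ≠ v r + v k))

set_option synthInstance.maxSize 2000 in
instance decIsoChk {κ : Type} [Fintype κ] (v : Rt D → κ → ℤ) (ε : Rt D → ℤ) (n : Rt D → Rt D → ℤ) (r s : Rt D) :
    Decidable (IsoChk v ε n r s) := inferInstanceAs (Decidable (_ ∧ _))

/-- the brackets -/
def BrChk {κ m : Type} [Fintype κ] [Fintype m] (e : (κ → ℤ) → Matrix m m ℤ) (v : Rt D → κ → ℤ) (n : Rt D → Rt D → ℤ)
    (r s k : Rt D) : Prop := v k = v r + v s → ∃ a : m × m, e (v k) a.1 a.2 ≠ 0 ∧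
  n r s * e (v k) a.1 a.2 = ∑ b, e (v r) a.1 b * e (v s) b a.2 - ∑ b, e (v s) a.1 b * e (v r) b a.2

instance decBrChk {κ m : Type} [Fintype κ] [Fintype m] (e : (κ → ℤ) → Matrix m m ℤ) (v : Rt D → κ → ℤ)
    (n : Rt D → Rt D → ℤ) (r s k : Rt D) : Decidable (BrChk e v n r s k) := inferInstanceAs (Decidable (_ → _))

theorem Model.exists_hom {κ m : Type} [Fintype κ] [Fintype m] [DecidableEq m] {l : ℕ} (M : Model κ m l)
    (v : Rt D → κ → ℤ) (ε : Rt D → ℤ) (n : Rt D → Rt D → ℤ) (hv : ∀ r, v r ∈ M.Φ) (hs : ∀ u ∈ M.Φ, ∃ r, v r = u)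
    (hε : ∀ r, ε r * ε r = 1) (hn : ∀ r s k, BrChk M.e v n r s k)
    (h : ∀ r s, s ≠ r → s ≠ ng r → IsoChk v ε n r s) :
    ∃ φ : D.SteinbergCover K →* M.D.SteinbergCover K, Function.Surjective φ ∧
      ∀ r t, φ ((stC D K).x r t) = (stC M.D K).x (M.ι (v r)) (ε r * t) := by
  have hε' : ∀ r, (ε r : K) * ε r = 1 := fun r => by exact_mod_cast congrArg (Int.cast (R := K)) (hε r)
  have h0 : ∀ u, (∀ k, v k ≠ u) → u ∉ M.Φ := fun u h hu => (hs u hu).elim h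
  have h1 : ∀ r s k, v k = v r + v s → M.N (v r) (v s) = n r s := fun r s k e => by
    obtain ⟨⟨a, d⟩, e1, e2⟩ := hn r s k e
    have := congrFun (congrFun (M.br_add (hv r) (hv s) (e ▸ M.ne0 (hv k))) a) d
    rw [Matrix.sub_apply, mul_apply, mul_apply, ← e2, ← e] at this
    exact (mul_right_cancel₀ e1 this).symm
  have h2 : ∀ r s k k', v k = v r + v s → v k' = v r + v k → M.N2 (v r) (v s) = n r s * n r k / 2 := fun r s k k' e e' => by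
    have := M.two_N2 (hv r) (hv s) (e ▸ M.ne0 (hv k))
    rw [← e, h1 r s k e, h1 r k k' e'] at this
    omega
  obtain ⟨φ, hφ⟩ := exists_liftC (D := D) (K := K) (x := fun r t => (stC M.D K).x (M.ι (v r)) (ε r * t))
    (fun r t u => by rw [mul_add, Sys0.add]) fun {r s} e1 e2 t u => by
      obtain ⟨e5, e3, e4⟩ := h r s e1 e2
      rw [(stC M.D K).comm ((M.ι_inj (hv s) (hv r)).ne.2 e5) ((M.ne_ng (hv r) (hv s)).2 e3), M.cw_ι (stC M.D K).x_zero (hv r) (hv s) e3, cw]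
      congr 1
      rcases e4 with ⟨e, e4⟩ | ⟨k, e4, ⟨e, e6, e7⟩ | ⟨k', e6, e, e7⟩ | ⟨k', e7, e, e6⟩⟩
      · rw [e, M.N_zero (h0 _ e4), M.N2_of (hv r) (hv s) e3 (h0 _ e4),
          M.N2_of (hv s) (hv r) (add_comm (v r) _ ▸ e3) (add_comm (v r) _ ▸ h0 _ e4)]
        simp
      · rw [e, h1 r s k e4, add_comm (v s) (v r), M.N2_zero (e4 ▸ h0 _ e6), M.N2_zero (add_comm (v r) _ ▸ e4 ▸ h0 _ e7), ← e4]
        simp only [List.map_cons, List.map_nil, List.prod_cons, List.prod_nil, Int.cast_zero, zero_mul, Sys0.x_zero,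
          mul_one, Int.cast_mul]
        congr 1; grind
      · rw [e, h1 r s k e4, add_comm (v s) (v r), h2 r s k k' e4 e6, M.N2_zero (add_comm (v r) _ ▸ e4 ▸ h0 _ e7), ← e4, ← e6]
        simp only [List.map_cons, List.map_nil, List.prod_cons, List.prod_nil, Int.cast_zero, zero_mul, Sys0.x_zero,
          mul_one, Int.cast_mul]
        congr 2 <;> grind
      · rw [e, h1 r s k e4, h2 s r k k' (e4.trans (add_comm _ _)) e7, add_comm (v s) (v r), M.N2_zero (e4 ▸ h0 _ e6), ← e4, ← e7]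
        simp only [List.map_cons, List.map_nil, List.prod_cons, List.prod_nil, Int.cast_zero, zero_mul, Sys0.x_zero,
          mul_one, one_mul, Int.cast_mul]
        congr 2 <;> grind
  refine ⟨φ, (stC M.D K).surjective_of stC_G φ (M.all_ι fun u hu t => ?_), hφ⟩
  obtain ⟨r, rfl⟩ := hs u hu
  exact ⟨_, (hφ r (ε r * t)).trans (by rw [← mul_assoc, hε', one_mul])⟩

/-! ### type `D₄` -/

/-- the roots -/
def isoV4 (r : Rt chevD4) (i : Fin 4) : ℤ := (([[-1, -1, 0, 0], [-1, 0, -1, 0], [-1, 0, 0, 1], [-1, 0, 0, -1], [-1, 0, 1, 0], [-1, 1, 0, 0], [0,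
  -1, -1, 0], [0, -1, 0, 1], [0, -1, 0, -1], [0, -1, 1, 0], [0, 0, -1, 1], [0, 0, -1, -1], [0, 0, 1,
  1], [0, 0, 1, -1], [0, 1, -1, 0], [0, 1, 0, 1], [0, 1, 0, -1], [0, 1, 1, 0], [1, -1, 0, 0], [1, 0,
  -1, 0], [1, 0, 0, 1], [1, 0, 0, -1], [1, 0, 1, 0], [1, 1, 0, 0]] : List (List ℤ)).getD r []).getD i 0
/-- the signs -/
def isoE4 (r : Rt chevD4) : ℤ := ([1, 1, 1, 1, -1, 1, -1, -1, -1, 1, 1, 1, 1, 1, 1, -1, -1, -1, 1, -1, 1, 1, 1, 1] : List ℤ).getD r 0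
/-- the structure constants -/
def isoN4 (r s : Rt chevD4) : ℤ := (([[0, 0, 0, 0, 0, 0, 0, 0, 0, 0, 0, 0, 0, 0, 1, 1, 1, 1, 0, -1, -1, -1, -1, 0], [0, 0, 0, 0, 0, 0, 0,
  0, 0, 1, 0, 0, 1, 1, 0, 0, 0, -1, 1, 0, -1, -1, 0, -1], [0, 0, 0, 0, 0, 0, 0, 0, 1, 0, 0, 1, 0,
  -1, 0, 0, -1, 0, 1, 1, 0, 0, -1, -1], [0, 0, 0, 0, 0, 0, 0, 1, 0, 0, 1, 0, -1, 0, 0, -1, 0, 0, 1,
  1, 0, 0, -1, -1], [0, 0, 0, 0, 0, 0, 1, 0, 0, 0, -1, -1, 0, 0, -1, 0, 0, 0, 1, 0, 1, 1, 0, -1],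
  [0, 0, 0, 0, 0, 0, -1, -1, -1, -1, 0, 0, 0, 0, 0, 0, 0, 0, 0, 1, 1, 1, 1, 0], [0, 0, 0, 0, -1, 1,
  0, 0, 0, 0, 0, 0, 1, 1, 0, -1, -1, 0, 0, 0, 0, 0, -1, 1], [0, 0, 0, -1, 0, 1, 0, 0, 0, 0, 0, 1, 0,
  -1, 1, 0, 0, -1, 0, 0, 0, -1, 0, 1], [0, 0, -1, 0, 0, 1, 0, 0, 0, 0, 1, 0, -1, 0, 1, 0, 0, -1, 0,
  0, -1, 0, 0, 1], [0, -1, 0, 0, 0, 1, 0, 0, 0, 0, -1, -1, 0, 0, 0, 1, 1, 0, 0, -1, 0, 0, 0, 1], [0,
  0, 0, -1, 1, 0, 0, 0, -1, 1, 0, 0, 0, 0, 0, 0, -1, 1, 0, 0, 0, -1, 1, 0], [0, 0, -1, 0, 1, 0, 0,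
  -1, 0, 1, 0, 0, 0, 0, 0, -1, 0, 1, 0, 0, -1, 0, 1, 0], [0, -1, 0, 1, 0, 0, -1, 0, 1, 0, 0, 0, 0,
  0, -1, 0, 1, 0, 0, -1, 0, 1, 0, 0], [0, -1, 1, 0, 0, 0, -1, 1, 0, 0, 0, 0, 0, 0, -1, 1, 0, 0, 0,
  -1, 1, 0, 0, 0], [-1, 0, 0, 0, 1, 0, 0, -1, -1, 0, 0, 0, 1, 1, 0, 0, 0, 0, -1, 0, 0, 0, 1, 0],
  [-1, 0, 0, 1, 0, 0, 1, 0, 0, -1, 0, 1, 0, -1, 0, 0, 0, 0, -1, 0, 0, 1, 0, 0], [-1, 0, 1, 0, 0, 0,
  1, 0, 0, -1, 1, 0, -1, 0, 0, 0, 0, 0, -1, 0, 1, 0, 0, 0], [-1, 1, 0, 0, 0, 0, 0, 1, 1, 0, -1, -1,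
  0, 0, 0, 0, 0, 0, -1, 1, 0, 0, 0, 0], [0, -1, -1, -1, -1, 0, 0, 0, 0, 0, 0, 0, 0, 0, 1, 1, 1, 1,
  0, 0, 0, 0, 0, 0], [1, 0, -1, -1, 0, -1, 0, 0, 0, 1, 0, 0, 1, 1, 0, 0, 0, -1, 0, 0, 0, 0, 0, 0],
  [1, 1, 0, 0, -1, -1, 0, 0, 1, 0, 0, 1, 0, -1, 0, 0, -1, 0, 0, 0, 0, 0, 0, 0], [1, 1, 0, 0, -1, -1,
  0, 1, 0, 0, 1, 0, -1, 0, 0, -1, 0, 0, 0, 0, 0, 0, 0, 0], [1, 0, 1, 1, 0, -1, 1, 0, 0, 0, -1, -1,
  0, 0, -1, 0, 0, 0, 0, 0, 0, 0, 0, 0], [0, 1, 1, 1, 1, 0, -1, -1, -1, -1, 0, 0, 0, 0, 0, 0, 0, 0,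
  0, 0, 0, 0, 0, 0]] : List (List ℤ)).getD r []).getD s 0

set_option synthInstance.maxSize 2000 in
theorem exists_D4 : ∃ φ : chevD4.SteinbergCover K →* (clD 4 (by omega)).model.D.SteinbergCover K,
    Function.Surjective φ :=
  ((clD 4 (by omega)).model.exists_hom isoV4 isoE4 isoN4 (fun r => (clD 4 _).mem_Φ'.2 (by revert r; decide +kernel))
    (fun u hu => by
      obtain ⟨a, d, h1, h2, rfl⟩ := (clD 4 _).mem_Φ'.1 hu
      revert a d; decide +kernel) (by decide +kernel) (by decide +kernel) (by decide +kernel)).imp fun _ h => h.1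

/-! ### type `B₂` -/

/-- the roots -/
def isoV2 (r : Rt chevB2) (i : Fin 2) : ℤ := (([[-1, -1], [-1, 0], [0, -1], [-1, 1], [1, -1], [0, 1], [1, 0], [1, 1]] : List (List ℤ)).getD r []).getD i 0
/-- the signs -/
def isoE2 (r : Rt chevB2) : ℤ := ([-1, 1, 1, 1, 1, 1, 1, -1] : List ℤ).getD r 0
/-- the structure constants -/
def isoN2 (r s : Rt chevB2) : ℤ := (([[0, 0, 0, 0, 0, -1, 1, 0], [0, 0, -2, 0, 1, -2, 0, 1], [0, 2, 0, 1, 0, 0, -2, -1], [0, 0, -1, 0, 0,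
  0, 1, 0], [0, -1, 0, 0, 0, 1, 0, 0], [1, 2, 0, 0, -1, 0, -2, 0], [-1, 0, 2, -1, 0, 2, 0, 0], [0,
  -1, 1, 0, 0, 0, 0, 0]] : List (List ℤ)).getD r []).getD s 0

set_option synthInstance.maxSize 2000 in
theorem exists_B2 : ∃ φ : chevB2.SteinbergCover K →* (clB 2 le_rfl).model.D.SteinbergCover K,
    Function.Surjective φ ∧ ∀ r t, φ ((stC _ K).x r t) = (stC _ K).x ((clB 2 le_rfl).model.ι (isoV2 r)) (isoE2 r * t) :=
  (clB 2 le_rfl).model.exists_hom isoV2 isoE2 isoN2 (fun r => (clB 2 _).mem_Φ'.2 (by revert r; decide +kernel))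
    (fun u hu => by
      obtain ⟨a, d, h1, h2, rfl⟩ := (clB 2 _).mem_Φ'.1 hu
      revert a d; decide +kernel) (by decide +kernel) (by decide +kernel) (by decide +kernel)

theorem Cl.Fits.commutator_eq {l : ℕ} {m : Type} [Fintype m] [DecidableEq m] {C : Cl m l}
    {f : Form (Kind.orth K) (m → K)} (h : C.Fits f) (hm : 5 ≤ Fintype.card m) : commutator f.Isom = f.Eich := by
  have hm : 5 ≤ Module.finrank K (m → K) := by simpa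
  obtain ⟨d, hd⟩ := C.exists_ne
  obtain ⟨y, e⟩ := h.nd.exists_isHyp (h.Q0 d hd) (by simp)
  exact le_antisymm (e.commutator_le_Eich h.nd (by omega)) (h.nd.Eich_le_commutator (good_of_five_le hm))

theorem Cl.Fits.equiv_of {l : ℕ} {m : Type} [Fintype m] [DecidableEq m] {C : Cl m l}
    {f : Form (Kind.orth K) (m → K)} (h : C.Fits f) (hm : 5 ≤ Fintype.card m) (hp : commutator (D.SteinbergCover K) = ⊤)
    (φ : ∃ φ : D.SteinbergCover K →* C.model.D.SteinbergCover K, Function.Surjective φ) :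
    Nonempty (D.group K ≃* Cfsg.POmega K f.Q) := by
  obtain ⟨π, hs, -⟩ := h.exists_π
  obtain ⟨φ, hφ⟩ := φ
  obtain ⟨e⟩ := equiv_quot hp (π.comp φ) (hs.comp hφ) h.center_ne
  exact ⟨e.trans ((pOmegaEquiv _).trans (quotCenterCongr (MulEquiv.subgroupCongr (h.commutator_eq hm)))).symm⟩

theorem equiv_D4 : Nonempty (chevD4.group K ≃* Cfsg.POmega K (plusForm K 4).Q) :=
  (fits_D (by omega)).equiv_of (by simp) (perfect_D4 _ stC_G) exists_D4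

end CA.Chev
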