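/-
Homomorphisms out of `SL₂` from the relations of a split BN-pair of rank one.
-/
import Cfsg.Agent.Lib.Lin.SL2Unip

set_option autoImplicit false

namespace CA.SL2Hom

open Matrix CA.SL2Torus CA.SL2Embed CA.SL2Unip
open scoped MatrixGroups

variable {K M : Type*} [Field K] [Group M]

theorem exists_hom (x : K → M) (h : Kˣ →* M) (w : M) (add : ∀ a b, x (a + b) = x a * x b)
    (hx : ∀ (a : Kˣ) b, h a * x b = x (a ^ 2 * b) * h a) (wh : ∀ a, w * h a = h a⁻¹ * w) (ww : w * w = h (-1))
    (wx : ∀ a : Kˣ, w * x (a⁻¹ : Kˣ) = x (-a) * h a * w * x (-a) * w) :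
    ∃ φ : SL(2, K) →* M, (∀ b, φ (u b) = x b) ∧ (∀ a, φ (dg a) = h a) ∧ φ w0 = w := by
  classical
  have x0 : x 0 = 1 := by simpa using add 0 0
  let f : SL(2, K) → M := fun g => if e : g.1 1 0 = 0 then x (g.1 0 0 * g.1 0 1) * h (Units.mk0 _ (B_ne_zero (mem_B.2 e)))
    else x (g.1 0 0 / g.1 1 0) * h (-(Units.mk0 _ e)⁻¹) * w * x (g.1 1 1 / g.1 1 0)
  have f1 : ∀ (a : Kˣ) b d e, f (mk2 a b 0 d e) = x (a * b) * h a := fun a b d e => by
    simp only [f]; rw [dif_pos (by rfl)]; congr 2; exact Units.ext rfl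
  have f2 : ∀ a b (c : Kˣ) d e, f (mk2 a b c d e) = x (a / c) * h (-c⁻¹) * w * x (d / c) := fun a b c d e => by
    refine (dif_neg c.ne_zero).trans ?_; congr 6; exact Units.ext rfl
  have cs : ∀ g : SL(2, K), (∃ (a : Kˣ) (b d : K) (e : _), g = mk2 (a : K) b 0 d e) ∨
      ∃ (a b : K) (c : Kˣ) (d : K) (e : _), g = mk2 a b c d e := fun g => by
    obtain ⟨a, b, c, d, e, rfl⟩ := sl_ex4 g
    rcases eq_or_ne c 0 with rfl | hc
    · exact Or.inl ⟨Units.mk0 a (by rintro rfl; simp at e), b, d, e, rfl⟩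
    · exact Or.inr ⟨a, b, Units.mk0 c hc, d, e, rfl⟩
  have one : f 1 = 1 := by simpa [x0, ← one_eq_mk2] using f1 1 0 1 (by simp)
  let T : Subgroup SL(2, K) :=
    { carrier := {s | ∀ g, f (s * g) = f s * f g}
      one_mem' := fun g => by simp [one]
      mul_mem' := fun {a b} ha hb g => by rw [mul_assoc, ha, hb, ha, mul_assoc]
      inv_mem' := fun {a} ha g => by
        have k : ∀ g, f (a⁻¹ * g) = (f a)⁻¹ * f g := fun g => by rw [eq_inv_mul_iff_mul_eq, ← ha, mul_inv_cancel_left]
        rw [k, ← mul_one a⁻¹, k, one, mul_one] }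
  have fu : ∀ b, f (u b) = x b := fun b => by simpa [u] using f1 1 b 1 (by simp)
  have fw : f w0 = w := by simpa [x0, w0] using f2 0 1 (-1) 0 (by simp)
  have hu : ∀ b, u b ∈ T := fun t g => by
    rw [fu]
    rcases cs g with ⟨a, b, d, e, rfl⟩ | ⟨a, b, c, d, e, rfl⟩
    · have := f1 a (b + t * d) d (by linear_combination e)
      rw [f1, ← mul_assoc, ← add, show t + a * b = a * (b + t * d) by linear_combination -t * e, ← this, u, mk2_mul]
      congr 1; simp
    · have := f2 (a + t * c) (b + t * d) c d (by linear_combination e)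
      simp only [f2, ← mul_assoc, ← add]
      rw [show t + a / c = (a + t * c) / c by field_simp; ring, ← this, u, mk2_mul]
      congr 1; simp
  have hw : w0 ∈ T := fun g => by
    rw [fw]
    rcases cs g with ⟨a, b, d, e, rfl⟩ | ⟨a, b, c, d, e, rfl⟩
    · rw [f1, show w0 * mk2 (a : K) b 0 d e = mk2 0 d (-a : Kˣ) (-b) (by simpa [mul_comm] using e) by simp [w0, mk2_mul], f2, zero_div, x0,
        one_mul, inv_neg, neg_neg, ← wh, mul_assoc, hx]
      congr 3; push_cast; field_simp
    have k : w * h (-c⁻¹) * w = h c := by rw [wh, mul_assoc, ww, ← map_mul]; simp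
    rcases eq_or_ne a 0 with rfl | ha
    · rw [f2, show w0 * mk2 0 b c d e = mk2 (c : K) d 0 (-b) (by linear_combination e) by simp [w0, mk2_mul], f1, zero_div, x0,
        one_mul, ← mul_assoc, ← mul_assoc, k, hx]
      congr 2; field_simp
    · lift a to Kˣ using ha.isUnit
      rw [f2, show w0 * mk2 (a : K) b c d e = mk2 (c : K) d (-a : Kˣ) (-b) (by push_cast; linear_combination e) by
        simp [w0, mk2_mul], f2,
        show (a / c : K) = ((c / a)⁻¹ : Kˣ) by simp]
      symm
      calc _ = x (-(c / a : Kˣ)) * h (c / a) * w * (x (-(c / a : Kˣ)) * (w * h (-c⁻¹) * w) * x (d / c)) := by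
            simp only [← mul_assoc, wx]
        _ = x (-(c / a : Kˣ)) * h (c / a) * (w * h c) * x (-b / (-a : Kˣ)) := by
            rw [k, mul_assoc (x _) (h c), hx, ← mul_assoc (x _) (x _), ← add]
            simp only [mul_assoc, hx]
            congr 5; push_cast; field_simp; linear_combination e
        _ = _ := by
            rw [wh, ← mul_assoc, mul_assoc (x _) (h _), ← map_mul]
            congr 4
            · push_cast; field_simp
            · simp [div_eq_mul_inv, mul_comm, mul_left_comm]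
  have hT : T = ⊤ := eq_top_of_u_l T hu fun b => by
    rw [← neg_neg b, ← w0_conj_u]; exact mul_mem (mul_mem hw (hu _)) (inv_mem hw)
  exact ⟨MonoidHom.mk' f fun a b => (hT.ge (Subgroup.mem_top a) :) b, fu,
    fun a => by simpa [x0, dg] using f1 a 0 (a⁻¹ : Kˣ) (by simp), fw⟩

end CA.SL2Hom
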