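/-
The homomorphisms `SL₂ → ⟨X_r, X_{-r}⟩`.
-/
import Cfsg.Agent.Lib.Lie.ChevTwB
import Cfsg.Agent.Lib.Lie.SL2Hom

set_option autoImplicit false

namespace CA.Chev

open Matrix Equiv Cfsg.Lie Cfsg.Lie.ChevalleyDatum CA.SL2Torus CA.SL2Unip
open scoped MatrixGroups

variable {D : ChevalleyDatum} [Good D] {K : Type*} [Field K] {Γ : Type*} [Group Γ]

namespace Sys
open Sys0
variable (A : Sys D K Γ)

theorem n_conj_self (r : Rt D) (t : Kˣ) (u : K) : A.n r t * A.x r u * (A.n r t)⁻¹ = A.x (ng r) (-((t : K)⁻¹ ^ 2 * u)) := by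
  rw [n_conj, refl_self, et_self, pr_self]; simp [zpow_ofNat]

theorem n_conj_ng (r : Rt D) (t : Kˣ) (u : K) : A.n r t * A.x (ng r) u * (A.n r t)⁻¹ = A.x r (-((t : K) ^ 2 * u)) := by
  rw [n_conj, refl_ng_self, et_ng, et_self, pr_ng_right, pr_self]; simp [zpow_ofNat]

theorem n_ng (r : Rt D) (t : Kˣ) : A.n (ng r) (-t⁻¹) = A.n r t := by
  have : A.n r t = A.n r t * A.x r t * (A.n r t)⁻¹ * (A.n r t * A.x (ng r) (-(t : K)⁻¹) * (A.n r t)⁻¹) *
      (A.n r t * A.x r t * (A.n r t)⁻¹) := by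
    conv_lhs => rw [← mul_inv_cancel_right (A.n r t) (A.n r t), congrArg (A.n r t * ·) (A.n_def r t)]
    group
  rw [this, n_conj_self, n_conj_ng, n_def, ng_ng]
  congr 3 <;> simp [sq]

variable {A}

theorem R3.h_ng (h3 : A.R3) (r : Rt D) (t : Kˣ) : A.h (ng r) t = (A.h r t)⁻¹ := by
  have k : ∀ t, A.n (ng r) t = A.n r (-t⁻¹) := fun t => by rw [← A.n_ng r]; simp
  rw [h_def, k, k, n_mul_n, eq_inv_iff_mul_eq_one, show -t⁻¹ = t⁻¹ * -1 by simp, h3,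
    show - -(-1 : Kˣ)⁻¹ = -1 by simp, mul_inv_cancel_right, ← h3 r, inv_mul_cancel, h_one]

theorem R3.exists_SL2 (h3 : A.R3) (r : Rt D) : ∃ φ : SL(2, K) →* Γ, (∀ b, φ (u b) = A.x r b) ∧
    (∀ b, φ (l b) = A.x (ng r) b) ∧ (∀ a, φ (SL2Torus.dg a) = A.h r a) ∧ φ w0 = A.n r 1 := by
  obtain ⟨φ, h1, h2, h4⟩ := SL2Hom.exists_hom (A.x r) (MonoidHom.mk' (A.h r) (h3 r)) (A.n r 1) (A.add r)
    (fun a b => by simpa [zpow_ofNat, mul_inv_eq_iff_eq_mul] using A.h_conj r r a b)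
    (fun a => by
      rw [← mul_inv_eq_iff_eq_mul, map_inv]
      exact (h3.conj_h (A.act_n r 1) r a).trans (by rw [refl_self, h3.h_ng]; rfl))
    (by simp [n_mul_n, inv_eq_iff_mul_eq_one, ← h3 r])
    (fun a => by
      rw [← mul_inv_eq_iff_eq_mul, n_conj_self, mul_assoc (A.x r _), MonoidHom.mk'_apply, ← n_eq, n_def]
      simp [x_neg, mul_assoc])
  refine ⟨φ, h1, fun b => ?_, h2, h4⟩
  rw [← neg_neg b, ← w0_conj_u, map_mul, map_mul, map_inv, h1, h4, n_conj_self]; simp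

theorem range_SL2 {φ : SL(2, K) →* Γ} {r : Rt D} (h1 : ∀ b, φ (u b) = A.x r b) (h2 : ∀ b, φ (l b) = A.x (ng r) b) :
    φ.range = A.X {r} ⊔ A.X {ng r} := by
  refine le_antisymm ?_ (sup_le (A.X_le.2 ?_) (A.X_le.2 ?_))
  · rw [MonoidHom.range_eq_map, Subgroup.map_le_iff_le_comap, top_le_iff]
    exact eq_top_of_u_l _ (fun b => by rw [Subgroup.mem_comap, h1]; exact Subgroup.mem_sup_left (A.x_mem (Set.mem_singleton _) b))
      fun b => by rw [Subgroup.mem_comap, h2]; exact Subgroup.mem_sup_right (A.x_mem (Set.mem_singleton _) b)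
  · rintro _ rfl t; exact ⟨_, h1 t⟩
  · rintro _ rfl t; exact ⟨_, h2 t⟩

end Sys

end CA.Chev
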