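/-
Central extensions of twisted groups with kernel of order prime to the characteristic: lifting the BN-pair.
-/
import Cfsg.Agent.Lib.Lie.ChevTwA
import Cfsg.Agent.Lib.Lie.H22St

set_option autoImplicit false

namespace CA.TwM

open Equiv Cfsg Cfsg.Lie Cfsg.Lie.ChevalleyDatum CA.SchurFilt Subgroup CA.Chev CA.Chev.Sys0 CA.Chev.Sys
open scoped commutatorElement

theorem tits_closed {X ι : Type*} [Group X] (U N : Subgroup X) (P : ι → Subgroup X) (n : ι → X)
    (hn : ∀ i, n i ∈ N) (h0 : ∀ i, ∀ u ∈ U, (n i * n i)⁻¹ * u * (n i * n i) ∈ U)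
    (h1 : ∀ i, ∀ u ∈ U, ∃ a, ∃ x ∈ P i, u = a * x ∧ n i * a * (n i)⁻¹ ∈ U)
    (h2 : ∀ i, ∀ m ∈ N, (∀ x ∈ P i, m⁻¹ * x * m ∈ U) ∨ ∀ x ∈ P i, (n i * m)⁻¹ * x * (n i * m) ∈ U)
    (h3 : ∀ i, ∀ x ∈ P i, x = 1 ∨ ∃ a ∈ U, ∃ m ∈ N, ∃ b ∈ P i, n i * x * (n i)⁻¹ = a * m * b)
    {g : X} (hg : g ∈ U ⊔ closure (Set.range n)) : ∃ u ∈ U, ∃ m ∈ N, ∃ u' ∈ U, g = u * m * u' := by
  have key : ∀ i y, (∃ u ∈ U, ∃ m ∈ N, ∃ u' ∈ U, y = u * m * u') →
      ∃ u ∈ U, ∃ m ∈ N, ∃ u' ∈ U, n i * y = u * m * u' := by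
    rintro i _ ⟨u, hu, m, hm, u', hu', rfl⟩
    obtain ⟨a, x, hx, rfl, ha⟩ := h1 i u hu
    have c1 : m⁻¹ * x * m ∈ U → ∃ u ∈ U, ∃ m' ∈ N, ∃ u'' ∈ U, n i * (a * x * m * u') = u * m' * u'' := fun h =>
      ⟨_, ha, _, mul_mem (hn i) hm, _, mul_mem h hu', by group⟩
    rcases h2 i m hm with h | h
    · exact c1 (h x hx)
    rcases h3 i x hx with rfl | ⟨a', ha', m', hm', b, hb, e⟩
    · exact c1 (by simp)
    refine ⟨_, mul_mem ha ha', _, mul_mem hm' (mul_mem (hn i) hm), _, mul_mem (h b hb) hu', ?_⟩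
    calc _ = n i * a * (n i)⁻¹ * (n i * x * (n i)⁻¹) * (n i * m * u') := by group
      _ = _ := by rw [e]; group
  rw [← closure_eq U, ← Subgroup.closure_union] at hg
  induction hg using closure_induction_left with
  | one => exact ⟨1, one_mem _, 1, one_mem _, 1, one_mem _, by simp⟩
  | mul_left x hx y _ ih =>
    rcases hx with hx | ⟨i, rfl⟩
    · obtain ⟨u, hu, m, hm, u', hu', rfl⟩ := ih
      exact ⟨_, mul_mem hx hu, m, hm, u', hu', by group⟩
    · exact key i y ih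
  | inv_mul_cancel x hx y _ ih =>
    rcases hx with hx | ⟨i, rfl⟩
    · obtain ⟨u, hu, m, hm, u', hu', rfl⟩ := ih
      exact ⟨_, mul_mem (inv_mem hx) hu, m, hm, u', hu', by group⟩
    · obtain ⟨u, hu, m, hm, u', hu', e⟩ := key i y ih
      refine ⟨_, h0 i u hu, _, mul_mem (inv_mem (mul_mem (hn i) (hn i))) hm, u', hu', ?_⟩
      calc _ = (n i * n i)⁻¹ * (n i * y) := by group
        _ = _ := by rw [e]; group

variable {D : ChevalleyDatum} [Good D] {K : Type*} [Field K] {Γ : Type*} [Group Γ]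

/-- the cocharacters supported on `J` -/
def supp (K : Type*) [Field K] (J : Set (Nd D)) : Subgroup (Nd D → Kˣ) := Subgroup.pi Jᶜ fun _ => ⊥

omit [Good D] in
theorem mem_supp {J : Set (Nd D)} {c : Nd D → Kˣ} : c ∈ supp K J ↔ ∀ j, j ∉ J → c j = 1 := Iff.rfl

theorem relH {A : Sys D K Γ} (h3 : A.R3) (J : Set (Nd D)) {g : Γ} (hg : g ∈ A.X (Phi J)) (hH : g ∈ A.H) :
    g ∈ (supp K J).map h3.torH := by
  classical
  set HJ := (supp K J).map h3.torH
  have hle : ∀ y ∈ HJ, y ∈ A.H := by rintro _ ⟨c, -, rfl⟩; exact h3.torH_range.le ⟨c, rfl⟩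
  have hh : ∀ j ∈ J, ∀ t, A.h (sim j) t ∈ HJ := fun j hj t =>
    ⟨Pi.mulSingle j t, mem_supp.2 fun k hk => Pi.mulSingle_eq_of_ne (M := fun _ => Kˣ) (by rintro rfl; exact hk hj) t,
      h3.torH_single j t⟩
  have nn : ∀ j ∈ J, ∀ t u, A.n (sim j) t * A.n (sim j) u ∈ HJ := fun j hj t u => by
    rw [n_mul_n]; exact mul_mem (hh j hj _) (inv_mem (hh j hj _))
  let NJ : Subgroup Γ := closure {g | ∃ j ∈ J, ∃ t, g = A.n (sim j) t}
  have nm : ∀ j ∈ J, ∀ t, A.n (sim j) t ∈ NJ := fun j hj t => subset_closure ⟨j, hj, t, rfl⟩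
  have cj : ∀ m ∈ NJ, ∀ y ∈ HJ, m * y * m⁻¹ ∈ HJ := by
    have k : ∀ j ∈ J, ∀ t, ∀ y ∈ HJ, A.n (sim j) t * y * (A.n (sim j) t)⁻¹ ∈ HJ := fun j hj t y hy => by
      obtain ⟨c, hc⟩ := (A.act_H (hle y hy)).conj_n (sim j)
      have := mul_mem (nn j hj t (c * -t)) hy
      rw [← show _ = A.n (sim j) (c * -t) from hc (-t), n_neg] at this
      convert this using 1; group
    intro m hm
    induction hm using closure_induction_left with
    | one => simp
    | mul_left x hx y _ ih =>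
      obtain ⟨j, hj, t, rfl⟩ := hx
      intro z hz
      convert k j hj t _ (ih z hz) using 1; group
    | inv_mul_cancel x hx y _ ih =>
      obtain ⟨j, hj, t, rfl⟩ := hx
      intro z hz
      rw [← n_neg]
      convert k j hj (-t) _ (ih z hz) using 1; group
  have nw : ∀ L : List (Nd D), (∀ j ∈ L, j ∈ J) → A.nw L ∈ NJ := fun L hL => Subgroup.list_prod_mem _ fun g hg => by
    obtain ⟨j, hj, rfl⟩ := List.mem_map.1 hg
    exact nm j (hL j hj) 1
  have ex : ∀ m ∈ NJ, ∃ L, (∀ j ∈ L, j ∈ J) ∧ m * (A.nw L)⁻¹ ∈ HJ := by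
    have k : ∀ j ∈ J, ∀ t y, (∃ L, (∀ j ∈ L, j ∈ J) ∧ y * (A.nw L)⁻¹ ∈ HJ) →
        ∃ L, (∀ j ∈ L, j ∈ J) ∧ A.n (sim j) t * y * (A.nw L)⁻¹ ∈ HJ := by
      rintro j hj t y ⟨L, hL, h⟩
      refine ⟨j :: L, by simpa [hj] using hL, ?_⟩
      have := mul_mem (cj _ (nm j hj t) _ h) (nn j hj t (-1))
      rw [n_neg] at this
      rw [nw_cons]; convert this using 1; group
    intro m hm
    induction hm using closure_induction_left with
    | one => exact ⟨[], by simp⟩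
    | mul_left x hx y _ ih => obtain ⟨j, hj, t, rfl⟩ := hx; exact k j hj t y ih
    | inv_mul_cancel x hx y _ ih => obtain ⟨j, hj, t, rfl⟩ := hx; rw [← n_neg]; exact k j hj _ y ih
  have wm : ∀ L : List (Nd D), (∀ j ∈ L, j ∈ J) → wd L = 1 → A.nw L ∈ HJ := fun L hL h => by
    induction hn : L.length using Nat.strong_induction_on generalizing L with
    | _ m ih =>
      rcases List.eq_nil_or_concat L with rfl | ⟨L', p, rfl⟩
      · exact one_mem _
      rw [List.concat_eq_append] at h hn hL ⊢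
      have e : wd L' = sR p := by
        rw [wd_append, wd_cons, wd_nil, mul_one, mul_eq_one_iff_eq_inv, sR_inv] at h; exact h
      obtain ⟨α, j, β, rfl, h2, h3⟩ := exchange' (L := L') (p := p) (by rw [e, sR_sim, not_pos_ng]; exact pos_sim p)
      rw [e, sR_mul_self] at h3
      have h4 := ih _ (by rw [← hn]; simp only [List.length_append, List.length_cons]; omega) _
        (fun k hk => hL k (by simp only [List.mem_append, List.mem_cons] at hk ⊢; tauto)) h3.symm rfl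
      obtain ⟨c, hc⟩ := (A.act_nw β).conj_n (sim p)
      have h5 := hc 1
      rw [h2] at h5
      have := mul_mem (cj _ (nw α fun k hk => hL k (by simp [hk])) _ (nn j (hL j (by simp)) 1 (c * 1))) h4
      rw [← h5] at this
      convert this using 1
      simp only [nw_append, nw_cons, nw_nil]; group
  have act : ∀ m ∈ NJ, m ∈ A.N ∧ ∃ w ∈ WJ J, A.Act m w := fun m hm => by
    obtain ⟨L, hL, h⟩ := ex m hm
    have := (A.act_H (hle _ h)).mul (A.act_nw L)
    rw [inv_mul_cancel_right, one_mul] at this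
    exact ⟨by simpa using mul_mem (A.H_le_N (hle _ h)) (A.nw_mem L), _, wd_mem_WJ hL, this⟩
  have hS := nil_Phi_pos (D := D) J
  have xm : ∀ j ∈ J, ∀ t, A.x (sim j) t ∈ A.X {r | Pos r ∧ r ∈ Phi J} := fun j hj t =>
    A.x_mem (S := {r | Pos r ∧ r ∈ Phi J}) ⟨pos_sim _, sim_mem_Phi.2 hj⟩ t
  have key : ∃ u ∈ A.X {r | Pos r ∧ r ∈ Phi J}, ∃ m ∈ NJ, ∃ u' ∈ A.X {r | Pos r ∧ r ∈ Phi J}, g = u * m * u' := by
    refine tits_closed _ NJ (fun j : J => A.X {sim j.1}) (fun j => A.n (sim j.1) 1) (fun j => nm j j.2 1)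
      (fun j u hu => A.H_conj_X' (A.n_mul_n_mem _ _ _) hu) (fun j u hu => ?_) (fun j m hm => ?_) (fun j x hx => ?_)
      ((A.X_le.2 fun r hr t => ?_) hg)
    · obtain ⟨a, ha, b, hb, rfl⟩ := A.exists_mul hS (· ≠ sim j.1) hu
      refine ⟨a, b, A.X_mono (fun r hr => not_not.1 hr.2) hb, rfl, (A.act_sim j.1 1).conj_X (fun r hr => ?_) ha⟩
      exact ⟨hr.1.1.sR_pos hr.2, (map_mem_Phi (sR_mem_WJ j.2)).2 hr.1.2⟩
    · obtain ⟨-, w, hw, h⟩ := act m hm
      have hj := (map_mem_Phi (inv_mem hw)).2 (sim_mem_Phi.2 j.2)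
      by_cases e : Pos (w⁻¹ (sim j.1))
      · exact Or.inl fun x hx => h.conj_X' (by rintro _ rfl; exact ⟨e, hj⟩) hx
      · refine Or.inr fun x hx => ((A.act_sim j.1 1).mul h).conj_X' ?_ hx
        rintro _ rfl
        rw [_root_.mul_inv_rev, sR_inv, Perm.mul_apply, sR_sim, map_ng (W_le_RA (WJ_le J (inv_mem hw)))]
        exact ⟨(pos_ng _).2 e, ng_mem_Phi.2 hj⟩
    · obtain ⟨t, rfl⟩ := A.mem_X_single.1 hx
      by_cases ht : t = 0
      · left; rw [ht, A.x_zero]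
      obtain ⟨c, hc⟩ := (A.act_sim j.1 1).conj_x (sim j.1)
      have e := A.x_ng_eq (sim j.1) (c * Units.mk0 t ht)
      rw [Units.val_mul, Units.val_mk0, ← sR_sim, ← hc] at e
      exact Or.inr ⟨_, xm _ j.2 _, _, nm _ j.2 _, _, A.x_mem (Set.mem_singleton _) _, e⟩
    · obtain ⟨w, hw, j, hj, rfl⟩ := exists_WJ_sim hr
      obtain ⟨L, hL, rfl⟩ := exists_wd_J hw
      obtain ⟨c, hc⟩ := (A.act_nw L).conj_x (sim j)
      have h1 : A.nw L ∈ A.X {r | Pos r ∧ r ∈ Phi J} ⊔ closure (Set.range fun j : J => A.n (sim j.1) 1) :=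
        mem_sup_right (Subgroup.list_prod_mem _ fun g hg => by
          obtain ⟨j, hj, rfl⟩ := List.mem_map.1 hg
          exact subset_closure ⟨⟨j, hL j hj⟩, rfl⟩)
      rw [← c.mul_inv_cancel_left t, ← hc]
      exact mul_mem (mul_mem h1 (mem_sup_left (xm j hj _))) (inv_mem h1)
  obtain ⟨u, hu, m, hm, u', hu', rfl⟩ := key
  have hu : u ∈ A.U := A.X_mono (fun _ h => h.1) hu
  have hu' : u' ∈ A.U := A.X_mono (fun _ h => h.1) hu'
  have h1 : m ∈ A.H := A.B_inf_N (by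
    simpa [mul_assoc] using mul_mem (mul_mem (inv_mem (A.U_le_B hu)) (A.H_le_B hH)) (inv_mem (A.U_le_B hu'))) (act m hm).1
  have h2 := (A.UH_unique (one_mem _) (mul_mem hu (A.H_conj_X h1 hu')) hH h1 (by group)).2
  rw [h2]
  obtain ⟨L, hL, h⟩ := ex m hm
  have h4 := (A.act_H (hle _ h)).mul (A.act_nw L)
  rw [inv_mul_cancel_right, one_mul] at h4
  simpa using mul_mem h (wm L hL (h4.unique (A.act_H h1)))

/-! ### lifting `p`-subgroups -/

section
variable {X G : Type*} [Group X] [Group G] (π : X →* G) (p : ℕ)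

/-- the `p`-elements over `P` -/
def lf (P : Subgroup G) : Subgroup X := closure {x | π x ∈ P ∧ ∃ k, x ^ p ^ k = 1}

/-- central kernel of exponent prime to `p` -/
structure Pp : Prop where
  cen : π.ker ≤ center X
  exp : ∃ m, p.Coprime m ∧ ∀ z ∈ π.ker, z ^ m = 1

variable {π p}

theorem lf_le {P : Subgroup G} {x : X} (h : x ∈ lf π p P) : π x ∈ P :=
  (show lf π p P ≤ P.comap π from (closure_le _).2 fun _ h => h.1) h

theorem lf_conj {P Q : Subgroup G} {g : X} (h : ∀ y ∈ P, π g * y * (π g)⁻¹ ∈ Q) {x : X} (hx : x ∈ lf π p P) :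
    g * x * g⁻¹ ∈ lf π p Q :=
  (show lf π p P ≤ (lf π p Q).comap (MulAut.conj g).toMonoidHom from (closure_le _).2 fun y ⟨h1, k, h2⟩ =>
    subset_closure ⟨by simpa using h _ h1, k, by rw [← map_pow, h2, map_one]⟩) hx

theorem lf_mono {P Q : Subgroup G} (h : P ≤ Q) : lf π p P ≤ lf π p Q := closure_mono fun _ hx => ⟨h hx.1, hx.2⟩

theorem Pp.spec [Fact p.Prime] (h : Pp π p) {P : Subgroup G} (hf : Finite P) (hP : IsPGroup p P) (hr : P ≤ π.range) :
    (∀ x ∈ lf π p P, ∃ k, x ^ p ^ k = 1) ∧ (∀ x ∈ lf π p P, π x = 1 → x = 1) ∧ ∀ v ∈ P, ∃ x ∈ lf π p P, π x = v := by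
  obtain ⟨m, h1, h2⟩ := h.exp
  have e := subgroupOfEquivOfLe hr
  haveI : Finite (P.subgroupOf π.range) := Finite.of_equiv _ e.symm.toEquiv
  obtain ⟨M, a1, a2, a3⟩ := exists_pcpl (p := π.rangeRestrict) (by rw [MonoidHom.ker_rangeRestrict]; exact h.cen)
    π.rangeRestrict_surjective (m := m) (by rw [MonoidHom.ker_rangeRestrict]; exact h2) h1 (P.subgroupOf π.range)
    (hP.of_equiv e.symm)
  have : lf π p P = M := by
    rw [← closure_eq M, lf]
    exact congrArg Subgroup.closure (Set.ext fun x => (a1 x).symm)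
  rw [this]
  refine ⟨fun x hx => ((a1 x).1 hx).2, fun x hx e => a2 x hx (Subtype.ext e), fun v hv => ?_⟩
  obtain ⟨x, hx, e⟩ := a3 ⟨v, hr hv⟩ hv
  exact ⟨x, hx, congrArg Subtype.val e⟩

end

theorem isPGroup_X (A : Sys0 D K Γ) [Finite K] (p : ℕ) [Fact p.Prime] [CharP K p] {S : Set (Rt D)} (hS : Nil S) :
    IsPGroup p (A.X S) := by
  haveI := Fintype.ofFinite K
  obtain ⟨n, -, hn⟩ := FiniteField.card K p
  refine IsPGroup.of_card (n := n * S.ncard) ?_
  rw [pow_mul, ← hn, ← Nat.card_eq_fintype_card]; exact A.card_X hS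

theorem exchange_wO (f : Nd D → Perm (Rt D)) {L : List (Nd D)} {r : Rt D} (hr : Pos r) (h : ¬ Pos ((L.map f).prod r)) :
    ∃ α i β, L = α ++ i :: β ∧ Pos ((β.map f).prod r) ∧ ¬ Pos (f i ((β.map f).prod r)) := by
  induction L with
  | nil => exact absurd hr h
  | cons j L ih =>
    by_cases e : Pos ((L.map f).prod r)
    · exact ⟨[], j, L, rfl, e, h⟩
    · obtain ⟨α, i, β, rfl, h'⟩ := ih e
      exact ⟨j :: α, i, β, rfl, h'⟩

section
variable {A : Sys D K Γ} {τ : Twist A} {X : Type*} [Group X] (π : X →* Γ) (p : ℕ)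

variable (τ) in
/-- the lifted rank one subgroup -/
def Lam (i : Nd D) : Subgroup X := lf π p (τ.X1 (τ.Op i)) ⊔ lf π p (τ.X1 (τ.On i))

variable {π p}

theorem exists_cpl [Finite K] [Fact p.Prime] [CharP K p] (h : τ.OK) (h3 : A.R3) (hi : Function.Injective h3.torH)
    (hπ : Pp π p) (hr : π.range = τ.G1) (hΛ : ∀ i, ∀ z ∈ Lam τ π p i, π z = 1 → z = 1) :
    ∃ M : Subgroup X, (∀ z ∈ M, π z = 1 → z = 1) ∧ τ.G1 ≤ M.map π := by
  classical
  have hG : ∀ x, π x ∈ τ.G1 := fun x => hr.le ⟨x, rfl⟩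
  have hF : ∀ x, π x ∈ τ.F := fun x => τ.G1_le_F (hG x)
  have sp : ∀ S, Nil S → τ.X1 S ≤ τ.G1 → _ := fun S hS hl =>
    hπ.spec (τ.finite_X1 hS) ((isPGroup_X A.toSys0 p hS).to_le inf_le_left) (hr ▸ hl)
  have sU := sp _ nil_pos le_sup_left
  have sP := fun i => sp _ (nil_Phi_pos _) (τ.X1_Op_le i)
  have sN := fun i => sp _ (nil_Phi_neg _) (τ.X1_On_le i)
  have cj : ∀ {g : X} {w}, A.Act (π g) w → ∀ {S T : Set (Rt D)}, (∀ s ∈ S, w s ∈ T) → ∀ {x}, x ∈ lf π p (τ.X1 S) →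
      g * x * g⁻¹ ∈ lf π p (τ.X1 T) := fun hg _ _ hST _ hx => lf_conj (fun y hy => τ.conj_X1 (hF _) hg hST hy) hx
  have cΛ : ∀ {g : X} {w}, A.Act (π g) w → ∀ {k i}, (∀ s ∈ τ.Op k, w s ∈ τ.Op i) → ∀ x ∈ Lam τ π p k,
      g * x * g⁻¹ ∈ Lam τ π p i := fun {g w} hg k i hw =>
    (show Lam τ π p k ≤ (Lam τ π p i).comap (MulAut.conj g).toMonoidHom from sup_le
      (fun x hx => mem_sup_left (cj hg hw hx)) fun x hx => mem_sup_right (cj hg (fun s hs => by
        have := hw (ng s) ⟨(pos_ng _).2 hs.1, ng_mem_Phi.2 hs.2⟩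
        rw [map_ng hg.ra] at this
        exact ⟨(pos_ng _).1 this.1, ng_mem_Phi.1 this.2⟩) hx))
  have ΛX : ∀ i, ∀ x ∈ Lam τ π p i, π x ∈ A.X (Phi (orb τ.ν i)) := fun i =>
    (show Lam τ π p i ≤ (A.X _).comap π from sup_le (fun x hx => A.X_mono (fun _ h => h.2) (lf_le hx).1)
      fun x hx => A.X_mono (fun _ h => h.2) (lf_le hx).1)
  have r1 : ∀ i, ∀ v ∈ lf π p (τ.X1 (τ.On i)), π v ≠ 1 → ∃ a ∈ lf π p (τ.X1 (τ.Op i)), ∃ m ∈ Lam τ π p i, π m ∈ A.N ∧
      A.Act (π m) (wJ (orb τ.ν i)) ∧ ∃ b ∈ lf π p (τ.X1 (τ.Op i)), v = a * m * b := fun i v hv h1 => by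
    obtain ⟨u, hu, m, hm, hw, u', hu', e⟩ := τ.rank_one (lf_le hv) h1
    obtain ⟨a, ha, rfl⟩ := (sP i).2.2 u hu
    obtain ⟨b, hb, rfl⟩ := (sP i).2.2 u' hu'
    have : π (a⁻¹ * v * b⁻¹) = m := by rw [map_mul, map_mul, e, map_inv, map_inv]; group
    exact ⟨a, ha, _, mul_mem (mul_mem (inv_mem (mem_sup_left ha)) (mem_sup_right hv)) (inv_mem (mem_sup_left hb)),
      this ▸ hm.1, this ▸ hw, b, hb, by group⟩
  have en : ∀ i, ∃ m ∈ Lam τ π p i, π m ∈ A.N ∧ A.Act (π m) (wJ (orb τ.ν i)) := fun i => by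
    obtain ⟨v, hv, h1⟩ := h.neg i
    obtain ⟨v, hv', rfl⟩ := (sN i).2.2 v hv
    obtain ⟨-, -, m, h2, h4, h5, -⟩ := r1 i v hv' h1
    exact ⟨m, h2, h4, h5⟩
  choose n nΛ nN nw using en
  let Hh : Subgroup X := ⨆ i, Lam τ π p i ⊓ A.H.comap π
  have Hm : ∀ {i x}, x ∈ Lam τ π p i → π x ∈ A.H → x ∈ Hh := fun {i x} h1 h2 =>
    mem_iSup_of_mem i (mem_inf.2 ⟨h1, h2⟩)
  have HH : ∀ x ∈ Hh, π x ∈ A.H := (show Hh ≤ A.H.comap π from iSup_le fun _ => inf_le_right)
  have HΛ : ∀ {g}, π g ∈ A.H → ∀ i, ∀ x ∈ Lam τ π p i, g * x * g⁻¹ ∈ Lam τ π p i := fun hg i =>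
    cΛ (A.act_H hg) fun _ hs => hs
  have Hc : ∀ i, ∀ y ∈ Lam τ π p i, π y ∈ A.H → ∀ g, π g ∈ A.H → g * y = y * g := fun i y hy h1 g hg => by
    have := hΛ i _ (mul_mem (HΛ hg i y hy) (inv_mem hy)) (by
      simp only [map_mul, map_inv]; rw [h3.H_comm _ hg _ h1]; group)
    rwa [mul_inv_eq_one, mul_inv_eq_iff_eq_mul] at this
  have nH : ∀ i, ∀ a ∈ Lam τ π p i, π a ∈ A.N → ∀ y ∈ Hh, a * y * a⁻¹ ∈ Hh := fun i a ha h1 y hy => by
    have := mul_mem (Hm (mul_mem ha (HΛ (HH y hy) i _ (inv_mem ha))) (by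
      have := mul_mem (A.conj_H h1 (HH y hy)) (inv_mem (HH y hy))
      simpa [mul_assoc] using this)) hy
    convert this using 1; group
  have nn : ∀ i, n i * n i ∈ Hh := fun i => Hm (mul_mem (nΛ i) (nΛ i)) (by
    rw [map_mul]; exact A.mem_H_of_act (mul_mem (nN i) (nN i)) (wJ_mul_self (orb τ.ν i) ▸ (nw i).mul (nw i)))
  have wa : ∀ L : List (Nd D), π (L.map n).prod ∈ A.N ∧ A.Act (π (L.map n).prod) (L.map fun i => wJ (orb τ.ν i)).prod ∧
      ∀ y ∈ Hh, (L.map n).prod * y * (L.map n).prod⁻¹ ∈ Hh := fun L => by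
    induction L with
    | nil => simpa using Act.one
    | cons i L ih =>
      simp only [List.map_cons, List.prod_cons, map_mul]
      refine ⟨mul_mem (nN i) ih.1, (nw i).mul ih.2.1, fun y hy => ?_⟩
      convert nH i _ (nΛ i) (nN i) _ (ih.2.2 y hy) using 1; group
  have wm : ∀ L : List (Nd D), (L.map fun i => wJ (orb τ.ν i)).prod = 1 → (L.map n).prod ∈ Hh := fun L h => by
    induction hn : L.length using Nat.strong_induction_on generalizing L with
    | _ m ih =>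
      rcases List.eq_nil_or_concat L with rfl | ⟨L', k, rfl⟩
      · exact one_mem _
      rw [List.concat_eq_append] at h hn ⊢
      have e : (L'.map fun i => wJ (orb τ.ν i)).prod = wJ (orb τ.ν k) := by
        rw [List.map_append, List.prod_append, mul_eq_one_iff_eq_inv] at h; simpa [wJ_inv] using h
      obtain ⟨α, i, β, rfl, h1, h2⟩ := exchange_wO (fun i => wJ (orb τ.ν i)) (L := L') (pos_sim k)
        (by rw [e]; exact wJ_neg (pos_sim k) (sim_mem_Phi.2 (mem_orb_self _ _)))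
      obtain ⟨b1, b2, -⟩ := wa β
      generalize hw : (β.map fun i => wJ (orb τ.ν i)).prod = w at *
      have hw1 := τ.mem_W1_of_act b1 (hF _) b2
      have hw2 := mul_mem (τ.dsym.wO_mem i) hw1
      have c1 := cΛ b2 (k := k) (i := i) (fun s hs => by
        rw [← τ.invs_wO i]
        exact mem_invs.2 ⟨pos_of_Phi (W1_ra hw1) (τ.dsym.pos_orb hw1 h1) hs.1 hs.2,
          not_pos_of_Phi (W1_ra hw2) (τ.dsym.neg_orb hw2 h2) hs.1 hs.2⟩) _ (nΛ k)
      have c2 : π ((β.map n).prod * n k * (β.map n).prod⁻¹) ∈ A.N := by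
        simpa using mul_mem (mul_mem b1 (nN k)) (inv_mem b1)
      have c3 : A.Act (π ((β.map n).prod * n k * (β.map n).prod⁻¹)) (w * wJ (orb τ.ν k) * w⁻¹) := by
        simpa using (b2.mul (nw k)).mul b2.inv
      have c4 := τ.dsym.eq_wO (τ.mem_W1_of_act c2 (hF _) c3) (i := i) (A.mem_WJ_of_mem_PJ
        ((A.UJ_sup_LJ _).le (mem_sup_right (mem_sup_right (ΛX i _ c1) : _ ∈ A.LJ _))) c3) (fun e => by
          have := lg_wJ_pos (mem_orb_self τ.ν k)
          rw [mul_inv_eq_one, mul_eq_left] at e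
          rw [e, lg_one] at this; exact lt_irrefl _ this)
      have c5 := Hm (mul_mem (nΛ i) c1) (by
        rw [map_mul]
        exact A.mem_H_of_act (mul_mem (nN i) c2) (by rw [← wJ_mul_self (orb τ.ν i)]; exact (nw i).mul (c4 ▸ c3)))
      have c6 := ih _ (by rw [← hn]; simp only [List.length_append, List.length_cons]; omega) (α ++ β) (by
        simp only [List.map_append, List.map_cons, List.prod_append, List.prod_cons, hw] at e ⊢
        rw [mul_inv_eq_iff_eq_mul] at c4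
        have := congrArg (· * wJ (orb τ.ν k)) e
        simp only [mul_assoc, c4, wJ_mul_self] at this
        rwa [← mul_assoc (wJ _), wJ_mul_self, one_mul] at this) rfl
      convert mul_mem ((wa α).2.2 _ c5) c6 using 1
      simp only [List.map_append, List.map_cons, List.prod_append, List.prod_cons, List.map_nil, List.prod_nil]; group
  let Nh : Subgroup X := Hh ⊔ closure (Set.range n)
  have ex : ∀ m ∈ Nh, ∃ L : List (Nd D), m * (L.map n).prod⁻¹ ∈ Hh := fun m hm => by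
    have k : ∀ i y, (∃ L : List (Nd D), y * (L.map n).prod⁻¹ ∈ Hh) → ∃ L : List (Nd D), n i * y * (L.map n).prod⁻¹ ∈ Hh := by
      rintro i y ⟨L, h⟩
      refine ⟨i :: L, ?_⟩
      convert nH i _ (nΛ i) (nN i) _ h using 1
      simp only [List.map_cons, List.prod_cons]; group
    have k' : ∀ x ∈ Hh, ∀ y, (∃ L : List (Nd D), y * (L.map n).prod⁻¹ ∈ Hh) →
        ∃ L : List (Nd D), x * y * (L.map n).prod⁻¹ ∈ Hh := fun x hx y h => h.imp fun L h => by
      rw [mul_assoc]; exact mul_mem hx h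
    rw [show Nh = closure (Hh ∪ Set.range n) by rw [Subgroup.closure_union, closure_eq]] at hm
    induction hm using closure_induction_left with
    | one => exact ⟨[], by simp⟩
    | mul_left x hx y _ ih =>
      rcases hx with hx | ⟨i, rfl⟩
      exacts [k' x hx y ih, k i y ih]
    | inv_mul_cancel x hx y _ ih =>
      rcases hx with hx | ⟨i, rfl⟩
      · exact k' _ (inv_mem hx) y ih
      · have := k' _ (inv_mem (nn i)) _ (k i y ih)
        rwa [show (n i * n i)⁻¹ * (n i * y) = (n i)⁻¹ * y by group] at this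
  have NN : ∀ m ∈ Nh, π m ∈ A.N := fun m hm => by
    obtain ⟨L, h⟩ := ex m hm
    simpa using mul_mem (A.H_le_N (HH _ h)) (wa L).1
  have NH : ∀ m ∈ Nh, π m ∈ A.H → m ∈ Hh := fun m hm h1 => by
    obtain ⟨L, h⟩ := ex m hm
    have h4 := (A.act_H (HH _ h)).mul (wa L).2.1
    rw [← map_mul, inv_mul_cancel_right, one_mul] at h4
    simpa using mul_mem h (wm L (h4.unique (A.act_H h1)))
  have HZ : ∀ s : Finset (Nd D), ∀ x ∈ ⨆ i ∈ s, Lam τ π p i ⊓ A.H.comap π,
      π x ∈ (supp K {j | ∃ i ∈ s, j ∈ orb τ.ν i}).map h3.torH ∧ (π x = 1 → x = 1) := fun s => by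
    induction s using Finset.induction_on with
    | empty => intro x hx; rw [show x = 1 by simpa using hx, map_one]; exact ⟨one_mem _, fun _ => rfl⟩
    | insert i s hi' ih =>
      intro x hx
      have sm : ∀ {J J' : Set (Nd D)}, J ⊆ J' → supp K J ≤ supp K J' := fun h c hc j hj => hc j fun e => hj (h e)
      by_cases e : ∃ k ∈ s, i ∈ orb τ.ν k
      · obtain ⟨k, hk, e⟩ := e
        obtain ⟨h1, h2⟩ := ih x ((iSup₂_le fun j hj => by
          rcases Finset.mem_insert.1 hj with rfl | hj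
          · exact le_iSup₂_of_le k hk (by rw [Lam, Twist.Op_congr e, Twist.On_congr e]; rfl)
          · exact le_iSup₂_of_le j hj le_rfl : _ ≤ ⨆ i ∈ s, Lam τ π p i ⊓ A.H.comap π) hx)
        exact ⟨map_mono (sm (by rintro j ⟨k, hk, h⟩; exact ⟨k, Finset.mem_insert_of_mem hk, h⟩)) h1, h2⟩
      rw [Finset.iSup_insert] at hx
      have le : (⨆ i ∈ s, Lam τ π p i ⊓ A.H.comap π) ≤ A.H.comap π := iSup₂_le fun _ _ => inf_le_right
      obtain ⟨a, ha, b, hb, rfl⟩ : ∃ a ∈ Lam τ π p i ⊓ A.H.comap π, ∃ b ∈ ⨆ i ∈ s, Lam τ π p i ⊓ A.H.comap π, a * b = x := by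
        rw [← SetLike.mem_coe, coe_mul_of_right_le_normalizer_left _ _ fun b hb => mem_normalizer_iff.2 fun y =>
          ⟨fun hy => by rwa [Hc i y hy.1 hy.2 b (le hb), mul_inv_cancel_right], fun hy => by
            have := Hc i _ hy.1 hy.2 b⁻¹ (le (inv_mem hb))
            rwa [← show y = b * y * b⁻¹ by rw [← mul_left_inj b⁻¹, ← this]; group] at hy⟩] at hx
        exact hx
      obtain ⟨⟨d, hd, e2⟩, h2⟩ := ih b hb
      obtain ⟨c, hc, e1⟩ := relH h3 _ (ΛX i a ha.1) ha.2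
      refine ⟨⟨c * d, mul_mem (sm (by intro j h; exact ⟨i, Finset.mem_insert_self _ _, h⟩) hc)
        (sm (by rintro j ⟨k, hk, h⟩; exact ⟨k, Finset.mem_insert_of_mem hk, h⟩) hd),
        by rw [map_mul, map_mul, e1, e2]⟩, fun h1 => ?_⟩
      have h4 : c * d = 1 := hi (by rw [map_mul, e1, e2, ← map_mul, h1, map_one])
      have h5 : c = 1 := funext fun j => by
        by_cases hj : j ∈ orb τ.ν i
        · have := congrFun h4 j
          rwa [Pi.mul_apply, hd j (fun ⟨k, hk, h⟩ => e ⟨k, hk, by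
            rw [← orb_eq h, orb_eq hj]; exact mem_orb_self _ _⟩), mul_one] at this
        · exact hc j hj
      have h6 := hΛ i a ha.1 (by rw [← e1, h5, map_one])
      rw [h6, one_mul] at h1 ⊢
      exact h2 h1
  have PU : ∀ i, lf π p (τ.X1 (τ.Op i)) ≤ lf π p (τ.X1 {r | Pos r}) := fun i => lf_mono (τ.X1_mono fun _ h => h.1)
  refine ⟨lf π p (τ.X1 {r | Pos r}) ⊔ closure (Set.range n), fun g hg h1 => ?_, h.G1_le (fun i y hy => ?_) fun i y hy => ?_⟩
  · obtain ⟨u, hu, m, hm, u', hu', rfl⟩ := tits_closed _ Nh (fun i => lf π p (τ.X1 (τ.Op i))) n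
      (fun i => mem_sup_right (subset_closure ⟨i, rfl⟩))
      (fun i u hu => by simpa using cj (A.act_H (HH _ (inv_mem (nn i)))) (fun _ hs => hs) hu)
      (fun i u hu => by
        obtain ⟨u1, h1, u2, h2, e⟩ := τ.exists_mul_fix nil_pos (nil_UJ' (orb τ.ν i)) (nil_Phi_pos (orb τ.ν i))
          (fun r => by simp only [Set.mem_ofPred_eq]; tauto) (Set.disjoint_left.2 fun _ a b => a.2 b.2)
          (fun r hr => ⟨(τ.pos r).2 hr.1, mt (τ.map_Phi_orb i r).1 hr.2⟩)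
          (fun r hr => ⟨(τ.pos r).2 hr.1, (τ.map_Phi_orb i r).2 hr.2⟩) (lf_le hu)
        obtain ⟨x, hx, rfl⟩ := (sP i).2.2 u2 h2
        obtain ⟨a, ha, rfl⟩ := (sp _ (nil_UJ' (orb τ.ν i)) ((τ.X1_mono fun _ h => h.1).trans le_sup_left)).2.2 u1 h1
        refine ⟨a, x, hx, ?_, cj (nw i) (fun r hr => hr.1.map_WJ (wJ_mem _) hr.2) ha⟩
        refine mul_inv_eq_one.1 (sU.2.1 _ (mul_mem hu (inv_mem (mul_mem (lf_mono (τ.X1_mono fun _ h => h.1) ha)
          (PU i hx)))) ?_)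
        rw [map_mul, map_inv, e, map_mul, mul_inv_cancel])
      (fun i m hm => by
        obtain ⟨w, hw⟩ := A.exists_act (NN m hm)
        have hw1 := inv_mem (τ.mem_W1_of_act (NN m hm) (hF _) hw)
        by_cases hp : Pos (w⁻¹ (sim i))
        · refine Or.inl fun x hx => ?_
          simpa using cj (g := m⁻¹) (by rw [map_inv]; exact hw.inv) (T := {r | Pos r})
            (fun r hr => pos_of_Phi (W1_ra hw1) (τ.dsym.pos_orb hw1 hp) hr.1 hr.2) hx
        · refine Or.inr fun x hx => ?_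
          have := cj (g := (n i * m)⁻¹) (by rw [map_inv, map_mul]; exact ((nw i).mul hw).inv) (T := {r | Pos r})
            (fun r hr => by
              have := not_pos_of_Phi (W1_ra hw1) (τ.dsym.neg_orb hw1 hp) ((pos_ng _).2 (wJ_neg hr.1 hr.2))
                (ng_mem_Phi.2 ((map_mem_Phi (wJ_mem _)).2 hr.2))
              rw [_root_.mul_inv_rev, wJ_inv]
              rwa [map_ng (W1_ra hw1), not_pos_ng] at this) hx
          rwa [inv_inv] at this)
      (fun i x hx => by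
        by_cases e : π x = 1
        · exact Or.inl ((sP i).2.1 x hx e)
        obtain ⟨a, ha, m, h2, h4, h5, b, hb, e'⟩ := r1 i _ (cj (nw i) (T := τ.On i)
          (fun r hr => ⟨wJ_neg hr.1 hr.2, (map_mem_Phi (wJ_mem _)).2 hr.2⟩) hx) (by simpa using e)
        refine Or.inr ⟨a, PU i ha, m, ?_, b, hb, e'⟩
        have := mul_mem (mem_sup_right (subset_closure ⟨i, rfl⟩) : n i ∈ Nh) (mem_sup_left (Hm (mul_mem (inv_mem (nΛ i)) h2)
          (by rw [map_mul, map_inv]; exact A.mem_H_of_act_eq (nN i) h4 (nw i) h5)))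
        rwa [mul_inv_cancel_left] at this) hg
    have h2 : π m ∈ A.U := by
      have := A.U.inv_mem (A.U.mul_mem (lf_le hu').1 (lf_le hu).1)
      rwa [← show π m = (π u' * π u)⁻¹ by
        rw [map_mul, map_mul] at h1
        calc π m = (π u)⁻¹ * (π u * π m * π u') * (π u')⁻¹ := by group
          _ = _ := by rw [h1]; group] at this
    have h4 := A.B_inf_N (A.U_le_B h2) (NN m hm)
    have h5 := (HZ Finset.univ m (by simpa using NH m hm h4)).2 (A.U_inf_H h2 h4)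
    rw [h5, mul_one] at h1 ⊢
    exact sU.2.1 _ (mul_mem hu hu') h1
  · obtain ⟨x, hx, rfl⟩ := (sP i).2.2 y hy
    exact mem_map_of_mem π (mem_sup_left (PU i hx))
  · obtain ⟨x, hx, rfl⟩ := (sN i).2.2 y hy
    have h1 : n i ∈ lf π p (τ.X1 {r | Pos r}) ⊔ closure (Set.range n) := mem_sup_right (subset_closure ⟨i, rfl⟩)
    have := mul_mem (mul_mem (inv_mem h1) (mem_sup_left (PU i (cj (nw i) (T := τ.Op i)
      (fun s hs => ⟨wJ_pos hs.1 hs.2, (map_mem_Phi (wJ_mem _)).2 hs.2⟩) hx)))) h1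
    exact mem_map_of_mem π (by simpa [mul_assoc] using this)

end

end CA.TwM
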