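/-
The part prime to the characteristic of the multiplier of a twisted group.
-/
import Cfsg.Agent.Lib.Lie.TwM1
import Cfsg.Agent.Lib.Lie.ChevSL2
import Cfsg.Agent.Lib.Lie.H23Uni2
import Cfsg.Agent.Lib.Grp.SchurCov
import Cfsg.Agent.S0261
import Cfsg.Agent.S0262
import Cfsg.Agent.S3963

set_option autoImplicit false

namespace CA.TwM

open Equiv Cfsg Cfsg.Lie Cfsg.Lie.ChevalleyDatum CA.SchurFilt Subgroup CA.Chev CA.Chev.Sys0 CA.Chev.Sys
open CA.SchurHopf CA.SchurExt CA.SchurCov CA.SL2Unip CA.Chev.Twist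
open scoped commutatorElement MatrixGroups

universe u v

/-- the `l`-part of the multiplier vanishes -/
def PC (l : ℕ) (S : Type u) [Group S] : Prop :=
  ∀ (Δ : Type v) [Group Δ] [Finite Δ] (σ : Δ →* S), IsStemExtension σ → IsPGroup l σ.ker → σ.ker = ⊥

theorem PC.congr {l : ℕ} {S T : Type*} [Group S] [Group T] (h : PC.{_, v} l S) (e : S ≃* T) : PC.{_, v} l T :=
  fun Δ _ _ σ hσ hk => by
    obtain ⟨h1, h2⟩ := stem_equiv_comp hσ e.symm
    rw [← h2] at hk ⊢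
    exact h Δ _ h1 hk

theorem pc_of_has {l : ℕ} {S A : Type*} [Group S] [CommGroup A] (h : HasSchurMultiplier S A)
    (hl : l.Coprime (Nat.card A)) : PC.{_, v} l S := fun Δ _ _ σ hσ hk => by
  obtain ⟨f, hf⟩ := surj_stem h hσ
  refine eq_bot_iff.2 fun z hz => ?_
  obtain ⟨a, ha⟩ := hf ⟨z, hz⟩
  obtain ⟨k, hk⟩ := hk ⟨z, hz⟩
  have h1 : (⟨z, hz⟩ : σ.ker) ^ Nat.card A = 1 := by rw [← ha, ← map_pow, pow_card_eq_one', map_one]
  have := pow_gcd_eq_one.2 ⟨hk, h1⟩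
  rw [hl.pow_left k, pow_one] at this
  exact congrArg Subtype.val this

theorem pc_SL2 {F : Type*} [Field F] [Finite F] (p : ℕ) [Fact p.Prime] [CharP F p] {l : ℕ} (hl : l.Prime)
    (hlp : l ≠ p) : PC.{_, v} l SL(2, F) := fun Δ _ _ τ hτ hk => by
  classical
  haveI := Fintype.ofFinite F
  haveI := Fact.mk hl
  obtain ⟨n, hp, hn⟩ := FiniteField.card F p
  obtain ⟨R⟩ : Nonempty (Sylow l SL(2, F)) := inferInstance
  have hR := (Nat.Prime.coprime_iff_not_dvd hl).mpr R.not_dvd_index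
  by_cases hr2 : l = 2
  · subst hr2
    have hodd : Odd (Fintype.card F) := hn ▸ (hp.odd_of_ne_two (Ne.symm hlp)).pow
    obtain ⟨k, -, ⟨e⟩⟩ := Cfsg.Agent.S0261.result hodd R
    have h2 := stem_res hτ hk hR
    have h3 := mult_eq_bot (congr_left (Cfsg.Agent.S3963.result (2 ^ k)) e.symm) _ h2.1 h2.2.1
    rw [mult_eq_ker h2] at h3
    rw [← Subgroup.card_eq_one, ← card_ker_res τ R, h3, Subgroup.card_bot]
  · haveI := Cfsg.Agent.S0262.result p l hr2 hlp R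
    exact ker_eq_bot_of_cyclic hτ hk hR

theorem mem_commutator_of_gen {L : Type*} [Group L] {p m : ℕ} {S : Set L} (hS : Subgroup.closure S = ⊤)
    (h : ∀ x ∈ S, ∃ k, x ^ p ^ k = 1) (hm : p.Coprime m) {z : L} (hz : z ^ m = 1) : z ∈ commutator L := by
  have h1 : ⊤ ≤ (CommGroup.primaryComponent (Abelianization L) p).comap Abelianization.of := by
    rw [← hS, closure_le]
    intro x hx
    obtain ⟨k, hk⟩ := h x hx
    exact CommGroup.mem_primaryComponent.2 ⟨k, by rw [← map_pow, hk, map_one]⟩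
  obtain ⟨k, hk⟩ := CommGroup.mem_primaryComponent.1 (mem_comap.1 (h1 (mem_top z)))
  have h2 : Abelianization.of z ^ m = 1 := by rw [← map_pow, hz, map_one]
  have := pow_gcd_eq_one.2 ⟨hk, h2⟩
  rw [hm.pow_left k, pow_one] at this
  exact (QuotientGroup.eq_one_iff z).1 this

theorem pp_of {X G : Type*} [Group X] [Group G] [Finite X] {π : X →* G} {p l : ℕ} (hp : p.Prime) (hl : l.Prime)
    (hlp : l ≠ p) (hc : π.ker ≤ center X) (hk : IsPGroup l π.ker) : Pp π p := by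
  haveI := Fact.mk hl
  obtain ⟨k, hk⟩ := hk.exists_card_eq
  exact ⟨hc, l ^ k, ((Nat.coprime_primes hp hl).2 hlp.symm).pow_right _, fun z hz =>
    congrArg Subtype.val (hk ▸ pow_card_eq_one' (x := (⟨z, hz⟩ : π.ker)))⟩

theorem lf_sup_inj {X : Type v} {G S : Type*} [Group X] [Group G] [Group S] [Finite X] {π : X →* G} {p l : ℕ}
    [Fact p.Prime] (hπ : Pp π p) (hk : IsPGroup l π.ker) (hS : PC.{_, v} l S) {φ : S →* G} (hφ : Function.Injective φ)
    {P Q : Subgroup G} (e : φ.range = P ⊔ Q) (hP : ∀ v ∈ P, ∃ x ∈ lf π p P, π x = v)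
    (hQ : ∀ v ∈ Q, ∃ x ∈ lf π p Q, π x = v) : ∀ z ∈ lf π p P ⊔ lf π p Q, π z = 1 → z = 1 := by
  set L := lf π p P ⊔ lf π p Q with hL
  have hr : ∀ x : L, π x ∈ φ.range := fun x => e ▸ (show L ≤ (P ⊔ Q).comap π from
    sup_le (fun _ h => mem_sup_left (lf_le h)) fun _ h => mem_sup_right (lf_le h)) x.2
  let σ : L →* S := (MonoidHom.ofInjective hφ).symm.toMonoidHom.comp ((π.comp L.subtype).codRestrict _ hr)
  have hσ : ∀ x, φ (σ x) = π x := fun x => MonoidHom.apply_ofInjective_symm hφ _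
  have hk' : ∀ x, x ∈ σ.ker ↔ π x = 1 := fun x => by rw [MonoidHom.mem_ker, ← hφ.eq_iff, hσ, map_one]
  obtain ⟨m, h1, h2⟩ := hπ.exp
  suffices this : σ.ker = ⊥ from fun z hz h =>
    congrArg Subtype.val (mem_bot.1 (this.le ((hk' ⟨z, hz⟩).2 h)) : (⟨z, hz⟩ : L) = 1)
  refine hS L σ ⟨fun s => ?_, fun x hx => mem_center_iff.2 fun y => Subtype.ext
    (mem_center_iff.1 (hπ.cen ((hk' x).1 hx)) y), fun x hx => ?_⟩ fun x => ?_
  · have : φ.range ≤ L.map π := e ▸ sup_le (fun v hv => (hP v hv).imp fun x h => ⟨mem_sup_left h.1, h.2⟩)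
      fun v hv => (hQ v hv).imp fun x h => ⟨mem_sup_right h.1, h.2⟩
    obtain ⟨x, hx, e⟩ := this ⟨s, rfl⟩
    exact ⟨⟨x, hx⟩, hφ (by rw [hσ, e])⟩
  · refine mem_commutator_of_gen (S := {y : L | ∃ k, y ^ p ^ k = 1}) ?_ (fun _ h => h) h1
      (Subtype.ext (h2 _ ((hk' x).1 hx)))
    rw [eq_top_iff, ← map_subtype_le_map_subtype, ← MonoidHom.range_eq_map, range_subtype]
    refine sup_le ((closure_le _).2 fun y hy => ?_) ((closure_le _).2 fun y hy => ?_)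
    · exact ⟨⟨y, mem_sup_left (subset_closure hy)⟩, subset_closure (hy.2.imp fun k h => Subtype.ext h), rfl⟩
    · exact ⟨⟨y, mem_sup_right (subset_closure hy)⟩, subset_closure (hy.2.imp fun k h => Subtype.ext h), rfl⟩
  · obtain ⟨k, h⟩ := hk ⟨x.1.1, (hk' _).1 x.2⟩
    exact ⟨k, Subtype.ext (Subtype.ext (by simpa using congrArg Subtype.val h))⟩

/-- a bound for the `l`-part of the multiplier from a covering group -/
theorem card_dvd_of_pc {Γ : Type u} {G : Type*} {Δ : Type v} [Group Γ] [Group G] [Group Δ] [Finite Γ] [Finite Δ] {l : ℕ}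
    (h : PC.{u, max u v} l Γ) (hp : commutator Γ = ⊤) (σ : Γ →* G) (hs : Function.Surjective σ) {τ : Δ →* G}
    (hτ : IsStemExtension τ) (hk : IsPGroup l τ.ker) : Nat.card τ.ker ∣ Nat.card σ.ker := by
  have h1 := pbp_surj hτ.1 σ
  have h2 := pbp_cen hτ.2.1 σ
  obtain ⟨h3, h4, -⟩ := res_comm h2 h1 hp
  have h5 : commutator (commutator (pb τ σ)) = ⊤ := by
    apply map_injective (commutator (pb τ σ)).subtype_injective
    rw [map_commutator_sub, ← MonoidHom.range_eq_map, range_subtype]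
    have := map_commutator_eq h2 _ h3
    rw [← map_commutator_sub]; exact this
  have h6 := h _ _ ⟨h3, h4, h5 ▸ le_top⟩ fun x => by
    obtain ⟨a, b⟩ := pbp_ker (z := x.1.1) x.2
    obtain ⟨k, hk⟩ := hk ⟨_, b⟩
    exact ⟨k, Subtype.ext (Subtype.ext (Subtype.ext (Prod.ext (congrArg Subtype.val hk) (by simp [a]))))⟩
  let e := MulEquiv.ofBijective _ ⟨(MonoidHom.ker_eq_bot_iff _).1 h6, h3⟩
  have h7 := lift_of_pb (τ := (commutator (pb τ σ)).subtype.comp e.symm.toMonoidHom)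
    (MonoidHom.ext fun x => e.apply_symm_apply x)
  obtain ⟨φ, rfl⟩ : ∃ φ : Γ →* Δ, τ.comp φ = σ := ⟨_, h7⟩
  have h8 := surj_of_stem hτ φ hs
  refine card_dvd_of_surjective ((φ.comp (τ.comp φ).ker.subtype).codRestrict τ.ker fun x => x.2) fun z => ?_
  obtain ⟨y, hy⟩ := h8 z
  exact ⟨⟨y, by rw [MonoidHom.mem_ker, MonoidHom.comp_apply, hy]; exact z.2⟩, Subtype.ext hy⟩

variable {D : ChevalleyDatum} [Good D] {K : Type*} [Field K] {Γ : Type*} [Group Γ] {A : Sys D K Γ} {τ : Twist A}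

/-- the rank one subgroups have no `l`-fold coverings -/
def NodePC (τ : Twist A) (l : ℕ) (i : Nd D) : Prop := PC.{_, v} l ↥(τ.X1 (τ.Op i) ⊔ τ.X1 (τ.On i))

theorem pc_G1 [Finite K] (p : ℕ) [Fact p.Prime] [CharP K p] (h : τ.OK) (h3 : A.R3) (hi : Function.Injective h3.torH)
    {l : ℕ} (hl : l.Prime) (hlp : l ≠ p) (hn : ∀ i, NodePC.{v} τ l i) : PC.{_, v} l τ.G1 := fun Δ _ _ σ hσ hk => by
  have e : (τ.G1.subtype.comp σ).ker = σ.ker := MonoidHom.ker_comp_of_injective _ _ τ.G1.subtype_injective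
  have hπ := pp_of (π := τ.G1.subtype.comp σ) (Fact.out : p.Prime) hl hlp (e ▸ hσ.2.1) (e ▸ hk)
  have hr : (τ.G1.subtype.comp σ).range = τ.G1 := by
    rw [MonoidHom.range_comp, MonoidHom.range_eq_top.2 hσ.1, ← MonoidHom.range_eq_map, range_subtype]
  have sp : ∀ S, Nil S → τ.X1 S ≤ τ.G1 → _ := fun S hS hl =>
    (hπ.spec (τ.finite_X1 hS) ((isPGroup_X A.toSys0 p hS).to_le inf_le_left) (hl.trans hr.ge)).2.2
  obtain ⟨M, h1, h2⟩ := exists_cpl h h3 hi hπ hr fun i => lf_sup_inj hπ (e ▸ hk) (hn i) (subtype_injective _)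
    (range_subtype _) (sp _ (nil_Phi_pos _) (τ.X1_Op_le i)) (sp _ (nil_Phi_neg _) (τ.X1_On_le i))
  have h4 := surj_of_stem hσ M.subtype fun g => by
    obtain ⟨x, hx, e⟩ := h2 g.2
    exact ⟨⟨x, hx⟩, Subtype.ext e⟩
  refine eq_bot_iff.2 fun z hz => ?_
  obtain ⟨y, rfl⟩ := h4 z
  exact h1 _ y.2 (e.ge hz)

/-! ### nodes of type `SL₂` -/

theorem nodePC_of_SL2 {F : Type*} [Field F] [Finite F] (p : ℕ) [Fact p.Prime] [CharP F p] {l : ℕ} (hl : l.Prime)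
    (hlp : l ≠ p) {i : Nd D} (φ : SL(2, F) →* Γ) (h1 : ∀ g, g ∈ τ.X1 (τ.Op i) ↔ ∃ b, g = φ (u b))
    (h2 : ∀ g, g ∈ τ.X1 (τ.On i) ↔ ∃ b, g = φ (SL2Unip.l b)) (h3 : ∀ a, φ (SL2Torus.dg a) ∈ A.H)
    (h4 : ∀ a, φ (SL2Torus.dg a) = 1 → a = 1) (h5 : ∀ b, φ (u b) = 1 → b = 0) : NodePC.{v} τ l i := by
  have hU : ∀ b, φ (u b) ∈ A.U := fun b => A.X_mono (fun _ h => h.1) ((h1 _).2 ⟨b, rfl⟩).1
  have hV : ∀ b, φ (SL2Unip.l b) ∈ A.V := fun b => A.X_mono (fun _ h => h.1) ((h2 _).2 ⟨b, rfl⟩).1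
  have hB : ∀ g ∈ B F, φ g ∈ A.B := fun g hg => by
    obtain ⟨a, b, rfl⟩ := exists_of_mem_B hg
    rw [map_mul]; exact mul_mem (A.U_le_B (hU b)) (A.H_le_B (h3 a))
  have hi : Function.Injective φ := (injective_iff_map_eq_one φ).2 fun g hg => by
    by_cases e : g ∈ B F
    · obtain ⟨a, b, rfl⟩ := exists_of_mem_B e
      rw [map_mul] at hg
      obtain ⟨e1, e2⟩ := A.UH_unique (hU b) (one_mem _) (h3 a) (one_mem _) (hg.trans (mul_one _).symm)
      rw [h4 a e2, h5 b e1, u_eq_one_iff.2 rfl, one_mul]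
      exact SL2Torus.sl_ext (by simp [SL2Torus.dg_coe, Matrix.one_fin_two])
    · obtain ⟨c, b, hb, rfl⟩ := bruhat e
      have h6 : φ w0 ∈ A.B := by
        have := mul_mem (inv_mem (A.U_le_B (hU c))) (inv_mem (hB b hb))
        rw [map_mul, map_mul] at hg
        rwa [← show φ w0 = (φ (u c))⁻¹ * (φ b)⁻¹ by rw [eq_inv_mul_iff_mul_eq, eq_inv_iff_mul_eq_one, hg]] at this
      have h7 := mul_mem (mul_mem h6 (A.U_le_B (hU 1))) (inv_mem h6)
      rw [← map_inv, ← map_mul, ← map_mul, w0_conj_u] at h7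
      have h8 := A.B_inf_V h7 (hV _)
      rw [← w0_conj_u, map_mul, map_mul, map_inv, mul_inv_eq_one, mul_eq_left] at h8
      exact absurd (h5 _ h8) one_ne_zero
  have hr : φ.range = τ.X1 (τ.Op i) ⊔ τ.X1 (τ.On i) := by
    refine le_antisymm ?_ (sup_le (fun g hg => ?_) fun g hg => ?_)
    · rw [MonoidHom.range_eq_map, map_le_iff_le_comap, top_le_iff]
      exact eq_top_of_u_l _ (fun b => mem_sup_left ((h1 _).2 ⟨b, rfl⟩)) fun b => mem_sup_right ((h2 _).2 ⟨b, rfl⟩)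
    · obtain ⟨b, rfl⟩ := (h1 g).1 hg; exact ⟨_, rfl⟩
    · obtain ⟨b, rfl⟩ := (h2 g).1 hg; exact ⟨_, rfl⟩
  exact (pc_SL2 p hl hlp).congr ((MonoidHom.ofInjective hi).trans (MulEquiv.subgroupCongr hr))

theorem exists_SL2_map (h3 : A.R3) (r : Rt D) {F : Type*} [Field F] (α : F →+* K) : ∃ φ : SL(2, F) →* Γ,
    (∀ b, φ (u b) = A.x r (α b)) ∧ (∀ b, φ (l b) = A.x (ng r) (α b)) ∧
    (∀ a, φ (SL2Torus.dg a) = A.h r (Units.map (α : F →* K) a)) ∧ ∀ g, φ g ∈ A.X {r} ⊔ A.X {ng r} := by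
  obtain ⟨φ, h1, h2, h4, -⟩ := h3.exists_SL2 r
  refine ⟨φ.comp (Matrix.SpecialLinearGroup.map α), fun b => ?_, fun b => ?_, fun a => ?_,
    fun g => range_SL2 h1 h2 ▸ ⟨_, rfl⟩⟩
  · rw [← h1]; exact congrArg φ (sl_ext4 (by simp [u]) (by simp [u]) (by simp [u]) (by simp [u]))
  · rw [← h2]; exact congrArg φ (sl_ext4 (by simp [l]) (by simp [l]) (by simp [l]) (by simp [l]))
  · rw [← h4]; exact congrArg φ (sl_ext4 (by simp [SL2Torus.dg_coe]) (by simp [SL2Torus.dg_coe])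
      (by simp [SL2Torus.dg_coe]) (by simp [SL2Torus.dg_coe]))

theorem orth_comm {r s : Rt D} (h : A.Orth r s) {a b : Γ} (ha : a ∈ A.X {r} ⊔ A.X {ng r})
    (hb : b ∈ A.X {s} ⊔ A.X {ng s}) : Commute a b := by
  have k : ∀ r' ∈ [r, ng r], ∀ t, Commute (A.x r' t) b := fun r' hr t =>
    (show A.X {s} ⊔ A.X {ng s} ≤ centralizer {A.x r' t} from sup_le (A.X_le.2 fun _ e u => by
      obtain rfl := Set.mem_singleton_iff.1 e
      simp only [List.mem_cons, List.not_mem_nil, or_false] at hr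
      rcases hr with rfl | rfl
      exacts [mem_centralizer_singleton_iff.2 (h.xx _ _).symm, mem_centralizer_singleton_iff.2 (h.yx _ _).symm])
      (A.X_le.2 fun _ e u => by
      obtain rfl := Set.mem_singleton_iff.1 e
      simp only [List.mem_cons, List.not_mem_nil, or_false] at hr
      rcases hr with rfl | rfl
      exacts [mem_centralizer_singleton_iff.2 (h.xy _ _).symm,
        mem_centralizer_singleton_iff.2 (h.ng_ng.xx _ _).symm])) hb _ rfl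
  exact mem_centralizer_singleton_iff.1 ((show A.X {r} ⊔ A.X {ng r} ≤ centralizer {b} from sup_le
    (A.X_le.2 fun _ e t => mem_centralizer_singleton_iff.2 (k _ (by simpa using Or.inl e) t))
    (A.X_le.2 fun _ e t => mem_centralizer_singleton_iff.2 (k _ (by simpa using Or.inr e) t))) ha)

/-- product of commuting homomorphisms -/
def mulC {S : Type*} [Group S] (f g : S →* Γ) (h : ∀ a b, Commute (f a) (g b)) : S →* Γ :=
  MonoidHom.mk' (fun x => f x * g x) fun a b => by rw [map_mul, map_mul, (h b a).mul_mul_mul_comm]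

variable [Finite K] (p : ℕ) [Fact p.Prime] [CharP K p] {l : ℕ} (hl : l.Prime) (hlp : l ≠ p)
  (hc : ∀ j, τ.T.c (sim j) = 1) (h3 : A.R3) (hi : Function.Injective h3.torH)
include hl hlp hc hi

theorem nodePC1 {i : Nd D} (h : τ.ι i = i) : NodePC.{v} τ l i := by
  classical
  let F := (τ.T.α (sim i)).eqLocusField (RingHom.id K)
  obtain ⟨φ, h1, h2, h4, -⟩ := exists_SL2_map h3 (sim i) F.subtype
  refine nodePC_of_SL2 (F := F) p hl hlp φ (fun g => ?_) (fun g => ?_) (fun a => h4 a ▸ A.h_mem _ _) (fun a e => ?_)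
    fun b e => Subtype.ext (A.x_eq_one (h1 b ▸ e))
  · simp only [mem_Op1 hc h, h1]
    exact ⟨fun ⟨t, a, b⟩ => ⟨⟨t, a⟩, b⟩, fun ⟨t, a⟩ => ⟨t.1, t.2, a⟩⟩
  · simp only [mem_On1 hc h, h2]
    exact ⟨fun ⟨t, a, b⟩ => ⟨⟨t, a⟩, b⟩, fun ⟨t, a⟩ => ⟨t.1, t.2, a⟩⟩
  · rw [h4, ← h3.torH_single, ← map_one h3.torH] at e
    have := congrFun (hi e) i
    rw [Pi.mulSingle_eq_same] at this
    exact Units.ext (Subtype.ext (congrArg Units.val this))

theorem nodePC2 {i : Nd D} (h : τ.Ty2 i) : NodePC.{v} τ l i := by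
  classical
  obtain ⟨φ, h1, h2, h4, h5⟩ := exists_SL2_map h3 (sim i) (RingHom.id K)
  obtain ⟨ψ, k1, k2, k4, k5⟩ := exists_SL2_map h3 (sim (τ.ι i)) (τ.T.α (sim i))
  refine nodePC_of_SL2 p hl hlp (mulC φ ψ fun a b => orth_comm h.orth (h5 a) (k5 b)) (fun g => ?_) (fun g => ?_)
    (fun a => mul_mem (h4 a ▸ A.h_mem _ _) (k4 a ▸ A.h_mem _ _)) (fun a e => ?_) fun b e => ?_
  · simp [h.mem_Op hc, mulC, h1, k1]
  · simp [h.mem_On hc, mulC, h2, k2]
  · change φ _ * ψ _ = 1 at e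
    rw [h4, k4, ← h3.torH_single, ← h3.torH_single, ← map_mul, ← map_one h3.torH] at e
    have := congrFun (hi e) i
    rw [Pi.mul_apply, Pi.mulSingle_eq_same, Pi.mulSingle_eq_of_ne h.ne, mul_one] at this
    exact Units.ext (congrArg Units.val this)
  · change φ _ * ψ _ = 1 at e
    rw [h1, k1] at e
    exact A.x_mul_inj i (e.trans (by simp)) (A.x_mem_Up (pos_sim _) (sim_injective.ne h.ne.symm) _) (one_mem _)

theorem nodePC3 {i j k : Nd D} (h : τ.Ty3 i j k) : NodePC.{v} τ l i := by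
  classical
  obtain ⟨φ, h1, h2, h4, h5⟩ := exists_SL2_map h3 (sim i) (RingHom.id K)
  obtain ⟨ψ, k1, k2, k4, k5⟩ := exists_SL2_map h3 (sim j) (τ.T.α (sim i))
  obtain ⟨χ, l1, l2, l4, l5⟩ := exists_SL2_map h3 (sim k) ((τ.T.α (sim j)).comp (τ.T.α (sim i)))
  refine nodePC_of_SL2 p hl hlp (mulC (mulC φ ψ fun a b => orth_comm h.o1 (h5 a) (k5 b)) χ fun a b =>
    (orth_comm h.o2 (h5 a) (l5 b)).mul_left (orth_comm h.o3 (k5 a) (l5 b))) (fun g => ?_) (fun g => ?_)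
    (fun a => mul_mem (mul_mem (h4 a ▸ A.h_mem _ _) (k4 a ▸ A.h_mem _ _)) (l4 a ▸ A.h_mem _ _)) (fun a e => ?_)
    fun b e => ?_
  · simp [h.mem_Op hc, mulC, h1, k1, l1]
  · simp [h.mem_On hc, mulC, h2, k2, l2]
  · change φ _ * ψ _ * χ _ = 1 at e
    rw [h4, k4, l4, ← h3.torH_single, ← h3.torH_single, ← h3.torH_single, ← map_mul, ← map_mul,
      ← map_one h3.torH] at e
    have := congrFun (hi e) i
    rw [Pi.mul_apply, Pi.mul_apply, Pi.mulSingle_eq_same, Pi.mulSingle_eq_of_ne h.ij, Pi.mulSingle_eq_of_ne h.ik,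
      mul_one, mul_one] at this
    exact Units.ext (congrArg Units.val this)
  · change φ _ * ψ _ * χ _ = 1 at e
    rw [h1, k1, l1, mul_assoc] at e
    exact A.x_mul_inj i (e.trans (by simp)) (h.mem_Up _ _) (one_mem _)

omit hl hlp hc

include p in
/-- the covering of the adjoint twisted group by the universal one -/
theorem exists_cover [Finite Γ] (hG : A.G = ⊤) (hn : ∀ c ∈ τ.T1, h3.torH c ∈ τ.G1) {G : Type*} [Group G]
    (M : Mod (adjG D K) G) (hM : M.τ = τ.ad) (hp : commutator G = ⊤) : ∃ σ : τ.G1 →* G, IsStemExtension σ ∧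
    Nonempty (σ.ker ≃* ↥(τ.T1 ⊓ (tor (D := D)).ker)) ∧ ∀ g, M.e (σ g) = A.θG hG g := by
  have hr : ∀ x : τ.G1, A.θG hG x ∈ M.e.range := fun x => by
    rw [M.rng, hM, ← τ.ad_G1 hG]; exact mem_map_of_mem _ x.2
  let σ : τ.G1 →* G := (MonoidHom.ofInjective M.inj).symm.toMonoidHom.comp
    (((A.θG hG).comp τ.G1.subtype).codRestrict _ hr)
  have hσ : ∀ x, M.e (σ x) = A.θG hG x := fun x => MonoidHom.apply_ofInjective_symm M.inj _
  have hk : ∀ x, x ∈ σ.ker ↔ x.1 ∈ A.θ.ker := fun x => by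
    rw [MonoidHom.mem_ker, ← M.inj.eq_iff, hσ, map_one, ← A.θG_ker hG]; rfl
  have hk2 : σ.ker.map τ.G1.subtype = (τ.T1 ⊓ (tor (D := D)).ker).map h3.torH := by
    refine le_antisymm ?_ ?_
    · rintro _ ⟨x, hx, rfl⟩
      obtain ⟨c, hc, e⟩ := (h3.ker_eq hG).le ((hk x).1 hx)
      exact ⟨c, ⟨hi (by rw [← τ.σ_torH]; exact e ▸ τ.G1_le_F x.2), hc⟩, e⟩
    · rintro _ ⟨c, hc, rfl⟩
      exact ⟨⟨_, hn c hc.1⟩, (hk _).2 ((h3.ker_eq hG).ge ⟨c, hc.2, rfl⟩), rfl⟩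
  refine ⟨σ, ⟨fun g => ?_, fun x hx => mem_center_iff.2 fun y => Subtype.ext (mem_center_iff.1
    ((A.center_eq hG).ge ((hk x).1 hx)) y), fun x hx => ?_⟩, ⟨((σ.ker.equivMapOfInjective _ τ.G1.subtype_injective).trans
    (MulEquiv.subgroupCongr hk2)).trans (equivMapOfInjective _ _ hi).symm⟩, hσ⟩
  · obtain ⟨x, hx, e⟩ := (τ.ad_G1 hG).ge (hM ▸ M.memG g)
    exact ⟨⟨x, hx⟩, M.inj (by rw [hσ, e])⟩
  · haveI := Fintype.ofFinite K
    refine mem_commutator_of_gen (S := {y : τ.G1 | ∃ k, y ^ p ^ k = 1}) (m := Nat.card K - 1) ?_ (fun _ h => h)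
      ((Nat.Prime.coprime_iff_not_dvd Fact.out).2 (not_dvd_sub_one p)) (Subtype.ext ?_)
    · rw [eq_top_iff, ← map_subtype_le_map_subtype, ← MonoidHom.range_eq_map, range_subtype]
      refine sup_le (fun y hy => ?_) fun y hy => ?_
      · obtain ⟨k, h⟩ := isPGroup_X A.toSys0 p nil_pos ⟨y, hy.1⟩
        exact ⟨⟨y, mem_sup_left hy⟩, Subgroup.subset_closure ⟨k, Subtype.ext (by simpa using congrArg Subtype.val h)⟩, rfl⟩
      · obtain ⟨k, h⟩ := isPGroup_X A.toSys0 p nil_neg ⟨y, hy.1⟩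
        exact ⟨⟨y, mem_sup_right hy⟩, Subgroup.subset_closure ⟨k, Subtype.ext (by simpa using congrArg Subtype.val h)⟩, rfl⟩
    · obtain ⟨c, -, e⟩ := hk2.le ⟨x, hx, rfl⟩
      rw [SubgroupClass.coe_pow, show x.1 = _ from e.symm, ← map_pow, show c ^ _ = 1 from funext fun i => by
        rw [Pi.pow_apply, ← Nat.card_units, pow_card_eq_one']; rfl, map_one]; rfl

/-- the `p`-part of the multiplier vanishes -/
def PP (p : ℕ) (G : Type u) [Group G] : Prop :=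
  ∀ (E : Type v) [Group E] [Finite E] (σ : E →* G), IsStemExtension σ → ∀ z ∈ σ.ker, ∀ k, z ^ p ^ k = 1 → z = 1

theorem has_of {Γ : Type u} [Group Γ] [Finite Γ] {A : Sys D K Γ} {τ : Twist A} (h3 : A.R3)
    (hi : Function.Injective h3.torH) (hG : A.G = ⊤) (h : τ.OK) (hn : ∀ c ∈ τ.T1, h3.torH c ∈ τ.G1) {G : Type*} [Group G]
    (M : Mod (adjG D K) G) (hM : M.τ = τ.ad) (hp : commutator G = ⊤)
    (h1 : ∀ l : ℕ, l.Prime → l ≠ p → ∀ i, NodePC.{u} τ l i) (h2 : PP.{_, u} p G) {Z : Type*} [CommGroup Z]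
    (e : ↥(τ.T1 ⊓ (tor (D := D)).ker) ≃* Z) : HasSchurMultiplier G Z := by
  obtain ⟨σ, hσ, ⟨e'⟩, -⟩ := exists_cover p h3 hi hG hn M hM hp
  refine has_of_cover hσ (has_one_of_primes fun l hl Δ _ _ ρ hρ hk => ?_) (e'.trans e)
  by_cases e : l = p
  · subst e
    refine eq_bot_iff.2 fun z hz => ?_
    obtain ⟨k, hk⟩ := hk ⟨z, hz⟩
    exact h2 Δ _ (stem_comp hσ hρ (perfect_of_stem hσ hp)) z
      (by rw [MonoidHom.mem_ker, MonoidHom.comp_apply, show ρ z = 1 from hz, map_one]) k (congrArg Subtype.val hk)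
  · exact pc_G1 p h h3 hi hl e (h1 l hl e) Δ ρ hρ hk

end CA.TwM
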