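/-
The part of the multiplier of a twisted group belonging to the characteristic: the filtration of the Sylow subgroup.
-/
import Cfsg.Agent.Lib.Lie.TwM2
import Cfsg.Agent.Lib.Lie.H22St2
import Cfsg.Agent.Lib.Lie.H23Aut1

set_option autoImplicit false

namespace CA.TwM

open Equiv Cfsg Cfsg.Lie Cfsg.Lie.ChevalleyDatum CA.SchurFilt Subgroup CA.Chev CA.Chev.Sys0 CA.Chev.Sys
open CA.SchurHopf CA.Chev.Twist
open scoped commutatorElement

theorem kill_mono {E G : Type*} [Group E] [Group G] {π : E →* G} {T A A' B B' : Subgroup G} {L L' : Subgroup E}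
    (h : Kill π T A A' B B' L) (hL : L ≤ L') : Kill π T A A' B B' L' := fun β hb =>
  h β ⟨hb.mul_l, hb.mul_r, hb.low_l, hb.low_r, hb.inv, fun u v hu hv e => hb.link u v hu hv (hL e)⟩

/-- a nilpotent set of roots with a positive functional -/
structure Fl (D : ChevalleyDatum) [Good D] where
  S : Set (Rt D)
  f : (Nd D → ℤ) →ₗ[ℤ] ℤ
  nil : Nil S
  pos : ∀ r ∈ S, 0 < f (rt r)

variable {D : ChevalleyDatum} [Good D] {K : Type*} [Field K] {Γ : Type*} [Group Γ] {A : Sys D K Γ}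
  {G : Type*} [Group G] (M : Mod A G) {E : Type*} [Group E] (π : E →* G) (f : Fl D)

/-- the roots of rank at least `k` -/
def Sg (k : ℕ) : Set (Rt D) := {s ∈ f.S | k ≤ kap f.f s}
/-- the filtration -/
def VV (k : ℕ) : Subgroup G := M.X (Sg f k)
/-- the layer of a root -/
noncomputable abbrev V0 (r : Rt D) : Subgroup G := VV M f (kap f.f r)
/-- the next layer -/
noncomputable abbrev V1 (r : Rt D) : Subgroup G := VV M f (kap f.f r + 1)
/-- leading coefficient -/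
def Co (r : Rt D) (u : G) (t : K) : Prop := (A.x r t)⁻¹ * M.e u ∈ A.X (Sg f (kap f.f r + 1))
/-- action of a torus element -/
def Ch1 (g : G) (χ : Rt D → K) : Prop := g ∈ M.H ∧ ∀ r u, M.e g * A.x r u * (M.e g)⁻¹ = A.x r (χ r * u)
/-- characters of torus elements -/
def TC (χ : Rt D → K) : Prop := ∃ g, Ch1 M g χ
/-- a torus element fixing `r` but not `s` -/
def K1 (r s : Rt D) : Prop := ∃ χ, TC M χ ∧ χ r = 1 ∧ χ s ≠ 1
/-- no invariant pairing of two layers -/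
abbrev KL (r s : Rt D) (L : Subgroup E) : Prop := Kill π M.H (V0 M f r) (V1 M f r) (V0 M f s) (V1 M f s) L
/-- lifts commute -/
def LC (S T : Set (Rt D)) : Prop := ∀ x y : E, π x ∈ M.X S → π y ∈ M.X T → Commute x y
/-- representatives of a layer -/
def Rp (r : Rt D) (P : Subgroup G) : Prop := ∀ u ∈ V0 M f r, ∃ y ∈ P, y⁻¹ * u ∈ V1 M f r

variable {M π f}

theorem VV_anti : Antitone (VV M f) := fun _ _ hab => M.X_mono fun _ hs => ⟨hs.1, hab.trans hs.2⟩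
theorem V1_le (r : Rt D) : V1 M f r ≤ V0 M f r := VV_anti (Nat.le_succ _)
theorem Sg_zero : Sg f 0 = f.S := by simp [Sg]
theorem VV_le (k : ℕ) : VV M f k ≤ M.X f.S := M.X_mono fun _ h => h.1

theorem H_conj {g u : G} (hg : g ∈ M.H) {S : Set (Rt D)} (hu : u ∈ M.X S) : g * u * g⁻¹ ∈ M.X S :=
  (M.act_H hg).conj (fun _ h => h) hu

theorem Ch1.mul {g g' : G} {χ χ' : Rt D → K} (h : Ch1 M g χ) (h' : Ch1 M g' χ') : Ch1 M (g * g') (χ * χ') :=
  ⟨mul_mem h.1 h'.1, fun r u => by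
    rw [Pi.mul_apply, mul_assoc (χ r), ← h.2, ← h'.2, map_mul]; group⟩

theorem TC.mul {χ χ' : Rt D → K} (h : TC M χ) (h' : TC M χ') : TC M (χ * χ') :=
  let ⟨_, a⟩ := h; let ⟨_, b⟩ := h'; ⟨_, a.mul b⟩

theorem exists_ch1 {g : G} (hg : g ∈ M.H) : ∃ χ, Ch1 M g χ :=
  let ⟨χ, _, h⟩ := A.exists_ch hg; ⟨fun r => χ (rt r), hg, h⟩

theorem Ch1.ρ {g : G} {χ : Rt D → K} (h : Ch1 M g χ) (r : Rt D) : χ (M.τ.ρ r) = M.τ.T.α r (χ r) := by
  have := congrArg M.τ.σ (h.2 r 1)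
  rw [map_mul, map_mul, map_inv, M.τ.mem_F.1 (M.memF g), σ_x, σ_x, h.2] at this
  have := A.x_injective _ this
  simp only [Tw.f, map_one, mul_one] at this
  exact mul_left_cancel₀ (M.τ.T.c r).ne_zero ((mul_comm _ _).trans this)

theorem Ch1.ne {g : G} {χ : Rt D → K} (h : Ch1 M g χ) (r : Rt D) : χ r ≠ 0 := fun e => by
  have := h.2 r 1
  rw [e, zero_mul, A.x_zero, mul_inv_eq_one, mul_eq_left] at this
  exact one_ne_zero (A.x_eq_one this)

theorem U_conj {k : ℕ} {g y : Γ} (hg : g ∈ A.X f.S) (hy : y ∈ A.X (Sg f k)) : g * y * g⁻¹ ∈ A.X (Sg f k) :=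
  A.conj_mem (layer_ideal f.nil f.pos k) hg y hy

theorem Co.mem {r : Rt D} (hr : r ∈ f.S) {u : G} {t : K} (h : Co M f r u t) : u ∈ V0 M f r := by
  have := mul_mem (A.x_mem (S := Sg f (kap f.f r)) ⟨hr, le_rfl⟩ t)
    (A.X_mono (fun s hs => (⟨hs.1, (Nat.le_succ _).trans hs.2⟩ : s ∈ Sg f (kap f.f r))) h)
  rwa [mul_inv_cancel_left] at this

theorem exists_co {r : Rt D} (hr : r ∈ f.S) {u : G} (hu : u ∈ V0 M f r) : ∃ t, Co M f r u t :=
  A.layer_step f.nil f.pos hr hu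

theorem Co.mul {r : Rt D} (hr : r ∈ f.S) {u v : G} {t t' : K} (h : Co M f r u t) (h' : Co M f r v t') :
    Co M f r (u * v) (t + t') := by
  have := mul_mem (U_conj (inv_mem (A.x_mem hr t')) h) h'
  rw [Co, A.add, map_mul]
  convert this using 1; group

theorem Co.inv {r : Rt D} (hr : r ∈ f.S) {u : G} {t : K} (h : Co M f r u t) : Co M f r u⁻¹ (-t) := by
  have := U_conj (A.x_mem hr t) (inv_mem h)
  rw [Co, A.x_neg, map_inv]
  convert this using 1; group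

theorem co_zero {r : Rt D} {u : G} : Co M f r u 0 ↔ u ∈ V1 M f r := by rw [Co, A.x_zero, inv_one, one_mul]; rfl

theorem Co.sub {r : Rt D} (hr : r ∈ f.S) {u v : G} {t : K} (h : Co M f r u t) (h' : Co M f r v t) :
    u⁻¹ * v ∈ V1 M f r := by
  have := (h.inv hr).mul hr h'
  rwa [neg_add_cancel, co_zero] at this

theorem Co.of_sub {r : Rt D} (hr : r ∈ f.S) {u v : G} {t : K} (h : Co M f r u t) (h' : u⁻¹ * v ∈ V1 M f r) :
    Co M f r v t := by simpa using h.mul hr (co_zero.2 h')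

theorem Co.eq_zero {r : Rt D} (hr : r ∈ f.S) {u : G} {t : K} (h : Co M f r u t) (h' : u ∈ V1 M f r) : t = 0 := by
  have := mul_mem h (inv_mem h' : M.e u⁻¹ ∈ _)
  rw [map_inv, mul_inv_cancel_right, ← A.x_neg] at this
  exact neg_eq_zero.1 (A.layer_zero f.pos hr this (A.θx _ _))

theorem Co.unique {r : Rt D} (hr : r ∈ f.S) {u : G} {t t' : K} (h : Co M f r u t) (h' : Co M f r u t') : t = t' := by
  have := ((h.inv hr).mul hr h').eq_zero hr (by simp)
  exact neg_add_eq_zero.1 this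

theorem Co.conj {r : Rt D} {u g : G} {t : K} {χ : Rt D → K} (h : Co M f r u t) (hg : Ch1 M g χ) :
    Co M f r (g * u * g⁻¹) (χ r * t) := by
  have := A.H_conj_X hg.1 h
  rw [Co, ← hg.2, map_mul, map_mul, map_inv]
  convert this using 1; group

theorem Co.comm {r : Rt D} (hr : r ∈ f.S) {u g : G} {t : K} {χ : Rt D → K} (h : Co M f r u t) (hg : Ch1 M g χ) :
    Co M f r ⁅g, u⁆ ((χ r - 1) * t) := by
  have := (h.conj hg).mul hr (h.inv hr)
  rwa [← sub_eq_add_neg, ← sub_one_mul] at this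

theorem exists_comm [Finite K] {r : Rt D} (hr : r ∈ f.S) {g : G} {χ : Rt D → K} (hg : Ch1 M g χ) (h1 : χ r ≠ 1) :
    ∀ v ∈ V0 M f r, ∃ w ∈ V0 M f r, ⁅g, w⁆⁻¹ * v ∈ V1 M f r := fun v hv => by
  obtain ⟨t, ht⟩ := exists_co hr hv
  have h2 : ∀ n : ℕ, ∃ w, Co M f r w ((χ r - 1) ^ n * t) := fun n => by
    induction n with
    | zero => exact ⟨v, by simpa using ht⟩
    | succ n ih => obtain ⟨w, hw⟩ := ih; exact ⟨_, by rw [pow_succ', mul_assoc]; exact hw.comm hr hg⟩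
  haveI := Fintype.ofFinite K
  obtain ⟨w, hw⟩ := h2 (Fintype.card K - 2)
  refine ⟨w, hw.mem hr, (hw.comm hr hg).sub hr ?_⟩
  rwa [← mul_assoc, ← pow_succ', show Fintype.card K - 2 + 1 = Fintype.card K - 1 by
    have := Fintype.one_lt_card (α := K); omega, FiniteField.pow_card_sub_one_eq_one _ (sub_ne_zero.2 h1), one_mul]

theorem fpf [Finite K] {r : Rt D} (hr : r ∈ f.S) {χ : Rt D → K} (h : TC M χ) (h1 : χ r ≠ 1) :
    Fpf M.H (V0 M f r) (V1 M f r) := by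
  obtain ⟨g, hg⟩ := h
  refine ⟨g, hg.1, exists_comm hr hg h1, fun v hv hv' => ?_⟩
  obtain ⟨t, ht⟩ := exists_co hr hv
  rwa [(mul_eq_zero.1 ((ht.comm hr hg).eq_zero hr hv')).resolve_left (sub_ne_zero.2 h1), co_zero] at ht

theorem K1.kl [Finite K] {r s : Rt D} (hr : r ∈ f.S) (hs : s ∈ f.S) (h : K1 M r s) (L : Subgroup E) :
    KL M π f r s L := by
  obtain ⟨χ, ⟨g, hg⟩, h1, h2⟩ := h
  refine kill_of_h (V1_le r) (V1_le s) hg.1 (fun u hu => ?_) (fun v => H_conj hg.1) (exists_comm hs hg h2)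
  obtain ⟨t, ht⟩ := exists_co hr hu
  exact ht.sub hr (by simpa [h1] using ht.conj hg)

theorem kl_link (hs : Function.Surjective π) {r s : Rt D} {P Q : Subgroup G} (hP : Rp M f r P) (hQ : Rp M f s Q)
    {L : Subgroup E} (h : ∀ x y, π x ∈ P → π y ∈ Q → ⁅x, y⁆ ∈ L) : KL M π f r s L := fun β hb u hu v hv => by
  obtain ⟨a, ha, h1⟩ := hP u hu
  obtain ⟨b, hb', h2⟩ := hQ v hv
  obtain ⟨x, rfl⟩ := hs a
  obtain ⟨y, rfl⟩ := hs b
  have h3 : π x ∈ V0 M f r := by simpa using mul_mem hu (inv_mem (V1_le r h1))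
  have h4 : π y ∈ V0 M f s := by simpa using mul_mem hv (inv_mem (V1_le s h2))
  rw [hb.red (V1_le r) (V1_le s) h3 h4 h1 h2]
  exact hb.link x y h3 h4 (h x y ha hb')

theorem LC.kl (hs : Function.Surjective π) {r s : Rt D} {S T : Set (Rt D)} (hP : Rp M f r (M.X S))
    (hQ : Rp M f s (M.X T)) (h : LC M π S T) (L : Subgroup E) : KL M π f r s L :=
  kl_link hs hP hQ fun x y hx hy => (h x y hx hy).commutator_eq ▸ one_mem _

theorem kl_bi {F F' : Type*} [AddCommGroup F] [AddCommGroup F'] {r s : Rt D} (hr : r ∈ f.S) (hs : s ∈ f.S) (φ : F →+ K)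
    (ψ : F' →+ K) (h1 : ∀ a, ∃ u, Co M f r u (φ a)) (h2 : ∀ u t, Co M f r u t → ∃ a, φ a = t)
    (h3 : ∀ a, ∃ u, Co M f s u (ψ a)) (h4 : ∀ u t, Co M f s u t → ∃ a, ψ a = t) {L : Subgroup E}
    (h : ∀ b : F → F' → center E, (∀ a a' c, b (a + a') c = b a c * b a' c) → (∀ a c c', b a (c + c') = b a c * b a c') →
      (∀ χ, TC M χ → ∀ a a' c c', φ a' = χ r * φ a → ψ c' = χ s * ψ c → b a' c' = b a c) →
      (∀ x y a c, Co M f r (π x) (φ a) → Co M f s (π y) (ψ c) → ⁅x, y⁆ ∈ L → b a c = 1) → ∀ a c, b a c = 1) :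
    KL M π f r s L := fun β hb u hu v hv => by
  choose y hy using h1
  choose z hz using h3
  have k : ∀ {u v a c}, Co M f r u (φ a) → Co M f s v (ψ c) → β u v = β (y a) (z c) := fun h h' =>
    hb.red (V1_le r) (V1_le s) ((hy _).mem hr) ((hz _).mem hs) ((hy _).sub hr h) ((hz _).sub hs h')
  obtain ⟨t, ht⟩ := exists_co hr hu
  obtain ⟨t', ht'⟩ := exists_co hs hv
  obtain ⟨a, rfl⟩ := h2 u t ht
  obtain ⟨c, rfl⟩ := h4 v t' ht'
  rw [k ht ht']
  refine h (fun a c => β (y a) (z c)) (fun a a' c => ?_) (fun a c c' => ?_) (fun χ ⟨g, hg⟩ a a' c c' e e' => ?_)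
    (fun x w a c hx hw e => (k hx hw).symm.trans (hb.link x w (hx.mem hr) (hw.mem hs) e)) a c
  · rw [← hb.mul_l _ ((hy _).mem hr) _ ((hy _).mem hr) _ ((hz _).mem hs)]
    exact (k (map_add φ a a' ▸ (hy a).mul hr (hy a')) (hz c)).symm
  · rw [← hb.mul_r _ ((hy _).mem hr) _ ((hz _).mem hs) _ ((hz _).mem hs)]
    exact (k (hy a) (map_add ψ c c' ▸ (hz c).mul hs (hz c'))).symm
  · exact (k (e ▸ (hy a).conj hg) (e' ▸ (hz c).conj hg)).symm.trans
      (hb.inv g hg.1 _ ((hy _).mem hr) _ ((hz _).mem hs))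

theorem rp_of {r : Rt D} (hr : r ∈ f.S) {P : Subgroup G} (h : ∀ u t, Co M f r u t → ∃ y ∈ P, Co M f r y t) :
    Rp M f r P := fun u hu => by
  obtain ⟨t, ht⟩ := exists_co hr hu
  obtain ⟨y, hy, h⟩ := h u t ht
  exact ⟨y, hy, h.sub hr ht⟩

theorem given_of {r : Rt D} (hr : r ∈ f.S) {P : Subgroup G} (hP : P ≤ V0 M f r) (h1 : Rp M f r P)
    (h2 : ∀ y ∈ P, y ∈ V1 M f r → y = 1) {Y : Subgroup E} (hY : Given π M.H P ⊥ Y) :
    Given π M.H (V0 M f r) (V1 M f r) Y :=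
  ⟨fun y hy => hP (hY.le y hy), fun y hy h => hY.inj y hy (h2 _ (hY.le y hy) h), fun v hv => by
    obtain ⟨y, hy, h⟩ := h1 v hv
    obtain ⟨z, hz, e⟩ := hY.sur y hy
    exact ⟨z, hz, by rwa [inv_mul_eq_one.1 (mem_bot.1 e)]⟩, hY.nT⟩

theorem le_of_rp {P : Subgroup G} (h : ∀ r ∈ f.S, Rp M f r P) : M.X f.S ≤ P := by
  obtain ⟨m, hm⟩ := exists_kap_bound f.f
  have : ∀ k, VV M f (m - k) ≤ P := fun k => by
    induction k with
    | zero => exact fun u hu => (M.inj (show M.e u = M.e 1 by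
        rw [map_one, ← mem_bot, ← A.X_empty]
        exact A.X_mono (fun s hs => absurd hs.2 (not_le.2 (hm s))) hu)).symm ▸ one_mem P
    | succ k ih =>
      replace ih : VV M f (m - (k + 1) + 1) ≤ P := (VV_anti (by omega)).trans ih
      by_cases e : ∃ r ∈ f.S, kap f.f r = m - (k + 1)
      · obtain ⟨r, hr, e⟩ := e
        rw [← e] at ih ⊢
        intro u hu
        obtain ⟨y, hy, h⟩ := h r hr u hu
        simpa using mul_mem hy (ih h)
      · refine le_trans (M.X_mono (T := Sg f (m - (k + 1) + 1)) fun s hs => ?_) ih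
        exact ⟨hs.1, lt_of_le_of_ne hs.2 fun h => e ⟨s, hs.1, h.symm⟩⟩
  simpa [VV, Sg_zero] using this m

theorem pp_of_filt [Finite K] (p : ℕ) [Fact p.Prime] [CharP K p] (h3 : A.R3) (hπ : IsStemExtension π)
    (hf : f.S = {r | Pos r}) (R : Set (Rt D))
    (hR : ∀ r, r ∈ f.S → r ∉ R → V0 M f r ≤ V1 M f r) (Y : Rt D → Subgroup E)
    (h1 : ∀ r ∈ R, r ∈ f.S → Given π M.H (V0 M f r) (V1 M f r) (Y r) ∨ (Y r = ⊥ ∧ ∃ χ, TC M χ ∧ χ r ≠ 1))
    (h2 : ∀ r ∈ R, ∀ s ∈ R, r ∈ f.S → s ∈ f.S → kap f.f r ≤ kap f.f s →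
      KL M π f r s (⨆ (k) (_ : k ∈ R ∧ k ∈ f.S ∧ kap f.f s < kap f.f k), Y k)) :
    ∀ z ∈ π.ker, ∀ k, z ^ p ^ k = 1 → z = 1 := by
  obtain ⟨hs, hc, hcm⟩ := hπ
  obtain ⟨m, hm⟩ := exists_kap_bound f.f
  let Y' : ℕ → Subgroup E := fun m => ⨆ (k) (_ : (k ∈ R ∧ k ∈ f.S) ∧ kap f.f k = m), Y k
  have y1 : ∀ r ∈ R, r ∈ f.S → Y' (kap f.f r) = Y r := fun r hr hr' =>
    le_antisymm (iSup₂_le fun k hk => kap_inj hk.2 ▸ le_rfl) (le_iSup₂_of_le r ⟨⟨hr, hr'⟩, rfl⟩ le_rfl)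
  have lay : ∀ k, (VV M f k ≤ VV M f (k + 1) ∧ Y' k = ⊥) ∨ ∃ r ∈ R, r ∈ f.S ∧ kap f.f r = k := fun k => by
    by_cases e : ∃ r ∈ R, r ∈ f.S ∧ kap f.f r = k
    · exact Or.inr e
    refine Or.inl ⟨?_, le_bot_iff.1 (iSup₂_le fun k hk => absurd ⟨k, hk.1.1, hk.1.2, hk.2⟩ e)⟩
    by_cases e' : ∃ r, r ∈ f.S ∧ kap f.f r = k
    · obtain ⟨r, hr, rfl⟩ := e'
      exact hR r hr fun h => e ⟨r, h, hr, rfl⟩
    · exact M.X_mono fun s hs => ⟨hs.1, lt_of_le_of_ne hs.2 fun h => e' ⟨s, hs.1, h.symm⟩⟩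
  have cj : ∀ k, ∀ u ∈ M.X f.S, ∀ v ∈ VV M f k, u * v * u⁻¹ ∈ VV M f k := fun k u hu v hv => by
    have := U_conj hu hv
    rwa [← map_inv, ← map_mul, ← map_mul] at this
  obtain ⟨C, hC, -⟩ := filt hc hs M.H (fun g h hg hh => hc (by
      rw [MonoidHom.mem_ker, map_commutatorElement, commutatorElement_eq_one_iff_mul_comm, ← M.inj.eq_iff, map_mul,
        map_mul, h3.H_comm _ hg _ hh])) (VV M f) VV_anti m
    (eq_bot_iff.2 fun u hu => M.inj (by
      rw [map_one, ← mem_bot, ← A.X_empty]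
      exact A.X_mono (fun s hs => absurd hs.2 (not_le.2 (hm s))) hu))
    (fun k u hu v hv => by
      have hu := VV_le _ hu
      rcases lay k with h | ⟨r, -, hr, rfl⟩
      · exact mul_mem (cj _ u hu v (h.1 hv)) (inv_mem (h.1 hv))
      · obtain ⟨t, ht⟩ := exists_co hr hv
        have := A.central_mod (layer_ideal f.nil f.pos _) (layer_central f.nil f.pos hr) t (inv_mem hu)
        have := U_conj (A.x_mem hr t) (mul_mem (mul_mem this (U_conj hu ht)) (inv_mem ht))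
        change M.e _ ∈ A.X _
        convert this using 1
        simp only [commutatorElement_def, map_mul, map_inv]; group)
    (fun k g hg u => H_conj hg) Y' (fun k _ => by
      rcases lay k with h | ⟨r, hr, hr', rfl⟩
      · left
        rw [h.2]
        exact ⟨by simp, by simp, fun v hv => ⟨1, one_mem _, by simpa using h.1 hv⟩, by simp⟩
      · rw [y1 r hr hr']
        exact (h1 r hr hr').imp_right fun ⟨a, χ, b, c⟩ => ⟨a, fpf hr' b c⟩)
    (fun k _ j hj => by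
      rcases lay j with h | ⟨r, hr, hr', rfl⟩
      · exact kill_of_le h.1
      rcases lay k with h | ⟨s, hs, hs', rfl⟩
      · exact (kill_of_le h.1).swap
      exact kill_mono (h2 r hr s hs hr' hs' hj) (iSup₂_le fun k hk =>
        le_iSup₂_of_le (kap f.f k) ⟨hk.2.2, hm k⟩ (y1 k hk.1 hk.2.1).ge))
  intro z hz k hk
  haveI := M.finite
  obtain ⟨P, hP⟩ := M.exists_sylow p
  have e : VV M f 0 = P := by rw [hP, VV, Sg_zero, hf]; rfl
  have h4 : ((VV M f 0).comap π).index = (P : Subgroup G).index := by rw [index_comap_of_surjective _ hs, e]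
  haveI : ((VV M f 0).comap π).FiniteIndex := ⟨h4 ▸ FiniteIndex.index_ne_zero⟩
  have h5 := pow_index_mem (H := (VV M f 0).comap π) (hc hz) (hcm hz)
  have h6 := hC.inj _ ((commutator_le.2 fun a ha b hb => hC.comm_mem hc (hC.nW a ha) hb : _ ≤ C) h5)
    (by rw [map_pow, show π z = 1 from hz, one_pow])
  have := pow_gcd_eq_one.2 ⟨hk, h6⟩
  rwa [h4, ((Nat.Prime.coprime_iff_not_dvd Fact.out).2 P.not_dvd_index).pow_left k, pow_one] at this

/-! ### the torus -/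

theorem tc_of (h3 : A.R3) {c : Nd D → Kˣ} (h : h3.torH c ∈ M.τ.G1) : TC M fun r => tor c (rt r) := by
  obtain ⟨g, hg⟩ := M.lift h
  exact ⟨g, M.mem_H.2 (hg ▸ h3.torH_range.le ⟨c, rfl⟩), fun r u => by rw [hg, h3.torH_conj]⟩

theorem tor_σT (τ : Twist A) (h3 : A.R3) (c : Nd D → Kˣ) (r : Rt D) :
    tor (τ.σT c) (rt (τ.ρ r)) = τ.T.α r (tor c (rt r)) := by
  have := congrArg τ.σ (h3.torH_conj c r 1)
  rw [map_mul, map_mul, map_inv, σ_torH, σ_x, σ_x, h3.torH_conj] at this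
  have := A.x_injective _ this
  simp only [Tw.f, map_one, mul_one] at this
  exact mul_left_cancel₀ (τ.T.c r).ne_zero ((mul_comm _ _).trans this)

theorem tor_pow (l : Nd D → ℤ) (v : Kˣ) (r : Rt D) : tor (fun i => v ^ l i) (rt r) = (v : K) ^ (l ⬝ᵥ wt r) := by
  rw [tor_rt, dotProduct, ← Units.val_zpow_eq_zpow_val, zpow_sum']
  simp [_root_.zpow_mul]

/-! ### lifts that commute -/

variable (hc : π.ker ≤ center E) (hs : Function.Surjective π)
include hc hs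

theorem LC.of_cz {S T : Set (Rt D)} (h : ∀ x, π x ∈ M.X S → M.X T ≤ SchurFilt.cz π x) : LC M π S T :=
  fun x _ hx hy => (mem_cz hc).1 (h x hx hy)

theorem LC.cz {S T : Set (Rt D)} (h : LC M π S T) {x : E} (hx : π x ∈ M.X S) : M.X T ≤ SchurFilt.cz π x := fun v hv => by
  obtain ⟨y, rfl⟩ := hs v
  exact (mem_cz hc).2 (h x y hx hv)

omit hc hs in
theorem LC.symm {S T : Set (Rt D)} (h : LC M π S T) : LC M π T S := fun x y hx hy => (h y x hy hx).symm

omit hc hs in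
theorem LC.mono {S T S' T' : Set (Rt D)} (h : LC M π S T) (h1 : S' ⊆ S) (h2 : T' ⊆ T) : LC M π S' T' :=
  fun x y hx hy => h x y (M.X_mono h1 hx) (M.X_mono h2 hy)

omit hc in
theorem LC.map {m : G} {w : Perm (Rt D)} (hm : M.Act m w) {S T S' T' : Set (Rt D)} (h : LC M π S' T')
    (h1 : ∀ s ∈ S, w s ∈ S') (h2 : ∀ s ∈ T, w s ∈ T') : LC M π S T := fun x y hx hy => by
  obtain ⟨g, rfl⟩ := hs m
  have := h (g * x * g⁻¹) (g * y * g⁻¹) (by simpa using hm.conj h1 hx) (by simpa using hm.conj h2 hy)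
  exact (MulAut.conj g).injective (by simpa [Commute, SemiconjBy] using this)

/-- commutators of elements centralising `X S` -/
theorem LC.of_comm {S T : Set (Rt D)} (P : Subgroup G) (hP : ∀ u ∈ M.X S, ∀ v ∈ P, Commute u v)
    (h : M.X T ≤ ⁅P, P⁆) : LC M π S T := LC.of_cz hc hs fun x hx => h.trans (commutator_le.2 fun a ha b hb =>
  comm_mem_cz hc hs x (hP _ hx a ha) (hP _ hx b hb))

theorem LC.of_fpf [Finite K] {S T : Set (Rt D)} (hT : Nil T) (h : ∀ u ∈ M.X S, ∀ v ∈ M.X T, Commute u v)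
    {χ : Rt D → K} (hχ : TC M χ) (h1 : ∀ r ∈ S, χ r = 1) (h2 : ∀ r ∈ T, χ r ≠ 1) : LC M π S T := by
  obtain ⟨g, hg⟩ := hχ
  haveI := M.finite
  refine LC.of_cz hc hs fun x hx v hv => ?_
  have h4 : Function.Injective fun w : M.X T => (⟨w.1⁻¹ * (g * w * g⁻¹), mul_mem (inv_mem w.2) (H_conj hg.1 w.2)⟩ : M.X T) :=
    fun a b e => by
      have e : a.1⁻¹ * (g * a * g⁻¹) = b.1⁻¹ * (g * b * g⁻¹) := congrArg Subtype.val e
      have := Twist.eq_one_of_fpf hT hg.2 h2 (y := M.e (b * a.1⁻¹)) (mul_mem b.2 (inv_mem a.2) : _ ∈ M.X T) (by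
        rw [← map_inv, ← map_mul, ← map_mul]; congr 1
        calc g * (b * a.1⁻¹) * g⁻¹ = b * (b.1⁻¹ * (g * b * g⁻¹)) * (a.1⁻¹ * (g * a * g⁻¹))⁻¹ * a.1⁻¹ := by group
          _ = _ := by rw [e]; group)
      exact Subtype.ext (mul_inv_eq_one.1 (M.inj (this.trans (map_one _).symm))).symm
  obtain ⟨w, hw⟩ := Finite.injective_iff_surjective.1 h4 ⟨v, hv⟩
  have h5 : Commute (π x) g := by
    have : A.X S ≤ centralizer {M.e g} := A.X_le.2 fun r hr t => mem_centralizer_singleton_iff.2 (by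
      rw [eq_comm, ← mul_inv_eq_iff_eq_mul, hg.2, h1 r hr, one_mul])
    exact M.inj (by rw [map_mul, map_mul]; exact mem_centralizer_singleton_iff.1 (this hx))
  have := comm_mem_cz hc hs x (h _ hx _ (inv_mem w.2)) h5
  rwa [show ⁅w.1⁻¹, g⁆ = v by rw [← show _ = v from congrArg Subtype.val hw, commutatorElement_def]; group] at this

end CA.TwM
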