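/-
Twisted groups of simply laced type: orbits of roots, layers and commutators.
-/
import Cfsg.Agent.Lib.Lie.TwM3
import Cfsg.Agent.Lib.Lie.H22St3

set_option autoImplicit false

namespace CA.TwM

open Equiv Cfsg Cfsg.Lie Cfsg.Lie.ChevalleyDatum CA.SchurFilt Subgroup CA.Chev CA.Chev.Sys0 CA.Chev.Sys
open CA.SchurHopf CA.Chev.Twist
open scoped commutatorElement

variable {D : ChevalleyDatum} [Good D] {K : Type*} [Field K] {Γ : Type*} [Group Γ] {A : Sys D K Γ}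
  {G : Type*} [Group G] {M : Mod A G} {E : Type*} [Group E] {π : E →* G} {α : K →+* K} {F : Fl D}

theorem comm_mul_mul {H : Type*} [Group H] {a b c d : H} (h1 : Commute a c) (h2 : Commute a d) (h3 : Commute b c)
    (h4 : Commute b d) : ⁅a * c, b * d⁆ = ⁅a, b⁆ * ⁅c, d⁆ := by
  have e1 : Commute ⁅a, b⁆ c := ((h1.mul_left h3).mul_left h1.inv_left).mul_left h3.inv_left
  have e2 : Commute (a * b) c := h1.mul_left h3
  calc ⁅a * c, b * d⁆ = a * (c * b) * (d * c⁻¹) * (a⁻¹ * d⁻¹) * b⁻¹ := by rw [commutatorElement_def]; group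
    _ = a * b * ((c * d * c⁻¹ * d⁻¹) * (a⁻¹ * b⁻¹)) := by rw [← h3.eq, h2.inv_inv.eq]; group
    _ = _ := by
      have : Commute (a⁻¹ * b⁻¹) (c * d * c⁻¹ * d⁻¹) := by
        have k1 := h1.inv_left.mul_left h3.inv_left
        have k2 := h2.inv_left.mul_left h4.inv_left
        exact ((k1.mul_right k2).mul_right k1.inv_right).mul_right k2.inv_right
      rw [← this.eq]; simp only [commutatorElement_def]; group

/-- the height filtration -/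
noncomputable def hF (D : ChevalleyDatum) [Good D] : Fl D :=
  ⟨{r | Pos r}, ∑ i, LinearMap.proj i, nil_pos, fun r hr => by simpa [ht] using Pos.ht_pos hr⟩

/-- the roots at an acute angle -/
noncomputable def qF (r : Rt D) : Fl D := ⟨{s | 0 < prL r (rt s)}, prL r, nil_of_fun _, fun _ h => h⟩

theorem mem_qF {r s : Rt D} : s ∈ (qF r).S ↔ 0 < pr r s := by rw [← prL_rt]; rfl

variable (M F) in
/-- an invariant filtration -/
def Inv : Prop := (∀ r ∈ F.S, M.τ.ρ r ∈ F.S) ∧ ∀ r, F.f (rt (M.τ.ρ r)) = F.f (rt r)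

/-- the roots above a given one -/
def Up (F : Fl D) (r s : Rt D) : Set (Rt D) := {k ∈ F.S | F.f (rt r) ≤ F.f (rt k) ∧ k ≠ s}

theorem nil_Up' {r s : Rt D} (h : F.f (rt s) = F.f (rt r)) : Nil (Up F r s) :=
  F.nil.mono (fun _ h => h.1) fun a ha b hb k hk => by
    obtain ⟨i, j, h1, h2, h3⟩ := hk.lin F.f
    have := F.pos a ha.1
    have := F.pos b hb.1
    have := ha.2.1
    have := hb.2.1
    refine ⟨F.nil.2 a ha.1 b hb.1 k hk, by nlinarith, ?_⟩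
    rintro rfl; nlinarith

theorem le_of_kap {r s : Rt D} (hs : s ∈ F.S) (h : kap F.f r ≤ kap F.f s) : F.f (rt r) ≤ F.f (rt s) :=
  not_lt.1 fun e => absurd (kap_lt (F.pos s hs) e) (not_lt.2 h)

theorem nil_Sg (k : ℕ) : Nil (Sg F k) :=
  F.nil.mono (fun _ h => h.1) fun a ha b hb => (layer_ideal F.nil F.pos k a ha.1 b hb).2

theorem Inv.up (h : Inv M F) {r s : Rt D} {g : Γ} (hg : g ∈ A.X (Up F r s)) : M.τ.σ g ∈ A.X (Up F r (M.τ.ρ s)) :=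
  M.τ.is.mem_X (S' := Up F r (M.τ.ρ s)) (fun k hk => And.intro (h.1 k hk.1)
    ⟨hk.2.1.trans_eq (h.2 k).symm, M.τ.ρ.injective.ne hk.2.2⟩) hg

theorem Inv.kap_lt (h : Inv M F) {r : Rt D} (n : ℕ) (e : r < (M.τ.ρ ^ n) r) :
    F.f (rt ((M.τ.ρ ^ n) r)) = F.f (rt r) ∧ kap F.f r < kap F.f ((M.τ.ρ ^ n) r) := by
  have : ∀ n : ℕ, F.f (rt ((M.τ.ρ ^ n) r)) = F.f (rt r) := fun n => by
    induction n with
    | zero => rfl
    | succ n ih => rw [pow_succ', Perm.mul_apply, h.2, ih]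
  exact ⟨this n, by rw [kap, kap, this]; exact Nat.add_lt_add_left e _⟩

theorem Inv.triv (h : Inv M F) {r s : Rt D} (n : ℕ) (hs : (M.τ.ρ ^ n) r = s) (e : r < s) :
    V0 M F s ≤ V1 M F s := fun u hu => by
  obtain ⟨h1, h2⟩ := h.kap_lt n (hs ▸ e)
  rw [hs] at h1 h2
  have h3 : ∀ m : ℕ, M.e u ∈ A.X (Up F r ((M.τ.ρ ^ m) r)) := fun m => by
    induction m with
    | zero =>
      refine A.X_mono (S := Sg F (kap F.f s)) (fun k hk => And.intro hk.1 ⟨le_of_kap hk.1 (h2.le.trans hk.2), ?_⟩) hu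
      rintro rfl; exact absurd hk.2 (not_le.2 h2)
    | succ m ih => rw [pow_succ', Perm.mul_apply, ← M.τ.mem_F.1 (M.memF u)]; exact h.up ih
  have h4 := (A.X_inf F.nil (nil_Sg (kap F.f s)) (nil_Up' h1) (fun _ h => h.1) fun _ h => h.1).le ⟨hu, hs ▸ h3 n⟩
  exact A.X_mono (T := Sg F (kap F.f s + 1))
    (fun k hk => ⟨hk.1.1, lt_of_le_of_ne hk.1.2 fun e => hk.2.2.2 (kap_inj e).symm⟩) h4

theorem Inv.fix (h : Inv M F) {r : Rt D} (hr : r ∈ F.S) (e : M.τ.ρ r = r) {u : G} {t : K} (hu : Co M F r u t) :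
    M.τ.T.f r t = t := by
  have h1 : (A.x r t)⁻¹ * M.e u ∈ A.X (Up F r r) := A.X_mono (fun k hk => And.intro hk.1
    ⟨le_of_kap hk.1 (Nat.le_of_succ_le hk.2), by rintro rfl; exact absurd hk.2 (by omega)⟩) hu
  have h2 := h.up h1
  rw [e, map_mul, map_inv, M.τ.mem_F.1 (M.memF u), σ_x, e] at h2
  have h3 := mul_mem h1 (inv_mem h2)
  rw [_root_.mul_inv_rev, inv_inv, mul_assoc, mul_inv_cancel_left, ← A.x_neg, ← A.add] at h3
  by_contra hn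
  exact (A.x_mem_X_iff F.nil (nil_Up' rfl) (fun _ h => h.1) hr (fun e => hn (neg_add_eq_zero.1 e).symm) h3).2.2 rfl

theorem lift_of {S : Set (Rt D)} {r : Rt D} (h : ∀ s ∈ S, Pos s ↔ Pos r) {g : Γ} (hg : g ∈ A.X S)
    (hF : M.τ.σ g = g) : ∃ y ∈ M.X S, M.e y = g := by
  have : g ∈ M.τ.G1 := by
    by_cases e : Pos r
    · exact M.τ.mem_G1_of_U (A.X_mono (fun s hs => (h s hs).2 e) hg) hF
    · exact M.τ.mem_G1_of_V (A.X_mono (fun s hs => mt (h s hs).1 e) hg) hF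
  obtain ⟨y, rfl⟩ := M.lift this
  exact ⟨y, hg, rfl⟩

theorem lift_fix {r : Rt D} (e : M.τ.ρ r = r) {t : K} (ht : M.τ.T.f r t = t) : ∃ y ∈ M.X {r}, M.e y = A.x r t :=
  lift_of (r := r) (by simp) (A.x_mem (Set.mem_singleton r) t) (by rw [σ_x, e, ht])

theorem mem_fix {r : Rt D} (e : M.τ.ρ r = r) {y : G} (hy : y ∈ M.X {r}) : ∃ t, M.τ.T.f r t = t ∧ M.e y = A.x r t :=
  (M.τ.mem_X1_one e).1 (M.mem_X1.1 hy)

theorem Inv.rp_fix (h : Inv M F) {r : Rt D} (hr : r ∈ F.S) (e : M.τ.ρ r = r) : Rp M F r (M.X {r}) :=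
  rp_of hr fun u t hu => by
    obtain ⟨y, hy, e⟩ := lift_fix e (h.fix hr e hu)
    exact ⟨y, hy, by rw [Co, e, inv_mul_cancel]; exact one_mem _⟩

theorem X_inf_V1 {r : Rt D} (hr : r ∈ F.S) : ∀ y ∈ M.X {r}, y ∈ V1 M F r → y = 1 := fun y hy h => by
  obtain ⟨t, e⟩ := A.mem_X_single.1 hy
  have : Co M F r y t := by rw [Co, e, inv_mul_cancel]; exact one_mem _
  rw [this.eq_zero hr h, A.x_zero] at e
  exact M.inj (e.trans (map_one _).symm)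

theorem X_le_V0 {r : Rt D} (hr : r ∈ F.S) : M.X {r} ≤ V0 M F r := M.X_mono (by rintro _ rfl; exact ⟨hr, le_rfl⟩)

variable (M α) in
/-- a twist of a simply laced group by a graph and a field automorphism -/
structure SL : Prop where
  hl : ∀ r s : Rt D, pr r s = pr s r
  hα : ∀ r, M.τ.T.α r = α
  hc : ∀ j, M.τ.T.c (sim j) = 1
  hφ : ∀ r i, rt (M.τ.ρ r) (M.τ.ν i) = rt r i
  h3 : A.R3
  tor : ∀ c ∈ M.τ.T1, h3.torH c ∈ M.τ.G1

theorem not_cmb (hl : ∀ r s : Rt D, pr r s = pr s r) {r s k : Rt D} (h : 0 ≤ pr r s) : ¬ Cmb r s k := by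
  rintro ⟨i, j, h2, h3, h1⟩
  have := cmb_norm hl h1
  have h2 : (1 : ℤ) ≤ i := by exact_mod_cast h2
  have h3 : (1 : ℤ) ≤ j := by exact_mod_cast h3
  nlinarith [mul_nonneg (mul_nonneg (zero_le_one.trans h2) (zero_le_one.trans h3)) h]

namespace SL
variable (h : SL M α)
include h

theorem ra : M.τ.ρ ∈ RA D := by
  have w : ∀ s i, wt (M.τ.ρ s) (M.τ.ν i) = wt s i := fun s i => by
    have := congrArg (fun w : Perm (Rt D) => rt (w (M.τ.ρ s)) (M.τ.ν i)) (M.τ.dsym.conj i)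
    simp only [Perm.mul_apply, pinv_apply, h.hφ, rt_sR, Pi.sub_apply, Pi.smul_apply, rt_sim, Pi.single_eq_same,
      smul_eq_mul, mul_one] at this
    omega
  have e : ∀ r s : Rt D, pr r s = ∑ i, rt r i * wt s i := fun r s => by
    rw [h.hl, ← prL_rt, ← congrArg (prL s) (Finset.univ_sum_single (rt r)), map_sum]
    refine Finset.sum_congr rfl fun i _ => ?_
    rw [show Pi.single i (rt r i) = rt r i • rt (sim i) by rw [rt_sim, ← Pi.single_smul', smul_eq_mul, mul_one],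
      map_smul, prL_rt, h.hl, pr_sim_left, smul_eq_mul]
  refine ⟨⟨LinearEquiv.funCongrLeft ℤ ℤ M.τ.ν.symm, fun r => funext fun i => ?_⟩, fun r s => ?_⟩
  · obtain ⟨i, rfl⟩ := M.τ.ν.surjective i
    simp [h.hφ, LinearMap.funLeft_apply]
  · rw [e, e, ← Equiv.sum_comp M.τ.ν]; simp only [h.hφ, w]

theorem pr_ρ (r s : Rt D) : pr (M.τ.ρ r) (M.τ.ρ s) = pr r s := pr_map h.ra r s

theorem rt_add {a b r : Rt D} (e : rt r = rt a + rt b) : rt (M.τ.ρ r) = rt (M.τ.ρ a) + rt (M.τ.ρ b) := by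
  rw [← lin_rt h.ra, e, map_add, lin_rt h.ra, lin_rt h.ra]

theorem inv_hF : Inv M (hF D) := ⟨fun r => (M.τ.pos r).2, fun r => by
  simp only [hF, LinearMap.sum_apply, LinearMap.proj_apply]
  rw [← Equiv.sum_comp M.τ.ν]; simp only [h.hφ]⟩

theorem inv_qF {r : Rt D} (e : M.τ.ρ r = r) : Inv M (qF r) := by
  have : ∀ s, prL r (rt (M.τ.ρ s)) = prL r (rt s) := fun s => by rw [prL_rt, prL_rt, ← h.pr_ρ r s, e]
  exact ⟨fun s hs => lt_of_lt_of_eq hs (this s).symm, this⟩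

theorem f_mul (r : Rt D) (t u : K) : M.τ.T.f r (t * u) = α t * M.τ.T.f r u := by
  simp only [Tw.f, h.hα, map_mul]; ring

theorem nil_of {S : Set (Rt D)} {r : Rt D} (h1 : ∀ s ∈ S, Pos s ↔ Pos r) (h2 : ∀ a ∈ S, ∀ b ∈ S, 0 ≤ pr a b) : Nil S := by
  have k := fun a ha b hb k (hk : Cmb a b k) => (absurd hk (not_cmb h.hl (h2 a ha b hb)) : k ∈ S)
  by_cases e : Pos r
  · exact nil_pos.mono (fun s hs => (h1 s hs).2 e) k
  · exact nil_neg.mono (fun s hs => mt (h1 s hs).1 e) k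

theorem comm_X' {S T : Set (Rt D)} (e : ∀ a ∈ S, ∀ b ∈ T, 0 ≤ pr a b) {u v : Γ} (hu : u ∈ A.X S) (hv : v ∈ A.X T) :
    Commute u v :=
  A.commute_X (fun a ha b hb => ⟨ne_ng_of_nonneg (by have := e a ha b hb; omega), fun _ => not_cmb h.hl (e a ha b hb)⟩) hu hv

theorem comm_X {S T : Set (Rt D)} (e : ∀ a ∈ S, ∀ b ∈ T, 0 ≤ pr a b) : ∀ u ∈ M.X S, ∀ v ∈ M.X T, Commute u v :=
  fun u hu v hv => M.inj (by rw [map_mul, map_mul]; exact h.comm_X' e hu hv)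

theorem exists_C {a b r : Rt D} (e : rt r = rt a + rt b) :
    ∃ C : K, C ≠ 0 ∧ α C = C ∧ ∀ t u, ⁅A.x a t, A.x b u⁆ = A.x r (C * t * u) := by
  obtain ⟨C, h4, h5⟩ := cT_one (K := K) h.hl e
  have h1 := pr_of_sum h.hl e
  exact ⟨C, h5, map_intCast α C, Sys.comm_eq (ne_of_le (by omega)) (ne_ng_of_nonneg (by omega)) h4⟩

theorem σ_pow {d : ℕ} (h1 : ∀ i, (M.τ.ν ^ d) i = i) (h2 : ∀ t, α^[d] t = t) {g : Γ} (hg : g ∈ A.G) :
    M.τ.σ^[d] g = g := by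
  have k : ∀ (n : ℕ) i t, M.τ.σ^[n] (A.x (sim i) t) = A.x (sim ((M.τ.ν ^ n) i)) (α^[n] t) ∧
      M.τ.σ^[n] (A.x (ng (sim i)) t) = A.x (ng (sim ((M.τ.ν ^ n) i))) (α^[n] t) := fun n i t => by
    induction n with
    | zero => simp
    | succ n ih =>
      simp only [Function.iterate_succ_apply', ih, σ_x, ρ_sim, ρ_ng_sim, f_sim h.hc, f_ng_sim h.hc, h.hα, pow_succ',
        Perm.mul_apply, ν_apply, and_self]
  let σ : Monoid.End Γ := M.τ.σ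
  have e : ∀ g, (σ ^ d) g = M.τ.σ^[d] g := congrFun (Monoid.End.coe_pow Γ σ d)
  exact (e g).symm.trans (A.G_le_of_sim (M := MonoidHom.eqLocus (σ ^ d) (MonoidHom.id Γ))
    (fun i t => (e _).trans (by rw [(k d i t).1, h1, h2]; rfl))
    (fun i t => (e _).trans (by rw [(k d i t).2, h1, h2]; rfl)) hg)

/-- sums of fixed roots -/
theorem le_S1 {a b r : Rt D} (ha : M.τ.ρ a = a) (hb : M.τ.ρ b = b) (e : rt r = rt a + rt b) {u : K} (h0 : u ≠ 0)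
    (hu : M.τ.T.f b u = u) : M.X {r} ≤ ⁅M.X {a}, M.X {b}⁆ := fun y hy => by
  have hr : M.τ.ρ r = r := rt_injective (by rw [h.rt_add e, ha, hb, e])
  obtain ⟨t, ht, e1⟩ := mem_fix hr hy
  obtain ⟨C, h1, -, h2⟩ := h.exists_C e
  have h3 : C * ((C * u)⁻¹ * t) * u = t := by field_simp
  have h4 := congrArg M.τ.σ (h2 ((C * u)⁻¹ * t) u)
  rw [map_commutatorElement, σ_x, σ_x, σ_x, ha, hb, hr, h3, ht, hu, h2] at h4
  obtain ⟨z, hz, e2⟩ := lift_fix ha (t := (C * u)⁻¹ * t)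
    (mul_left_cancel₀ h1 (mul_right_cancel₀ h0 ((A.x_injective _ h4).trans h3.symm)))
  obtain ⟨w, hw, e3⟩ := lift_fix hb hu
  rw [show y = ⁅z, w⁆ from M.inj (by rw [map_commutatorElement, e1, e2, e3, h2, h3])]
  exact commutator_mem_commutator hz hw

end SL

variable (M π) in
theorem lc_of_le (h : SL M α) (hc : π.ker ≤ center E) (hs : Function.Surjective π) {S T P Q : Set (Rt D)}
    (h1 : M.X T ≤ ⁅M.X P, M.X Q⁆) (h2 : ∀ s ∈ S, (∀ a ∈ P, 0 ≤ pr s a) ∧ ∀ a ∈ Q, 0 ≤ pr s a) : LC M π S T :=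
  LC.of_comm hc hs (M.X (P ∪ Q)) (h.comm_X fun s hs a ha => ha.elim ((h2 s hs).1 a) ((h2 s hs).2 a))
    (h1.trans (commutator_mono (M.X_mono Set.subset_union_left) (M.X_mono Set.subset_union_right)))

/-! ### twists of order two -/

variable (M α) in
/-- a twist of order two -/
structure S2 : Prop extends SL M α where
  ι2 : ∀ i, M.τ.ι (M.τ.ι i) = i
  α2 : ∀ t, α (α t) = t
  nid : ∃ t, α t ≠ t

variable (M) in
/-- the orbit of a root -/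
def O (r : Rt D) : Set (Rt D) := {r, M.τ.ρ r}

theorem O_fix {r : Rt D} (e : M.τ.ρ r = r) : O M r = {r} := by simp [O, e]
theorem O_pos {r : Rt D} : ∀ s ∈ O M r, Pos s ↔ Pos r := by
  rintro _ (rfl | rfl)
  exacts [Iff.rfl, M.τ.pos r]
theorem forall_O {r : Rt D} {P : Rt D → Prop} : (∀ s ∈ O M r, P s) ↔ P r ∧ P (M.τ.ρ r) := by simp [O]

namespace S2
variable (h : S2 M α)
include h

theorem σσ {g : Γ} (hg : g ∈ A.G) : M.τ.σ (M.τ.σ g) = g := h.σ_pow (d := 2) h.ι2 h.α2 hg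

theorem ρρ (r : Rt D) : M.τ.ρ (M.τ.ρ r) = r := by
  have := h.σσ (A.x_mem_G r 1)
  rw [σ_x, σ_x] at this
  exact (A.x_eq_x one_ne_zero this.symm).1.symm

theorem ff (r : Rt D) (t : K) : M.τ.T.f (M.τ.ρ r) (M.τ.T.f r t) = t := by
  have := h.σσ (A.x_mem_G r t)
  rw [σ_x, σ_x, h.ρρ] at this
  exact A.x_injective _ this

theorem pr_ρ' (r s : Rt D) : pr (M.τ.ρ r) s = pr r (M.τ.ρ s) := by rw [← h.pr_ρ r, h.ρρ]

theorem O_ρ (r : Rt D) : O M (M.τ.ρ r) = O M r := by rw [O, O, h.ρρ, Set.pair_comm]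

theorem exists_tr : ∃ s : K, s + α s = 1 := by
  obtain ⟨t, ht⟩ := h.nid
  by_cases e : t + α t = 0
  · have h2 : (2 : K) ≠ 0 := fun h2 => ht (by linear_combination e - t * h2)
    exact ⟨2⁻¹, by rw [map_inv₀, map_ofNat]; field_simp; norm_num⟩
  · exact ⟨t / (t + α t), by rw [map_div₀, map_add, h.α2, add_comm (α t), ← add_div, div_self e]⟩

theorem exists_fix {r : Rt D} (e : M.τ.ρ r = r) : ∃ u, u ≠ 0 ∧ M.τ.T.f r u = u := by
  have k : ∀ w, M.τ.T.f r (w + M.τ.T.f r w) = w + M.τ.T.f r w := fun w => by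
    have := h.ff r w
    rw [e] at this
    rw [Tw.f_add, this, add_comm]
  by_contra hn
  push Not at hn
  have k2 : ∀ w, w + M.τ.T.f r w = 0 := fun w => by_contra fun e => hn _ e (k w)
  obtain ⟨t, ht⟩ := h.nid
  have := k2 (t * 1)
  rw [h.f_mul] at this
  exact ht (by linear_combination -this + α t * k2 1)

theorem O_nonneg {r : Rt D} (e : 0 ≤ pr r (M.τ.ρ r)) : ∀ a ∈ O M r, ∀ b ∈ O M r, 0 ≤ pr a b := by
  simp [forall_O, e, h.hl (M.τ.ρ r) r]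

theorem nm {r : Rt D} (e : 0 ≤ pr r (M.τ.ρ r)) (t : K) : ∃ y ∈ M.X (O M r), M.e y = A.x r t * M.τ.σ (A.x r t) :=
  lift_of O_pos (mul_mem (A.x_mem (by simp [O]) _) (by rw [σ_x]; exact A.x_mem (by simp [O]) _)) (by
    rw [map_mul, h.σσ (A.x_mem_G _ _), σ_x]; exact (A.comm_of_nonneg h.hl e _ _).eq.symm)

theorem mem_O {r : Rt D} (e : 0 ≤ pr r (M.τ.ρ r)) {y : G} (hy : y ∈ M.X (O M r)) :
    ∃ t, M.e y = A.x r t * M.τ.σ (A.x r t) := by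
  classical
  by_cases e1 : M.τ.ρ r = r
  · rw [O_fix e1] at hy
    obtain ⟨t, h1, h2⟩ := mem_fix e1 hy
    obtain ⟨s, hs⟩ := h.exists_tr
    exact ⟨s * t, by rw [h2, σ_x, e1, ← A.add, h.f_mul, h1, ← add_mul, hs, one_mul]⟩
  obtain ⟨t, h1, h2⟩ := (M.τ.mem_X1_P (h.nil_of O_pos (h.O_nonneg e)) (L := [r, M.τ.ρ r]) (by simpa using Ne.symm e1)
    (by simp [O]) (by simp [forall_O, O, h.ρρ]) fun a ha b hb => A.comm_of_nonneg h.hl (h.O_nonneg e a ha b hb)).1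
    (M.mem_X1.1 hy)
  exact ⟨t r, by simpa [σ_x, h1 r] using h2⟩

theorem rp_O (hF : Inv M F) {r : Rt D} (hr : r ∈ F.S) (e : 0 ≤ pr r (M.τ.ρ r)) : Rp M F r (M.X (O M r)) := by
  rcases lt_trichotomy r (M.τ.ρ r) with e1 | e1 | e1
  · refine rp_of hr fun u t _ => ?_
    obtain ⟨y, hy, e⟩ := h.nm e t
    refine ⟨y, hy, ?_⟩
    rw [Co, e, inv_mul_cancel_left, σ_x]
    exact A.x_mem (S := Sg F _) ⟨hF.1 r hr, (hF.kap_lt 1 e1).2⟩ _
  · rw [O_fix e1.symm]; exact hF.rp_fix hr e1.symm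
  · exact fun u hu => ⟨1, one_mem _, by simpa using hF.triv 1 (h.ρρ r) e1 hu⟩

theorem comm_nm {a b : Rt D} (ha : 0 ≤ pr a (M.τ.ρ a)) (hb : 0 ≤ pr b (M.τ.ρ b)) (hab : 0 ≤ pr a (M.τ.ρ b)) (t u : K) :
    ⁅A.x a t * M.τ.σ (A.x a t), A.x b u * M.τ.σ (A.x b u)⁆ = ⁅A.x a t, A.x b u⁆ * M.τ.σ ⁅A.x a t, A.x b u⁆ := by
  rw [map_commutatorElement, σ_x, σ_x]
  exact comm_mul_mul (A.comm_of_nonneg h.hl ha _ _) (A.comm_of_nonneg h.hl hab _ _)
    (A.comm_of_nonneg h.hl (by rwa [h.hl, h.pr_ρ']) _ _) (A.comm_of_nonneg h.hl hb _ _)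

theorem le_S2 {a b r : Rt D} (ha : 0 ≤ pr a (M.τ.ρ a)) (hb : 0 ≤ pr b (M.τ.ρ b)) (hab : 0 ≤ pr a (M.τ.ρ b))
    (hr : 0 ≤ pr r (M.τ.ρ r)) (e : rt r = rt a + rt b) : M.X (O M r) ≤ ⁅M.X (O M a), M.X (O M b)⁆ := fun y hy => by
  obtain ⟨t, e1⟩ := h.mem_O hr hy
  obtain ⟨C, h1, -, h2⟩ := h.exists_C e
  obtain ⟨z, hz, e2⟩ := h.nm ha (C⁻¹ * t)
  obtain ⟨w, hw, e3⟩ := h.nm hb 1
  rw [show y = ⁅z, w⁆ from M.inj (by
    rw [map_commutatorElement, e1, e2, e3, h.comm_nm ha hb hab, h2, mul_inv_cancel_left₀ h1, mul_one])]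
  exact commutator_mem_commutator hz hw

theorem tc (c : Nd D → Kˣ) : TC M fun r => tor c (rt r) * α (tor c (rt (M.τ.ρ r))) := by
  have : c * M.τ.σT c ∈ M.τ.T1 := M.τ.mem_T1.2 fun i => by
    have e := M.τ.σT_apply c (M.τ.ι i)
    rw [ν_apply, h.ι2] at e
    rw [Pi.mul_apply, Pi.mul_apply, e, ← ν_apply, σT_apply]
    simp [h.hα, h.α2, mul_comm, ν_apply]
  convert tc_of h.h3 (h.tor _ this) using 2 with r
  rw [map_mul, AddChar.mul_apply, ← h.hα (M.τ.ρ r), ← tor_σT M.τ h.h3, h.ρρ]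

theorem tc_pow (l : Nd D → ℤ) (v : Kˣ) : TC M fun r => (v : K) ^ (l ⬝ᵥ wt r) * α v ^ (l ⬝ᵥ wt (M.τ.ρ r)) := by
  simpa only [tor_pow, map_zpow₀] using h.tc fun i => v ^ l i

theorem tc_pr (β : Rt D) (v : Kˣ) : TC M fun r => (v : K) ^ pr β r * α v ^ pr β (M.τ.ρ r) := h.tc_pow (cor β) v

theorem triv (hF : Inv M F) {r : Rt D} (e : ¬ r ≤ M.τ.ρ r) : V0 M F r ≤ V1 M F r :=
  hF.triv 1 (h.ρρ r) (not_le.1 e)

end S2

theorem exists_v [Finite K] {q n : ℕ} (hq : ∀ t, α t = t ^ q) (hK : Nat.card K = n + 1) {a b : ℤ}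
    (h : (a + q * b) % n ≠ 0) : ∃ v : Kˣ, (v : K) ^ a * α v ^ b ≠ 1 := by
  obtain ⟨g, hg⟩ := exists_gen hK
  exact ⟨g, fun e => h ((zpow_eq_one_iff_of hg _).1 (by rw [zpow_add₀ g.ne_zero, zpow_mul, zpow_natCast, ← hq, e]))⟩

end CA.TwM
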