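/-
The multiplier of the twisted groups of type ²E₆.
-/
import Cfsg.Agent.Lib.Lie.TwM4
import Cfsg.Agent.Lib.Lie.H23Aut6
import Cfsg.Agent.Lib.Lie.ChevTwE6

set_option autoImplicit false

namespace CA.TwM

open Equiv Cfsg Cfsg.Lie Cfsg.Lie.ChevalleyDatum CA.SchurFilt Subgroup CA.Chev CA.Chev.Sys0 CA.Chev.Sys
open CA.SchurHopf CA.Chev.Twist CA.SchurCov
open scoped commutatorElement

universe u v

section
variable {D : ChevalleyDatum} [Good D] {K : Type u} [Field K]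

/-- the twist of the universal group -/
noncomputable def un {Γ : Type*} [Group Γ] {A : Sys D K Γ} (τ : Twist A) : Twist (stG D K) :=
  { τ with σ := (τ.T.exists_liftG stG_R3).choose, is := (τ.T.exists_liftG stG_R3).choose_spec }

theorem rt_eq_cor (hl : ∀ r s : Rt D, pr r s = pr s r) (r : Rt D) : rt r = cor r := eq_of_dot_wt fun s => by
  change _ = pr r s
  rw [hl, ← prL_rt, ← congrArg (prL s) (Finset.univ_sum_single (rt r)), map_sum]
  refine Finset.sum_congr rfl fun i _ => ?_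
  rw [show Pi.single i (rt r i) = rt r i • rt (sim i) by rw [rt_sim, ← Pi.single_smul', smul_eq_mul, mul_one],
    map_smul, prL_rt, hl, pr_sim_left, smul_eq_mul]

theorem pr_bd (hl : ∀ r s : Rt D, pr r s = pr s r) (r s : Rt D) : -2 ≤ pr r s ∧ pr r s ≤ 2 := by
  rcases pr_cases hl r s with rfl | rfl | h | h | h <;> simp [*]

variable [Finite K] {G : Type*} [Group G] (M : Mod (adjG D K) G) (hM : M.τ = M.τ.ad) (hc : ∀ j, M.τ.T.c (sim j) = 1)
  (h : ∀ i, M.τ.ι i = i ∨ M.τ.Ty2 i ∨ ∃ j k, M.τ.Ty3 i j k)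
include h

omit [Finite K] in
theorem un_types (i : Nd D) : (un M.τ).ι i = i ∨ (un M.τ).Ty2 i ∨ ∃ j k, (un M.τ).Ty3 i j k :=
  (h i).imp_right (Or.imp (fun h => Ty2.of_wt h.ne h.inv h.wt h.ff) fun ⟨j, k, h⟩ => ⟨j, k, h.ij, h.ik, h.jk, h.ι1, h.ι2,
    h.ι3, h.wt, orth_of_wt _ h.ij h.wt.1, orth_of_wt _ h.ik h.wt.2.1, orth_of_wt _ h.jk h.wt.2.2, h.ff⟩)

include hc

omit [Finite K] in
theorem un_node (i : Nd D) : (un M.τ).NodeOK i := by
  rcases un_types M h i with h | h | ⟨j, k, h⟩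
  exacts [nodeOK1 (τ := un M.τ) hc h, Ty2.nodeOK (τ := un M.τ) hc h, Ty3.nodeOK (τ := un M.τ) hc h]

variable (hi : Function.Injective (stG_R3 (D := D) (K := K)).torH) (p : ℕ) [Fact p.Prime] [CharP K p]
include hi

theorem un_nodePC {l : ℕ} (hl : l.Prime) (hlp : l ≠ p) (i : Nd D) : NodePC.{v} (un M.τ) l i := by
  rcases un_types M h i with h | h | ⟨j, k, h⟩
  exacts [nodePC1 (τ := un M.τ) p hl hlp hc _ hi h, nodePC2 (τ := un M.τ) p hl hlp hc _ hi h,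
    nodePC3 (τ := un M.τ) p hl hlp hc _ hi h]

include hM

theorem has_un [Finite (D.SteinbergGroup K)] (hp : commutator G = ⊤) (h2 : PP.{_, u} p G) {Z : Type*} [CommGroup Z]
    (e : ↥(M.τ.T1 ⊓ (tor (D := D)).ker) ≃* Z) : HasSchurMultiplier G Z :=
  has_of p stG_R3 hi (τ := un M.τ) stG_R3 hi stG_G (ok_of_node (un_node M hc h)) (torH_mem_of_node (un_node M hc h) _) M hM hp
    (fun _ hl hlp => un_nodePC M hc h hi p hl hlp) h2 e

include p in
/-- the universal covering and the parts of the multiplier prime to the characteristic -/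
theorem cover_un [Finite (D.SteinbergGroup K)] (hp : commutator G = ⊤) : ∃ σ : (un M.τ).G1 →* G, IsStemExtension σ ∧
    Nonempty (σ.ker ≃* ↥(M.τ.T1 ⊓ (tor (D := D)).ker)) ∧ ∀ l : ℕ, l.Prime → l ≠ p → ∀ (Δ : Type u) [Group Δ] [Finite Δ]
    (τ : Δ →* G), IsStemExtension τ → IsPGroup l τ.ker → Nat.card τ.ker ∣ Nat.card ↥(M.τ.T1 ⊓ (tor (D := D)).ker) := by
  obtain ⟨σ, h1, ⟨e⟩, -⟩ := exists_cover p (τ := un M.τ) stG_R3 hi stG_G (torH_mem_of_node (un_node M hc h) _) M hM hp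
  refine ⟨σ, h1, ⟨e⟩, fun l hl hlp Δ _ _ τ hτ hk => ?_⟩
  exact Nat.card_congr e.toEquiv ▸ card_dvd_of_pc (pc_G1 p (ok_of_node (un_node M hc h)) stG_R3 hi hl hlp
    (un_nodePC M hc h hi p hl hlp)) (perfect_of_stem h1 hp) σ h1.1 hτ hk

end

theorem equiv_zmod {Z : Type*} [Group Z] {n : ℕ} (h : Nat.card Z = n) (h' : n = 1 ∨ n.Prime) :
    Nonempty (Z ≃* Multiplicative (ZMod n)) := by
  have : IsCyclic Z := by
    rcases h' with rfl | h'
    · have := (Nat.card_eq_one_iff_unique.1 h).1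
      infer_instance
    · have := Fact.mk h'
      exact isCyclic_of_prime_card h
  exact ⟨(h ▸ zmodCyclicMulEquiv this).symm⟩

/-- exponents detecting a torus element -/
def Gd (m n : ℤ) : Prop := ¬ (m = 0 ∧ n = 0) ∧ ¬ (m = 2 ∧ n = 2) ∧ ¬ (m = -2 ∧ n = -2)
instance (m n : ℤ) : Decidable (Gd m n) := inferInstanceAs (Decidable (_ ∧ _))

theorem Gd.exists_v {K : Type*} [Field K] [Finite K] {α : K →+* K} {q : ℕ} (hq : ∀ t, α t = t ^ q)
    (hK : Nat.card K = q ^ 2) (h3 : 3 ≤ q) {m n : ℤ} (h : Gd m n) (hm : -2 ≤ m ∧ m ≤ 2) (hn : -2 ≤ n ∧ n ≤ 2) :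
    ∃ v : Kˣ, (v : K) ^ m * α v ^ n ≠ 1 := by
  have h1 : 1 ≤ q ^ 2 := Nat.one_le_pow _ _ (by omega)
  refine TwM.exists_v hq (n := q ^ 2 - 1) (by omega) fun e => ?_
  obtain ⟨c, hc⟩ := Int.dvd_of_emod_eq_zero e
  rw [Nat.cast_sub h1] at hc
  push_cast at hc
  have h3 : (3 : ℤ) ≤ q := by exact_mod_cast h3
  generalize (q : ℤ) = x at hc h3
  obtain ⟨m1, m2⟩ := hm
  obtain ⟨n1, n2⟩ := hn
  simp only [Gd, not_and] at h
  have h4 : 3 * x ≤ x ^ 2 := by nlinarith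
  rcases lt_trichotomy c 0 with e | rfl | e
  · have : m + x * n ≤ -(x ^ 2 - 1) := by nlinarith [mul_nonneg (show 0 ≤ x ^ 2 - 1 by omega) (show 0 ≤ -1 - c by omega)]
    interval_cases n <;> omega
  · interval_cases n <;> omega
  · have : x ^ 2 - 1 ≤ m + x * n := by nlinarith [mul_nonneg (show 0 ≤ x ^ 2 - 1 by omega) (show 0 ≤ c - 1 by omega)]
    interval_cases n <;> omega

namespace E6

theorem hl (r s : Rt chevE6) : pr r s = pr s r := (sl_of_chk tab_E6 sl_E6).1 r s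

theorem c1 : ∀ r : Rt chevE6, 0 ≤ prT tabE6 r (φE6 r) ∧ (∃ β : Rt chevE6, prT tabE6 β r = 1) ∧
    ∀ i : Nd chevE6, tabE6.co (φE6 r) (ιE6 i) = tabE6.co r i := by decide +kernel

theorem c2 : ∀ r : Rt chevE6, Pos r → ∀ s : Rt chevE6, Pos s → s = r ∨ s.val = φE6 r ∨
    ∃ β : Rt chevE6, prT tabE6 β r = 0 ∧ prT tabE6 β (φE6 r) = 0 ∧ Gd (prT tabE6 β s) (prT tabE6 β (φE6 s)) := by
  decide +kernel

theorem c3 : ∀ r : Rt chevE6, Pos r → ∃ a : Rt chevE6, prT tabE6 r a = 1 ∧ 0 ≤ prT tabE6 r (φE6 a) ∧ ∃ b : Rt chevE6,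
    0 ≤ prT tabE6 r (φE6 b) ∧ (∀ i : Nd chevE6, tabE6.co r i = tabE6.co a i + tabE6.co b i) ∧
    (φE6 a = a ∧ φE6 b = b ∨ 0 ≤ prT tabE6 a (φE6 b)) := by decide +kernel

variable {K : Type u} [Field K] [Finite K] {α : K →+* K} {q : ℕ} (hq : ∀ t, α t = t ^ q) (hα : ∀ t, α (α t) = t)
  (h2 : 2 ≤ q) (hK : Nat.card K = q ^ 2)

theorem co_eq (r : Rt chevE6) (i : Nd chevE6) : tabE6.co r i = rt r i := by rw [rt_eq_cor hl, ← tab_E6]; rfl

theorem prT_eq (r s : Rt chevE6) : prT tabE6 r s = pr r s := (pr_eq_tab tab_E6 r s).symm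

include h2 hK in
theorem s2 : S2 (TE6.real hq hα).mod α where
  hl := hl
  hα _ := rfl
  hc := TE6.hc
  hφ r i := by rw [← co_eq, ← co_eq]; exact (c1 r).2.2 i
  h3 := adjG_R3
  tor := torH_mem_of_node (TE6.node hα) _
  ι2 := (by decide +kernel : ∀ i, ιE6 (ιE6 i) = i)
  α2 := hα
  nid := by
    obtain ⟨v, hv⟩ := exists_v hq (n := q ^ 2 - 1) (a := -1) (b := 1) (by have := Nat.one_le_pow 2 q (by omega); omega)
      (by
        rw [Int.emod_eq_of_lt (by omega) (by rw [Nat.cast_sub (Nat.one_le_pow 2 q (by omega))]; push_cast; nlinarith)]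
        omega)
    exact ⟨v, fun e => hv (by simp [e])⟩

include hq hα hK in
theorem pp (h3 : 3 ≤ q) (p : ℕ) [Fact p.Prime] [CharP K p] : PP.{_, v} p (twistedE6 K q) := fun E _ _ π hπ => by
  have h := s2 hq hα (by omega) hK
  set M := (TE6.real hq hα).mod
  have ρ : ∀ r, φE6 r.val = (M.τ.ρ r).val := fun _ => rfl
  have o := fun r => (c1 r).1
  simp only [ρ, prT_eq] at o
  have k : ∀ β s, Gd (pr β s) (pr β (M.τ.ρ s)) → ∃ v : Kˣ, _ := fun β s g => g.exists_v hq hK h3 (pr_bd hl _ _) (pr_bd hl _ _)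
  refine pp_of_filt (f := hF _) p adjG_R3 hπ rfl {r | r ≤ M.τ.ρ r} (fun r _ => h.triv h.inv_hF) (fun _ => ⊥)
    (fun r _ _ => Or.inr ⟨rfl, ?_⟩) fun r hr s hs hr' hs' _ => ?_
  · obtain ⟨β, hβ⟩ := (c1 r).2.1
    rw [prT_eq] at hβ
    obtain ⟨v, hv⟩ := k β r (by simp [Gd, hβ])
    exact ⟨_, h.tc_pr β v, hv⟩
  have self : ∀ L, KL M π (hF _) r r L := LC.kl hπ.1 (h.rp_O h.inv_hF hr' (o r)) (h.rp_O h.inv_hF hr' (o r)) (by
    obtain ⟨a, h1, h2, b, h4, h5, h6⟩ := c3 r hr'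
    simp only [ρ, prT_eq, co_eq, Fin.val_inj] at h1 h2 h4 h5 h6
    have h5 : rt r = rt a + rt b := funext h5
    have h7 : pr r b = 1 := by have := pr_sum h5 r; rw [pr_self] at this; omega
    refine lc_of_le M π h.toSL hπ.2.1 hπ.1 (P := O M a) (Q := O M b) ?_
      (by simp [forall_O, h.pr_ρ, h.pr_ρ', h.ρρ, h1, h2, h4, h7])
    rcases h6 with ⟨ha, hb⟩ | h6
    · obtain ⟨u, hu, hu'⟩ := h.exists_fix hb
      rw [O_fix ha, O_fix hb, O_fix (rt_injective (by rw [h.rt_add h5, ha, hb, h5]))]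
      exact h.le_S1 ha hb h5 hu hu'
    · exact h.le_S2 (o a) (o b) h6 (o r) h5)
  rcases c2 r hr' s hs' with rfl | e | ⟨β, h1, h2, h4⟩
  · exact self _
  · obtain rfl : s = M.τ.ρ r := Fin.ext e
    rw [← show r = M.τ.ρ r from le_antisymm hr (by simpa [h.ρρ] using hs)]; exact self _
  · simp only [ρ, prT_eq] at h1 h2 h4
    obtain ⟨v, hv⟩ := k β s h4
    exact K1.kl hr' hs' ⟨_, h.tc_pr β v, by simp [h1, h2], hv⟩ _

include hα in
omit [Finite K] in
theorem types (i : Nd chevE6) : (tE6 α).ι i = i ∨ (tE6 α).Ty2 i ∨ ∃ j k, (tE6 α).Ty3 i j k := by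
  by_cases h : ιE6 i = i
  exacts [Or.inl h, Or.inr (Or.inl (TE6.ty2 hα h))]

include hq hα h2 hK in
/-- the covering by the universal group and the parts of the multiplier prime to the characteristic, all `q` -/
theorem cover (p : ℕ) [Fact p.Prime] [CharP K p] : ∃ (Γ : Type u) (_ : Group Γ) (_ : Finite Γ)
    (σ : Γ →* twistedE6 K q), IsStemExtension σ ∧ Nonempty (σ.ker ≃* Multiplicative (ZMod (Nat.gcd 3 (q + 1)))) ∧
    ∀ l : ℕ, l.Prime → l ≠ p → ∀ (Δ : Type u) [Group Δ] [Finite Δ] (τ : Δ →* twistedE6 K q), IsStemExtension τ →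
    IsPGroup l τ.ker → Nat.card τ.ker ∣ Nat.gcd 3 (q + 1) := by
  have := finite_stG (D := chevE6) (K := K) (by simp)
  obtain ⟨σ, h1, ⟨e⟩, h3⟩ := cover_un (TE6.real hq hα).mod rfl TE6.hc (types hα) (torH_injective (by simp)) p
    ((TE6.real hq hα).perfect_of (TE6.le_commutator hα h2 hK))
  obtain ⟨e'⟩ := equiv_zmod (TE6.card_Z hq hK) (((Nat.dvd_prime Nat.prime_three).1 (Nat.gcd_dvd_left _ _)).imp_right
    fun h => by rw [h]; exact Nat.prime_three)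
  exact ⟨_, _, inferInstance, σ, h1, ⟨e.trans e'⟩, TE6.card_Z hq hK ▸ h3⟩

include hq hα hK in
theorem has (h3 : 3 ≤ q) : HasCyclicSchurMultiplier (twistedE6 K q) (Nat.gcd 3 (q + 1)) := by
  obtain ⟨p, hp⟩ := CharP.exists K
  have := Fact.mk (CharP.char_is_prime K p)
  have := finite_stG (D := chevE6) (K := K) (by simp)
  obtain ⟨e'⟩ := equiv_zmod (TE6.card_Z hq hK) (((Nat.dvd_prime Nat.prime_three).1 (Nat.gcd_dvd_left _ _)).imp_right
    fun h => by rw [h]; exact Nat.prime_three)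
  exact has_un (TE6.real hq hα).mod rfl TE6.hc (types hα) (torH_injective (by simp)) p
    ((TE6.real hq hα).perfect_of (TE6.le_commutator hα (by omega) hK)) (pp hq hα hK h3 p) e'

end E6

end CA.TwM
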