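/-
Central extensions of the special group attached to a fixed root of a twisted group.
-/
import Cfsg.Agent.Lib.Lie.TwM4

set_option autoImplicit false

namespace CA.TwM

open Equiv Cfsg Cfsg.Lie Cfsg.Lie.ChevalleyDatum CA.SchurFilt Subgroup CA.Chev CA.Chev.Sys0 CA.Chev.Sys
open CA.SchurHopf CA.Chev.Twist CA.SchurCov
open scoped commutatorElement IsMulCommutative

variable {D : ChevalleyDatum} [Good D] {K : Type*} [Field K] {Γ : Type*} [Group Γ] {A : Sys D K Γ}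
  {G : Type*} [Group G] {M : Mod A G} {E : Type*} [Group E] {π : E →* G} {α : K →+* K} {F : Fl D}

theorem comm_mem_X {S T T' : Set (Rt D)} (h1 : ∀ a ∈ S ∪ T, ∀ k ∈ T', k ≠ ng a ∧ ∀ k', Cmb a k k' → k' ∈ T')
    (h2 : ∀ a ∈ S, ∀ b ∈ T, b ≠ ng a ∧ ∀ k, Cmb a b k → k ∈ T') {u v : Γ} (hu : u ∈ A.X S) (hv : v ∈ A.X T) :
    ⁅u, v⁆ ∈ A.X T' := by
  have cj : ∀ a ∈ S ∪ T, ∀ t, ∀ y ∈ A.X T', A.x a t * y * (A.x a t)⁻¹ ∈ A.X T' := fun a ha t y hy =>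
    A.x_conj_mem (h1 a ha) t hy
  refine A.X_induction (P := fun u => ⁅u, v⁆ ∈ A.X T') (by simp) (fun a ha t g _ hg => ?_) hu
  have : ⁅A.x a t, v⁆ ∈ A.X T' := by
    refine A.X_induction (P := fun v => ⁅A.x a t, v⁆ ∈ A.X T') (by simp) (fun b hb s w _ hw => ?_) hv
    have : ⁅A.x a t, A.x b s⁆ ∈ A.X T' := by
      by_cases e : b = a
      · rw [e, commutatorElement_eq_one_iff_mul_comm.2 (A.x_comm _ _ _)]; exact one_mem _
      · have := A.cw_mem (h2 a ha b hb).2 (-t) (-s)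
        rw [cw_eq e (h2 a ha b hb).1, neg_neg, neg_neg] at this
        simpa using inv_mem this
    convert mul_mem this (cj b (Or.inr hb) s _ hw) using 1
    simp only [commutatorElement_def]; group
  convert mul_mem (cj a (Or.inl ha) t _ hg) this using 1
  simp only [commutatorElement_def]; group

theorem Cmb.pr {a b k : Rt D} (h : Cmb a b k) (r : Rt D) : ∃ i j : ℤ, 1 ≤ i ∧ 1 ≤ j ∧ pr r k = i * pr r a + j * pr r b := by
  simpa only [prL_rt] using h.lin (prL r)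

theorem Ch1.add {g : G} {χ : Rt D → K} (h : Ch1 M g χ) {a b k : Rt D} (e : rt k = rt a + rt b) : χ k = χ a * χ b := by
  obtain ⟨ψ, -, h1⟩ := A.exists_ch h.1
  have : ∀ r, χ r = ψ (rt r) := fun r => by simpa using A.x_injective r ((h.2 r 1).symm.trans (h1 r 1))
  rw [this, this, this, e, AddChar.map_add_eq_mul]

theorem Ch1.ng {g : G} {χ : Rt D → K} (h : Ch1 M g χ) (a : Rt D) : χ (ng a) = (χ a)⁻¹ := by
  obtain ⟨ψ, -, h1⟩ := A.exists_ch h.1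
  have : ∀ r, χ r = ψ (rt r) := fun r => by simpa using A.x_injective r ((h.2 r 1).symm.trans (h1 r 1))
  rw [this, this, rt_ng, AddChar.map_neg_eq_inv]

theorem Rp.mono {r : Rt D} {P Q : Subgroup G} (h : Rp M F r P) (e : P ≤ Q) : Rp M F r Q :=
  fun u hu => (h u hu).imp fun _ h => ⟨e h.1, h.2⟩

/-- restriction of a filtration -/
def Fl.sub (F : Fl D) (T : Set (Rt D)) (h1 : T ⊆ F.S) (h2 : ∀ r ∈ T, ∀ s ∈ T, ∀ k, Cmb r s k → k ∈ T) : Fl D :=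
  ⟨T, F.f, F.nil.mono h1 h2, fun r hr => F.pos r (h1 hr)⟩

theorem exists_bi [Finite K] (h : 4 < Nat.card K) : ∃ v : K, v ≠ 0 ∧ 1 - v ≠ 0 ∧ v ^ 2 - v + 1 ≠ 0 := by
  haveI := Fintype.ofFinite K
  obtain ⟨v, hv⟩ := exists_not_root (F := K) (.X * (1 - .X) * (.X ^ 2 - .X + 1))
    (fun e => by
      have := congrArg (Polynomial.coeff · 1) e
      simp [mul_assoc, Polynomial.coeff_X_mul, Polynomial.mul_coeff_zero] at this)
    (lt_of_le_of_lt (by compute_degree) (Nat.card_eq_fintype_card (α := K) ▸ h))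
  simp only [Polynomial.eval_mul, Polynomial.eval_X, Polynomial.eval_sub, Polynomial.eval_one, Polynomial.eval_add,
    Polynomial.eval_pow, mul_ne_zero_iff] at hv
  exact ⟨v, hv.1.1, hv.1.2, hv.2⟩

theorem comm_mul_l {a b c : E} (h : Commute a ⁅b, c⁆) (h' : Commute ⁅b, c⁆ ⁅a, c⁆) : ⁅a * b, c⁆ = ⁅a, c⁆ * ⁅b, c⁆ := by
  rw [← h'.eq, ← mul_inv_cancel_right ⁅b, c⁆ a, ← h.eq]; simp only [commutatorElement_def]; group

theorem comm_mul_r {a b c : E} (h : Commute b ⁅a, c⁆) : ⁅a, b * c⁆ = ⁅a, b⁆ * ⁅a, c⁆ := by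
  rw [← mul_inv_cancel_right ⁅a, c⁆ b, ← h.eq]; simp only [commutatorElement_def]; group

variable (hc : π.ker ≤ center E) (hs : Function.Surjective π)

include hc hs in
theorem lc_bi {S : Set (Rt D)} (y : K → G) (h1 : ∀ a b, y (a + b) = y a * y b) (h2 : ∀ u ∈ M.X S, ∃ a, y a = u)
    {v : K} (hv : v ≠ 0 ∧ 1 - v ≠ 0 ∧ v ^ 2 - v + 1 ≠ 0) (h3 : ∃ g, ∀ a, y (v * a) = g * y a * g⁻¹)
    (h4 : ∃ g, ∀ a, y ((1 - v) * a) = g * y a * g⁻¹) : LC M π S S := by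
  choose s hs' using hs
  have k : ∀ a b, ⁅s (y a), s (y b)⁆ ∈ center E := fun a b => hc (by
    rw [MonoidHom.mem_ker, map_commutatorElement, hs', hs', commutatorElement_eq_one_iff_mul_comm, ← h1, ← h1, add_comm])
  have c : ∀ a b g, Commute g ⁅s (y a), s (y b)⁆ := fun a b g => mem_center_iff.1 (k a b) g
  have i : ∀ w, (∃ g, ∀ a, y (w * a) = g * y a * g⁻¹) → ∀ a b, (⟨_, k (w * a) (w * b)⟩ : center E) = ⟨_, k a b⟩ :=
    fun w ⟨g, hg⟩ a b => Subtype.ext (by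
      change ⁅_, _⁆ = ⁅_, _⁆
      rw [comm_congr hc (a' := s g * s (y a) * (s g)⁻¹) (b' := s g * s (y b) * (s g)⁻¹) (by simp [hs', hg])
        (by simp [hs', hg]), ← conjugate_commutatorElement, (c a b _).eq, mul_inv_cancel_right])
  have := biadd_eq_one (fun a b => (⟨_, k a b⟩ : center E))
    (fun a b c' => Subtype.ext (by
      change ⁅_, _⁆ = ⁅_, _⁆ * ⁅_, _⁆
      rw [← comm_mul_l (c _ _ _) (c _ _ _)]; exact comm_congr hc (by simp [hs', h1]) rfl))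
    (fun a b c' => Subtype.ext (by
      change ⁅_, _⁆ = ⁅_, _⁆ * ⁅_, _⁆
      rw [← comm_mul_r (c _ _ _)]; exact comm_congr hc rfl (by simp [hs', h1]))) hv.1 hv.2.1 hv.2.2 (i _ h3) (i _ h4)
  intro x w hx hw
  obtain ⟨a, ha⟩ := h2 _ hx
  obtain ⟨b, hb⟩ := h2 _ hw
  rw [← commutatorElement_eq_one_iff_commute, comm_congr hc (a' := s (y a)) (b' := s (y b)) (by rw [hs', ha])
    (by rw [hs', hb])]
  exact congrArg Subtype.val (this a b)

variable (M π) in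
/-- elements whose lifts centralise the lifts of `X S` -/
def CZ (S : Set (Rt D)) : Subgroup G := ⨅ (x : E) (_ : π x ∈ M.X S), SchurFilt.cz π x

include hc in
theorem mem_CZ {S : Set (Rt D)} {g : E} : π g ∈ CZ M π S ↔ ∀ x, π x ∈ M.X S → Commute x g := by
  simp only [CZ, mem_iInf, mem_cz hc]

include hc hs in
theorem lc_iff {S T : Set (Rt D)} : LC M π S T ↔ M.X T ≤ CZ M π S :=
  ⟨fun h => le_iInf₂ fun _ hx => h.cz hc hs hx, fun h x _ hx hy => (mem_CZ hc).1 (h hy) x hx⟩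

/-- the roots at an acute angle -/
def Qs (r : Rt D) : Set (Rt D) := (qF r).S
/-- the orthogonal roots -/
def Pe (r : Rt D) : Set (Rt D) := {s | pr r s = 0}

theorem mem_Qs {r s : Rt D} : s ∈ Qs r ↔ 0 < pr r s := mem_qF
theorem self_Qs (r : Rt D) : r ∈ Qs r := by simp [mem_Qs]
theorem X_le_Qs (r : Rt D) : M.X {r} ≤ M.X (Qs r) := M.X_mono (Set.singleton_subset_iff.2 (self_Qs r))

theorem Pe_conj {r : Rt D} {g u : G} (hg : g ∈ M.X (Pe r)) (hu : u ∈ M.X (Qs r)) : g * u * g⁻¹ ∈ M.X (Qs r) := by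
  have := A.conj_mem (S := Pe r) (T := Qs r) (fun a ha s hs => by
    have ha : pr r a = 0 := ha
    rw [mem_Qs] at hs
    refine ⟨by rintro rfl; simp [ha] at hs, fun k hk => ?_⟩
    obtain ⟨i, j, -, h2, h3⟩ := Cmb.pr hk r
    rw [mem_Qs, h3, ha]; nlinarith) hg _ hu
  rwa [← map_inv, ← map_mul, ← map_mul] at this

theorem comm_Qs (hl : ∀ r s : Rt D, pr r s = pr s r) {r : Rt D} {u v : G} (hu : u ∈ M.X (Qs r)) (hv : v ∈ M.X (Qs r)) :
    ⁅u, v⁆ ∈ M.X {r} := by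
  have k : ∀ a ∈ Qs r, ∀ b ∈ Qs r, b ≠ ng a ∧ ∀ k, Cmb a b k → k ∈ ({r} : Set _) := fun a ha b hb =>
    ⟨(qF r).nil.ne_ng ha hb, fun k hk => by
      obtain ⟨i, j, h1, h2, h3⟩ := Cmb.pr hk r
      rw [mem_Qs] at ha hb
      have : 2 ≤ pr r k := by nlinarith
      rcases pr_cases hl r k with e | rfl | e | e | e
      exacts [e, by simp at this, by omega, by omega, by omega]⟩
  rw [Mod.mem_X, map_commutatorElement]
  exact comm_mem_X (fun a ha b hb => k a (ha.elim id id) b (hb ▸ self_Qs r)) k hu hv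

variable (M π) in
/-- the data of a complement over a fixed root -/
structure Hz (r : Rt D) (Y : Subgroup E) : Prop where
  hl : ∀ r s : Rt D, pr r s = pr s r
  hc : π.ker ≤ center E
  hs : Function.Surjective π
  lc : LC M π {r} (Qs r)
  le : ∀ y ∈ Y, π y ∈ M.X {r}

variable (π) in
/-- the commutators of lifts lie in `Y` -/
def Rel (Y : Subgroup E) (u v : G) : Prop := ∀ x y, π x = u → π y = v → ⁅x, y⁆ ∈ Y

theorem Rel.symm {Y : Subgroup E} {u v : G} (h : Rel π Y u v) : Rel π Y v u := fun x y hx hy => by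
  simpa using inv_mem (h y x hy hx)

theorem LC.rel {Y : Subgroup E} {S T : Set (Rt D)} (h : LC M π S T) {u v : G} (hu : u ∈ M.X S) (hv : v ∈ M.X T) :
    Rel π Y u v := fun x y hx hy => (h x y (hx ▸ hu) (hy ▸ hv)).commutator_eq ▸ one_mem _

namespace Hz
variable {r : Rt D} {Y : Subgroup E} (h : Hz M π r Y)
include h

theorem cm {x y : E} (hx : π x ∈ M.X (Qs r)) (hy : π y ∈ M.X (Qs r)) : π ⁅x, y⁆ ∈ M.X {r} :=
  map_commutatorElement π x y ▸ comm_Qs h.hl hx hy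

theorem cen {x y z : E} (hx : π x ∈ M.X (Qs r)) (hy : π y ∈ M.X (Qs r)) (hz : π z ∈ M.X (Qs r)) :
    Commute z ⁅x, y⁆ := (h.lc _ _ (h.cm hx hy) hz).symm

theorem mul_l {x y z : E} (hx : π x ∈ M.X (Qs r)) (hy : π y ∈ M.X (Qs r)) (hz : π z ∈ M.X (Qs r)) :
    ⁅x * y, z⁆ = ⁅x, z⁆ * ⁅y, z⁆ := comm_mul_l (h.cen hy hz hx) (h.cen hx hz (X_le_Qs r (h.cm hy hz)))

theorem mul_r {x y z : E} (hx : π x ∈ M.X (Qs r)) (hy : π y ∈ M.X (Qs r)) (hz : π z ∈ M.X (Qs r)) :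
    ⁅x, y * z⁆ = ⁅x, y⁆ * ⁅x, z⁆ := comm_mul_r (h.cen hx hz hy)

theorem inv_l {x z : E} (hx : π x ∈ M.X (Qs r)) (hz : π z ∈ M.X (Qs r)) : ⁅x⁻¹, z⁆ = ⁅x, z⁆⁻¹ := by
  have := h.mul_l (map_inv π x ▸ inv_mem hx) hx hz
  rw [inv_mul_cancel, commutatorElement_one_left] at this
  exact eq_inv_of_mul_eq_one_left this.symm

theorem conj {g x y : E} (hg : π g ∈ CZ M π {r}) (hx : π x ∈ M.X (Qs r)) (hy : π y ∈ M.X (Qs r)) :
    ⁅g * x * g⁻¹, g * y * g⁻¹⁆ = ⁅x, y⁆ := by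
  rw [← conjugate_commutatorElement, ← ((mem_CZ h.hc).1 hg _ (h.cm hx hy)).eq, mul_inv_cancel_right]

/-- the elements related to `v` -/
def Rr (v : G) (hv : v ∈ M.X (Qs r)) : Subgroup G where
  carrier := {u | u ∈ M.X (Qs r) ∧ Rel π Y u v}
  one_mem' := ⟨one_mem _, fun x y hx _ => by rw [comm_congr h.hc (a' := 1) (by simpa using hx) rfl]; simp⟩
  mul_mem' := fun {a b} ha hb => ⟨mul_mem ha.1 hb.1, fun x y hx hy => by
    obtain ⟨a, rfl⟩ := h.hs a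
    obtain ⟨b, rfl⟩ := h.hs b
    rw [comm_congr h.hc (a' := a * b) (by simpa using hx) rfl, h.mul_l ha.1 hb.1 (hy ▸ hv)]
    exact mul_mem (ha.2 a y rfl hy) (hb.2 b y rfl hy)⟩
  inv_mem' := fun {a} ha => ⟨inv_mem ha.1, fun x y hx hy => by
    obtain ⟨a, rfl⟩ := h.hs a
    rw [comm_congr h.hc (a' := a⁻¹) (by simpa using hx) rfl, h.inv_l ha.1 (hy ▸ hv)]
    exact inv_mem (ha.2 a y rfl hy)⟩

/-- the elements related to everything -/
def Zq : Subgroup G := M.X (Qs r) ⊓ ⨅ (v) (hv : v ∈ M.X (Qs r)), h.Rr v hv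

theorem mem_Zq {u : G} : u ∈ h.Zq ↔ u ∈ M.X (Qs r) ∧ ∀ v ∈ M.X (Qs r), Rel π Y u v := by
  simp only [Zq, mem_inf, mem_iInf]
  exact and_congr_right fun hu => ⟨fun k v hv => (k v hv).2, fun k v hv => ⟨hu, k v hv⟩⟩

theorem Zq_le (v : G) (hv : v ∈ M.X (Qs r)) : h.Zq ≤ h.Rr v hv := inf_le_right.trans (iInf₂_le v hv)

theorem mem_Zq_of {u : G} (hu : u ∈ M.X (Qs r)) {P : Rt D → Subgroup G} (h1 : ∀ s ∈ Qs r, Rp M (qF r) s (P s))
    (h2 : ∀ s ∈ Qs r, P s ≤ M.X (Qs r)) (h3 : ∀ s ∈ Qs r, ∀ v ∈ P s, Rel π Y v u) : u ∈ h.Zq :=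
  h.mem_Zq.2 ⟨hu, fun _ hv => (le_of_rp (f := qF r) (P := h.Rr u hu)
    (fun s hs => (h1 s hs).mono fun v hv => ⟨h2 s hs hv, h3 s hs v hv⟩) hv).2.symm⟩

theorem rel_conj {g u v : G} (hg : g ∈ CZ M π {r}) (hu : u ∈ M.X (Qs r)) (hv : v ∈ M.X (Qs r)) (e : Rel π Y u v) :
    Rel π Y (g * u * g⁻¹) (g * v * g⁻¹) := fun x y hx hy => by
  obtain ⟨g, rfl⟩ := h.hs g
  obtain ⟨u, rfl⟩ := h.hs u
  obtain ⟨v, rfl⟩ := h.hs v
  rw [comm_congr h.hc (a' := g * u * g⁻¹) (b' := g * v * g⁻¹) (by simpa using hx) (by simpa using hy), h.conj hg hu hv]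
  exact e u v rfl rfl

theorem Zq_conj {g u : G} (hg : g ∈ CZ M π {r}) (hg' : g ∈ M.X (Pe r)) (hu : u ∈ h.Zq) : g * u * g⁻¹ ∈ h.Zq := by
  obtain ⟨h1, h2⟩ := h.mem_Zq.1 hu
  refine h.mem_Zq.2 ⟨Pe_conj hg' h1, fun v hv => ?_⟩
  have h3 := Pe_conj (inv_mem hg') hv
  simpa [mul_assoc] using h.rel_conj hg h1 h3 (h2 _ h3)

theorem X_le_Zq : M.X {r} ≤ h.Zq := fun _ hu => h.mem_Zq.2 ⟨X_le_Qs r hu, fun _ hv => h.lc.rel hu hv⟩

theorem given (h1 : M.X (Qs r) ≤ h.Zq) (h2 : ∀ y ∈ Y, π y = 1 → y = 1) (h3 : M.X {r} ≤ ⁅M.X (Qs r), M.X (Qs r)⁆) :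
    Given π M.H (M.X {r}) ⊥ ⁅(M.X (Qs r)).comap π, (M.X (Qs r)).comap π⁆ := by
  have e : ⁅(M.X (Qs r)).comap π, (M.X (Qs r)).comap π⁆ ≤ Y := commutator_le.2 fun x hx y hy =>
    (h.mem_Zq.1 (h1 hx)).2 _ hy x y rfl rfl
  refine ⟨fun y hy => h.le y (e hy), fun y hy => h2 y (e hy), fun v hv => ?_, fun g hg y hy => ?_⟩
  · have := h3 hv
    rw [← map_comap_eq_self_of_surjective h.hs (M.X (Qs r)), ← map_commutator] at this
    obtain ⟨y, hy, rfl⟩ := this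
    exact ⟨y, hy, by simp⟩
  · refine (commutator_le.2 fun a ha b hb => ?_ : _ ≤ comap (MulAut.conj g).toMonoidHom
      ⁅(M.X (Qs r)).comap π, (M.X (Qs r)).comap π⁆) hy
    rw [mem_comap, map_commutatorElement]
    exact commutator_mem_commutator (by simpa using H_conj hg ha) (by simpa using H_conj hg hb)

/-- the commutators with a fixed element -/
def Dg (P : Subgroup G) (hP : P ≤ M.X (Qs r)) (y : E) (hy : π y ∈ M.X (Qs r)) : Subgroup E where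
  carrier := {z | ∃ x, π x ∈ P ∧ z = ⁅x, y⁆}
  one_mem' := ⟨1, by simp, by simp⟩
  mul_mem' := by
    rintro _ _ ⟨a, ha, rfl⟩ ⟨b, hb, rfl⟩
    exact ⟨a * b, map_mul π a b ▸ mul_mem ha hb, (h.mul_l (hP ha) (hP hb) hy).symm⟩
  inv_mem' := by
    rintro _ ⟨a, ha, rfl⟩
    exact ⟨a⁻¹, map_inv π a ▸ inv_mem ha, (h.inv_l (hP ha) hy).symm⟩

theorem of_Dg (P : Subgroup G) (hP : P ≤ M.X (Qs r)) (y : E) (hy : π y ∈ M.X (Qs r)) : Hz M π r (h.Dg P hP y hy) :=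
  ⟨h.hl, h.hc, h.hs, h.lc, by rintro _ ⟨a, ha, rfl⟩; exact h.cm (hP ha) hy⟩

end Hz

theorem kl_Qs (hs : Function.Surjective π) {a b r : Rt D} {S T : Set (Rt D)} (hP : Rp M F a (M.X S)) (hQ : Rp M F b (M.X T))
    (h1 : S ⊆ Qs r) (h2 : T ⊆ Qs r) {L : Subgroup E} (hL : ⁅(M.X (Qs r)).comap π, (M.X (Qs r)).comap π⁆ ≤ L) :
    KL M π F a b L :=
  kl_link hs hP hQ fun _ _ hx hy => hL (commutator_mem_commutator (M.X_mono h1 hx) (M.X_mono h2 hy))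

end CA.TwM
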