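/-
Twists of order three.
-/
import Cfsg.Agent.Lib.Lie.TwM5
import Cfsg.Agent.Lib.Lie.TwM6

set_option autoImplicit false

namespace CA.TwM

open Equiv Cfsg Cfsg.Lie Cfsg.Lie.ChevalleyDatum CA.SchurFilt Subgroup CA.Chev CA.Chev.Sys0 CA.Chev.Sys
open CA.SchurHopf CA.Chev.Twist CA.SchurCov
open scoped commutatorElement IsMulCommutative

variable {D : ChevalleyDatum} [Good D] {K : Type*} [Field K] {Γ : Type*} [Group Γ] {A : Sys D K Γ}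
  {G : Type*} [Group G] {M : Mod A G} {E : Type*} [Group E] {π : E →* G} {α : K →+* K} {F : Fl D}

variable (M α) in
/-- a twist of order three -/
structure S3 : Prop extends SL M α where
  ι3 : ∀ i, M.τ.ι (M.τ.ι (M.τ.ι i)) = i
  α3 : ∀ t, α (α (α t)) = t
  orth : ∀ r, M.τ.ρ r = r ∨ pr r (M.τ.ρ r) = 0
  fix1 : ∀ r, M.τ.ρ r = r → M.τ.T.f r 1 = 1

variable (M) in
/-- the orbit of a root -/
def O3 (r : Rt D) : Set (Rt D) := {r, M.τ.ρ r, M.τ.ρ (M.τ.ρ r)}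
variable (M) in
/-- the norm -/
def N3 (g : Γ) : Γ := g * M.τ.σ g * M.τ.σ (M.τ.σ g)

theorem O3_fix {r : Rt D} (e : M.τ.ρ r = r) : O3 M r = {r} := by simp [O3, e]
theorem forall_O3 {r : Rt D} {P : Rt D → Prop} :
    (∀ s ∈ O3 M r, P s) ↔ P r ∧ P (M.τ.ρ r) ∧ P (M.τ.ρ (M.τ.ρ r)) := by simp [O3]
theorem O3_pos {r : Rt D} : ∀ s ∈ O3 M r, Pos s ↔ Pos r :=
  forall_O3.2 ⟨Iff.rfl, M.τ.pos r, (M.τ.pos _).trans (M.τ.pos r)⟩

theorem N3_conj (g : G) (w : Γ) : N3 M (M.e g * w * (M.e g)⁻¹) = M.e g * N3 M w * (M.e g)⁻¹ := by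
  simp only [N3, map_mul, map_inv, M.τ.mem_F.1 (M.memF g)]; group

theorem pr_fix (h : SL M α) {r : Rt D} (e : M.τ.ρ r = r) (s : Rt D) : pr r (M.τ.ρ s) = pr r s := by
  rw [← h.pr_ρ r s, e]

namespace S3
variable (h : S3 M α)
include h

theorem σ3 {g : Γ} (hg : g ∈ A.G) : M.τ.σ (M.τ.σ (M.τ.σ g)) = g := h.σ_pow (d := 3) h.ι3 h.α3 hg

theorem ρ3 (r : Rt D) : M.τ.ρ (M.τ.ρ (M.τ.ρ r)) = r := by
  have := h.σ3 (A.x_mem_G r 1)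
  rw [σ_x, σ_x, σ_x] at this
  exact (A.x_eq_x one_ne_zero this.symm).1.symm

theorem o1 (r : Rt D) : 0 ≤ pr r (M.τ.ρ r) := by rcases h.orth r with e | e <;> simp [e]
theorem pr_ρρ (r s : Rt D) : pr r (M.τ.ρ (M.τ.ρ s)) = pr (M.τ.ρ r) s := by rw [← h.pr_ρ, h.ρ3]
theorem o2 (r : Rt D) : 0 ≤ pr r (M.τ.ρ (M.τ.ρ r)) := by rw [h.pr_ρρ, h.hl]; exact h.o1 r

theorem O_nonneg (r : Rt D) : ∀ a ∈ O3 M r, ∀ b ∈ O3 M r, 0 ≤ pr a b := by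
  have h1 := h.o1 r
  have h2 := h.o2 r
  simp [forall_O3, h.pr_ρ, h.hl (M.τ.ρ r) r, h.hl (M.τ.ρ (M.τ.ρ r)) r, h1, h2]

theorem O_ρ {r : Rt D} : ∀ s ∈ O3 M r, M.τ.ρ s ∈ O3 M r := by simp [forall_O3, O3, h.ρ3]

theorem O_eq {r s : Rt D} (e : s ∈ O3 M r) : O3 M s = O3 M r := by
  have : ∀ r, O3 M (M.τ.ρ r) = O3 M r := fun r => by ext; simp [O3, h.ρ3]; tauto
  rcases e with rfl | rfl | rfl
  exacts [rfl, this _, (this _).trans (this _)]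

theorem N3_eq (r : Rt D) (t : K) : N3 M (A.x r t) = A.x r t * A.x (M.τ.ρ r) (M.τ.T.f r t) *
    A.x (M.τ.ρ (M.τ.ρ r)) (M.τ.T.f (M.τ.ρ r) (M.τ.T.f r t)) := by rw [N3, σ_x, σ_x]

theorem nm (r : Rt D) (t : K) : ∃ y ∈ M.X (O3 M r), M.e y = N3 M (A.x r t) :=
  lift_of O3_pos (h.N3_eq r t ▸ mul_mem (mul_mem (A.x_mem (by simp [O3]) _) (A.x_mem (by simp [O3]) _))
    (A.x_mem (by simp [O3]) _)) (by
    rw [N3, map_mul, map_mul, h.σ3 (A.x_mem_G _ _), σ_x, σ_x]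
    exact ((A.comm_of_nonneg h.hl (h.o1 r) _ _).mul_right (A.comm_of_nonneg h.hl (h.o2 r) _ _)).eq.symm.trans
      (mul_assoc _ _ _).symm)

/-- elements of a root subgroup -/
noncomputable def y (r : Rt D) (t : K) : G := (h.nm r t).choose
theorem y_mem (r : Rt D) (t : K) : h.y r t ∈ M.X (O3 M r) := (h.nm r t).choose_spec.1
theorem e_y (r : Rt D) (t : K) : M.e (h.y r t) = N3 M (A.x r t) := (h.nm r t).choose_spec.2

theorem y_add (r : Rt D) (a b : K) : h.y r (a + b) = h.y r a * h.y r b := M.inj (by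
  have k := fun a ha b hb => A.comm_of_nonneg h.hl (h.O_nonneg r a ha b hb)
  simp only [forall_O3] at k
  rw [map_mul, e_y, e_y, e_y, h.N3_eq, h.N3_eq, h.N3_eq]
  simp only [Tw.f_add, A.add]
  exact (mul3_mul3 (k.2.1.1 _ _) (k.2.2.1 _ _) (k.2.2.2.1 _ _)).symm)

theorem y_conj (r : Rt D) {g : G} {χ : Rt D → K} (hg : Ch1 M g χ) (a : K) : h.y r (χ r * a) = g * h.y r a * g⁻¹ :=
  M.inj (by rw [map_mul, map_mul, map_inv, e_y, e_y, ← N3_conj, hg.2])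

theorem ne2 {r : Rt D} (e : M.τ.ρ r ≠ r) : M.τ.ρ (M.τ.ρ r) ≠ r := fun e' => e (by have := h.ρ3 r; rwa [e'] at this)

theorem mem_O {r : Rt D} (e : M.τ.ρ r ≠ r) {u : G} (hy : u ∈ M.X (O3 M r)) : ∃ t, h.y r t = u := by
  classical
  obtain ⟨t, h1, h2⟩ := (M.τ.mem_X1_P (h.nil_of O3_pos (h.O_nonneg r)) (L := [r, M.τ.ρ r, M.τ.ρ (M.τ.ρ r)])
    (by simp [e.symm, (h.ne2 e).symm]) (by simp [O3]) h.O_ρ
    fun a ha b hb => A.comm_of_nonneg h.hl (h.O_nonneg r a ha b hb)).1 (M.mem_X1.1 hy)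
  exact ⟨t r, M.inj (by rw [e_y, h.N3_eq, h2, ← h1 r (by simp), ← h1 _ (by simp)]; simp [mul_assoc])⟩

theorem co_y (hF : Inv M F) {r : Rt D} (hr : r ∈ F.S) (h1 : r < M.τ.ρ r) (h2 : r < M.τ.ρ (M.τ.ρ r)) (t : K) :
    Co M F r (h.y r t) t := by
  rw [Co, e_y, h.N3_eq, mul_assoc, inv_mul_cancel_left]
  exact mul_mem (A.x_mem (S := Sg F _) ⟨hF.1 r hr, (hF.kap_lt 1 h1).2⟩ _)
    (A.x_mem (S := Sg F _) ⟨hF.1 _ (hF.1 r hr), (hF.kap_lt 2 h2).2⟩ _)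

theorem triv (hF : Inv M F) {r : Rt D} (e : ¬ (r ≤ M.τ.ρ r ∧ r ≤ M.τ.ρ (M.τ.ρ r))) : V0 M F r ≤ V1 M F r := by
  rcases not_and_or.1 e with e | e
  exacts [hF.triv 2 (h.ρ3 r) (not_le.1 e), hF.triv 1 (h.ρ3 r) (not_le.1 e)]

theorem rp (hF : Inv M F) {r : Rt D} (hr : r ∈ F.S) : Rp M F r (M.X (O3 M r)) := by
  by_cases e : r ≤ M.τ.ρ r ∧ r ≤ M.τ.ρ (M.τ.ρ r)
  · by_cases e1 : M.τ.ρ r = r
    · rw [O3_fix e1]; exact hF.rp_fix hr e1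
    · exact rp_of hr fun u t _ => ⟨_, h.y_mem r t, h.co_y hF hr (lt_of_le_of_ne e.1 (Ne.symm e1))
        (lt_of_le_of_ne e.2 (h.ne2 e1).symm) t⟩
  · exact fun u hu => ⟨1, one_mem _, by simpa using h.triv hF e hu⟩

theorem le_of (hF : Inv M F) {P : Subgroup G} (e : ∀ s ∈ F.S, M.X (O3 M s) ≤ P) : M.X F.S ≤ P :=
  le_of_rp fun s hs => (h.rp hF hs).mono (e s hs)

theorem comm_nm {a b : Rt D} (h1 : 0 ≤ pr a (M.τ.ρ b)) (h2 : 0 ≤ pr a (M.τ.ρ (M.τ.ρ b))) (t u : K) :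
    ⁅N3 M (A.x a t), N3 M (A.x b u)⁆ = N3 M ⁅A.x a t, A.x b u⁆ := by
  have c := fun {a b} (e : 0 ≤ pr a b) => A.comm_of_nonneg h.hl e
  have h3 : 0 ≤ pr b (M.τ.ρ a) := by rwa [h.hl, ← h.pr_ρρ]
  have h4 : 0 ≤ pr b (M.τ.ρ (M.τ.ρ a)) := by rwa [h.pr_ρρ, h.hl]
  rw [N3.eq_1 M ⁅_, _⁆, map_commutatorElement, map_commutatorElement, h.N3_eq, h.N3_eq, mul_assoc, mul_assoc, mul_assoc,
    comm_mul_mul ((c (h.o1 a) _ _).mul_right (c (h.o2 a) _ _)) ((c h1 _ _).mul_right (c h2 _ _))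
      ((c h3 _ _).mul_right (c h4 _ _)) ((c (h.o1 b) _ _).mul_right (c (h.o2 b) _ _)),
    comm_mul_mul (c (h.o1 _) _ _) (c (by rwa [h.pr_ρ]) _ _) (c (by rwa [h.pr_ρ]) _ _) (c (h.o1 _) _ _)]
  simp only [σ_x]

theorem le_S (h2 : (2 : K) = 0) {a b r : Rt D} (hr : M.τ.ρ r = r) (h1 : 0 ≤ pr a (M.τ.ρ b))
    (h3 : 0 ≤ pr a (M.τ.ρ (M.τ.ρ b))) (e : rt r = rt a + rt b) : M.X {r} ≤ ⁅M.X (O3 M a), M.X (O3 M b)⁆ := fun u hu => by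
  obtain ⟨t, ht, e1⟩ := mem_fix hr hu
  obtain ⟨C, h4, -, h5⟩ := h.exists_C e
  rw [show u = ⁅h.y a (C⁻¹ * t), h.y b 1⁆ from M.inj (by
    rw [map_commutatorElement, e1, e_y, e_y, h.comm_nm h1 h3, h5, mul_inv_cancel_left₀ h4, mul_one, h.N3_eq, hr, hr, ht,
      ht, ← A.add, ← A.add]
    congr 1; linear_combination -t * h2)]
  exact commutator_mem_commutator (h.y_mem _ _) (h.y_mem _ _)

theorem tc (c : Nd D → Kˣ) :
    TC M fun r => tor c (rt r) * α (tor c (rt (M.τ.ρ (M.τ.ρ r)))) * α (α (tor c (rt (M.τ.ρ r)))) := by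
  have e : M.τ.σT (M.τ.σT (M.τ.σT c)) = c := funext fun i => by
    rw [← h.ι3 i, ← ν_apply, σT_apply, ← ν_apply, σT_apply, ← ν_apply, σT_apply, ν_apply, ν_apply, ν_apply, h.ι3]
    exact Units.ext (by simp [h.hα, h.α3])
  have : c * M.τ.σT c * M.τ.σT (M.τ.σT c) ∈ M.τ.T1 := by
    change M.τ.σT _ = _
    rw [map_mul, map_mul, e, mul_comm, ← mul_assoc]; rfl
  have k : ∀ c r, tor (M.τ.σT c) (rt r) = α (tor c (rt (M.τ.ρ (M.τ.ρ r)))) := fun c r => by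
    rw [← h.hα (M.τ.ρ (M.τ.ρ r)), ← tor_σT M.τ h.h3, h.ρ3]
  convert tc_of h.h3 (h.tor _ this) using 2 with r
  rw [map_mul, map_mul, AddChar.mul_apply, AddChar.mul_apply, k, k, k, h.ρ3]

theorem tc_pr (β : Rt D) (v : Kˣ) : TC M fun r => (v : K) ^ pr β r * α v ^ pr β (M.τ.ρ (M.τ.ρ r)) *
    α (α v) ^ pr β (M.τ.ρ r) := by
  have := h.tc fun i => v ^ cor β i
  simp only [tor_pow, map_zpow₀] at this
  exact this

theorem tc_self {r : Rt D} (e : M.τ.ρ r ≠ r) (v : Kˣ) : ∃ χ, TC M χ ∧ χ r = v ^ 2 :=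
  ⟨_, h.tc_pr r v, by simp [h.pr_ρρ, h.hl (M.τ.ρ r) r, (h.orth r).resolve_left e, zpow_ofNat]⟩

theorem full {q : ℕ} (hq : ∀ t, α t = t ^ q) {r β : Rt D} (e : M.τ.ρ r ≠ r) (h1 : M.τ.ρ β = β) (h2 : pr β r = 1)
    {x : K} (hx : x ≠ 0) : ∃ χ, TC M χ ∧ χ r = x := by
  obtain ⟨k, hk⟩ : Even (q * (q + 1)) := Nat.even_mul_succ_self q
  obtain ⟨χ, h3, h4⟩ := h.tc_self e (Units.mk0 x hx ^ (k + 1))
  refine ⟨_, h3.mul (h.tc_pr β (Units.mk0 x hx)⁻¹), ?_⟩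
  simp only [Pi.mul_apply, h4, pr_fix h.toSL h1, h2, hq, zpow_one, Units.val_pow_eq_pow_val, Units.val_mk0,
    Units.val_inv_eq_inv_val, inv_pow, ← pow_mul]
  field_simp
  rw [show (k + 1) * 2 = 2 + q + q * q by linarith]; ring

variable [Finite K] {q : ℕ} (hq : ∀ t, α t = t ^ q) (hK : 4 < Nat.card K) (hc : π.ker ≤ center E)
  (hs : Function.Surjective π) (hβ : ∀ r, ∃ β, M.τ.ρ β = β ∧ pr β r = 1)
include hq hK hs hβ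

include hc in
theorem lc_self {r : Rt D} (e : M.τ.ρ r ≠ r) : LC M π (O3 M r) (O3 M r) := by
  obtain ⟨v, hv⟩ := exists_bi hK
  obtain ⟨β, h1, h2⟩ := hβ r
  have k : ∀ x : K, x ≠ 0 → ∃ g, ∀ a, h.y r (x * a) = g * h.y r a * g⁻¹ := fun x hx => by
    obtain ⟨χ, ⟨g, hg⟩, rfl⟩ := h.full hq e h1 h2 hx
    exact ⟨g, h.y_conj r hg⟩
  exact lc_bi hc hs (h.y r) (h.y_add r) (fun u => h.mem_O e) hv (k _ hv.1) (k _ hv.2.1)

omit hs in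
theorem kl_tw (hF : Inv M F) {r s : Rt D} (hr : r ∈ F.S) (hs : s ∈ F.S) (r1 : r < M.τ.ρ r) (r2 : r < M.τ.ρ (M.τ.ρ r))
    (s1 : s < M.τ.ρ s) (s2 : s < M.τ.ρ (M.τ.ρ s)) (ψ : K →+* K) (e : ∀ g χ, Ch1 M g χ → ψ (χ r) = χ s) (L : Subgroup E) :
    KL M π F r s L := by
  obtain ⟨v, hv⟩ := exists_bi hK
  obtain ⟨β, h1, h2⟩ := hβ r
  refine kl_bi hr hs (AddMonoidHom.id K) ψ.toAddMonoidHom (fun a => ⟨_, h.co_y hF hr r1 r2 a⟩) (fun _ t _ => ⟨t, rfl⟩)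
    (fun a => ⟨_, h.co_y hF hs s1 s2 _⟩) (fun _ t _ => Finite.injective_iff_surjective.1 ψ.injective t)
    fun b b1 b2 b3 _ => ?_
  have k : ∀ x : K, x ≠ 0 → ∀ a c, b (x * a) (x * c) = b a c := fun x hx a c => by
    obtain ⟨χ, ⟨g, hg⟩, rfl⟩ := h.full hq r1.ne' h1 h2 hx
    exact b3 χ ⟨g, hg⟩ _ _ _ _ rfl (by simp [e g χ hg])
  exact biadd_eq_one b b1 b2 hv.1 hv.2.1 hv.2.2 (k _ hv.1) (k _ hv.2.1)

end S3

/-- exponents detecting a torus element -/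
def Gd3 (m n k : ℤ) : Prop := ¬ (m = 0 ∧ n = 0 ∧ k = 0) ∧ ¬ (m = 2 ∧ n = 2 ∧ k = 2) ∧ ¬ (m = -2 ∧ n = -2 ∧ k = -2)
instance (m n k : ℤ) : Decidable (Gd3 m n k) := inferInstanceAs (Decidable (_ ∧ _))

theorem Gd3.exists_v [Finite K] {q : ℕ} (hq : ∀ t, α t = t ^ q)
    (hK : Nat.card K = q ^ 3) (h3 : 3 ≤ q) {m n k : ℤ} (h : Gd3 m n k) (hm : -2 ≤ m ∧ m ≤ 2) (hn : -2 ≤ n ∧ n ≤ 2)
    (hk : -2 ≤ k ∧ k ≤ 2) : ∃ v : Kˣ, (v : K) ^ m * α v ^ n * α (α v) ^ k ≠ 1 := by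
  have h1 : 1 ≤ q ^ 3 := Nat.one_le_pow _ _ (by omega)
  obtain ⟨v, hv⟩ := TwM.exists_v hq (n := q ^ 3 - 1) (a := m) (b := n + q * k) (by omega) fun e => by
    obtain ⟨c, hc⟩ := Int.dvd_of_emod_eq_zero e
    rw [Nat.cast_sub h1] at hc
    push_cast at hc
    have h3 : (3 : ℤ) ≤ q := by exact_mod_cast h3
    generalize (q : ℤ) = x at hc h3
    obtain ⟨m1, m2⟩ := hm
    obtain ⟨n1, n2⟩ := hn
    obtain ⟨k1, k2⟩ := hk
    simp only [Gd3, not_and] at h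
    have h4 : 3 * x ≤ x ^ 2 := by nlinarith
    have h5 : 3 * x ^ 2 ≤ x ^ 3 := by nlinarith
    have h6 : m + x * n + x ^ 2 * k = (x ^ 3 - 1) * c := by linear_combination hc
    rcases lt_trichotomy c 0 with e | rfl | e
    · have : m + x * n + x ^ 2 * k ≤ -(x ^ 3 - 1) := by
        nlinarith [mul_nonneg (show 0 ≤ x ^ 3 - 1 by omega) (show 0 ≤ -1 - c by omega)]
      interval_cases n <;> interval_cases k <;> omega
    · have h7 : x ∣ m := ⟨-n - x * k, by linear_combination h6⟩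
      obtain rfl : m = 0 := Int.eq_zero_of_abs_lt_dvd h7 (abs_lt.2 ⟨by omega, by omega⟩)
      have h8 : n + x * k = 0 := (mul_eq_zero.1 (show x * (n + x * k) = 0 by linear_combination h6)).resolve_left (by omega)
      interval_cases k <;> omega
    · have : x ^ 3 - 1 ≤ m + x * n + x ^ 2 * k := by
        nlinarith [mul_nonneg (show 0 ≤ x ^ 3 - 1 by omega) (show 0 ≤ c - 1 by omega)]
      interval_cases n <;> interval_cases k <;> omega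
  exact ⟨v, by rwa [zpow_add₀ (by simp), zpow_mul, zpow_natCast, ← hq, ← mul_assoc] at hv⟩

end CA.TwM
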