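/-
The multiplier of the twisted groups of type ³D₄.
-/
import Cfsg.Agent.Lib.Lie.TwM7

set_option autoImplicit false

namespace CA.TwM

open Equiv Cfsg Cfsg.Lie Cfsg.Lie.ChevalleyDatum CA.SchurFilt Subgroup CA.Chev CA.Chev.Sys0 CA.Chev.Sys
open CA.SchurHopf CA.Chev.Twist CA.SchurCov
open scoped commutatorElement IsMulCommutative

universe u v

section
variable {D : ChevalleyDatum} [Good D] {K : Type*} [Field K] {Γ : Type*} [Group Γ] {A : Sys D K Γ}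
  {G : Type*} [Group G] {M : Mod A G} {E : Type*} [Group E] {π : E →* G} {α : K →+* K} {F : Fl D}

theorem VV_le_of_rp {P : Subgroup G} {k : ℕ} (h : ∀ r ∈ F.S, k ≤ kap F.f r → Rp M F r P) : VV M F k ≤ P := by
  let F' := F.sub (Sg F k) (fun _ h => h.1) (nil_Sg k).2
  have e : ∀ j, k ≤ j → VV M F' j = VV M F j := fun j hj => congrArg M.X
    (Set.ext fun s => ⟨fun h => ⟨h.1.1, h.2⟩, fun h => ⟨⟨h.1, hj.trans h.2⟩, h.2⟩⟩)
  refine le_of_rp (f := F') fun r hr u hu => ?_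
  obtain ⟨y, hy, h1⟩ := h r hr.1 hr.2 u ((e _ hr.2).le hu)
  exact ⟨y, hy, (e _ (hr.2.trans (Nat.le_succ _))).ge h1⟩

/-- the filtration by a functional -/
def fF (f : (Nd D → ℤ) →ₗ[ℤ] ℤ) : Fl D := ⟨{s | 0 < f (rt s)}, f, nil_of_fun _, fun _ h => h⟩

theorem comm_mul_r' {H : Type*} [Group H] (g u w : H) : ⁅g, u * w⁆ = ⁅g, u⁆ * (u * ⁅g, w⁆ * u⁻¹) := by
  simp only [commutatorElement_def]; group

namespace S3
variable (h : S3 M α) (hq : ∀ t, α t = t ^ 2)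
include h hq

omit h in
theorem two0 : (2 : K) = 0 := by have := hq 2; rw [map_ofNat] at this; linear_combination -this

theorem fix01 {r : Rt D} (e : M.τ.ρ r = r) {u : G} (hu : u ∈ M.X {r}) : u = 1 ∨ M.e u = A.x r 1 := by
  obtain ⟨t, h1, h2⟩ := mem_fix e hu
  rw [← mul_one t, h.f_mul, h.fix1 r e, hq, mul_one, mul_one, sq, mul_left_eq_self₀] at h1
  rcases h1 with rfl | rfl
  exacts [Or.inr h2, Or.inl (M.inj (by rw [h2, A.x_zero, map_one]))]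

theorem ch_fix {r : Rt D} (e : M.τ.ρ r = r) {g : G} {χ : Rt D → K} (hg : Ch1 M g χ) : χ r = 1 := by
  have := hg.ρ r
  rw [e, h.hα, hq, sq, right_eq_mul₀ (hg.ne r)] at this
  exact this

variable [Finite K] (hK : 4 < Nat.card K) (hc : π.ker ≤ center E) (hs : Function.Surjective π)
include hK

theorem tc_nf {s : Rt D} (e : M.τ.ρ s ≠ s) : ∃ χ, TC M χ ∧ (∀ r, M.τ.ρ r = r → χ r = 1) ∧ ∀ k ∈ O3 M s, χ k ≠ 1 := by
  obtain ⟨v, h1, h2, -⟩ := exists_bi hK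
  obtain ⟨χ, ⟨g, hg⟩, h3⟩ := h.tc_self e (Units.mk0 v h1)
  have k : ∀ t, t ≠ 1 → α t ≠ 1 := fun t ht e => ht (α.injective (e.trans (map_one α).symm))
  have h4 : χ s ≠ 1 := by rw [h3, ← hq]; exact k _ (sub_ne_zero.1 h2).symm
  exact ⟨χ, ⟨g, hg⟩, fun r e => h.ch_fix hq e hg, forall_O3.2 ⟨h4, by rw [hg.ρ, h.hα]; exact k _ h4,
    by rw [hg.ρ, h.hα, hg.ρ, h.hα]; exact k _ (k _ h4)⟩⟩

theorem k1 {r s : Rt D} (hr : M.τ.ρ r = r) (e : M.τ.ρ s ≠ s) : K1 M r s :=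
  let ⟨χ, a, b, c⟩ := h.tc_nf hq hK e; ⟨χ, a, b r hr, c s (by simp [O3])⟩

variable (hL : ∀ r s, M.τ.ρ r = r → M.τ.ρ s = s → 0 ≤ pr r s → ∃ a, 0 ≤ pr r a ∧ ∃ b, 0 ≤ pr r b ∧ rt s = rt a + rt b ∧
  0 ≤ pr a (M.τ.ρ b) ∧ 0 ≤ pr a (M.τ.ρ (M.τ.ρ b)))
include hc hs hL

theorem lcf {k s : Rt D} (hk : M.τ.ρ k = k) (e : 0 ≤ pr k s) : LC M π {k} (O3 M s) := by
  by_cases e1 : M.τ.ρ s = s
  · obtain ⟨a, h1, b, h2, h3, h4, h5⟩ := hL k s hk e1 e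
    rw [O3_fix e1]
    exact lc_of_le M π h.toSL hc hs (h.le_S (two0 hq) e1 h4 h5 h3) (by simp [forall_O3, pr_fix h.toSL hk, h1, h2])
  · obtain ⟨χ, h1, h2, h3⟩ := h.tc_nf hq hK e1
    exact LC.of_fpf hc hs (h.nil_of O3_pos (h.O_nonneg s)) (h.comm_X (by simp [forall_O3, pr_fix h.toSL hk, e])) h1
      (by simpa using h2 k hk) h3

theorem given2 (hβ : ∀ r, ∃ β, M.τ.ρ β = β ∧ pr β r = 1) {r b b' a c d : Rt D} (hr : M.τ.ρ r = r) (hb : M.τ.ρ b = b)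
    (hb' : M.τ.ρ b' = b') (c1 : c < M.τ.ρ c) (c2 : c < M.τ.ρ (M.τ.ρ c)) (hd : M.τ.ρ d ≠ d) (e1 : rt r = rt b + rt b')
    (e2 : rt c = rt b + rt a) (h0 : pr r a = 0) (hdQ : 0 < pr r d)
    (Q1 : ∀ k, 0 < pr r k → M.τ.ρ k = k → ∀ s, 0 < pr r s → 0 ≤ pr k s ∨ (k = b ∧ s = b') ∨ (k = b' ∧ s = b))
    (Q2 : ∀ s, 0 < pr r s → M.τ.ρ s = s ∨ s ∈ O3 M c ∨ s ∈ O3 M d)
    (Q3 : ∀ s, 3 ≤ 4 * pr r s + pr a s + pr (M.τ.ρ a) s + pr (M.τ.ρ (M.τ.ρ a)) s → 0 < pr r s) :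
    Given π M.H (M.X {r}) ⊥ ⁅(M.X (Qs r)).comap π, (M.X (Qs r)).comap π⁆ := by
  have lcf := @h.lcf _ _ _ _ _ _ _ _ _ _ _ _ π _ hq _ hK hc hs hL
  have I := h.inv_qF hr
  have p1 := pr_of_sum h.hl e1
  have p2 := pr_of_sum h.hl e2
  have rb : pr r b = 1 := by rw [h.hl, pr_sum e1, pr_self, p1]; rfl
  have rb' : pr r b' = 1 := by rw [h.hl, pr_sum e1, pr_self, h.hl, p1]; rfl
  have bQ : M.X {b} ≤ M.X (Qs r) := M.X_mono (by simp [mem_Qs, rb])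
  have bQ' : M.X {b'} ≤ M.X (Qs r) := M.X_mono (by simp [mem_Qs, rb'])
  have OQ : ∀ s ∈ Qs r, M.X (O3 M s) ≤ M.X (Qs r) := fun s hs => M.X_mono (forall_O3.2 (by
    simpa only [mem_Qs, pr_fix h.toSL hr, and_self] using hs))
  have H0 : Hz M π r ⊥ := ⟨h.hl, hc, hs, (lc_iff hc hs).2 (h.le_of I fun s hs' =>
    (lc_iff hc hs).1 (lcf hr (mem_Qs.1 hs').le)), by simp⟩
  obtain ⟨u0, hu0, eu0⟩ := lift_fix hb' (h.fix1 _ hb')
  obtain ⟨y0, rfl⟩ := hs u0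
  have H := H0.of_Dg _ bQ y0 (bQ' hu0)
  set Y := H0.Dg _ bQ y0 (bQ' hu0)
  have R1 : ∀ u ∈ M.X {b}, ∀ v ∈ M.X {b'}, Rel π Y u v := by
    rintro _ hu _ hv x y rfl rfl
    rcases h.fix01 hq hb' hv with e | e
    · rw [comm_congr hc rfl (b' := 1) (by simpa using e)]; simp
    · exact ⟨x, hu, comm_congr hc rfl (M.inj (e.trans eu0.symm))⟩
  have Z : ∀ k ∈ Qs r, (∀ s ∈ Qs r, ∀ v ∈ M.X (O3 M s), ∀ u ∈ M.X (O3 M k), Rel π Y v u) → M.X (O3 M k) ≤ H.Zq :=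
    fun k hk e u hu => H.mem_Zq_of (OQ k hk hu) (fun s hs => h.rp I hs) OQ fun s hs v hv => e s hs v hv u hu
  have Z1 : ∀ k ∈ Qs r, M.τ.ρ k = k → M.X (O3 M k) ≤ H.Zq := fun k hk e => Z k hk fun s hs' v hv u hu => by
    rw [O3_fix e] at hu
    rcases Q1 k (mem_Qs.1 hk) e s (mem_Qs.1 hs') with e1 | ⟨rfl, rfl⟩ | ⟨rfl, rfl⟩
    · exact (lcf e e1).symm.rel hv hu
    · exact (R1 u hu v (O3_fix hb' ▸ hv)).symm
    · exact R1 v (O3_fix hb ▸ hv) u hu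
  have cQ : c ∈ Qs r := by rw [mem_Qs, pr_sum e2, rb, h0]; norm_num
  have dQ := mem_Qs.2 hdQ
  have R2 : ∀ v (hv : v ∈ M.X (O3 M d)), M.X (O3 M c) ≤ H.Rr v (OQ d dQ hv) := fun v hv => by
    let F := fF (D := D) (4 • prL r + prL a + prL (M.τ.ρ a) + prL (M.τ.ρ (M.τ.ρ a)))
    have f : ∀ s, F.f (rt s) = 4 * pr r s + pr a s + pr (M.τ.ρ a) s + pr (M.τ.ρ (M.τ.ρ a)) s := fun s => by
      simp [F, fF, prL_rt]
    have fρ : ∀ s, F.f (rt (M.τ.ρ s)) = F.f (rt s) := fun s => by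
      rw [f, f, pr_fix h.toSL hr, h.pr_ρ, h.pr_ρ, ← h.pr_ρρ (M.τ.ρ a) s, h.pr_ρ]; ring
    have J : Inv M F := ⟨fun s hs => lt_of_lt_of_eq hs (fρ s).symm, fρ⟩
    have na : M.τ.ρ a ≠ a := fun e => c1.ne' (rt_injective (by rw [h.rt_add e2, hb, e, e2]))
    have oa := (h.orth a).resolve_left na
    have fa : F.f (rt a) = 2 := by
      rw [f, h0, pr_self, h.hl (M.τ.ρ a), oa, h.hl, h.pr_ρρ, h.hl, oa]; rfl
    have fc : F.f (rt c) = 3 := by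
      rw [e2, map_add, fa, f, rb, h.hl a, h.hl (M.τ.ρ a), h.hl (M.τ.ρ (M.τ.ρ a))]
      simp [pr_fix h.toSL hb, p2]
    have cS : c ∈ F.S := show 0 < F.f _ by omega
    have aS : a ∈ F.S := show 0 < F.f _ by omega
    refine le_trans (M.X_mono (T := Sg F (kap F.f c)) (forall_O3.2 ⟨⟨cS, le_rfl⟩, ⟨J.1 c cS, (J.kap_lt 1 c1).2.le⟩,
      J.1 _ (J.1 c cS), (J.kap_lt 2 c2).2.le⟩)) (VV_le_of_rp fun s hs' e => ?_)
    have sQ := Q3 s (by rw [← f, ← fc]; exact le_of_kap hs' e)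
    rcases Q2 s sQ with e1 | (rfl | rfl | rfl) | e1
    · exact (h.rp J hs').mono ((Z1 s (mem_Qs.2 sQ) e1).trans (H.Zq_le _ _))
    · refine rp_of hs' fun _ t _ => ?_
      obtain ⟨u, hu, eu⟩ := lift_fix hb (h.fix1 _ hb)
      have zu := Z1 b (mem_Qs.2 (by omega)) hb (by rwa [O3_fix hb])
      obtain ⟨C, h1, -, h2⟩ := h.exists_C e2
      have e3 := h.rt_add e2
      have e4 := h.rt_add e3
      rw [hb] at e3 e4
      rw [hb] at e4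
      obtain ⟨C', -, -, h3⟩ := h.exists_C e3
      obtain ⟨C'', -, -, h4⟩ := h.exists_C e4
      refine ⟨⁅u, h.y a (C⁻¹ * t)⁆, H.Zq_le _ _ ?_, ?_⟩
      · have := mul_mem zu (H.Zq_conj ((lc_iff hc hs).1 (lcf hr h0.ge) (h.y_mem a (C⁻¹ * t)))
          (M.X_mono (T := Pe r) (forall_O3.2 (by simp [Pe, pr_fix h.toSL hr, h0])) (h.y_mem a _)) (inv_mem zu))
        simpa only [commutatorElement_def, mul_assoc] using this
      · rw [Co, map_commutatorElement, eu, h.e_y, h.N3_eq, comm_mul_r', comm_mul_r', h2, h3, h4, mul_one,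
          mul_inv_cancel_left₀ h1, mul_assoc, inv_mul_cancel_left]
        exact mul_mem (U_conj (A.x_mem aS _) (A.x_mem (S := Sg F _) ⟨J.1 s cS, (J.kap_lt 1 c1).2⟩ _))
          (U_conj (mul_mem (A.x_mem aS _) (A.x_mem (J.1 a aS) _))
            (A.x_mem (S := Sg F _) ⟨J.1 _ (J.1 s cS), (J.kap_lt 2 c2).2⟩ _))
    · exact fun u hu => ⟨1, one_mem _, by simpa using J.triv 1 rfl c1 hu⟩
    · exact fun u hu => ⟨1, one_mem _, by simpa using J.triv (s := M.τ.ρ (M.τ.ρ c)) 2 rfl c2 hu⟩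
    · refine (h.rp J hs').mono fun u hu => ?_
      rw [h.O_eq e1] at hu
      exact ⟨OQ d dQ hu, (h.lc_self hq hK hc hs hβ hd).rel hu hv⟩
  have Z2 : ∀ k ∈ Qs r, k ∈ O3 M c ∨ k ∈ O3 M d → M.X (O3 M k) ≤ H.Zq := fun k hk e => Z k hk fun s hs' v hv u hu => by
    rcases Q2 s (mem_Qs.1 hs') with e1 | e1 | e1
    · exact (H.mem_Zq.1 (Z1 s hs' e1 hv)).2 u (OQ k hk hu)
    all_goals rw [h.O_eq e1] at hv; rcases e with e | e <;> rw [h.O_eq e] at hu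
    exacts [(h.lc_self hq hK hc hs hβ c1.ne').rel hv hu, (R2 u hu hv).2, (R2 v hv hu).2.symm,
      (h.lc_self hq hK hc hs hβ hd).rel hv hu]
  refine H.given (h.le_of I fun s hs' => (Q2 s (mem_Qs.1 hs')).elim (Z1 s hs') (Z2 s hs')) ?_
    ((h.le_S1 hb hb' e1 one_ne_zero (h.fix1 _ hb')).trans (commutator_mono bQ bQ'))
  rintro _ ⟨x, hx, rfl⟩ e
  rcases h.fix01 hq hb hx with e' | e'
  · rw [comm_congr hc (a' := 1) (by simpa using e') rfl]; simp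
  · obtain ⟨C, h1, -, h2⟩ := h.exists_C e1
    have := congrArg M.e e
    rw [map_commutatorElement, map_commutatorElement, e', eu0, h2, map_one] at this
    exact absurd (A.x_eq_one this) (by simpa using h1)

end S3
end

namespace D4

/-- the triality on the roots -/
noncomputable def ph (r : Rt chevD4) : Rt chevD4 := ⟨φD4a r % 24, Nat.mod_lt _ (by norm_num)⟩

theorem rc : (rt : Rt chevD4 → _) = cor := funext (rt_eq_cor sl_D4)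

theorem d1 : ∀ r, (ph r = r ∨ pr r (ph r) = 0) ∧ (∀ i, rt (ph r) (ιD4a i) = rt r i) ∧ (ph r = r → ηD4a r = 1) ∧
    ∃ β, ph β = β ∧ pr β r = 1 := by rw [rc]; decide +kernel

/-- a torus element fixing `r` but not `s` -/
def KK (r s : Rt chevD4) : Prop := ∃ β, pr β r = 0 ∧ pr β (ph (ph r)) = 0 ∧ pr β (ph r) = 0 ∧
  Gd3 (pr β s) (pr β (ph (ph s))) (pr β (ph s))

/-- the least positive root of an orbit -/
def Mn (r : Rt chevD4) : Prop := Pos r ∧ r ≤ ph r ∧ r ≤ ph (ph r)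

noncomputable instance (r s : Rt chevD4) : Decidable (KK r s) := inferInstanceAs (Decidable (∃ _, _))
noncomputable instance (r : Rt chevD4) : Decidable (Mn r) := inferInstanceAs (Decidable (_ ∧ _))

theorem d2 : ∀ r, Mn r → ∀ s, Mn s → s = r ∨ KK r s ∨ KK s r := by decide +kernel

theorem d4 : ∀ r, ph r = r → ∃ a, ph a = a ∧ ∃ b, ph b = b ∧ rt r = rt a + rt b := by rw [rc]; decide +kernel

theorem d5 : ∀ r s, ph r = r → ph s = s → 0 ≤ pr r s → ∃ a, 0 ≤ pr r a ∧ ∃ b, 0 ≤ pr r b ∧ rt s = rt a + rt b ∧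
  0 ≤ pr a (ph b) ∧ 0 ≤ pr a (ph (ph b)) := by rw [rc]; decide +kernel

theorem d6 : ∀ r, Mn r → ph r = r → ∃ b, ph b = b ∧ ∃ b', ph b' = b' ∧ rt r = rt b + rt b' ∧ ∃ a, pr r a = 0 ∧ ∃ c,
    c < ph c ∧ c < ph (ph c) ∧ rt c = rt b + rt a ∧ ∃ d, ph d ≠ d ∧ 0 < pr r d ∧
    (∀ s, 0 < pr r s → ph s = s ∨ (s = c ∨ s = ph c ∨ s = ph (ph c)) ∨ (s = d ∨ s = ph d ∨ s = ph (ph d))) ∧
    (∀ k, 0 < pr r k → ph k = k → ∀ s, 0 < pr r s → 0 ≤ pr k s ∨ (k = b ∧ s = b') ∨ (k = b' ∧ s = b)) ∧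
    ∀ s, 3 ≤ 4 * pr r s + pr a s + pr (ph a) s + pr (ph (ph a)) s → 0 < pr r s := by rw [rc]; decide +kernel

theorem d7 : ∀ r, Mn r → ∀ s, Mn s → (ph r = r ∧ ph s ≠ s) ∨ (ph s = s ∧ ph r ≠ r) ∨ (ph r = r ∧ ph s = s ∧ 0 ≤ pr r s) ∨
    (ph r ≠ r ∧ s = r) ∨ (∃ k, Mn k ∧ ph k = k ∧ 0 < pr k r ∧ 0 < pr k s ∧ ∑ i, rt s i < ∑ i, rt k i) ∨
    (ph r ≠ r ∧ ph s ≠ s ∧ ∃ β, ph β = β ∧ rt s = rt r + rt β) := by rw [rc]; decide +kernel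

variable {K : Type u} [Field K] [Finite K] {α : K →+* K} {q : ℕ} (hq : ∀ t, α t = t ^ q) (hα : ∀ t, α (α (α t)) = t)
  (h2 : 2 ≤ q) (hK : Nat.card K = q ^ 3)

omit [Finite K] in
theorem ρ_eq : ⇑(TD4.real hq hα).mod.τ.ρ = ph := funext fun r => Fin.ext (Nat.mod_eq_of_lt ((tD4 α).ρ r).2).symm

omit [Finite K] in
theorem s3 : S3 (TD4.real hq hα).mod α where
  hl := sl_D4
  hα _ := rfl
  hc := TD4.hc
  hφ r := by rw [ρ_eq hq hα]; exact (d1 r).2.1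
  h3 := adjG_R3
  tor := torH_mem_of_node (TD4.node hα) _
  ι3 := (by decide +kernel : ∀ i, ιD4a (ιD4a (ιD4a i)) = i)
  α3 := hα
  orth r := by rw [ρ_eq hq hα]; exact (d1 r).1
  fix1 r e := by
    rw [ρ_eq hq hα] at e
    exact (TD4.f_eq r 1).trans (by simp [(d1 r).2.2.1 e])

include hq hα h2 hK in
theorem pp (p : ℕ) [Fact p.Prime] [CharP K p] : PP.{_, v} p (twistedD4 K q) := fun E _ _ π hπ => by
  classical
  have h := s3 hq hα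
  have ρ := ρ_eq hq hα
  set M := (TD4.real hq hα).mod
  have h4 : 4 < Nat.card K := hK ▸ lt_of_lt_of_le (by norm_num) (Nat.pow_le_pow_left h2 3)
  have hβ := fun r => (d1 r).2.2.2
  have I := h.inv_hF
  have m : ∀ {r}, r ∈ {r | r ≤ M.τ.ρ r ∧ r ≤ M.τ.ρ (M.τ.ρ r)} → Pos r → Mn r := fun h1 h2 => ⟨h2, ρ ▸ h1⟩
  have lt : ∀ {r}, Mn r → ph r ≠ r → r < M.τ.ρ r ∧ r < M.τ.ρ (M.τ.ρ r) := fun h1 e =>
    ⟨ρ ▸ lt_of_le_of_ne h1.2.1 e.symm, lt_of_le_of_ne (ρ ▸ h1.2.2) (h.ne2 (ρ ▸ e)).symm⟩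
  rw [← ρ] at hβ
  obtain rfl | h3 := h2.eq_or_lt
  · have d5 := d5
    rw [← ρ] at d5
    refine pp_of_filt (f := hF _) p adjG_R3 hπ rfl _ (fun r _ => h.triv I)
      (fun r => if M.τ.ρ r = r then ⁅(M.X (Qs r)).comap π, (M.X (Qs r)).comap π⁆ else ⊥)
      (fun r hr hr' => ?_) fun r hr s hs hr' hs' _ => ?_
    · by_cases e : M.τ.ρ r = r
      · obtain ⟨b, a1, b', a2, a3, a, a4, c, a5, a6, a7, d, a8, a9, b1, b2, b3⟩ := d6 r (m hr hr') (ρ ▸ e)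
        rw [← ρ] at a1 a2 a5 a6 a8 b1 b2 b3
        rw [if_pos e]
        exact Or.inl (given_of hr' (X_le_V0 hr') (I.rp_fix hr' e) (X_inf_V1 hr')
          (h.given2 hq h4 hπ.2.1 hπ.1 d5 hβ e a1 a2 a5 a6 a8 a3 a7 a4 a9 b2 b1 b3))
      · obtain ⟨χ, h1, -, h3⟩ := h.tc_nf hq h4 e
        exact Or.inr ⟨if_neg e, χ, h1, h3 r (by simp [O3])⟩
    rcases d7 r (m hr hr') s (m hs hs') with e | e | e | ⟨e, rfl⟩ | ⟨k, a1, a2, a3, a4, a5⟩ | ⟨a1, a2, β, a3, a4⟩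
    · exact (h.k1 hq h4 (ρ ▸ e.1) (ρ ▸ e.2)).kl hr' hs' _
    · exact ((h.k1 hq h4 (ρ ▸ e.1) (ρ ▸ e.2)).kl hs' hr' _).swap
    · exact LC.kl hπ.1 (I.rp_fix hr' (ρ ▸ e.1)) (h.rp I hs') (h.lcf hq h4 hπ.2.1 hπ.1 d5 (ρ ▸ e.1) e.2.2) _
    · exact LC.kl hπ.1 (h.rp I hr') (h.rp I hr') (h.lc_self hq h4 hπ.2.1 hπ.1 hβ (ρ ▸ e)) _
    · rw [← ρ] at a2
      refine kl_Qs (r := k) hπ.1 (h.rp I hr') (h.rp I hs') (forall_O3.2 (by simp [mem_Qs, pr_fix h.toSL a2, a3]))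
        (forall_O3.2 (by simp [mem_Qs, pr_fix h.toSL a2, a4]))
        (le_iSup₂_of_le k ⟨ρ ▸ a1.2, a1.1, kap_lt ((hF _).pos s hs') (by simpa [hF] using a5)⟩ (if_pos a2).ge)
    · exact h.kl_tw hq h4 hβ I hr' hs' (lt (m hr hr') a1).1 (lt (m hr hr') a1).2 (lt (m hs hs') a2).1 (lt (m hs hs') a2).2
        (RingHom.id K) (fun g χ hg => by rw [hg.add a4, h.ch_fix hq (r := β) (ρ ▸ a3) hg, mul_one]; rfl) _
  have k : ∀ β s, Gd3 (pr β s) (pr β (M.τ.ρ (M.τ.ρ s))) (pr β (M.τ.ρ s)) → ∃ v : Kˣ, _ := fun β s g =>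
    g.exists_v hq hK h3 (pr_bd sl_D4 _ _) (pr_bd sl_D4 _ _) (pr_bd sl_D4 _ _)
  have k1 : ∀ r s, KK r s → K1 M r s := fun r s ⟨β, a1, a2, a3, a4⟩ => by
    rw [← ρ] at a2 a3 a4
    obtain ⟨v, hv⟩ := k β s a4
    exact ⟨_, h.tc_pr β v, by simp [a1, a2, a3], hv⟩
  refine pp_of_filt (f := hF _) p adjG_R3 hπ rfl _ (fun r _ => h.triv I) (fun _ => ⊥)
    (fun r _ _ => Or.inr ⟨rfl, ?_⟩) fun r hr s hs hr' hs' _ => ?_
  · obtain ⟨β, h1, hβ⟩ := hβ r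
    obtain ⟨v, hv⟩ := k β r (by simp [Gd3, hβ, pr_fix h.toSL h1])
    exact ⟨_, h.tc_pr β v, hv⟩
  rcases d2 r (m hr hr') s (m hs hs') with rfl | e | e
  · refine LC.kl hπ.1 (h.rp I hr') (h.rp I hr') ?_ _
    by_cases e : M.τ.ρ s = s
    · obtain ⟨a, h1, b, h2, h3⟩ := d4 s (ρ ▸ e)
      rw [← ρ] at h1 h2
      have p1 := pr_of_sum h.hl h3
      rw [O3_fix e]
      exact lc_of_le M π h.toSL hπ.2.1 hπ.1 (h.le_S1 h1 h2 h3 one_ne_zero (h.fix1 _ h2))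
        (by simp [h.hl s, pr_sum h3, p1, h.hl b a])
    · exact h.lc_self hq h4 hπ.2.1 hπ.1 hβ e
  exacts [(k1 r s e).kl hr' hs' _, ((k1 s r e).kl hs' hr' _).swap]

include hq hα h2 hK in
theorem has : HasCyclicSchurMultiplier (twistedD4 K q) 1 := by
  obtain ⟨p, hp⟩ := CharP.exists K
  have := Fact.mk (CharP.char_is_prime K p)
  have := finite_stG (D := chevD4) (K := K) (by simp)
  obtain ⟨e'⟩ := equiv_zmod (Z := ↥((tD4 α).T1 ⊓ (tor (D := chevD4)).ker)) (n := 1) (by rw [TD4.Z_eq, card_bot]) (Or.inl rfl)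
  exact has_un (TD4.real hq hα).mod rfl TD4.hc
    (fun i => (em (ιD4a i = i)).imp_right fun h => Or.inr ⟨_, _, TD4.ty3 hα h⟩) (torH_injective (by simp)) p
    ((TD4.real hq hα).perfect_of (TD4.le_commutator hα h2 hK)) (pp hq hα h2 hK p) e'

end D4

end CA.TwM
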