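/-
The Suzuki subgroup of a large Ree group.
-/
import Cfsg.Agent.Lib.Lie.TwM8
import Cfsg.Agent.Lib.Lie.ChevTwF4
import Cfsg.Agent.Lib.Lie.H23Iso
import Cfsg.Agent.Lib.Lie.SzClass
import Cfsg.Agent.Lib.Lie.SzModel

set_option autoImplicit false

namespace CA.TwM

open Equiv Cfsg Cfsg.Lie Cfsg.Lie.ChevalleyDatum CA.SchurFilt Subgroup CA.Chev CA.Chev.Sys0 CA.Chev.Sys
open CA.SchurHopf CA.Chev.Twist CA.SchurCov CA.SchurExt
open scoped commutatorElement IsMulCommutative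

universe u v

theorem pc_of_surj {A B : Type*} [Group A] [Group B] [Finite A] {l : ℕ} (hl : l.Prime) (f : A →* B)
    (hf : Function.Surjective f) (h : ∀ Q : Subgroup A, IsPGroup l Q → IsCyclic Q) : PC.{_, v} l B := fun Δ _ _ σ hσ hk => by
  haveI := Fact.mk hl
  haveI := Finite.of_surjective f hf
  obtain ⟨R⟩ : Nonempty (Sylow l A) := inferInstance
  haveI := h R R.2
  haveI : IsCyclic (R.mapSurjective hf) := isCyclic_of_surjective _ (f.subgroupMap_surjective R)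
  exact ker_eq_bot_of_cyclic hσ hk (hl.coprime_iff_not_dvd.2 (R.mapSurjective hf).not_dvd_index)

namespace F4

/-- the symplectic data -/
def cl4 : Cl (Fin 4) 2 where
  τ := 1
  σ := ![3, 2, 1, 0]
  μ := ![![1, 0], ![0, 1], ![0, -1], ![-1, 0]]
  η a := if a < 2 then -1 else 1
  s a d := if a < 2 ∧ d < 2 then -1 else 1
  τ_le := by omega
  two_le := le_rfl
  τ_lt := by omega
  σσ := by decide
  μ_σ := by decide
  μ_inj := by decide
  μ_U a := Or.inl (by revert a; unfold Chev.U; decide)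
  surj x := by rintro ⟨i, rfl | rfl⟩ <;> revert i <;> decide
  η_sq := by decide
  s_symm := by decide
  s_sq := by decide
  anti := by decide
  zero := by decide
  fix := by decide
  long := by decide

/-- the roots -/
def v4 (r : Rt chevB2) (i : Fin 2) : ℤ :=
  (([[-2, 0], [-1, -1], [-1, 1], [0, -2], [0, 2], [1, -1], [1, 1], [2, 0]] : List (List ℤ)).getD r []).getD i 0

/-- nodes -/
def nB2 (i : Fin 2) : Nd chevB2 := i

/-- the root vectors -/
def E4 (r : ℕ) : Matrix (Fin 4) (Fin 4) ℤ := .of fun a d => if (a.val, d.val) ∈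
  [[(3, 0)], [(2, 0), (3, 1)], [(1, 0), (3, 2)], [(2, 1)], [(1, 2)], [(0, 1), (2, 3)], [(0, 2), (1, 3)], [(0, 3)]].getD r []
  then 1 else 0

variable {K : Type u} [Field K] [CharP K 2]

set_option synthInstance.maxSize 2000 in
theorem exists_rep : ∃ φ : chevB2.SteinbergCover K →* GL (Fin 4) K,
    ∀ r t, (φ ((stC _ K).x r t) : Matrix _ _ K) = 1 + t • (E4 r).map (↑) := by
  have hv : ∀ r, v4 r ∈ cl4.model.Φ := fun r => cl4.mem_Φ'.2 (by revert r; decide +kernel)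
  obtain ⟨φ, -, h⟩ := cl4.model.exists_hom (K := K) v4 isoE2 isoN2 hv (fun u hu => by
      obtain ⟨a, d, h1, h2, rfl⟩ := cl4.mem_Φ'.1 hu
      revert a d; decide +kernel) (by decide +kernel) (by decide +kernel) (by decide +kernel)
  refine ⟨(cl4.model.ρ K).comp φ, fun r t => ?_⟩
  obtain ⟨h1, h2⟩ := (by decide +kernel : ∀ r, cl4.e (v4 r) * cl4.e (v4 r) = 0 ∧
    ∀ a d, (2 : ℤ) ∣ isoE2 r * cl4.e (v4 r) a d - E4 r a d) r
  rw [MonoidHom.comp_apply, h, Model.ρ_x _ (hv r), Model.x, Model.q, show cl4.model.e = cl4.e from rfl, h1]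
  ext a d
  have := (CharP.intCast_eq_zero_iff K 2 _).2 (h2 a d)
  simp only [Model.cm, Matrix.add_apply, Matrix.smul_apply, RingHom.mapMatrix_apply, Matrix.map_apply, smul_eq_mul,
    Matrix.zero_apply, Int.zero_ediv, eq_intCast, Int.cast_zero] at this ⊢
  push_cast at this
  linear_combination t * this

theorem rep_inj [Finite K] (hK : ∃ a : K, a ≠ 0 ∧ a ≠ 1) {φ : chevB2.SteinbergCover K →* GL (Fin 4) K}
    (h : ∀ r t, (φ ((stC _ K).x r t) : Matrix _ _ K) = 1 + t • (E4 r).map (↑)) : Function.Injective φ := by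
  have h1 := θ_ker_le (perfect_B2 _ stC_G hK) φ.rangeRestrict φ.rangeRestrict_surjective fun e => by
    have := congrArg (fun g : φ.range => (g.1 : Matrix (Fin 4) (Fin 4) K) 0 2) (mem_center_iff.1
      (e.ge (mem_top (φ.rangeRestrict ((stC _ K).x ⟨4, by decide⟩ 1)))) (φ.rangeRestrict ((stC _ K).x ⟨5, by decide⟩ 1)))
    simp [h, E4, Matrix.mul_apply, Fin.sum_univ_four] at this
  rw [MonoidHom.ker_rangeRestrict, (r3_of_finite _).ker_eq stC_G] at h1
  refine (injective_iff_map_eq_one φ).2 fun g hg => ?_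
  obtain ⟨c, hc, rfl⟩ := h1 hg
  have h' := mem_ker_tor.1 hc
  have w : ∀ j i : Fin 2, wt (sim (nB2 j)) (nB2 i) = ![![2, -1], ![-2, 2]] j i := by decide +kernel
  change ∀ j : Fin 2, ∏ i : Fin 2, c (nB2 i) ^ wt (sim (nB2 j)) (nB2 i) = 1 at h'
  simp only [w, Fin.prod_univ_two, Fin.forall_fin_succ] at h'
  simp [zpow_ofNat, mul_inv_eq_one, inv_mul_eq_one] at h'
  have e1 : c (nB2 1) = 1 := by have := h'.2; rwa [h'.1, sq, left_eq_mul] at this
  have e0 : c (nB2 0) = 1 := Units.ext (by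
    have := congrArg Units.val (h'.1.trans e1)
    simpa [CharTwo.neg_eq] using this)
  rw [show c = 1 from funext fun i : Fin 2 => by fin_cases i; exacts [e0, e1], map_one]

variable {θ : K →+* K} (hθ : ∀ t, θ (θ t) ^ 2 = t) {e : ℕ} (he : ∀ t, θ t ^ 2 = t ^ e)
include hθ he

theorem mem_Sz {φ : chevB2.SteinbergCover K →* GL (Fin 4) K}
    (h : ∀ r t, (φ ((stC _ K).x r t) : Matrix _ _ K) = 1 + t • (E4 r).map (↑)) (t u : K) :
    φ (wN (stC _ K).x [(5, θ t), (4, t), (6, θ t * t + u), (7, θ u ^ 2)]) ∈ Lie.Sz K e ∧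
    φ (wN (stC _ K).x [(2, θ t), (3, t), (1, θ t * t + u), (0, θ u ^ 2)]) ∈ Lie.Sz K e := by
  have x : ∀ k, k < 8 → ∀ t, (φ (xN (stC _ K).x k t) : Matrix _ _ K) = 1 + t • (E4 k).map (↑) := fun k hk t => by
    rw [xN_eq _ ⟨k, hk⟩ rfl, h]
  have h1 := hθ t
  have h2 := hθ u
  have e1 : (φ (wN (stC _ K).x [(5, θ t), (4, t), (6, θ t * t + u), (7, θ u ^ 2)]) : Matrix _ _ K) =
      !![1, θ t, u, θ t * (θ t * t + u) + θ u ^ 2; 0, 1, t, θ t * t + u; 0, 0, 1, θ t; 0, 0, 0, 1] := by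
    simp only [wN_cons, wN_nil, map_mul, map_one, Units.val_mul, Units.val_one, x 4, x 5, x 6, x 7, Nat.reduceLT]
    ext i j
    fin_cases i <;> fin_cases j <;> simp [E4, Matrix.mul_apply, Fin.sum_univ_four] <;> grind
  have e2 : (φ (wN (stC _ K).x [(2, θ t), (3, t), (1, θ t * t + u), (0, θ u ^ 2)]) : Matrix _ _ K) =
      !![1, 0, 0, 0; θ t, 1, 0, 0; θ t * t + u, t, 1, 0; θ t * (θ t * t + u) + θ u ^ 2, u, θ t, 1] := by
    simp only [wN_cons, wN_nil, map_mul, map_one, Units.val_mul, Units.val_one, x 0, x 1, x 2, x 3, Nat.reduceLT]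
    ext i j
    fin_cases i <;> fin_cases j <;> simp [E4, Matrix.mul_apply, Fin.sum_univ_four] <;> grind
  refine ⟨subset_closure ⟨fun a b => ?_, ?_⟩, subset_closure ⟨fun a b => ?_, ?_⟩⟩
  · simp [e1, altForm4, Matrix.mulVec, dotProduct, Fin.sum_univ_four]; grind
  · rw [e1]; ext i j
    fin_cases i <;> fin_cases j <;> simp [star4, pairOf, ← he] <;> grind
  · simp [e2, altForm4, Matrix.mulVec, dotProduct, Fin.sum_univ_four]; grind
  · rw [e2]; ext i j
    fin_cases i <;> fin_cases j <;> simp [star4, pairOf, ← he] <;> grind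

omit he in
theorem nodeSz [Fintype K] {m : ℕ} [CA.SzBasic.Hyp K m] (he : ∀ t, θ t ^ 2 = t ^ 2 ^ (m + 1)) {l : ℕ} (hl : l.Prime)
    (h2 : l ≠ 2) : NodePC.{v} (tF4 θ) l (nF4 1) := by
  obtain ⟨φ, h⟩ := exists_rep (K := K)
  obtain ⟨μ, hμ⟩ := CA.SzGroup.exists_unit_ne_one (F := K)
  have hi := rep_inj ⟨(μ : K), μ.ne_zero, by simpa using hμ⟩ h
  obtain ⟨ψ, hψ⟩ := (twB2F4 K).exists_liftC (adjG chevF4 K).toSys0
  have x : ∀ k, k < 8 → ∀ t, ψ (xN (stC _ K).x k t) = xN (adjG chevF4 K).x ([17, 19, 20, 22, 25, 27, 28, 30].getD k 0) t :=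
    fun k hk t => by
      obtain ⟨a, b⟩ := (by decide +kernel : ∀ k < 8, ηB2F4 k = 1 ∧ [17, 19, 20, 22, 25, 27, 28, 30].getD k 0 = φB2F4 k) k hk
      rw [xN_eq _ ⟨k, hk⟩ rfl, hψ, twB2F4_f, a, xN_eq _ ((twB2F4 K).φ ⟨k, hk⟩) b]; simp
  let S : Subgroup (chevB2.SteinbergCover K) := Subgroup.closure
    {g | ∃ t u, g = wN (stC _ K).x [(5, θ t), (4, t), (6, θ t * t + u), (7, θ u ^ 2)] ∨
      g = wN (stC _ K).x [(2, θ t), (3, t), (1, θ t * t + u), (0, θ u ^ 2)]}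
  have k := fun t u : K => And.intro
    (show ψ (wN (stC _ K).x [(5, θ t), (4, t), (6, θ t * t + u), (7, θ u ^ 2)]) =
      wN (adjG chevF4 K).x [(27, θ t), (25, t), (28, θ t * t + u), (30, θ u ^ 2)] by simp [wN_cons, x])
    (show ψ (wN (stC _ K).x [(2, θ t), (3, t), (1, θ t * t + u), (0, θ u ^ 2)]) =
      wN (adjG chevF4 K).x [(20, θ t), (22, t), (19, θ t * t + u), (17, θ u ^ 2)] by simp [wN_cons, x])
  have e : S.map ψ = (tF4 θ).X1 ((tF4 θ).Op (nF4 1)) ⊔ (tF4 θ).X1 ((tF4 θ).On (nF4 1)) := by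
    refine le_antisymm (map_le_iff_le_comap.2 ((closure_le _).2 ?_)) (sup_le (fun g hg => ?_) fun g hg => ?_)
    · rintro _ ⟨t, u, rfl | rfl⟩
      exacts [mem_sup_left ((TF4.mem_Opb hθ).2 ⟨t, u, (k t u).1⟩), mem_sup_right ((TF4.mem_Onb hθ).2 ⟨t, u, (k t u).2⟩)]
    · obtain ⟨t, u, rfl⟩ := (TF4.mem_Opb hθ).1 hg
      exact ⟨_, subset_closure ⟨t, u, Or.inl rfl⟩, (k t u).1⟩
    · obtain ⟨t, u, rfl⟩ := (TF4.mem_Onb hθ).1 hg
      exact ⟨_, subset_closure ⟨t, u, Or.inr rfl⟩, (k t u).2⟩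
  have hS : S ≤ (Lie.Sz K (2 ^ (m + 1))).comap φ := (closure_le _).2 (by
    rintro _ ⟨t, u, rfl | rfl⟩
    exacts [(mem_Sz hθ he h t u).1, (mem_Sz hθ he h t u).2])
  let f : S →* CA.SzBasic.G K := (CA.SzModel.szEquiv K).symm.toMonoidHom.comp ((φ.comp S.subtype).codRestrict _ fun g => hS g.2)
  have hf : Function.Injective f := (CA.SzModel.szEquiv K).symm.injective.comp fun a b e =>
    Subtype.ext (hi (congrArg Subtype.val e))
  haveI := Finite.of_injective f hf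
  refine (pc_of_surj hl _ (ψ.subgroupMap_surjective S) fun Q hQ => ?_).congr (MulEquiv.subgroupCongr e)
  haveI := CA.SzClass.isCyclic_odd hl h2 (hQ.map f)
  exact isCyclic_of_injective (Q.equivMapOfInjective f hf).toMonoidHom (MulEquiv.injective _)

end F4

end CA.TwM
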