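/-
The multiplier of the large Ree groups.
-/
import Cfsg.Agent.Lib.Lie.TwM9

set_option autoImplicit false

namespace CA.TwM

open Equiv Cfsg Cfsg.Lie Cfsg.Lie.ChevalleyDatum CA.SchurFilt Subgroup CA.Chev CA.Chev.Sys0 CA.Chev.Sys
open CA.SchurHopf CA.Chev.Twist CA.SchurCov
open scoped commutatorElement IsMulCommutative

universe u v

section
variable {D : ChevalleyDatum} [Good D] {K : Type*} [Field K] {Γ : Type*} [Group Γ] {A : Sys D K Γ}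
  {G : Type*} [Group G] {M : Mod A G} {E : Type*} [Group E] {π : E →* G} {F : Fl D}

theorem triv_of {l : Rt D} (hl : l ∈ F.S) (h1 : F.f (rt (M.τ.ρ l)) < F.f (rt l))
    (h2 : ∀ k ∈ F.S, F.f (rt l) ≤ F.f (rt k) → M.τ.ρ k ∈ F.S ∧ F.f (rt (M.τ.ρ l)) ≤ F.f (rt (M.τ.ρ k))) :
    V0 M F l ≤ V1 M F l := fun u hu => by
  obtain ⟨t, ht⟩ := exists_co hl hu
  have a : M.e u ∈ A.X (Up F (M.τ.ρ l) (M.τ.ρ l)) := A.X_mono (S := Sg F _) (fun k hk => And.intro hk.1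
    ⟨h1.le.trans (le_of_kap hk.1 hk.2), by rintro rfl; exact absurd (le_of_kap hk.1 hk.2) (not_le.2 h1)⟩) hu
  have b := M.τ.is.mem_X (S := Sg F _) (S' := Up F (M.τ.ρ l) (M.τ.ρ l)) (fun k hk => by
    have := h2 k hk.1 (le_of_kap hk.1 (Nat.le_of_succ_le hk.2))
    exact ⟨this.1, this.2, M.τ.ρ.injective.ne (by rintro rfl; exact absurd hk.2 (by omega))⟩) ht
  rw [map_mul, map_inv, M.τ.mem_F.1 (M.memF u), σ_x] at b
  have c := mul_mem a (inv_mem b)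
  rw [_root_.mul_inv_rev, inv_inv, mul_inv_cancel_left] at c
  by_cases e : t = 0
  · rwa [e, co_zero] at ht
  · exact absurd rfl (A.x_mem_X_iff F.nil (nil_Up' rfl) (fun _ h => h.1) (h2 l hl le_rfl).1
      (by simpa [Tw.f] using e) c).2.2

theorem kl_self [Finite K] (hK : 4 < Nat.card K) {r : Rt D} (hr : r ∈ F.S)
    (h : ∀ x : K, x ≠ 0 → ∃ χ, TC M χ ∧ χ r = x) (L : Subgroup E) : KL M π F r r L := by
  by_cases e : V0 M F r ≤ V1 M F r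
  · exact kill_of_le e
  obtain ⟨u, hu, hu'⟩ := SetLike.not_le_iff_exists.1 e
  obtain ⟨t, ht⟩ := exists_co hr hu
  have h0 : t ≠ 0 := by rintro rfl; exact hu' (co_zero.1 ht)
  have k : ∀ a, ∃ u, Co M F r u (AddMonoidHom.id K a) := fun a => by
    by_cases e : a = 0
    · exact ⟨1, e ▸ co_zero.2 (one_mem _)⟩
    · obtain ⟨χ, ⟨g, hg⟩, h1⟩ := h (a / t) (div_ne_zero e h0)
      exact ⟨_, by simpa [h1, h0] using ht.conj hg⟩
  obtain ⟨v, hv⟩ := exists_bi hK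
  refine kl_bi hr hr _ _ k (fun _ t _ => ⟨t, rfl⟩) k (fun _ t _ => ⟨t, rfl⟩) fun b b1 b2 b3 _ => ?_
  have k : ∀ x : K, x ≠ 0 → ∀ a c, b (x * a) (x * c) = b a c := fun x hx a c => by
    obtain ⟨χ, h1, rfl⟩ := h x hx
    exact b3 χ h1 _ _ _ _ rfl rfl
  exact biadd_eq_one b b1 b2 hv.1 hv.2.1 hv.2.2 (k _ hv.1) (k _ hv.2.1)

theorem kl_co (hs : Function.Surjective π) {r s : Rt D} (hr : r ∈ F.S) (hs' : s ∈ F.S) {P Q : G → Prop}
    (h1 : ∀ t, ∃ y, P y ∧ Co M F r y t) (h2 : ∀ t, ∃ y, Q y ∧ Co M F s y t)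
    (h : ∀ x y, P (π x) → Q (π y) → Commute x y) (L : Subgroup E) : KL M π F r s L := fun β hb u hu v hv => by
  obtain ⟨t, ht⟩ := exists_co hr hu
  obtain ⟨t', ht'⟩ := exists_co hs' hv
  obtain ⟨a, ha, h1⟩ := h1 t
  obtain ⟨b, hb', h2⟩ := h2 t'
  obtain ⟨x, rfl⟩ := hs a
  obtain ⟨y, rfl⟩ := hs b
  rw [hb.red (V1_le r) (V1_le s) (h1.mem hr) (h2.mem hs') (h1.sub hr ht) (h2.sub hs' ht')]
  exact hb.link x y (h1.mem hr) (h2.mem hs') ((h x y ha hb').commutator_eq ▸ one_mem _)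

theorem nil_cone (a b c d : Rt D) : Nil {s | 0 < pr a s + pr b s ∧ pr c s = 0 ∧ pr d s = 0} :=
  (nil_of_fun (prL a + prL b)).mono (fun s hs => by simpa [prL_rt] using hs.1) fun r hr s hs k hk => by
    obtain ⟨i, j, h1, h2, h3⟩ := hk
    have e : ∀ a, pr a k = i * pr a r + j * pr a s := fun a => by
      rw [← prL_rt, h3, map_add, map_smul, map_smul, prL_rt, prL_rt]; rfl
    have h1 : (1 : ℤ) ≤ i := by exact_mod_cast h1
    have h2 : (1 : ℤ) ≤ j := by exact_mod_cast h2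
    refine ⟨?_, by rw [e, hr.2.1, hs.2.1]; simp, by rw [e, hr.2.2, hs.2.2]; simp⟩
    rw [e, e]; nlinarith [hr.1, hs.1]

theorem commute_of_cmms (A : Sys D K Γ) {T : Tab} (hT : tab D = T) {p : ℤ} (hp : (p : K) = 0) {S S' : List ℕ}
    (h : ∀ a ∈ S, ∀ b ∈ S', cmm T p a b = true) {u v : Γ} (hu : u ∈ A.X (RL D S)) (hv : v ∈ A.X (RL D S')) :
    Commute u v := by
  subst hT
  refine (A.X_le (M := Subgroup.centralizer {v})).2 (fun r hr t => ?_) hu v rfl |>.symm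
  rintro _ rfl
  refine (A.X_le (M := Subgroup.centralizer {A.x r t})).2 (fun s hs u => ?_) hv _ rfl |>.symm
  rintro _ rfl
  simpa only [xN_val] using (commute_of_cmm A.add A.comm hp (h r hr s hs) t u).eq

theorem hall_witt {H : Type*} [Group H] {x p w : H} (h1 : Commute x p) (h2 : Commute p ⁅x, w⁆)
    (h3 : Commute ⁅p, w⁆ ⁅x, w⁆) : Commute x ⁅p, w⁆ := by
  have : x * ⁅p, w⁆ * x⁻¹ = ⁅p, ⁅x, w⁆ * w⁆ := by
    rw [conjugate_commutatorElement, h1.eq, mul_inv_cancel_right]; congr 1; rw [commutatorElement_def]; group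
  rw [comm_mul_r', h2.commutator_eq, one_mul, ← h3.eq, mul_inv_cancel_right] at this
  exact mul_inv_eq_iff_eq_mul.1 this
end

namespace F4
variable {K : Type u} [Field K] [CharP K 2] {θ : K →+* K} (hθ : ∀ t, θ (θ t) ^ 2 = t)

variable (θ) in
/-- the twisted Frobenius map on units -/
def tu : Kˣ →* Kˣ := (powMonoidHom 2).comp (Units.map (θ : K →* K))

variable (θ) in
/-- twisted powers -/
def Pu (m n : ℤ) : Kˣ →* Kˣ := zpowGroupHom m * (zpowGroupHom n).comp (tu θ)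

omit [CharP K 2] in
theorem Pu_apply (m n : ℤ) (v : Kˣ) : Pu θ m n v = v ^ m * tu θ v ^ n := rfl

omit [CharP K 2] in
theorem Pu_mul (a b c d : ℤ) (v : Kˣ) : Pu θ a b v * Pu θ c d v = Pu θ (a + c) (b + d) v := by
  simp only [Pu_apply, zpow_add]; ac_rfl

include hθ

omit [CharP K 2] in
theorem Pu_Pu (a b c d : ℤ) (v : Kˣ) : Pu θ c d (Pu θ a b v) = Pu θ (a * c + 2 * b * d) (a * d + b * c) v := by
  have : tu θ (tu θ v) = v ^ (2 : ℤ) := Units.ext (by simp [tu, hθ, zpow_ofNat])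
  simp only [Pu_apply, map_mul, map_zpow, this, mul_zpow, ← zpow_mul, zpow_add]; ac_rfl

theorem Pu_inj {m n : ℤ} (h : m ^ 2 - 2 * n ^ 2 ∣ 16) : Function.Injective (Pu θ m n) :=
  (injective_iff_map_eq_one _).2 fun v e => by
    have := congrArg (Pu θ m (-n)) e
    rw [Pu_Pu hθ, map_one, Pu_apply, show m * -n + n * m = 0 by ring, zpow_zero, mul_one] at this
    obtain ⟨k, hk⟩ := h
    have h2 : v ^ (16 : ℤ) = 1 := by rw [hk, zpow_mul, show m ^ 2 - 2 * n ^ 2 = m * m + 2 * n * -n by ring, this, one_zpow]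
    have h3 : (v : K) ^ 2 ^ 4 = 1 := by simpa [zpow_ofNat] using congrArg Units.val h2
    rw [← sub_eq_zero, ← one_pow (2 ^ 4), ← sub_pow_char_pow, pow_eq_zero_iff (by norm_num), sub_eq_zero] at h3
    exact Units.ext h3

/-- coordinates of the weight -/
noncomputable def w4 (r : Rt chevF4) (i : Fin 4) : ℤ := wt r (nF4 i)
/-- the determinant of two relative roots -/
noncomputable def e1 (r s : Rt chevF4) : ℤ := w4 r 0 * w4 s 1 + 2 * w4 r 3 * w4 s 2 + (-w4 r 1 * w4 s 0 + 2 * -w4 r 2 * w4 s 3)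
/-- the determinant of two relative roots -/
noncomputable def e2 (r s : Rt chevF4) : ℤ := w4 r 0 * w4 s 2 + w4 r 3 * w4 s 1 + (-w4 r 1 * w4 s 3 + -w4 r 2 * w4 s 0)
/-- different directions -/
def Nk (r s : Rt chevF4) : Prop := e1 r s ^ 2 - 2 * e2 r s ^ 2 ∣ 16
/-- the same direction -/
def Zk (r s : Rt chevF4) : Prop := e1 r s = 0 ∧ e2 r s = 0
noncomputable instance (r s : Rt chevF4) : Decidable (Nk r s) := inferInstanceAs (Decidable (_ ∣ _))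
noncomputable instance (r s : Rt chevF4) : Decidable (Zk r s) := inferInstanceAs (Decidable (_ ∧ _))

variable {e : ℕ} (he : ∀ t, θ t = t ^ e)

theorem tc4 (x y : Kˣ) : TC (TF4.real he hθ).mod fun r => (Pu θ (w4 r 1) (w4 r 2) x * Pu θ (w4 r 0) (w4 r 3) y : Kˣ) := by
  convert tc_of (M := (TF4.real he hθ).mod) adjG_R3 (TF4.torH_mem hθ (![y, x, tu θ x, tu θ y] : Fin 4 → Kˣ)
    (TF4.mem_T1'.2 ⟨by simp [nF4, tu], by simp [nF4, tu], by simp [nF4, tu, hθ], by simp [nF4, tu, hθ]⟩)) using 2 with r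
  refine Eq.trans ?_ (tor_rt _ r).symm
  change _ = ∏ i : Fin 4, ((![y, x, tu θ x, tu θ y] : Fin 4 → Kˣ) i : K) ^ w4 r i
  simp [Pu_apply, Fin.prod_univ_four]; ring

variable [Finite K] (hK : 4 < Nat.card K)
include hK

theorem tcE (r : Rt chevF4) : ∃ χ, TC (TF4.real he hθ).mod χ ∧ (∀ s, Zk r s → χ s = 1) ∧ ∀ s, Nk r s → χ s ≠ 1 := by
  obtain ⟨v, h1, h2, -⟩ := exists_bi hK
  refine ⟨_, tc4 hθ he (Pu θ (w4 r 0) (w4 r 3) (Units.mk0 v h1)) (Pu θ (-w4 r 1) (-w4 r 2) (Units.mk0 v h1)),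
    fun s hs => ?_, fun s hs e => h2 ?_⟩
  · simp only [Pu_Pu hθ, Pu_mul]
    rw [show _ + _ = (0 : ℤ) from hs.1, show _ + _ = (0 : ℤ) from hs.2]; simp [Pu_apply]
  · simp only [Pu_Pu hθ, Pu_mul, Units.val_eq_one] at e
    simp [← show v = 1 from congrArg Units.val (Pu_inj hθ hs (e.trans (map_one _).symm))]

omit hK in
theorem full {r : Rt chevF4} (h : w4 r 1 ^ 2 - 2 * w4 r 2 ^ 2 ∣ 16 ∨ w4 r 0 ^ 2 - 2 * w4 r 3 ^ 2 ∣ 16) (x : K)
    (hx : x ≠ 0) : ∃ χ, TC (TF4.real he hθ).mod χ ∧ χ r = x := by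
  rcases h with h | h <;> obtain ⟨v, hv⟩ := Finite.injective_iff_surjective.1 (Pu_inj hθ h) (Units.mk0 x hx)
  exacts [⟨_, tc4 hθ he v 1, by simp [hv]⟩, ⟨_, tc4 hθ he 1 v, by simp [hv]⟩]

/-- a closed set of roots -/
def Nc (L : List ℕ) : Prop := ∃ a ∈ L, ∃ b ∈ L, ∃ c ∈ [24, 25, 26, 29, 31, 32, 38, 39], ∀ s : Rt chevF4,
  s.val ∈ L ↔ 0 < prT tabF4 a s + prT tabF4 b s ∧ prT tabF4 c s = 0 ∧ prT tabF4 (φF4 c) s = 0 ∧ a < 48 ∧ b < 48 ∧ φF4 c < 48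
noncomputable instance (L : List ℕ) : Decidable (Nc L) := inferInstanceAs (Decidable (∃ _ ∈ _, _))

omit hθ hK in
theorem Nc.nil {L : List ℕ} (h : Nc L) : Nil (RL chevF4 L) := by
  obtain ⟨a, ha, b, -, c, hc, h⟩ := h
  by_cases e : a < 48 ∧ b < 48 ∧ φF4 c < 48
  · have hc : c < 48 := (by decide : ∀ c ∈ [24, 25, 26, 29, 31, 32, 38, 39], c < 48) c hc
    convert nil_cone (D := chevF4) ⟨a, e.1⟩ ⟨b, e.2.1⟩ ⟨c, hc⟩ ⟨_, e.2.2⟩ using 1
    ext s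
    simp only [RL, Set.mem_ofPred_eq, h, pr_eq_tab tab_F4, prT, e, and_true]
  · exact nil_pos.mono (fun s hs => absurd ((h s).1 hs).2.2.2 e) fun s hs => absurd ((h s).1 hs).2.2.2 e

/-- commuting root subgroups in different directions -/
def Lc (S T : List ℕ) : Prop := Nc T ∧ (∀ a ∈ S, ∀ b ∈ T, cmm tabF4 2 a b = true) ∧
  ∃ r, ∀ s, (s.val ∈ S → Zk r s) ∧ (s.val ∈ T → Nk r s)
noncomputable instance (S T : List ℕ) : Decidable (Lc S T) := inferInstanceAs (Decidable (_ ∧ _))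

variable {E : Type*} [Group E] {π : E →* twistedF4 K e} (hc : π.ker ≤ center E) (hs : Function.Surjective π)
include hc hs

theorem Lc.lc {S T : List ℕ} (h : Lc S T) : LC (TF4.real he hθ).mod π (RL _ S) (RL _ T) := by
  obtain ⟨h1, h2, r, h3⟩ := h
  obtain ⟨χ, a, b, c⟩ := tcE hθ he hK r
  refine LC.of_fpf hc hs h1.nil (fun u hu v hv => (TF4.real he hθ).mod.inj ?_) a (fun s hs => b s ((h3 s).1 hs))
    fun s hs => c s ((h3 s).2 hs)
  rw [map_mul, map_mul]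
  exact commute_of_cmms _ tab_F4 TF4.two_eq h2 hu hv

local notation "𝔸" => adjG chevF4 K
local notation "𝕨" => wN (Sys0.x (Sys.toSys0 (adjG chevF4 K)))
local notation "𝕄" => Real.mod (TF4.real he hθ)

/-- a Suzuki root subgroup -/
def Bc (a b c d : ℕ) : Prop := Nc [a, b, c, d] ∧ ([a, b, c, d].Nodup ∧ ∀ k ∈ [a, b, c, d], k < 48) ∧
  ((a < 48 ∧ φF4 a = b ∧ eF4 a = 2) ∧ (b < 48 ∧ φF4 b = a ∧ eF4 b = 1) ∧ (c < 48 ∧ φF4 c = d ∧ eF4 c = 2) ∧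
    (d < 48 ∧ φF4 d = c ∧ eF4 d = 1)) ∧
  colChk tabF4 2 (κ0 tabF4) 9 [(b, .v 1), (a, .v 0), (d, .v 3), (c, .v 2)]
    [(a, .v 0), (b, .v 1), (c, .v 0 * .v 1 + .v 2), (d, .v 0 ^ 2 * .v 1 + .v 3)] = true ∧ ∀ k ∈ [a, b, c, d], 24 ≤ k
noncomputable instance (a b c d : ℕ) : Decidable (Bc a b c d) := inferInstanceAs (Decidable (_ ∧ _))

omit hK hc hs [Finite K] in
theorem Bc.ex {a b c d : ℕ} (h : Bc a b c d) (t : K) : ∃ y ∈ (𝕄).X (RL _ [a, b, c, d]),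
    (𝕄).e y = 𝕨 [(a, θ t), (b, t), (c, θ t * t), (d, 0)] := by
  have := (TF4.mem_B2 hθ h.1.nil h.2.1 h.2.2.1 h.2.2.2.1).2 ⟨t, 0, rfl⟩
  simp only [add_zero, map_zero, ne_eq, OfNat.ofNat_ne_zero, not_false_eq_true, zero_pow] at this
  exact lift_of (r := sim (nF4 0)) (fun s hs => iff_of_true (h.2.2.2.2 s hs) (pos_sim _)) this.1 this.2

/-- the filtration -/
noncomputable def fv (s : Rt chevF4) : ℤ := 87 * w4 s 0 + 169 * w4 s 1 + 239 * w4 s 2 + 123 * w4 s 3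

set_option synthInstance.maxSize 2000 in
omit hK hc hs [Finite K] hθ in
theorem f1 : ∀ s, Pos s → 0 < fv s ∧ (eF4 s = 2 ∨ ∀ r, r.val = φF4 s → fv r < fv s ∧
    ∀ k, Pos k → fv s ≤ fv k → ∀ k', k'.val = φF4 k → Pos k' ∧ fv r ≤ fv k') ∧ (eF4 s = 2 →
    (w4 s 1 ^ 2 - 2 * w4 s 2 ^ 2 ∣ 16 ∨ w4 s 0 ^ 2 - 2 * w4 s 3 ^ 2 ∣ 16) ∧ ∀ r, Pos r → eF4 r = 2 → fv r ≤ fv s →
    s = r ∨ Nk r s ∨ (r.val, s.val) ∈ [(34, 36), (29, 44), (35, 40), (27, 28)]) := by decide +kernel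

/-- the functional -/
noncomputable def fL : (Nd chevF4 → ℤ) →ₗ[ℤ] ℤ :=
  87 • prL (sim (nF4 0)) + 169 • prL (sim (nF4 1)) + 239 • prL (sim (nF4 2)) + 123 • prL (sim (nF4 3))

omit hK hc hs [Finite K] hθ in
theorem fL_rt (s : Rt chevF4) : fL (rt s) = fv s := by simp [fL, fv, w4, prL_rt, pr_sim_left]

/-- the filtration -/
noncomputable def FF : Fl chevF4 := ⟨{r | Pos r}, fL, nil_pos, fun r hr => fL_rt r ▸ (f1 r hr).1⟩

/-- the data around a Suzuki root subgroup -/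
def Sc (a b c d e e' g g' a2 b2 c2 d2 : ℕ) (κ : List ℕ) : Prop := Bc a b c d ∧ Bc a2 b2 c2 d2 ∧
  Lc [a, b, c, d] [e, e'] ∧ Lc [e, e'] [g, g'] ∧ Lc [a, b, c, d] [g, g'] ∧
  ((e < 48 ∧ φF4 e = e' ∧ eF4 e = 2) ∧ (e' < 48 ∧ φF4 e' = e ∧ eF4 e' = 1) ∧ cmm tabF4 2 e e' = true ∧
    ∃ r : Rt chevF4, ∀ s : Rt chevF4, s.val ∈ [e, e'] → (Pos s ↔ Pos r)) ∧
  colChk tabF4 2 (κ.getD · 0) 30 [(e, .v 0), (e', .v 1), (a2, .c 1), (b2, .c 1), (c2, .c 1), (d2, .c 0)]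
    [(c, .v 0), (d, .v 1), (a2, .c 1), (b2, .c 1), (c2, .c 1), (d2, .c 0), (e, .v 0), (e', .v 1)] = true ∧
  colChk tabF4 2 (κ.getD · 0) 30 [(a, .v 0), (b, .v 1), (c, .v 2), (d, .c 0), (a2, .c 1), (b2, .c 1), (c2, .c 1), (d2, .c 0)]
    [(g, .v 0), (g', .v 1), (a2, .c 1), (b2, .c 1), (c2, .c 1), (d2, .c 0), (a, .v 0), (b, .v 1), (c, .v 2), (d, .c 0)] = true ∧
  ∀ r s : Rt chevF4, (r.val = a ∧ s.val ∈ [b, c, d] ∨ r.val = c ∧ s.val = d) → fv r < fv s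
set_option synthInstance.maxSize 2000 in
noncomputable instance (a b c d e e' g g' a2 b2 c2 d2 : ℕ) (κ : List ℕ) : Decidable (Sc a b c d e e' g g' a2 b2 c2 d2 κ) :=
  inferInstanceAs (Decidable (_ ∧ _))

theorem Sc.kl {a b c d e e' g g' a2 b2 c2 d2 : ℕ} {κ : List ℕ} (h : Sc a b c d e e' g g' a2 b2 c2 d2 κ) {r s : Rt chevF4}
    (hr : Pos r) (hs' : Pos s) (ha : r.val = a) (hb : s.val = c) (L : Subgroup E) : KL (𝕄) π FF r s L := by
  obtain ⟨h1, h2, l1, l2, l3, ⟨p1, p2, p3, r0, p4⟩, c1, c2', o⟩ := h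
  obtain ⟨w, -, hw⟩ := h2.ex hθ he 1
  obtain ⟨w, rfl⟩ := hs w
  rw [map_one, mul_one] at hw
  have sg : ∀ (r : Rt chevF4) (L : List ℕ), Pos r → (∀ k ∈ L, k ∈ [a, b, c, d]) → (∀ s : Rt chevF4, s.val ∈ L → fv r < fv s) →
      (𝔸).X (RL _ L) ≤ (𝔸).X (Sg FF (kap FF.f r + 1)) := fun r L hr h3 h4 => (𝔸).X_mono fun s hs =>
    And.intro (h1.2.2.2.2 _ (h3 _ hs)) (kap_lt (FF.pos r hr) (by simpa only [FF, fL_rt] using h4 s hs))
  have θs := Finite.injective_iff_surjective.1 θ.injective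
  have cp : ∀ p t, (𝕄).e p = 𝕨 [(e, θ t), (e', t)] → (𝕄).e ⁅p, π w⁆ = 𝕨 [(c, θ t), (d, t)] := fun p t hp => by
    have := wN_eq_of_colChk (𝔸).toSys0 TF4.two_eq [θ t, t] tab_F4 c1
    rw [map_commutatorElement, hp, hw, commutatorElement_def, mul_inv_eq_iff_eq_mul, mul_inv_eq_iff_eq_mul, ← wN_append,
      ← wN_append, ← wN_append]
    simpa [Ex.ev] using this
  refine kl_co hs hr hs' (P := fun y => y ∈ (𝕄).X (RL _ [a, b, c, d]) ∧ ∃ t, (𝕄).e y = 𝕨 [(a, θ t), (b, t), (c, θ t * t), (d, 0)])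
    (Q := fun y => ∃ p ∈ (𝕄).X (RL _ [e, e']), ∃ t, (𝕄).e p = 𝕨 [(e, θ t), (e', t)] ∧ y = ⁅p, π w⁆)
    (fun t => ?_) (fun t => ?_) ?_ L
  · obtain ⟨t, rfl⟩ := θs t
    obtain ⟨y, hy, e⟩ := h1.ex hθ he t
    refine ⟨y, ⟨hy, t, e⟩, ?_⟩
    rw [Co, e, wN_cons, xN_eq _ r ha.symm, inv_mul_cancel_left]
    exact sg r [b, c, d] hr (by simp) (fun s hs => o r s (Or.inl ⟨ha, hs⟩)) ((𝔸).wN_mem (by simp))
  · obtain ⟨t, rfl⟩ := θs t
    obtain ⟨p, hp, e1⟩ := lift_of (M := 𝕄) p4 ((𝔸).wN_mem (w := [(e, θ t), (e', t)]) (by simp)) (by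
      change (tF4 θ).σ _ = _
      simp only [wN_cons, wN_nil, map_mul, mul_one, TF4.σx _ _ _ p1, TF4.σx _ _ _ p2, hθ, pow_one]
      exact (commute_of_cmm (𝔸).add (𝔸).comm TF4.two_eq (tab_F4 ▸ p3) _ _).eq.symm)
    refine ⟨_, ⟨p, hp, t, e1, rfl⟩, ?_⟩
    rw [Co, cp p t e1, wN_cons, xN_eq _ s hb.symm, inv_mul_cancel_left]
    exact sg s [d] hs' (by simp) (fun k hk => o s k (Or.inr ⟨hb, by simpa using hk⟩)) ((𝔸).wN_mem (by simp))
  · rintro x y ⟨hx, t, ex⟩ ⟨p, hp, u, ep, ey⟩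
    obtain ⟨p, rfl⟩ := hs p
    have e3 : π ⁅x, w⁆ ∈ (𝕄).X (RL _ [g, g']) := by
      have := wN_eq_of_colChk (𝔸).toSys0 TF4.two_eq [θ t, t, θ t * t] tab_F4 c2'
      rw [Mod.mem_X, show (𝕄).e (π ⁅x, w⁆) = 𝕨 [(g, θ t), (g', t)] by
        rw [map_commutatorElement, map_commutatorElement, ex, hw, commutatorElement_def, mul_inv_eq_iff_eq_mul,
          mul_inv_eq_iff_eq_mul, ← wN_append, ← wN_append, ← wN_append]
        simpa [Ex.ev] using this]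
      exact (𝔸).wN_mem (by simp)
    have := hall_witt (l1.lc hθ he hK hc hs x p hx hp) (l2.lc hθ he hK hc hs p _ hp e3) (l3.lc hθ he hK hc hs _ _ (by
      rw [Mod.mem_X, map_commutatorElement π, cp _ u ep]; exact (𝔸).wN_mem (by simp)) e3)
    rw [← commutatorElement_eq_one_iff_commute] at this ⊢
    rwa [comm_congr hc rfl (ey.trans (map_commutatorElement π p w).symm)]

omit hK hc hs [Finite K] hθ in
theorem sc : Sc 34 26 36 42 33 24 38 43 29 41 44 47 (List.range 48) ∧ Sc 29 41 44 47 38 43 39 45 35 31 40 46 (List.range 48) ∧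
    Sc 35 31 40 46 39 45 37 32 27 25 28 30 (List.range 48) ∧ Sc 27 25 28 30 14 23 37 32 35 31 40 46
      [1, 0, 2, 7, 15, 17, 16, 3, 8, 10, 9, 19, 18, 20, 33, 4, 6, 5, 12, 11, 13, 22, 21, 24, 23, 26, 25, 34, 36, 35, 42, 41,
        43, 14, 27, 29, 28, 38, 37, 39, 44, 31, 30, 32, 40, 45, 47, 46] := by decide +kernel

omit hc hs in
include he in
theorem pp : PP.{_, v} 2 (twistedF4 K e) := fun E _ _ π hπ => by
  refine pp_of_filt (M := 𝕄) (f := FF) 2 adjG_R3 hπ rfl {r | eF4 r = 2} (fun r hr e => ?_) (fun _ => ⊥)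
    (fun r hr hr' => Or.inr ⟨rfl, ?_⟩) fun r hr s hs hr' hs' e => ?_
  · obtain ⟨h1, h2⟩ := (f1 r hr).2.1.resolve_left e ((𝕄).τ.ρ r) rfl
    exact triv_of hr (by simpa only [FF, fL_rt] using h1) fun k hk e =>
      (h2 k hk (by simpa only [FF, fL_rt] using e) ((𝕄).τ.ρ k) rfl).imp_right fun h => by simpa only [FF, fL_rt] using h
  · obtain ⟨v, h1, h2, -⟩ := exists_bi hK
    obtain ⟨χ, a, b⟩ := full hθ he ((f1 r hr').2.2 hr).1 v h1
    exact ⟨χ, a, b ▸ (sub_ne_zero.1 h2).symm⟩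
  rcases ((f1 s hs').2.2 hs).2 r hr' hr (by simpa only [FF, fL_rt] using le_of_kap hs' e) with rfl | h | h
  · exact kl_self hK hr' (full hθ he ((f1 s hs').2.2 hs).1) _
  · obtain ⟨χ, a, b, c⟩ := tcE hθ he hK r
    exact K1.kl hr' hs' ⟨χ, a, b r ⟨by simp only [e1]; ring, by simp only [e2]; ring⟩, c s h⟩ _
  · simp only [List.mem_cons, Prod.mk.injEq, List.not_mem_nil, or_false] at h
    rcases h with h | h | h | h
    exacts [sc.1.kl hθ he hK hπ.2.1 hπ.1 hr' hs' h.1 h.2 _, sc.2.1.kl hθ he hK hπ.2.1 hπ.1 hr' hs' h.1 h.2 _,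
      sc.2.2.1.kl hθ he hK hπ.2.1 hπ.1 hr' hs' h.1 h.2 _, sc.2.2.2.kl hθ he hK hπ.2.1 hπ.1 hr' hs' h.1 h.2 _]

end F4

theorem has_F4 {K : Type u} [Field K] [Fintype K] {m : ℕ} (hm : 1 ≤ m) (hK : Fintype.card K = 2 ^ (2 * m + 1)) :
    HasCyclicSchurMultiplier (twistedF4 K (2 ^ m)) 1 := by
  obtain ⟨_, θ, he, hθ, h⟩ := exists_theta 2 hK
  haveI : CA.SzBasic.Hyp K m := ⟨hm, hK⟩
  have h4 : 4 < Nat.card K := h ▸ lt_of_lt_of_le (by norm_num) (Nat.pow_le_pow_right two_pos (by omega : 3 ≤ _))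
  have hi : Function.Injective (adjG_R3 (D := chevF4) (K := K)).torH := (injective_iff_map_eq_one _).2 fun c hc =>
    (injective_iff_map_eq_one _).1 tor_injective_F4 c (mem_ker_tor.2 fun j => Units.ext (by
      have := adjG_R3.torH_conj c (sim j) 1
      rw [hc, one_mul, inv_one, mul_one, tor_rt] at this
      simpa using ((adjG chevF4 K).x_injective _ this).symm))
  obtain ⟨e'⟩ := equiv_zmod (Z := ↥((tF4 θ).T1 ⊓ (tor (D := chevF4)).ker)) (n := 1)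
    (by rw [(MonoidHom.ker_eq_bot_iff _).2 tor_injective_F4, inf_bot_eq, card_bot]) (Or.inl rfl)
  refine has_of 2 adjG_R3 hi (τ := tF4 θ) adjG_R3 hi adjG_G (TF4.ok hθ) (TF4.torH_mem hθ) (TF4.real he hθ).mod rfl
    ((TF4.real he hθ).perfect_of (TF4.le_commutator hθ (by omega))) (fun l hl h2 i => ?_) (F4.pp hθ he h4) e'
  have := F4.nodeSz.{u, u} hθ (fun t => by rw [he, ← pow_mul, pow_succ]) hl h2
  rcases TF4.nodes i with h | rfl | rfl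
  · exact nodePC2 2 hl h2 (fun _ => TF4.hc _) _ hi (TF4.ty2 hθ h)
  · exact this
  · rwa [NodePC, Op_congr TF4.mem_orb2, On_congr TF4.mem_orb2]

end CA.TwM
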