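/-
Twists of order two: Weyl elements, short roots from long ones.
-/
import Cfsg.Agent.Lib.Lie.TwM10
import Cfsg.Agent.Lib.Lie.H23Uni4

set_option autoImplicit false

namespace CA.TwM

open Equiv Cfsg Cfsg.Lie Cfsg.Lie.ChevalleyDatum CA.SchurFilt Subgroup CA.Chev CA.Chev.Sys0 CA.Chev.Sys
open CA.SchurHopf CA.Chev.Twist CA.SchurCov
open scoped commutatorElement IsMulCommutative

universe u v

section
variable {D : ChevalleyDatum} [Good D] {K : Type*} [Field K] {Γ : Type*} [Group Γ] {A : Sys D K Γ}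
  {G : Type*} [Group G] {M : Mod A G} {E : Type*} [Group E] {π : E →* G} {α : K →+* K} {F : Fl D}

theorem exists_n1 {c : Rt D} (e : M.τ.ρ c = c) (h1 : M.τ.T.f c 1 = 1) (h2 : M.τ.T.f (ng c) (-1) = -1) :
    ∃ g ∈ M.X {c} ⊔ M.X {ng c}, M.Act g (refl c) := by
  obtain ⟨y, hy, e1⟩ := lift_fix e h1
  obtain ⟨z, hz, e2⟩ := lift_fix (r := ng c) (by rw [M.τ.dsym.ρ_ng, e]) h2
  refine ⟨y * z * y, mul_mem (mul_mem (mem_sup_left hy) (mem_sup_right hz)) (mem_sup_left hy), ?_⟩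
  have := A.act_n c 1
  rw [Mod.Act, map_mul, map_mul, e1, e2]
  simpa [Sys0.n, nn] using this

theorem Hz.rel_act {r : Rt D} {Y : Subgroup E} (h : Hz M π r Y) {g : G} {w : Perm (Rt D)} (hg : g ∈ CZ M π {r})
    (hw : M.Act g w) {a b : Rt D} (ha : a ∈ Qs r) (hb : b ∈ Qs r) (e : ∀ u ∈ M.X {a}, ∀ v ∈ M.X {b}, Rel π Y u v) :
    ∀ u ∈ M.X {w a}, ∀ v ∈ M.X {w b}, Rel π Y u v := fun u hu v hv => by
  have h1 := hw.inv.conj (T := {a}) (by simp) hu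
  have h2 := hw.inv.conj (T := {b}) (by simp) hv
  simpa [mul_assoc] using h.rel_conj hg (M.X_mono (by simpa using ha) h1) (M.X_mono (by simpa using hb) h2) (e _ h1 _ h2)

namespace S2
variable (h : S2 M α)
include h

theorem O_eq {r s : Rt D} (e : s ∈ O M r) : O M s = O M r := by
  rcases e with rfl | rfl
  exacts [rfl, h.O_ρ r]

theorem le_of (hF : Inv M F) (o : ∀ r, 0 ≤ pr r (M.τ.ρ r)) {P : Subgroup G} (e : ∀ s ∈ F.S, M.X (O M s) ≤ P) :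
    M.X F.S ≤ P := le_of_rp fun s hs => (h.rp_O hF hs (o s)).mono (e s hs)

theorem exists_n2 {a : Rt D} (e : pr a (M.τ.ρ a) = 0) :
    ∃ g ∈ M.X (O M a) ⊔ M.X (O M (ng a)), M.Act g (refl a * (M.τ.ρ * refl a * M.τ.ρ⁻¹)) := by
  obtain ⟨y, hy, e1⟩ := h.nm e.ge 1
  obtain ⟨z, hz, e2⟩ := h.nm (r := ng a) (by simp [M.τ.dsym.ρ_ng, e]) (-1)
  refine ⟨y * z * y, mul_mem (mul_mem (mem_sup_left hy) (mem_sup_right hz)) (mem_sup_left hy), ?_⟩
  have := (A.act_n a 1).mul (M.τ.act (A.n_mem a 1) (A.act_n a 1))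
  rw [Mod.Act, map_mul, map_mul, e1, e2]
  convert this using 1
  have k : ∀ r s : Rt D, pr r (M.τ.ρ s) = 0 → ∀ t u, Commute (A.x r t) (M.τ.σ (A.x s u)) := fun r s e t u => by
    rw [σ_x]; exact A.comm_of_nonneg h.hl e.ge _ _
  have k1 := k a a e 1 1
  have k2 := k (ng a) a (by simp [e]) (-1) 1
  have k3 := k a (ng a) (by simp [M.τ.dsym.ρ_ng, e]) 1 (-1)
  simp only [Sys0.n, nn, Units.val_one, inv_one, map_mul]
  generalize A.x a 1 = p, A.x (ng a) (-1) = q, M.τ.σ (A.x a 1) = p', M.τ.σ (A.x (ng a) (-1)) = q' at k1 k2 k3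
  calc _ = p * (p' * q) * (q' * p) * p' := by group
    _ = p * q * (p' * p) * q' * p' := by rw [← k2.eq, ← k3.eq]; group
    _ = _ := by rw [← k1.eq]; group

theorem comm_le {a b r : Rt D} (ha : 0 ≤ pr a (M.τ.ρ a)) (hb : 0 ≤ pr b (M.τ.ρ b)) (hab : 0 ≤ pr a (M.τ.ρ b))
    (e : rt r = rt a + rt b) : ⁅M.X (O M a), M.X (O M b)⁆ ≤ M.X (O M r) := commutator_le.2 fun u hu v hv => by
  obtain ⟨t, e1⟩ := h.mem_O ha hu
  obtain ⟨s, e2⟩ := h.mem_O hb hv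
  obtain ⟨C, -, -, h2⟩ := h.exists_C e
  rw [Mod.mem_X, map_commutatorElement, e1, e2, h.comm_nm ha hb hab, h2, σ_x]
  exact mul_mem (A.x_mem (by simp [O]) _) (A.x_mem (by simp [O]) _)

/-- short roots from long ones -/
theorem le_sh {a b c k : Rt D} (hb : M.τ.ρ b = b) (h1 : M.τ.T.f b 1 = 1) (ha : 0 ≤ pr a (M.τ.ρ a)) (hc : 0 ≤ pr c (M.τ.ρ c))
    (e1 : rt c = rt b + rt a) (e2 : rt k = rt a + rt (M.τ.ρ c)) (e3 : 0 ≤ pr c k) :
    M.X (O M c) ≤ M.X {k} ⊔ ⁅M.X {b}, M.X (O M a)⁆ := fun y hy => by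
  obtain ⟨t, ey⟩ := h.mem_O hc hy
  obtain ⟨C, h0, -, h2⟩ := h.exists_C e1
  obtain ⟨C', -, -, h3⟩ := h.exists_C e2
  obtain ⟨u, hu, eu⟩ := lift_fix hb h1
  obtain ⟨g, hg, eg⟩ := h.nm ha (C⁻¹ * t)
  have h4 : ⁅A.x b 1, M.τ.σ (A.x a (C⁻¹ * t))⁆ = M.τ.σ (A.x c t) := by
    have := congrArg M.τ.σ (h2 1 (C⁻¹ * t))
    rwa [map_commutatorElement, σ_x, hb, h1, mul_one, mul_inv_cancel_left₀ h0] at this
  have h5 : ⁅u, g⁆ * y⁻¹ ∈ M.X {k} := by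
    have := h3 (C⁻¹ * t) (M.τ.T.f c t)
    rw [← σ_x] at this
    rw [Mod.mem_X, map_mul, map_inv, map_commutatorElement, eu, eg, ey, comm_mul_r', h2, h4, mul_one,
      mul_inv_cancel_left₀ h0]
    convert A.x_mem (Set.mem_singleton k) (C' * (C⁻¹ * t) * M.τ.T.f c t) using 1
    rw [← mul_inv_cancel_right (A.x k _) (A.x c t), ← (A.comm_of_nonneg h.hl e3 _ _).eq, ← this, commutatorElement_def]
    group
  simpa only [_root_.mul_inv_rev, inv_inv, inv_mul_cancel_right] using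
    mul_mem (mem_sup_left (inv_mem h5)) (mem_sup_right (commutator_mem_commutator hu hg))

variable (hc : π.ker ≤ center E) (hs : Function.Surjective π)
include hc hs

theorem lc_sh {a b c k : Rt D} (hb : M.τ.ρ b = b) (h1 : M.τ.T.f b 1 = 1) (ha : 0 ≤ pr a (M.τ.ρ a))
    (hc' : 0 ≤ pr c (M.τ.ρ c)) (hk : M.τ.ρ k = k) (e1 : rt c = rt b + rt a) (e2 : rt k = rt a + rt (M.τ.ρ c))
    (e3 : 0 ≤ pr c k) (e4 : 0 ≤ pr a c) (l1 : LC M π {b} (O M c)) (l2 : LC M π {b} {k}) (l3 : LC M π {k} (O M c)) :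
    LC M π (O M c) (O M c) := by
  refine (lc_iff hc hs).2 ((h.le_sh hb h1 ha hc' e1 e2 e3).trans (sup_le ((lc_iff hc hs).1 l3.symm)
    (commutator_le.2 fun u hu g hg => ?_)))
  obtain ⟨u, rfl⟩ := hs u
  obtain ⟨g, rfl⟩ := hs g
  rw [← map_commutatorElement, mem_CZ hc]
  intro p hp
  have h2 := h.comm_le ha (b := M.τ.ρ c) (by rwa [h.pr_ρ]) (by rwa [h.ρρ]) e2
  rw [h.O_ρ, O_fix hk] at h2
  have h3 := (l2 u ⁅g⁻¹, p⁆ hu (map_commutatorElement π _ _ ▸ h2 (commutator_mem_commutator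
    (map_inv π g ▸ inv_mem hg) hp))).mul_right (l1 u p hu hp)
  have h4 : Commute p (g * u⁻¹ * g⁻¹) := by
    have := h3.inv_left.map (MulAut.conj g)
    simp only [MulAut.conj_apply, commutatorElement_def] at this
    convert this.symm using 1; group
  simpa only [commutatorElement_def, mul_assoc] using (l1 u p hu hp).symm.mul_right h4

omit hc hs in
theorem exists_one : ∃ v : Kˣ, (v : K) * α v = 1 ∧ (v : K) ^ 2 ≠ 1 := by
  obtain ⟨t, h1, h2⟩ : ∃ t, α t ≠ t ∧ α t ≠ -t := by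
    obtain ⟨t, ht⟩ := h.nid
    by_cases e : α t = -t
    · exact ⟨1 + t, by simpa using ht, fun e' => ht (by
        rw [map_add, map_one, e] at e'
        linear_combination e - t * e')⟩
    · exact ⟨t, ht, e⟩
  have h0 : t ≠ 0 := by rintro rfl; simp at h1
  have h0' : α t ≠ 0 := by simpa using h0
  refine ⟨Units.mk0 (t / α t) (div_ne_zero h0 h0'), by simp [h.α2, h0, h0'], fun e => ?_⟩
  rw [Units.val_mk0, div_pow, div_eq_one_iff_eq (pow_ne_zero 2 h0'), eq_comm, sq_eq_sq_iff_eq_or_eq_neg] at e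
  exact e.elim h1 h2

omit hc hs in
theorem tc_sh {s : Rt D} (e : pr s (M.τ.ρ s) = 0) : ∃ χ, TC M χ ∧ (∀ r, M.τ.ρ r = r → χ r = 1) ∧ ∀ k ∈ O M s, χ k ≠ 1 := by
  obtain ⟨v, h1, h2⟩ := h.exists_one
  refine ⟨_, h.tc_pr s v, fun r hr => by rw [hr, ← mul_zpow, h1, one_zpow], forall_O.2 ⟨by simpa [e] using h2, ?_⟩⟩
  simpa [e, h.ρρ, ← map_pow] using fun e => h2 (α.injective (by simpa using e))

omit hc hs in
theorem k1_sh {r s : Rt D} (hr : M.τ.ρ r = r) (e : pr s (M.τ.ρ s) = 0) : K1 M r s :=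
  let ⟨χ, a, b, c⟩ := h.tc_sh e; ⟨χ, a, b r hr, c s (by simp [O])⟩

theorem lc_fs [Finite K] {k s : Rt D} (hk : M.τ.ρ k = k) (e : pr s (M.τ.ρ s) = 0) (e1 : 0 ≤ pr k s) :
    LC M π {k} (O M s) := by
  obtain ⟨χ, h1, h2, h3⟩ := h.tc_sh e
  exact LC.of_fpf hc hs (h.nil_of O_pos (h.O_nonneg e.ge)) (h.comm_X (by simp [forall_O, pr_fix h.toSL hk, e1])) h1
    (by simpa using h2 k hk) h3

end S2

variable (M α) in
/-- a twisted group of type `²D` in coordinates -/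
structure TD {n : ℕ} (ι : (Fin n → ℤ) → Rt D) (e : Fin n → ℤ) : Prop extends S2 M α where
  all : ∀ r, ∃ v, Sh v ∧ r = ι v
  pri : ∀ {v w}, Sh v → Sh w → pr (ι v) (ι w) = v ⬝ᵥ w
  add : ∀ {v w}, Sh v → Sh w → Sh (v + w) → rt (ι (v + w)) = rt (ι v) + rt (ι w)
  ρι : ∀ {v}, Sh v → M.τ.ρ (ι v) = ι (v - (2 * (v ⬝ᵥ e)) • e)
  f : ∀ r t, M.τ.T.f r t = α t
  Ue : Chev.U e
  n4 : 4 ≤ n

theorem Sh.neg {n : ℕ} {v : Fin n → ℤ} (h : Sh v) : Sh (-v) := by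
  obtain ⟨x, y, hx, hy, h, rfl⟩ := h
  exact ⟨-x, -y, hx.neg, hy.neg, by simpa using h, neg_add _ _⟩

namespace TD
variable {n : ℕ} {ι : (Fin n → ℤ) → Rt D} {e v w x y z : Fin n → ℤ} (h : TD M α ι e)
include h

theorem add' {u : Fin n → ℤ} (hv : Sh v) (hw : Sh w) (hu : Sh u) (e1 : u = v + w) : rt (ι u) = rt (ι v) + rt (ι w) :=
  e1 ▸ h.add hv hw (e1 ▸ hu)

theorem eq2 {r s : Rt D} (e1 : pr r s = 2) : s = r := by
  rcases pr_cases h.hl r s with e2 | rfl | e2 | e2 | e2 <;> simp_all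

theorem ngι (hv : Sh v) : ng (ι v) = ι (-v) :=
  (h.eq2 (by rw [pr_ng_left, h.pri hv (Sh.neg hv)]; simp [hv.self])).symm

theorem fix (hv : Sh v) (e1 : v ⬝ᵥ e = 0) : M.τ.ρ (ι v) = ι v := by simp [h.ρι hv, e1]

theorem sw (hx : Chev.U x) (e1 : o(x, e)) : M.τ.ρ (ι (x + e)) = ι (x - e) := by
  rw [h.ρι (sh hx h.Ue e1), add_dotProduct, e1.1, h.Ue.self]; congr 1; module

theorem O_sh (hx : Chev.U x) (e1 : o(x, e)) {P : Rt D → Prop} : (∀ s ∈ O M (ι (x + e)), P s) ↔ P (ι (x + e)) ∧ P (ι (x - e)) := by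
  rw [forall_O, h.sw hx e1]

theorem pr_sw (hx : Chev.U x) (e1 : o(x, e)) : pr (ι (x + e)) (M.τ.ρ (ι (x + e))) = 0 := by
  rw [h.sw hx e1, h.pri (sh hx h.Ue e1) (sh' hx h.Ue e1)]; simp [e1, hx.self, h.Ue.self]

theorem cases (r : Rt D) : (∃ v, Sh v ∧ v ⬝ᵥ e = 0 ∧ r = ι v) ∨ ∃ x, Chev.U x ∧ o(x, e) ∧ r ∈ O M (ι (x + e)) := by
  obtain ⟨v, hv, rfl⟩ := h.all r
  rcases lt_trichotomy (v ⬝ᵥ e) 0 with e1 | e1 | e1
  · obtain ⟨x, hx, e2, rfl⟩ := hv.of_pos h.Ue.neg (by simpa using e1)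
    have e2 : o(x, e) := by simpa using e2.symm
    exact .inr ⟨x, hx, e2, .inr (by rw [h.sw hx e2, neg_add_eq_sub]; rfl)⟩
  · exact .inl ⟨v, hv, e1, rfl⟩
  · obtain ⟨x, hx, e2, rfl⟩ := hv.of_pos h.Ue e1
    exact .inr ⟨x, hx, e2.symm, .inl (by rw [add_comm])⟩

theorem cases' (r : Rt D) : M.τ.ρ r = r ∨ pr r (M.τ.ρ r) = 0 := by
  rcases h.cases r with ⟨v, hv, e1, rfl⟩ | ⟨x, hx, e1, rfl | rfl⟩
  exacts [.inl (h.fix hv e1), .inr (h.pr_sw hx e1), .inr (by rw [h.pr_ρ, h.pr_sw hx e1])]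

theorem nn (r : Rt D) : 0 ≤ pr r (M.τ.ρ r) := by rcases h.cases' r with e | e <;> simp [e]

theorem of_fix {r : Rt D} (e1 : M.τ.ρ r = r) : ∃ v, Sh v ∧ v ⬝ᵥ e = 0 ∧ r = ι v := (h.cases r).resolve_right (by
  rintro ⟨x, hx, e2, rfl | rfl⟩
  · simpa [e1] using h.pr_sw hx e2
  · rw [h.ρρ] at e1; simpa [← e1] using h.pr_sw hx e2)

theorem f1 (r : Rt D) : M.τ.T.f r 1 = 1 := by simp [h.f]

theorem exists_comm {a b r : Rt D} (hb : M.τ.ρ b = b) (hr : M.τ.ρ r = r) (e1 : rt r = rt a + rt b) {g : G}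
    (hg : M.e g = A.x a 1) : ∀ u' ∈ M.X {r}, ∃ u ∈ M.X {b}, ⁅g, u⁆ = u' := fun u' hu' => by
  obtain ⟨t, h1, h2⟩ := mem_fix hr hu'
  obtain ⟨C, h3, h4, h5⟩ := h.exists_C e1
  obtain ⟨u, hu, eu⟩ := lift_fix hb (t := C⁻¹ * t) (by rw [h.f] at h1 ⊢; simp [h1, h4])
  exact ⟨u, hu, M.inj (by rw [map_commutatorElement, hg, eu, h5, h2, mul_one, mul_inv_cancel_left₀ h3])⟩

theorem le_xy (hx : Chev.U x) (hy : Chev.U y) (hxy : o(x, y)) (ex : o(x, e)) (ey : o(y, e)) :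
    M.X {ι (x + y)} ≤ ⁅M.X (O M (ι (x + e))), M.X (O M (ι (y + e)))⁆ := by
  have := h.le_S2 (h.nn _) (h.nn _) (by rw [h.ρρ, h.pri (sh hx h.Ue ex) (sh hy h.Ue ey)]; simp [*, h.Ue.self]) (h.nn _)
    (h.sw hy ey ▸ h.add' (sh hx h.Ue ex) (sh' hy h.Ue ey) (sh hx hy hxy) (by abel))
  rwa [h.O_ρ, O_fix (h.fix (sh hx hy hxy) (by simp [*]))] at this

variable [Finite K] (hc : π.ker ≤ center E) (hs : Function.Surjective π)
include hc hs

omit [Finite K] in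
theorem lc1 (hv : Sh v) (ev : v ⬝ᵥ e = 0) (hx : Chev.U x) (hy : Chev.U y) (hxy : o(x, y)) (ex : o(x, e)) (ey : o(y, e))
    (h1 : 0 ≤ v ⬝ᵥ x) (h2 : 0 ≤ v ⬝ᵥ y) : LC M π {ι v} {ι (x + y)} :=
  lc_of_le M π h.toSL hc hs (h.le_xy hx hy hxy ex ey) (by
    simp [h.O_sh hx ex, h.O_sh hy ey, h.pri hv, sh, sh', h.Ue, *])

theorem lc_pos {k s : Rt D} (hk : M.τ.ρ k = k) (e1 : 0 < pr k s) : LC M π {k} (O M s) := by
  rcases h.cases' s with e2 | e2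
  · obtain ⟨v, hv, ev, rfl⟩ := h.of_fix hk
    obtain ⟨w, hw, ew, rfl⟩ := h.of_fix e2
    rw [h.pri hv hw] at e1
    obtain ⟨x, y, hx, hy, hxy, ex, ey, rfl⟩ := hw.zero h.Ue ew
    have := hv.bd hx
    have := hv.bd hy
    rw [dotProduct_add] at e1
    rw [O_fix e2]
    exact h.lc1 hc hs hv ev hx hy hxy ex.symm ey.symm (by omega) (by omega)
  · exact h.lc_fs hc hs hk e2 e1.le

theorem hz {r : Rt D} (hr : M.τ.ρ r = r) : Hz M π r ⊥ := ⟨h.hl, hc, hs, (lc_iff hc hs).2 (h.le_of (h.inv_qF hr) h.nn fun s hs' =>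
    (lc_iff hc hs).1 (h.lc_pos hc hs hr (mem_Qs.1 hs'))), by simp⟩

variable (hP : ∀ t, α t = t → t = 0 ∨ t = 1 ∨ t = -1)
include hP

theorem exists_Y (hx : Chev.U x) (hy : Chev.U y) (hxy : o(x, y)) (ex : o(x, e)) (ey : o(y, e)) :
    ∃ Y, Hz M π (ι (x + y)) Y ∧ (∀ y ∈ Y, π y = 1 → y = 1) ∧ ∀ w, Chev.U w → o(x, w) → o(y, w) → o(w, e) →
      ∀ u ∈ M.X {ι (x + w)}, ∀ v ∈ M.X {ι (y - w)}, Rel π Y u v := by
  obtain ⟨z, hz, xz, yz, ez⟩ := fresh3 h.n4 hx hy h.Ue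
  have s0 := sh hx hy hxy
  have f0 := h.fix s0 (by simp [*])
  have H0 := h.hz hc hs f0
  have s1 := sh' hx hz xz
  have s2 := sh hy hz yz
  have f1 := h.fix s1 (by simp [*])
  have f2 := h.fix s2 (by simp [*])
  have q1 : ι (x - z) ∈ Qs (ι (x + y)) := by simp [mem_Qs, h.pri s0 s1, hx.self, *]
  have q2 : ι (y + z) ∈ Qs (ι (x + y)) := by simp [mem_Qs, h.pri s0 s2, hy.self, *]
  have bQ : M.X {ι (x - z)} ≤ M.X (Qs (ι (x + y))) := M.X_mono (by simpa using q1)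
  have bQ' : M.X {ι (y + z)} ≤ M.X (Qs (ι (x + y))) := M.X_mono (by simpa using q2)
  obtain ⟨u0, hu0, eu0⟩ := lift_fix f2 (h.f1 _)
  obtain ⟨y0, rfl⟩ := hs u0
  have H := H0.of_Dg _ bQ y0 (bQ' hu0)
  have R1 : ∀ u ∈ M.X {ι (x - z)}, ∀ v ∈ M.X {ι (y + z)}, Rel π (H0.Dg _ bQ y0 (bQ' hu0)) u v := fun u hu v hv => by
    have k : π y0 ∈ H.Rr u (bQ hu) := ⟨bQ' hu0, Rel.symm fun a b ha hb => ⟨a, ha ▸ hu, comm_congr hc rfl hb⟩⟩
    obtain ⟨t, h1, h2⟩ := mem_fix f2 hv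
    refine Rel.symm (show v ∈ H.Rr u (bQ hu) from ?_).2
    rcases hP t (h.f _ t ▸ h1) with rfl | rfl | rfl
    · rw [show v = 1 from M.inj (by rw [h2, A.x_zero, map_one])]; exact one_mem _
    · rwa [show v = π y0 from M.inj (h2.trans eu0.symm)]
    · rw [show v = (π y0)⁻¹ from M.inj (by rw [h2, map_inv, eu0, A.x_neg])]; exact inv_mem k
  refine ⟨_, H, ?_, fun w hw xw yw ew => ?_⟩
  · rintro _ ⟨a, ha, rfl⟩ e1
    obtain ⟨t, -, h2⟩ := mem_fix f1 ha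
    obtain ⟨C, h3, -, h4⟩ := h.exists_C (h.add' s1 s2 s0 (by abel))
    have := congrArg M.e e1
    rw [map_commutatorElement, map_commutatorElement, h2, eu0, h4, map_one] at this
    obtain rfl : t = 0 := by simpa [h3] using A.x_eq_one this
    rw [comm_congr hc (a' := 1) (M.inj (by rw [h2, A.x_zero, map_one, map_one])) rfl]; simp
  have rf : ∀ {c d d' : Fin n → ℤ}, Sh c → Sh d → Sh d' → d ⬝ᵥ d' - c ⬝ᵥ d * c ⬝ᵥ d' = 2 → refl (ι c) (ι d) = ι d' :=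
    fun {c d d'} h1 h2 h3 h4 => h.eq2 (by
      rw [← prL_rt, rt_refl, map_sub, map_smul, prL_rt, prL_rt, h.pri h3 h2, h.pri h1 h2, h.pri h3 h1, ← h4,
        dotProduct_comm d', dotProduct_comm d']; rfl)
  rcases hw.tri hz with rfl | rfl | wz
  · have s3 := sh hz h.Ue ew
    have s4 := sh' hx h.Ue ex
    have s5 := sh' hy h.Ue ey
    obtain ⟨g, hg, ha⟩ := h.exists_n2 (h.pr_sw hz ew)
    have := H.rel_act (sup_le ((lc_iff hc hs).1 (h.lc_fs hc hs f0 (h.pr_sw hz ew) (by simp [h.pri s0 s3, *])))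
      ((lc_iff hc hs).1 (h.lc_fs hc hs f0 (by simpa [M.τ.dsym.ρ_ng] using h.pr_sw hz ew) (by simp [h.pri s0 s3, *]))) hg)
      ha q1 q2 R1
    simp only [Perm.mul_apply, Perm.inv_eq_iff_eq.2 f1.symm, Perm.inv_eq_iff_eq.2 f2.symm] at this
    rwa [rf s3 s1 (sh hx h.Ue ex) (by simp [hx.self, hz.self, h.Ue.self, *]), h.sw hx ex,
      rf s3 s4 (sh hx hz xw) (by simp [hx.self, hz.self, h.Ue.self, *]),
      rf s3 s2 s5 (by simp [hy.self, hz.self, h.Ue.self, *]), ← h.sw hy ey, h.ρρ,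
      rf s3 (sh hy h.Ue ey) (sh' hy hz yw) (by simp [hy.self, hz.self, h.Ue.self, *])] at this
  · simpa only [← sub_eq_add_neg, sub_neg_eq_add] using R1
  · have s3 := sh hw hz wz
    have f3 := h.fix s3 (by simp [*])
    obtain ⟨g, hg, ha⟩ := exists_n1 f3 (h.f1 _) (by simp [h.f])
    have := H.rel_act (sup_le ((lc_iff hc hs).1 (h.lc1 hc hs s0 (by simp [*]) hw hz wz ew ez.symm (by simp [*]) (by simp [*])))
      ((lc_iff hc hs).1 (by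
        rw [h.ngι s3, neg_add]
        exact h.lc1 hc hs s0 (by simp [*]) hw.neg hz.neg (by simp [*]) (by simp [*]) (by simp [*]) (by simp [*])
          (by simp [*]))) hg) ha q1 q2 R1
    rwa [rf s3 s1 (sh hx hw xw) (by simp [hx.self, hz.self, hw.self, *]),
      rf s3 s2 (sh' hy hw yw) (by simp [hy.self, hz.self, hw.self, *])] at this

theorem lc2' (hx : Chev.U x) (hz : Chev.U z) (xz : o(x, z)) (ex : o(x, e)) (ez : o(z, e)) :
    LC M π {ι (x - z)} {ι (x + z)} := by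
  obtain ⟨y, hy, xy, zy, ey⟩ := fresh3 h.n4 hx hz h.Ue
  obtain ⟨Y, H, h1, h2⟩ := h.exists_Y hc hs hP hx hy xy ex ey.symm
  have s0 := sh hx hy xy
  have s1 := sh' hx hy xy
  have s2 := sh' hy hz zy.symm
  have s3 := sh hy hz zy.symm
  have s4 := sh' hx hz xz
  have s5 := sh hx hz xz
  have Q : ∀ {v}, Sh v → 0 < (x + y) ⬝ᵥ v → M.X {ι v} ≤ M.X (Qs (ι (x + y))) := fun hv e =>
    M.X_mono (by simpa [mem_Qs, h.pri s0 hv] using e)
  have q2 := Q s2 (by simp [hy.self, *])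
  have q3 := Q s3 (by simp [hy.self, *])
  have q4 := Q s4 (by simp [hx.self, *])
  have q5 := Q s5 (by simp [hx.self, *])
  obtain ⟨g, -, eg⟩ := lift_fix (h.fix s1 (by simp [*])) (h.f1 _)
  intro a b ha hb
  obtain ⟨u, hu, eu⟩ := h.exists_comm (h.fix s2 (by simp [*])) (h.fix s4 (by simp [*])) (h.add' s1 s2 s4 (by abel)) eg _ ha
  obtain ⟨v, hv, ev⟩ := h.exists_comm (h.fix s3 (by simp [*])) (h.fix s5 (by simp [*])) (h.add' s1 s3 s5 (by abel)) eg _ hb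
  obtain ⟨g, rfl⟩ := hs g
  obtain ⟨u, rfl⟩ := hs u
  obtain ⟨v, rfl⟩ := hs v
  have k : ∀ {v w a b}, Sh v → Sh w → 0 ≤ v ⬝ᵥ w → π a ∈ M.X {ι v} → π b ∈ M.X {ι w} → π ⁅a, b⁆ = 1 := fun hv hw e ha hb => by
    rw [map_commutatorElement]
    exact (h.comm_X (by simpa [h.pri hv hw] using e) _ ha _ hb).commutator_eq
  have c := mem_center_iff.1 (hc (k s2 s3 (by simp [hy.self, hz.self, *]) hu hv))
  have e1 : ⁅a * u, b * v⁆ = ⁅u, v⁆ := by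
    rw [comm_congr hc (a' := g * u * g⁻¹) (b' := g * v * g⁻¹) (by simp [← eu, commutatorElement_def])
      (by simp [← ev, commutatorElement_def]), ← conjugate_commutatorElement, c, mul_inv_cancel_right]
  rw [H.mul_l (q4 ha) (q2 hu) (map_mul π _ _ ▸ mul_mem (q5 hb) (q3 hv)), H.mul_r (q4 ha) (q5 hb) (q3 hv),
    H.mul_r (q2 hu) (q5 hb) (q3 hv), ← mul_assoc, mul_eq_right, mul_assoc, mul_eq_one_iff_eq_inv] at e1
  refine commutatorElement_eq_one_iff_commute.1 (h1 _ (e1 ▸ inv_mem (mul_mem ?_ ?_))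
    (k s4 s5 (by simp [hx.self, hz.self, *]) ha hb))
  · exact h2 (-z) hz.neg (by simp [*]) (by simp [*]) (by simp [*]) _ (by rwa [← sub_eq_add_neg]) _
      (by rwa [sub_neg_eq_add]) _ _ rfl rfl
  · exact (h2 z hz xz zy.symm ez _ hb _ hu).symm _ _ rfl rfl

omit hP in
theorem lc2 (hx : Chev.U x) (hz : Chev.U z) (xz : o(x, z)) (ex : o(x, e)) (ez : o(z, e)) :
    LC M π {ι (x - z)} {ι (x + z)} := by
  by_cases hP : ∀ t, α t = t → t = 0 ∨ t = 1 ∨ t = -1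
  · exact h.lc2' hc hs hP hx hz xz ex ez
  push Not at hP
  obtain ⟨t, h1, h2, h3, h4⟩ := hP
  obtain ⟨v, rfl⟩ := CA.CForm.exists_norm_eq α h.α2 (fun e => h.nid.elim fun t ht => ht (by simp [e])) t h1
  have s4 := sh' hx hz xz
  have s5 := sh hx hz xz
  have p : pr (ι (x + z)) (ι (x - z)) = 0 := by simp [h.pri s5 s4, hx.self, hz.self, *]
  refine LC.of_fpf hc hs (h.nil_of (r := ι (x + z)) (by simp) (by simp)) (h.comm_X (by simp [h.hl _ (ι (x + z)), p]))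
    (h.tc_pr (ι (x + z)) (Units.mk0 v (left_ne_zero_of_mul h2))) (by simp [h.fix s4, p, *]) ?_
  simp only [Set.mem_singleton_iff, forall_eq, h.fix s5 (by simp [*]), pr_self, ← mul_zpow, Units.val_mk0, zpow_ofNat]
  exact fun e => (mul_self_eq_one_iff.1 (by rwa [← sq, mul_pow])).elim h3 h4

omit hP in
theorem lcf {k s : Rt D} (hk : M.τ.ρ k = k) (e1 : 0 ≤ pr k s) : LC M π {k} (O M s) := by
  rcases h.cases' s with e2 | e2
  · obtain ⟨v, hv, ev, rfl⟩ := h.of_fix hk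
    obtain ⟨w, hw, ew, rfl⟩ := h.of_fix e2
    rw [h.pri hv hw] at e1
    obtain ⟨x, y, hx, hy, hxy, ex, ey, rfl⟩ := hw.zero h.Ue ew
    have := hv.bd hx
    have := hv.bd hy
    rw [dotProduct_add] at e1
    rw [O_fix e2]
    by_cases e3 : v ⬝ᵥ y < 0
    · rw [hv.eq hx hy.neg (by simpa using hxy) (by omega) (by simpa using e3), ← sub_eq_add_neg]
      exact h.lc2 hc hs hx hy hxy ex.symm ey.symm
    by_cases e4 : v ⬝ᵥ x < 0
    · rw [hv.eq hy hx.neg (by simpa using hxy.symm) (by omega) (by simpa using e4), ← sub_eq_add_neg, add_comm]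
      exact h.lc2 hc hs hy hx hxy.symm ey.symm ex.symm
    exact h.lc1 hc hs hv ev hx hy hxy ex.symm ey.symm (by omega) (by omega)
  · exact h.lc_fs hc hs hk e2 e1

omit hP in
theorem lc3 (hx : Chev.U x) (ex : o(x, e)) : LC M π (O M (ι (x + e))) (O M (ι (x + e))) := by
  obtain ⟨z, hz, xz, ez⟩ := fresh2 (by have := h.n4; omega) hx h.Ue
  have s1 := sh' hx hz xz
  have s2 := sh hz h.Ue ez.symm
  have s3 := sh hx h.Ue ex
  have s4 := sh hx hz xz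
  have f1 := h.fix s1 (by simp [*])
  have f4 := h.fix s4 (by simp [*])
  exact h.lc_sh hc hs f1 (h.f1 _) (h.nn _) (h.nn _) f4 (h.add' s1 s2 s3 (by abel))
    (h.sw hx ex ▸ h.add' s2 (sh' hx h.Ue ex) s4 (by abel)) (by simp [h.pri s3 s4, hx.self, *])
    (by simp [h.pri s2 s3, h.Ue.self, *]) (h.lcf hc hs f1 (by simp [h.pri s1 s3, hx.self, *]))
    (h.lc2 hc hs hx hz xz ex ez.symm) (h.lcf hc hs f4 (by simp [h.pri s4 s3, hx.self, *]))

theorem given {r : Rt D} (hr : M.τ.ρ r = r) : Given π M.H (M.X {r}) ⊥ ⁅(M.X (Qs r)).comap π, (M.X (Qs r)).comap π⁆ := by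
  obtain ⟨v, hv, ev, rfl⟩ := h.of_fix hr
  obtain ⟨x, y, hx, hy, xy, ex, ey, rfl⟩ := hv.zero h.Ue ev
  obtain ⟨Y, H, h1, h2⟩ := h.exists_Y hc hs hP hx hy xy ex.symm ey.symm
  have I := h.inv_qF hr
  have OQ : ∀ s ∈ Qs (ι (x + y)), M.X (O M s) ≤ M.X (Qs (ι (x + y))) := fun s hs => M.X_mono (forall_O.2 (by
    simpa only [mem_Qs, pr_fix h.toSL hr, and_self] using hs))
  have Z1 : ∀ k ∈ Qs (ι (x + y)), M.τ.ρ k = k → M.X {k} ≤ H.Zq := fun k hk e1 u hu =>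
    H.mem_Zq_of (M.X_mono (by simpa using hk) hu) (fun s hs => h.rp_O I hs (h.nn s)) OQ fun s hs' w hw => by
      by_cases e2 : 0 ≤ pr k s
      · exact (h.lcf hc hs e1 e2).symm.rel hw hu
      obtain ⟨a, ha, ea, rfl⟩ := h.of_fix e1
      obtain ⟨b, hb, rfl⟩ := h.all s
      rw [mem_Qs, h.pri hv ‹_›] at hk hs'
      rw [h.pri ha hb] at e2
      have e3 : a + b - (x + y) = 0 := dotProduct_self_eq_zero.1 (le_antisymm (by
        simp only [sub_dotProduct, dotProduct_sub, add_dotProduct a, dotProduct_add _ a, ha.self, hb.self, hv.self,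
          dotProduct_comm b a, dotProduct_comm a (x + y), dotProduct_comm b (x + y)]; omega)
        (Finset.sum_nonneg fun _ _ => mul_self_nonneg _))
      have eb : b ⬝ᵥ e = 0 := by simpa [ea, ev, sub_dotProduct, add_dotProduct a] using congrArg (· ⬝ᵥ e) e3
      rw [O_fix (h.fix hb eb)] at hw
      obtain ⟨z, hz, xz, yz, ⟨rfl, rfl⟩ | ⟨rfl, rfl⟩⟩ := sh_dec hx hy xy ha hb (sub_eq_zero.1 e3)
      · exact (h2 z hz xz yz (o_of (by simpa [ex] using ea)) _ hu _ hw).symm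
      · exact h2 z hz xz yz (o_of (by simpa [ex] using eb)) _ hw _ hu
  refine H.given (h.le_of I h.nn fun s hs' => ?_) h1 ((h.le_xy hx hy xy ex.symm ey.symm).trans (commutator_mono
    (OQ _ (by simp [mem_Qs, h.pri hv (sh hx h.Ue ex.symm), hx.self, *]))
    (OQ _ (by simp [mem_Qs, h.pri hv (sh hy h.Ue ey.symm), hy.self, *]))))
  rcases h.cases s with ⟨w, hw, ew, rfl⟩ | ⟨a, ha, ea, e1⟩
  · exact O_fix (h.fix hw ew) ▸ Z1 _ hs' (h.fix hw ew)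
  have s3 := sh ha h.Ue ea
  have p : 0 < (x + y) ⬝ᵥ a := by
    have : 0 < pr (ι (x + y)) (ι (a + e)) := by
      rcases e1 with rfl | rfl
      exacts [mem_Qs.1 hs', pr_fix h.toSL hr _ ▸ mem_Qs.1 hs']
    rwa [h.pri hv s3, dotProduct_add, ev, add_zero] at this
  obtain ⟨b, hb, ab, e2⟩ := hv.of_pos ha p
  obtain ⟨z, hz, az, bz, ez⟩ := fresh3 h.n4 ha hb h.Ue
  have s1 := sh' ha hz az
  have s2 := sh hz h.Ue ez.symm
  have s4 := sh ha hz az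
  have f1 := h.fix s1 (by simp [*])
  have p0 : pr (ι (x + y)) (ι (z + e)) = 0 := by rw [h.pri hv s2, dotProduct_add, ev, e2]; simp [az, bz]
  have z1 := Z1 _ (by rw [mem_Qs, h.pri hv s1, e2]; simp [ha.self, ab, az, bz]) f1
  rw [h.O_eq e1]
  refine (h.le_sh f1 (h.f1 _) (h.nn _) (h.nn _) (h.add' s1 s2 s3 (by abel))
    (h.sw ha ea ▸ h.add' s2 (sh' ha h.Ue ea) s4 (by abel)) (by simp [h.pri s3 s4, ha.self, ea, az, ez])).trans (sup_le
    (Z1 _ (by rw [mem_Qs, h.pri hv s4, e2]; simp [ha.self, ab, az, bz]) (h.fix s4 (by simp [ea, ez])))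
    (commutator_le.2 fun u hu g hg => ?_))
  simpa only [commutatorElement_def, mul_assoc] using mul_mem (z1 hu) (H.Zq_conj ((lc_iff hc hs).1 (h.lcf hc hs hr p0.ge) hg)
    (M.X_mono (T := Pe _) (forall_O.2 (by simp [Pe, pr_fix h.toSL hr, p0])) hg) (inv_mem (z1 hu)))

omit hc hs hP in
theorem pairs {r s : Rt D} (hr : Pos r) (hs : Pos s) : (M.τ.ρ r = r ∧ (0 ≤ pr r s ∨ pr s (M.τ.ρ s) = 0)) ∨
    (M.τ.ρ s = s ∧ pr r (M.τ.ρ r) = 0) ∨ (∃ x, Chev.U x ∧ o(x, e) ∧ r ∈ O M (ι (x + e)) ∧ s ∈ O M (ι (x + e))) ∨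
    ∃ k, M.τ.ρ k = k ∧ (∃ s' ∈ O M s, rt k = rt r + rt s') ∧ ∃ β, pr β r = 0 ∧ pr β (M.τ.ρ r) = 0 ∧ pr β s = 1 ∧
      pr β (M.τ.ρ s) = 1 := by
  have ne : ∀ s' ∈ O M s, s' ≠ ng r := fun s' h1 e => (pos_ng r).1 (e ▸ (O_pos s' h1).2 hs) hr
  rcases h.cases r with ⟨a, ha, ea, rfl⟩ | ⟨x, hx, ex, e1⟩
  · have fa := h.fix ha ea
    by_cases e1 : 0 ≤ pr (ι a) s
    · exact .inl ⟨fa, .inl e1⟩
    rcases h.cases' s with fb | e2
    swap
    · exact .inl ⟨fa, .inr e2⟩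
    obtain ⟨b, hb, eb, rfl⟩ := h.of_fix fb
    rw [h.pri ha hb] at e1
    obtain ⟨x, w, hx, hw, xw, ex, ew, rfl, e2⟩ : ∃ x w, Chev.U x ∧ Chev.U w ∧ o(x, w) ∧ o(e, x) ∧ o(e, w) ∧ a = x + w ∧
        0 < b ⬝ᵥ (-w) := by
      obtain ⟨x, w, hx, hw, xw, ex, ew, rfl⟩ := ha.zero h.Ue ea
      rw [dotProduct_comm, dotProduct_add] at e1
      by_cases e2 : b ⬝ᵥ w < 0
      exacts [⟨x, w, hx, hw, xw, ex, ew, rfl, by simpa using e2⟩,
        ⟨w, x, hw, hx, xw.symm, ew, ex, add_comm _ _, by rw [dotProduct_neg]; omega⟩]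
    obtain ⟨y, hy, yw, rfl⟩ := hb.of_pos hw.neg e2
    have yw : o(w, y) := by simpa using yw
    have ey : o(y, e) := o_of (by simpa [ew] using eb)
    rcases hy.tri hx with rfl | rfl | xy
    · simp [hw.self, hx.self, xw] at e1
    · exact absurd (by rw [h.ngι ha, neg_add, add_comm]) (ne _ (.inl rfl))
    have s1 := sh hx hy xy.symm
    have s2 := sh hy h.Ue ey
    exact .inr (.inr (.inr ⟨_, h.fix s1 (by simp [*]), ⟨_, .inl rfl, h.add' ha hb s1 (by abel)⟩, ι (y + e),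
      by simp [fa, fb, h.pri s2 ha, h.pri s2 hb, hy.self, xy, yw, ex, ew, ey]⟩))
  have p : pr r (M.τ.ρ r) = 0 := by
    rcases e1 with rfl | rfl
    exacts [h.pr_sw hx ex, by rw [h.pr_ρ, h.pr_sw hx ex]]
  rcases h.cases s with ⟨b, hb, eb, rfl⟩ | ⟨y, hy, ey, e2⟩
  · exact .inr (.inl ⟨h.fix hb eb, p⟩)
  have s1 := sh hx h.Ue ex
  have s2 := sh' hx h.Ue ex
  have s3 := sh hy h.Ue ey
  have s4 := sh' hy h.Ue ey
  have e1' : r = ι (x + e) ∨ r = ι (x - e) := Or.imp_right (·.trans (h.sw hx ex)) e1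
  rw [h.O_eq e2] at ne
  rcases hy.tri hx with rfl | rfl | xy
  · exact .inr (.inr (.inl ⟨y, hx, ex, e1, e2⟩))
  · rw [h.O_sh hy ey] at ne
    rcases e1' with rfl | rfl
    · exact absurd (by rw [h.ngι s1]; congr 1; abel) ne.2
    · exact absurd (by rw [h.ngι s2]; congr 1; abel) ne.1
  obtain ⟨z, hz, xz, yz, ez⟩ := fresh3 h.n4 hx hy h.Ue
  have s5 := sh hx hy xy.symm
  have s6 := sh hy hz yz
  refine .inr (.inr (.inr ⟨_, h.fix s5 (by simp [*]), ?_, ι (y + z), ?_⟩))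
  · rw [h.O_eq e2]
    rcases e1' with rfl | rfl
    exacts [⟨_, .inr (h.sw hy ey).symm, h.add' s1 s4 s5 (by abel)⟩, ⟨_, .inl rfl, h.add' s2 s3 s5 (by abel)⟩]
  · rw [← and_assoc, ← forall_O (P := fun s => pr _ s = 0), ← forall_O (P := fun s => pr _ s = 1), h.O_eq e1, h.O_eq e2,
      h.O_sh hx ex, h.O_sh hy ey]
    simp [h.pri s6 s1, h.pri s6 s2, h.pri s6 s3, h.pri s6 s4, hy.self, xy, xz, yz, ez, ex, ey]

omit hc hs hP in
theorem pp (p : ℕ) [Fact p.Prime] [CharP K p] : PP.{_, v} p G := fun E _ _ π hπ => by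
  classical
  have I := h.inv_hF
  have rp := fun r (hr : r ∈ (hF D).S) => h.rp_O I hr (h.nn r)
  have cm : ∀ r ∈ (hF D).S, ∀ s ∈ (hF D).S, ∀ L, (∀ k, M.τ.ρ k = k → (∃ s' ∈ O M s, rt k = rt r + rt s') → ∀ β, pr β r = 0 →
      pr β (M.τ.ρ r) = 0 → pr β s = 1 → pr β (M.τ.ρ s) = 1 → KL M π (hF D) r s L) → KL M π (hF D) r s L :=
    fun r hr s hs L k => by
      rcases h.pairs hr hs with ⟨e1, e2 | e2⟩ | ⟨e1, e2⟩ | ⟨x, hx, ex, e1, e2⟩ | ⟨_, e1, e2, β, e3, e4, e5, e6⟩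
      · exact LC.kl hπ.1 (I.rp_fix hr e1) (rp s hs) (h.lcf hπ.2.1 hπ.1 e1 e2) _
      · exact (h.k1_sh e1 e2).kl hr hs _
      · exact ((h.k1_sh e1 e2).kl hs hr _).swap
      · exact LC.kl hπ.1 (h.O_eq e1 ▸ rp r hr) (h.O_eq e2 ▸ rp s hs) (h.lc3 hπ.2.1 hπ.1 hx ex) _
      · exact k _ e1 e2 β e3 e4 e5 e6
  have sh1 : ∀ r, M.τ.ρ r ≠ r → ∃ χ, TC M χ ∧ χ r ≠ 1 := fun r e =>
    let ⟨χ, a, _, c⟩ := h.tc_sh ((h.cases' r).resolve_left e); ⟨χ, a, c r (.inl rfl)⟩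
  by_cases hP : ∀ t, α t = t → t = 0 ∨ t = 1 ∨ t = -1
  · refine pp_of_filt (f := hF _) p h.h3 hπ rfl _ (fun r _ => h.triv I)
      (fun r => if M.τ.ρ r = r then ⁅(M.X (Qs r)).comap π, (M.X (Qs r)).comap π⁆ else ⊥)
      (fun r hr hr' => ?_) fun r hr s hs hr' hs' _ => cm r hr' s hs' _ fun k e1 ⟨s', e2, e3⟩ _ _ _ _ _ => ?_
    · by_cases e : M.τ.ρ r = r
      · rw [if_pos e]
        exact Or.inl (given_of hr' (X_le_V0 hr') (I.rp_fix hr' e) (X_inf_V1 hr') (h.given hπ.2.1 hπ.1 hP e))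
      · exact Or.inr ⟨if_neg e, sh1 r e⟩
    have p1 := pr_of_sum h.hl e3
    have p2 : pr k r = 1 := by rw [h.hl, pr_sum e3, pr_self, p1]; rfl
    have p3 : pr k s' = 1 := by rw [h.hl, pr_sum e3, pr_self, h.hl, p1]; rfl
    have p4 : (hF D).f (rt s') = (hF D).f (rt s) := by
      rcases e2 with rfl | rfl
      exacts [rfl, I.2 s]
    refine kl_Qs (r := k) hπ.1 (rp r hr') (h.O_eq e2 ▸ rp s hs') (forall_O.2 (by simp [mem_Qs, pr_fix h.toSL e1, p2]))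
      (forall_O.2 (by simp [mem_Qs, pr_fix h.toSL e1, p3])) (le_iSup₂_of_le k ⟨e1.ge, (hF D).nil.2 r hr' s'
        ((O_pos s' e2).2 hs') k ⟨1, 1, le_rfl, le_rfl, by simpa using e3⟩, kap_lt ((hF _).pos s hs') ?_⟩ (if_pos e1).ge)
    have := (hF D).pos r hr'
    rw [e3, map_add, p4]; omega
  push Not at hP
  obtain ⟨t, h1, h2, h3, -⟩ := hP
  obtain ⟨v, rfl⟩ := CA.CForm.exists_norm_eq α h.α2 (fun e => h.nid.elim fun t ht => ht (by simp [e])) t h1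
  have tc := fun β => h.tc_pr β (Units.mk0 v (left_ne_zero_of_mul h2))
  refine pp_of_filt (f := hF _) p h.h3 hπ rfl _ (fun r _ => h.triv I) (fun _ => ⊥) (fun r _ _ => Or.inr ⟨rfl, ?_⟩)
    fun r hr s hs hr' hs' _ => cm r hr' s hs' _ fun k _ _ β e1 e2 e3 e4 =>
      K1.kl hr' hs' ⟨_, tc β, by simp [e1, e2], by simpa [e3, e4] using h3⟩ _
  by_cases e1 : M.τ.ρ r = r
  · obtain ⟨a, ha, ea, rfl⟩ := h.of_fix e1
    obtain ⟨x, y, hx, hy, xy, ex, ey, rfl⟩ := ha.zero h.Ue ea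
    exact ⟨_, tc (ι (x + e)), by simpa [e1, h.pri (sh hx h.Ue ex.symm) ha, hx.self, xy, ex, ey] using h3⟩
  · exact sh1 r e1

end TD
end

end CA.TwM
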