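/-
The multiplier of the orthogonal groups of minus type.
-/
import Cfsg.Agent.Lib.Lie.TwM11

set_option autoImplicit false

namespace CA.TwM

open Equiv Cfsg Cfsg.Lie Cfsg.Lie.ChevalleyDatum CA.SchurFilt Subgroup CA.Chev CA.Chev.Sys0 CA.Chev.Sys
open CA.SchurHopf CA.Chev.Twist CA.SchurCov CA.CForm CA.CForm.Form
open scoped commutatorElement IsMulCommutative

universe u v

section
variable {D : ChevalleyDatum} [Good D] {K : Type u} [Field K] [Finite K]

theorem finite_st : Finite (D.SteinbergGroup K) := by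
  have : Finite (stG D K).θ.ker := by
    rw [stG_R3.ker_eq stG_G]
    exact Finite.of_surjective _ (stG_R3.torH.subgroupMap_surjective _)
  exact (MonoidHom.finite_iff_finite_ker_range (stG D K).θ).2 ⟨this, inferInstance⟩

theorem torH_inj_of (e : Nonempty ((tor (D := D) (K := K)).ker ≃* center (D.SteinbergCover K))) :
    Function.Injective (stG_R3 (D := D) (K := K)).torH := by
  have h3 := (stC D K).r3_of_finite
  obtain ⟨ψ, hψ⟩ := (Tw.field D (RingHom.id K)).exists_liftG h3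
  have e1 : ψ.comp stG_R3.torH = h3.torH := MonoidHom.pi_ext fun i t => by
    rw [MonoidHom.comp_apply, R3.torH_single, hψ.h' h3, R3.torH_single]; rfl
  let f : (tor (D := D) (K := K)).ker → center (D.SteinbergCover K) := fun c => ⟨_, mem_center_st.2 ⟨c, c.2, rfl⟩⟩
  have hf : Function.Injective f := (Finite.injective_iff_surjective_of_equiv e.some.toEquiv).2 fun g =>
    let ⟨c, hc, e⟩ := mem_center_st.1 g.2; ⟨⟨c, hc⟩, Subtype.ext e⟩
  refine (injective_iff_map_eq_one _).2 fun c hc => ?_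
  have h1 : h3.torH c = 1 := by rw [← e1, MonoidHom.comp_apply, hc, map_one]
  have h2 : c ∈ (tor (D := D) (K := K)).ker := dgG_injective (by rw [← h3.θ_torH, h1, map_one, map_one])
  exact congrArg Subtype.val (hf (a₁ := ⟨c, h2⟩) (a₂ := 1) (Subtype.ext (h1.trans (map_one h3.torH).symm)))

theorem eq_frob {F : Type*} [Field F] [Fintype F] [Algebra F K] (h : Module.finrank F K = 2) {α : K →+* K}
    (hi : ∀ t, (∃ c, algebraMap F K c = t) ↔ α t = t) : (∀ t, α t = t ^ Fintype.card F) ∧ (∀ t, α (α t) = t) ∧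
    (∃ t, α t ≠ t) ∧ Nat.card K = Fintype.card F ^ 2 := by
  have hK : Nat.card K = Fintype.card F ^ 2 := by
    rw [Module.natCard_eq_pow_finrank (K := F), h, Nat.card_eq_fintype_card]
  have h0 : ∃ t, α t ≠ t := by
    by_contra hn
    push Not at hn
    have := Nat.card_le_card_of_surjective (algebraMap F K) fun t => (hi t).2 (hn t)
    rw [hK, Nat.card_eq_fintype_card] at this
    nlinarith [Fintype.one_lt_card (α := F)]
  obtain ⟨⟨n, hn⟩, e⟩ := (FiniteField.bijective_frobeniusAlgHom_pow F K).2 ⟨α, fun c => (hi _).1 ⟨c, rfl⟩⟩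
  have h1 : ∀ t, α t = t ^ Fintype.card F := by
    rw [h] at hn
    interval_cases n
    · exact absurd (fun t => (DFunLike.congr_fun e t).symm) (not_forall.2 h0)
    · exact fun t => by simpa using (DFunLike.congr_fun e t).symm
  haveI := Fintype.ofFinite K
  exact ⟨h1, fun t => by rw [h1, h1, ← pow_mul, ← sq, ← hK, Nat.card_eq_fintype_card, FiniteField.pow_card], h0, hK⟩

end

namespace DM
variable {m : ℕ} {hm : 3 ≤ m + 1} {K : Type u} [Field K] {α : K →+* K} {G : Type*} [Group G]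
  {M : Mod (adjG (clD (m + 1) hm).model.D K) G}

theorem hΦ (v : Fin (m + 1) → ℤ) : v ∈ (clD (m + 1) hm).model.Φ ↔ Sh v := (clD _ hm).mem_Φ.trans ro_D

theorem types (hM : M.τ = (UD.τ hm α).ad) (ff : ∀ t, α (α t) = t) (i : Nd (clD (m + 1) hm).model.D) :
    M.τ.ι i = i ∨ M.τ.Ty2 i ∨ ∃ j k, M.τ.Ty3 i j k :=
  (UD.types ff (by rw [hM]; exact fun _ => rfl) (by rw [hM]; exact fun _ => rfl) i).imp And.left .inl

theorem td (hM : M.τ = (UD.τ hm α).ad) (ff : ∀ t, α (α t) = t) (nid : ∃ t, α t ≠ t) (h3 : 3 ≤ m) :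
    TD M α (clD (m + 1) hm).model.ι (Pi.single (Fin.last m) 1) := by
  have hc : ∀ j, M.τ.T.c (sim j) = 1 := by rw [hM]; exact fun _ => rfl
  exact
  { hl := Model.hl_of UD.norm_D
    hα := by rw [hM]; exact fun _ => rfl
    hc := hc
    hφ := by rw [hM]; exact UD.hφ
    h3 := adjG_R3
    tor := torH_mem_of_node (fun i => by
      rcases types hM ff i with h | h | ⟨j, k, h⟩
      exacts [nodeOK1 hc h, h.nodeOK hc, h.nodeOK hc]) _
    ι2 := by rw [hM]; exact swap_apply_self _ _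
    α2 := ff
    nid := nid
    all := Model.all_ι _ fun v hv => ⟨v, (hΦ v).1 hv, rfl⟩
    pri := fun hv hw => Model.pr_two UD.norm_D ((hΦ _).2 hv) ((hΦ _).2 hw)
    add := fun {v w} hv hw h => funext fun i => by
      simpa [Model.rt_ι, hΦ, hv, hw, h] using Model.a_add _ ((hΦ _).2 hv) ((hΦ _).2 hw) 1 i
    ρι := fun {v} hv => by
      rw [hM]
      refine (congrArg (fun v => (clD (m + 1) hm).model.ι (UD.fl v)) (Model.R_ι _ ((hΦ _).2 hv))).trans
        (congrArg _ (funext fun k => ?_))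
      by_cases e : k = Fin.last m <;> simp [UD.fl, e]
      ring
    f := by rw [hM]; exact fun _ _ => one_mul _
    Ue := ⟨_, .inl rfl⟩
    n4 := by omega }

theorem mem_Z {c : Fin (m + 1) → Kˣ} (ff : ∀ t, α (α t) = t) (hc : c ∈ (tor (D := (clD (m + 1) hm).model.D)).ker) :
    c ∈ (UD.τ hm α).ad.T1 ↔ (c ⟨m - 1, by omega⟩ : K) = α (c (Fin.last m)) := by
  refine (mem_T1 _).trans ⟨fun h => h (Fin.last m) ▸ congrArg _ (congrArg _ (swap_apply_left _ _).symm), fun h i => ?_⟩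
  change (c (UD.ν m i) : K) = α (c i)
  by_cases e : i.val + 1 < m
  · obtain ⟨u, h1, -, -, h2⟩ := ((clD _ hm).ker_D rfl).1 hc
    have : α u = u := by
      rcases mul_self_eq_one_iff.1 (show (u : K) * u = 1 by rw [← sq, ← Units.val_pow_eq_pow_val, h1]; rfl) with e | e <;>
        simp [e]
    rw [show UD.ν m i = i from Fin.ext (by rw [UD.ν_val]; split_ifs <;> omega), h2 i (by omega)]
    simp [this]
  have : i.val < m + 1 := i.2
  obtain e | e : i = Fin.last m ∨ i = ⟨m - 1, Nat.lt_succ_of_le (Nat.sub_le _ _)⟩ := by simp [Fin.ext_iff]; omega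
  · rw [e, ← h, UD.ν, swap_apply_left]
  · rw [e, h, ff, UD.ν, swap_apply_right]

theorem Z_equiv {q : ℕ} (hq : ∀ t, α t = t ^ q) (ff : ∀ t, α (α t) = t) :
    Nonempty (↥((UD.τ hm α).ad.T1 ⊓ (tor (D := (clD (m + 1) hm).model.D)).ker) ≃*
      rootsOfUnity (if Odd (m + 1) then Nat.gcd 4 (q + 1) else 2) K) := by
  have key : ∀ u : Kˣ, u ^ 2 = 1 → ∀ n, u ^ n = if Odd n then u else 1 := fun u h n => by
    obtain ⟨k, rfl | rfl⟩ := n.even_or_odd' <;> simp [pow_succ, pow_mul, ← sq, h]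
  have par : Odd (m + 1) ↔ ¬ Odd m := Nat.odd_add_one
  have sq : ∀ c : Fin (m + 1) → Kˣ, c ∈ (UD.τ hm α).ad.T1 ⊓ (tor (D := (clD (m + 1) hm).model.D)).ker →
      c ⟨m - 1, by omega⟩ = c (Fin.last m) ^ q := fun c hc => Units.ext (by simp [(mem_Z ff hc.2).1 hc.1, hq])
  let f : ↥((UD.τ hm α).ad.T1 ⊓ (tor (D := (clD (m + 1) hm).model.D)).ker) →* Kˣ :=
    MonoidHom.mk' (fun c => c.1 (Fin.last m)) fun _ _ => rfl
  refine ⟨MulEquiv.ofBijective (f.codRestrict (rootsOfUnity _ K) fun c => ?_)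
    ⟨(injective_iff_map_eq_one _).2 fun c e => Subtype.ext ?_, fun t => ?_⟩⟩
  · obtain ⟨u, h1, h2, h3, -⟩ := ((clD _ hm).ker_D rfl).1 c.2.2
    replace h2 : c.1 (Fin.last m) ^ 2 = u ^ (m + 1) := h2
    replace h3 : c.1 ⟨m - 1, Nat.lt_succ_of_le (Nat.sub_le _ _)⟩ * c.1 (Fin.last m) = u ^ m := h3
    rw [sq _ c.2, key u h1, ← pow_succ] at h3
    change c.1 (Fin.last m) ^ _ = 1
    split_ifs with e
    · rw [if_neg (par.1 e)] at h3
      exact pow_gcd_eq_one.2 ⟨by rw [show 4 = 2 * 2 from rfl, pow_mul, h2, pow_right_comm, h1, one_pow], h3⟩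
    · rw [h2, key u h1, if_neg e]
  · have e : c.1 (Fin.last m) = 1 := congrArg Subtype.val e
    refine (clD _ hm).eq_one_D rfl c.2.2 e ((Nat.even_or_odd _).symm.imp_right fun h => ⟨?_, h⟩)
    exact (sq _ c.2).trans (by rw [e, one_pow])
  · obtain ⟨t, ht⟩ := t
    obtain ⟨u, h1, h2, h3⟩ : ∃ u : Kˣ, u ^ 2 = 1 ∧ t ^ 2 = u ^ (m + 1) ∧ t ^ q * t = u ^ (m + 1 - 1) := by
      rw [mem_rootsOfUnity] at ht
      split_ifs at ht with e
      · obtain ⟨h1, h2⟩ := pow_gcd_eq_one.1 ht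
        have h3 : (t ^ 2) ^ 2 = 1 := (pow_mul _ _ _).symm.trans h1
        exact ⟨_, h3, by rw [key _ h3, if_pos e], by rw [key _ h3, Nat.add_sub_cancel, if_neg (par.1 e), ← pow_succ, h2]⟩
      · have h3 : (t ^ q * t) ^ 2 = 1 := by rw [mul_pow, pow_right_comm, ht, one_pow, one_mul]
        exact ⟨_, h3, by rw [key _ h3, if_neg e, ht], by
          rw [key _ h3, Nat.add_sub_cancel, if_pos (not_not.1 (mt par.2 e))]⟩
    have := (clD _ hm).mem_ker_D rfl h1 h2 h3
    refine ⟨⟨_, (mem_Z ff this).2 ?_, this⟩, Subtype.ext (if_pos rfl)⟩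
    rw [if_neg (by simp; omega), if_pos (by simp; omega), if_pos (by simp), hq, Units.val_pow_eq_pow_val]

theorem arith {q l : ℕ} (hq : 1 ≤ q) (hl : 2 ≤ l) :
    Nat.gcd (if Odd l then Nat.gcd 4 (q + 1) else 2) (q ^ 2 - 1) = Nat.gcd 4 (q ^ l + 1) := by
  obtain ⟨n, rfl⟩ : ∃ n, l = n + 2 := ⟨l - 2, by omega⟩
  have h0 : q ^ 2 - 1 = (q + 1) * (q - 1) := by simpa using Nat.sq_sub_sq q 1
  have k : ∀ j, (q ^ 2) ^ (j + 1) % 4 = if q % 2 = 0 then 0 else 1 := fun j => by
    obtain h | h | h | h : q % 4 = 0 ∨ q % 4 = 1 ∨ q % 4 = 2 ∨ q % 4 = 3 := by omega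
    all_goals rw [Nat.pow_mod, Nat.pow_mod q, h]; simp; omega
  obtain ⟨j, rfl | rfl⟩ := n.even_or_odd'
  · rw [if_neg (by simp [parity_simps]), show 2 * j + 2 = 2 * (j + 1) from rfl, pow_mul, Nat.gcd_rec 4, Nat.gcd_rec 2,
      Nat.add_mod, k]
    have := k 0
    have := Nat.one_le_pow 2 q hq
    rw [zero_add, pow_one] at *
    split_ifs at * <;> [rw [show (q ^ 2 - 1) % 2 = 1 by omega]; rw [show (q ^ 2 - 1) % 2 = 0 by omega]] <;> rfl
  · rw [if_pos (by simp [parity_simps]), Nat.gcd_eq_left (h0 ▸ (Nat.gcd_dvd_right _ _).mul_right _),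
      show 2 * j + 1 + 2 = 2 * (j + 1) + 1 from rfl, pow_succ, pow_mul, Nat.gcd_rec 4, Nat.gcd_rec 4 (_ * _ + 1),
      Nat.add_mod (_ * _), Nat.mul_mod, k]
    obtain h | h | h | h : q % 4 = 0 ∨ q % 4 = 1 ∨ q % 4 = 2 ∨ q % 4 = 3 := by omega
    all_goals rw [Nat.add_mod, h]; split_ifs <;> first | omega | rfl

theorem has {F : Type u} [Field F] [Fintype F] (h3 : 3 ≤ m) {a b : F} (hab : Aniso a b) :
    HasCyclicSchurMultiplier (POmega F (quadFormMinus m F a b)) (Nat.gcd 4 (Fintype.card F ^ (m + 1) + 1)) := by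
  have hm : 3 ≤ m + 1 := by omega
  obtain ⟨K, _, _, _, α, M, hK, hi, hM, -⟩ := UD.exists_mod (hm := hm) h3 hab
  obtain ⟨hq, ff, nid, hK⟩ := eq_frob hK hi
  obtain ⟨p, hp⟩ := CharP.exists K
  have := Fact.mk (CharP.char_is_prime K p)
  have := finite_st (D := (clD (m + 1) hm).model.D) (K := K)
  have := Fintype.ofFinite K
  have h1 := Fintype.one_lt_card (α := F)
  have e := rootsEquiv K (if Odd (m + 1) then Nat.gcd 4 (Fintype.card F + 1) else 2)
  rw [← Nat.card_eq_fintype_card (α := K), hK, arith h1.le (by omega)] at e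
  have pf := commutator_eq_top_congr (omegaEquiv (minusForm m a b))
    ((minusForm_nondeg m hab).omega_perfect (by rw [finrank_minus]; omega))
  refine has_un M (by rw [hM]; rfl) (td hM ff nid h3).hc (types hM ff) (torH_inj_of ((clD _ hm).center_equiv
    ((fits_D hm).spin (fun _ => rfl) (cc_of_lifts fun _ _ _ hc hs => Model.lifts_D hc hs hΦ stC_G fun e => ?_)
    (perfect_sl (Model.hl_of UD.norm_D) stC_G)))) p ?_ ((td hM ff nid h3).pp p) (hM ▸ (Z_equiv hq ff).some.trans e)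
  · nlinarith
  · have := map_commutator_eq _ (QuotientGroup.mk' (center (Omega F (quadFormMinus m F a b))))
    rw [show commutator (Omega F (quadFormMinus m F a b)) = ⊤ from pf, MonoidHom.range_eq_top.2 (QuotientGroup.mk'_surjective _),
      map_top_of_surjective _ (QuotientGroup.mk'_surjective _)] at this
    exact this.symm

end DM

end CA.TwM
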