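/-
The part prime to the characteristic of the multiplier of `SU₃(q)`.
-/
import Cfsg.Agent.Lib.Lie.TwM12
import Cfsg.Agent.Lib.Lin.SU3
import Cfsg.Agent.Lib.Lin.PSUOrd

set_option autoImplicit false

namespace CA.TwM

open Cfsg CA.SchurFilt Subgroup CA.SchurHopf CA.SchurCov CA.SchurExt CA.CForm CA.SU3 Matrix
open scoped commutatorElement MatrixGroups

universe u v

section
variable {G : Type*} [Group G] [Finite G] {l : ℕ}

theorem card_sup_dvd {S : Subgroup G} {d : G} (h : ∀ s ∈ S, d * s * d⁻¹ ∈ S) {m : ℕ} (hm : ∀ n : ℕ, d ^ n ∈ S → m ∣ n) :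
    Nat.card S * m ∣ Nat.card ↥(S ⊔ zpowers d) := by
  haveI := (normal_subgroupOf_iff_le_normalizer (le_sup_left : S ≤ S ⊔ zpowers d)).2
    (sup_le le_normalizer (zpowers_le.2 (mem_normalizer_fintype h)))
  rw [← (S.subgroupOf (S ⊔ zpowers d)).card_mul_index, Nat.card_congr (subgroupOfEquivOfLe le_sup_left).toEquiv]
  exact mul_dvd_mul_left _ (hm _ ((S.subgroupOf _).pow_index_mem ⟨d, mem_sup_right (mem_zpowers d)⟩))

theorem coprime_index {H : Subgroup G} {t m : ℕ} (h1 : t ∣ Nat.card H) (h2 : Nat.card G = t * m) (h3 : l.Coprime m) :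
    l.Coprime H.index := by
  obtain ⟨c, hc⟩ := h1
  have := H.card_mul_index
  rw [hc, h2, mul_assoc] at this
  exact h3.coprime_dvd_right ⟨c, by
    rw [mul_comm, Nat.eq_of_mul_eq_mul_left (Nat.pos_of_mul_pos_right (hc ▸ Nat.card_pos : 0 < t * c)) this]⟩

omit [Finite G] in
theorem ker_bot_of_cpl {Δ : Type*} [Group Δ] [Finite Δ] {σ : Δ →* G} (hσ : IsStemExtension σ) (hk : IsPGroup l σ.ker)
    {S : Subgroup G} {x : Δ} (hi : l.Coprime (S ⊔ zpowers (σ x)).index) {L : Subgroup Δ} (h1 : ∀ z ∈ L, σ z = 1 → z = 1)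
    (h2 : S ≤ L.map σ) (h3 : ∀ y ∈ L, x * y * x⁻¹ ∈ L) : σ.ker = ⊥ := by
  let Q : Δ → Subgroup Δ := fun b =>
    { carrier := {a | a ∈ normalizer (L : Set Δ) ∧ ⁅a, b⁆ ∈ L}
      one_mem' := ⟨one_mem _, by simp⟩
      mul_mem' := fun {a a'} h h' => ⟨mul_mem h.1 h'.1, by
        convert mul_mem ((mem_normalizer_iff.1 h.1 _).1 h'.2) h.2 using 1
        simp only [commutatorElement_def]; group⟩
      inv_mem' := fun {a} h => ⟨inv_mem h.1, by
        convert (mem_normalizer_iff''.1 h.1 _).1 (inv_mem h.2) using 1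
        simp only [commutatorElement_def]; group⟩ }
  have nx := mem_normalizer_fintype h3
  have cz : ∀ z ∈ σ.ker, z ∈ normalizer (L : Set Δ) ∧ ∀ b : Δ, ⁅z, b⁆ = 1 := fun z hz =>
    ⟨center_le_normalizer _ (hσ.2.1 hz), fun b =>
      commutatorElement_eq_one_iff_mul_comm.2 (mem_center_iff.1 (hσ.2.1 hz) b).symm⟩
  have key : ∀ b ∈ normalizer (L : Set Δ), ⁅x, b⁆ ∈ L → (S ⊔ zpowers (σ x)).comap σ ≤ Q b := fun b hb h => by
    refine le_trans (comap_mono (sup_le_sup h2 (MonoidHom.map_zpowers σ x).ge)) ?_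
    rw [← Subgroup.map_sup, comap_map_eq]
    refine sup_le (sup_le (fun y hy => ⟨le_normalizer hy, ?_⟩) (zpowers_le.2 ⟨nx, h⟩)) fun z hz =>
      ⟨(cz z hz).1, (cz z hz).2 b ▸ one_mem _⟩
    simpa only [commutatorElement_def, mul_assoc] using mul_mem hy ((mem_normalizer_iff.1 hb _).1 (inv_mem hy))
  refine eq_bot_iff.2 fun z hz => h1 z (commutator_le.2 (fun a ha b hb => ?_) (ker_le_comm hσ hk hi hz)) hz
  have := key x nx (by simp) hb
  exact (key b this.1 (by simpa using inv_mem this.2) ha).2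

theorem pc_SL2_cyc {k : Type*} [Field k] [Finite k] (p : ℕ) [Fact p.Prime] [CharP k p] (hl : l.Prime) (hlp : l ≠ p)
    (φ : SL(2, k) →* G) (hφ : Function.Injective φ) {d : G} (h1 : ∀ b, ∃ b', d * φ (SL2Unip.u b) * d⁻¹ = φ (SL2Unip.u b'))
    (h2 : ∀ b, ∃ b', d * φ (SL2Unip.l b) * d⁻¹ = φ (SL2Unip.l b')) {m c : ℕ} (hm : ∀ n : ℕ, d ^ n ∈ φ.range → m ∣ n)
    (hG : Nat.card G = Nat.card SL(2, k) * m * c) (hc : l.Coprime c) : PC.{_, v} l G := fun Δ _ _ σ hσ hk => by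
  obtain ⟨x, rfl⟩ := hσ.1 d
  let lHom : Multiplicative k →* SL(2, k) := MonoidHom.mk' (fun b => SL2Unip.l b.toAdd) fun a b => SL2Unip.l_add _ _
  let P := (φ.comp SL2Unip.uHom).range
  let Q := (φ.comp lHom).range
  have e : φ.range = P ⊔ Q := by
    refine le_antisymm ?_ (sup_le (by rintro _ ⟨b, rfl⟩; exact ⟨_, rfl⟩) (by rintro _ ⟨b, rfl⟩; exact ⟨_, rfl⟩))
    rw [MonoidHom.range_eq_map, map_le_iff_le_comap, top_le_iff]
    exact SL2Unip.eq_top_of_u_l _ (fun b => mem_sup_left ⟨b, rfl⟩) fun b => mem_sup_right ⟨b, rfl⟩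
  have hπ := pp_of (Fact.out : p.Prime) hl hlp hσ.2.1 hk
  have pk : IsPGroup p (Multiplicative k) := fun b => ⟨1, by
    rw [pow_one, ← ofAdd_toAdd b, ← ofAdd_nsmul, nsmul_eq_mul, CharP.cast_eq_zero, zero_mul]; rfl⟩
  have sp := fun f : Multiplicative k →* G => (hπ.spec (P := f.range) inferInstance
    (pk.of_surjective _ f.rangeRestrict_surjective) (MonoidHom.range_eq_top.2 hσ.1 ▸ le_top)).2.2
  have c1 : ∀ y ∈ P, σ x * y * (σ x)⁻¹ ∈ P := by rintro _ ⟨b, rfl⟩; exact (h1 b).imp fun _ => Eq.symm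
  have c2 : ∀ y ∈ Q, σ x * y * (σ x)⁻¹ ∈ Q := by rintro _ ⟨b, rfl⟩; exact (h2 b).imp fun _ => Eq.symm
  refine ker_bot_of_cpl hσ hk (S := φ.range) (x := x) (coprime_index ?_ hG hc)
    (lf_sup_inj hπ hk (pc_SL2 p hl hlp) hφ e (sp _) (sp _)) (e ▸ sup_le
      (fun v hv => (sp _ v hv).imp fun x h => ⟨mem_sup_left h.1, h.2⟩)
      fun v hv => (sp _ v hv).imp fun x h => ⟨mem_sup_right h.1, h.2⟩) fun y hy => ?_
  · rw [Nat.card_congr (MonoidHom.ofInjective hφ).toEquiv]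
    refine card_sup_dvd (fun s hs => ?_) hm
    rw [e] at hs ⊢
    exact (sup_le (fun y hy => mem_sup_left (c1 y hy)) (fun y hy => mem_sup_right (c2 y hy)) :
      _ ≤ (P ⊔ Q).comap (MulAut.conj (σ x)).toMonoidHom) hs
  · exact (sup_le (fun y hy => mem_sup_left (lf_conj c1 hy)) (fun y hy => mem_sup_right (lf_conj c2 hy)) :
      _ ≤ (lf σ p P ⊔ lf σ p Q).comap (MulAut.conj x).toMonoidHom) hy

theorem pc_mono (hl : l.Prime) (h2 : l ≠ 2) {t c s : G} (c3 : c ^ 3 = 1) (sc : s * c * s⁻¹ = c⁻¹) (st : s * t * s⁻¹ = t⁻¹)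
    (cm : Commute t (c * t * c⁻¹)) (pr : t * (c * t * c⁻¹) * (c⁻¹ * t * c) = 1)
    (ind : ∀ i j : ℤ, t ^ i * (c * t * c⁻¹) ^ j = 1 → t ^ j = 1) (h1 : t ≠ 1) {k : ℕ}
    (hG : Nat.card G = orderOf t * orderOf t * 3 * k) (hk : l.Coprime k) : PC.{_, v} l G := fun Δ _ _ σ hσ hp => by
  obtain ⟨c, rfl⟩ := hσ.1 c
  obtain ⟨s, rfl⟩ := hσ.1 s
  obtain ⟨hc, m, m1, m2⟩ := pp_of Nat.prime_two hl h2 hσ.2.1 hp
  have cen : ∀ z, σ z = 1 → ∀ g, g * z * g⁻¹ = z := fun z hz g => by rw [mem_center_iff.1 (hc hz), mul_inv_cancel_right]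
  have odd : ∀ z, σ z = 1 → s * z * s⁻¹ = z⁻¹ → z = 1 := fun z hz e => by
    have := pow_gcd_eq_one.2 ⟨(show z ^ 2 = 1 by rw [sq, mul_eq_one_iff_eq_inv, ← e, cen z hz]), m2 z hz⟩
    rwa [m1, pow_one] at this
  obtain ⟨u, rfl, su⟩ : ∃ u, σ u = t ∧ s * u * s⁻¹ = u⁻¹ := by
    obtain ⟨t, rfl⟩ := hσ.1 t
    obtain ⟨j, rfl⟩ := (Nat.coprime_two_left.1 m1)
    have hz : σ (s * t * s⁻¹ * t) = 1 := by simp [st]
    have h3 := m2 _ hz
    set z := s * t * s⁻¹ * t with hz'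
    have h4 : σ (z ^ j) = 1 := by simp [hz]
    refine ⟨t * z ^ j, by simp [h4], eq_inv_of_mul_eq_one_left ?_⟩
    calc _ = s * t * s⁻¹ * (s * z ^ j * s⁻¹) * t * z ^ j := by group
      _ = z * (t⁻¹ * z ^ j * t⁻¹⁻¹) * z ^ j := by rw [cen _ h4, hz']; group
      _ = 1 := by rw [cen _ h4, ← h3]; group
  have k1 : ∀ y, c * (c * y * c⁻¹) * c⁻¹ = c⁻¹ * y * c := fun y => by
    have := mem_center_iff.1 (hc (show σ (c ^ 3) = 1 by simpa using c3)) y
    calc _ = c⁻¹ * (c ^ 3 * y) * (c ^ 2)⁻¹ := by simp only [pow_succ, pow_zero]; group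
      _ = _ := by rw [← this]; simp only [pow_succ, pow_zero]; group
  have k2 : s * (c * u * c⁻¹) * s⁻¹ = (c⁻¹ * u * c)⁻¹ := by
    have := mem_center_iff.1 (hc (show σ (c * (s * c * s⁻¹)) = 1 by simp [sc])) u⁻¹
    calc _ = c⁻¹ * (c * (s * c * s⁻¹) * (s * u * s⁻¹)) * (s * c * s⁻¹)⁻¹ := by group
      _ = _ := by rw [su, ← this]; group
  have k3 : s * (c⁻¹ * u * c) * s⁻¹ = (c * u * c⁻¹)⁻¹ := by
    have := mem_center_iff.1 (hc (show σ (c * (s * c * s⁻¹)) = 1 by simp [sc])) (c * u⁻¹ * c⁻¹)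
    calc _ = (c * (s * c * s⁻¹))⁻¹ * (c * u⁻¹ * c⁻¹ * (c * (s * c * s⁻¹))) := by rw [← su]; group
      _ = _ := by rw [this]; group
  obtain ⟨v, hv⟩ : ∃ v, v = c * u * c⁻¹ := ⟨_, rfl⟩
  obtain ⟨w, hw⟩ : ∃ w, w = c⁻¹ * u * c := ⟨_, rfl⟩
  have cv : c * v * c⁻¹ = w := by rw [hv, hw, k1]
  have cw : c * w * c⁻¹ = u := by rw [hw]; group
  simp only [← map_inv, ← map_mul] at cm pr ind
  rw [← hv] at k2 k3 cm pr ind
  rw [← hw] at k2 k3 pr
  have z1 : σ ⁅u, v⁆ = 1 := by rw [map_commutatorElement, cm.commutator_eq]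
  have e1 : ⁅v, w⁆ = ⁅u, v⁆ := by rw [← cen _ z1 c, conjugate_commutatorElement, ← hv, cv]
  have e2 : ⁅w, u⁆ = ⁅u, v⁆ := by rw [← cen _ z1 c, ← e1, conjugate_commutatorElement, cv, cw]
  have e3 : ⁅u, v⁆ = 1 := odd _ z1 (by
    rw [conjugate_commutatorElement, su, k2, ← cen _ (show σ ⁅u, v⁆⁻¹ = 1 by rw [map_inv, z1, inv_one]) (w * u)⁻¹, ← e2]
    simp only [commutatorElement_def]; group)
  rw [e3, commutatorElement_eq_one_iff_commute] at e1 e2
  rw [commutatorElement_eq_one_iff_commute] at e3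
  have e4 : u * v * w = 1 := odd _ pr (by
    rw [show s * (u * v * w) * s⁻¹ = s * u * s⁻¹ * (s * v * s⁻¹) * (s * w * s⁻¹) by group, su, k2, k3, mul_assoc u,
      (e3.mul_right e2.symm).eq]; group)
  have e5 : ∀ i : ℤ, σ u ^ i = 1 → u ^ i = 1 := fun i h => odd _ (by simpa using h) (by
    rw [← conj_zpow, su, _root_.inv_zpow])
  let f := (zpowersHom Δ u).noncommCoprod (zpowersHom Δ v) fun i j => e3.zpow_zpow _ _
  have fu : u ∈ f.range := ⟨(.ofAdd 1, 1), show u ^ (1 : ℤ) * v ^ (0 : ℤ) = u by simp⟩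
  have fv : v ∈ f.range := ⟨(1, .ofAdd 1), show u ^ (0 : ℤ) * v ^ (1 : ℤ) = v by simp⟩
  have ov : orderOf (σ v) = orderOf (σ u) := by rw [hv, map_mul, map_mul, map_inv]; exact (MulAut.conj (σ c)).orderOf_eq _
  have d1 : Nat.card (zpowers (σ u)) * orderOf (σ u) ∣ _ := card_sup_dvd (d := σ v) (fun y hy => by
      obtain ⟨i, rfl⟩ := hy
      rw [← (cm.zpow_left i).eq, mul_inv_cancel_right]; exact ⟨i, rfl⟩) fun n ⟨i, hi⟩ => by
    simpa [orderOf_dvd_iff_pow_eq_one] using ind (-i) n (by simp [← show _ = σ v ^ n from hi])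
  have n1 : ∀ y ∈ f.range, c * y * c⁻¹ ∈ f.range := by
    rintro _ ⟨⟨i, j⟩, rfl⟩
    change c * (u ^ i.toAdd * v ^ j.toAdd) * c⁻¹ ∈ _
    rw [← conj_mul, ← conj_zpow, ← conj_zpow, ← hv, cv, eq_inv_of_mul_eq_one_right e4]
    exact mul_mem (zpow_mem fv _) (zpow_mem (inv_mem (mul_mem fu fv)) _)
  have eS : zpowers (σ u) ⊔ zpowers (σ v) = f.range.map σ := by
    refine le_antisymm (sup_le (zpowers_le.2 ⟨u, fu, rfl⟩) (zpowers_le.2 ⟨v, fv, rfl⟩)) ?_
    rintro _ ⟨_, ⟨⟨i, j⟩, rfl⟩, rfl⟩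
    change σ (u ^ i.toAdd * v ^ j.toAdd) ∈ _
    rw [map_mul, map_zpow, map_zpow]
    exact mul_mem (mem_sup_left ⟨_, rfl⟩) (mem_sup_right ⟨_, rfl⟩)
  refine ker_bot_of_cpl hσ hp (S := f.range.map σ) (x := c) (coprime_index ((mul_dvd_mul_right
    (eS ▸ Nat.card_zpowers (σ u) ▸ d1) 3).trans (card_sup_dvd ?_ fun n hn => ?_)) hG hk) (L := f.range) ?_ le_rfl n1
  · rintro _ ⟨y, hy, rfl⟩
    exact ⟨_, n1 y hy, by simp⟩
  · have h3 : Commute (σ c ^ n) (σ u) := (eS.ge.trans (sup_le (zpowers_le.2 (mem_centralizer_singleton_iff.2 rfl))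
      (zpowers_le.2 (mem_centralizer_singleton_iff.2 cm.symm))) hn) _ rfl |>.symm
    have h4 : ¬ Commute (σ c) (σ u) := fun e => h1 (by
      simpa using ind (-1) 1 (by simp [hv, e.eq]))
    rw [pow_eq_pow_mod n c3] at h3
    by_contra hn
    obtain e | e : n % 3 = 1 ∨ n % 3 = 2 := by omega
    · exact h4 (by simpa [e] using h3)
    · rw [e] at h3
      exact h4 (by simpa [← pow_mul, pow_succ _ 3, c3] using h3.pow_left 2)
  · rintro _ ⟨⟨i, j⟩, rfl⟩ e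
    change u ^ i.toAdd * v ^ j.toAdd = 1
    replace e : σ u ^ i.toAdd * σ v ^ j.toAdd = 1 := by
      simpa using show σ (u ^ i.toAdd * v ^ j.toAdd) = 1 from e
    have h3 := e5 _ (ind _ _ e)
    have h4 : v ^ j.toAdd = 1 := by rw [hv, conj_zpow, h3]; simp
    rw [← map_zpow σ v, h4, map_one, mul_one] at e
    rw [e5 _ e, h4, mul_one]

end

variable {F : Type*} [Field F] [Fintype F] {q : ℕ} (hF : Fintype.card F = q ^ 2) (p : ℕ) [Fact p.Prime] [CharP F p] {l : ℕ}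
  (hl : l.Prime) (hlp : l ≠ p)
include hF

theorem card_SU3 : Nat.card (SU 3 F q) = q ^ 3 * ((q + 1) * (q - 1) * ((q + 1) * (q ^ 2 - q + 1))) := by
  have hq := two_le_of_card_sq hF
  rw [Nat.card_congr (nonempty_equiv hF).some.toEquiv, card_SJ]
  zify [show 1 ≤ q by omega, show 1 ≤ q ^ 2 by nlinarith, show q ≤ q ^ 2 by nlinarith]; ring

include p hl hlp

theorem not_dvd_q : ¬ l ∣ q := fun h => by
  obtain ⟨n, hp, hn⟩ := FiniteField.card F p
  exact hlp ((Nat.prime_dvd_prime_iff_eq hl hp).1 (hl.dvd_of_dvd_pow (hn ▸ hF ▸ h.trans (dvd_pow_self q two_ne_zero))))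

omit hl hlp p in
theorem exists_su2 : ∃ δ : F, δ ≠ 0 ∧ ∃ φ : SL(2, (conj hF).eqLocusField (RingHom.id F)) →* SJ hF, ∀ g,
    en hF (φ g) = !![(g.1 0 0 : F), 0, δ * g.1 0 1; 0, 1, 0; δ⁻¹ * g.1 1 0, 0, g.1 1 1] := by
  let k := (conj hF).eqLocusField (RingHom.id F)
  have fx : ∀ a : k, conj hF a = a := fun a => a.2
  obtain ⟨δ, h0, hδ⟩ : ∃ δ : F, δ ≠ 0 ∧ conj hF δ = -δ := by
    obtain ⟨t, ht⟩ : ∃ t, conj hF t ≠ t := by_contra fun e => conj_ne_id hF (RingHom.ext (by simpa using e))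
    exact ⟨conj hF t - t, sub_ne_zero.2 ht, by simp [conj_conj]⟩
  have key : ∀ a b c d : F, conj hF a = a → conj hF b = b → conj hF c = c → conj hF d = d → a * d - b * c = 1 →
      ∃ x : SJ hF, en hF x = !![a, 0, δ * b; 0, 1, 0; δ⁻¹ * c, 0, d] := fun a b c d ha hb hc hd dt =>
    ⟨mkS !![a, 0, δ * b; 0, 1, 0; δ⁻¹ * c, 0, d] (by simp [det_fin_three]; field_simp; linear_combination dt) (by
        ext i j
        fin_cases i <;> fin_cases j <;>
          simp [SU3.J, Matrix.mul_apply, Fin.sum_univ_three, vecMul, dotProduct, ha, hb, hc, hd, hδ] <;> field_simp <;>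
          first | ring1 | linear_combination dt), rfl⟩
  have key2 := fun g : SL(2, k) => key (g.1 0 0) (g.1 0 1) (g.1 1 0) (g.1 1 1) (fx _) (fx _) (fx _) (fx _) (by
    exact_mod_cast (det_fin_two _).symm.trans g.2)
  choose φ hφ using key2
  refine ⟨δ, h0, MonoidHom.mk' φ fun g h => en_inj ?_, hφ⟩
  rw [en_mul, hφ, hφ, hφ]
  ext i j
  fin_cases i <;> fin_cases j <;> simp [Matrix.mul_apply, Fin.sum_univ_three] <;> field_simp

theorem pc_SU3a (h : ¬ l ∣ q ^ 2 - q + 1) : PC.{_, v} l (SU 3 F q) := by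
  have hq := two_le_of_card_sq hF
  let k := (conj hF).eqLocusField (RingHom.id F)
  have hk : Nat.card k = q := card_conj_fixed hF
  obtain ⟨δ, h0, φ, eφ⟩ := exists_su2 hF
  obtain ⟨g, hg⟩ := IsCyclic.exists_ofOrder_eq_natCard (α := Fˣ)
  rw [Nat.card_units, Nat.card_eq_fintype_card, hF] at hg
  have n0 := conj_ne (hF := hF) g
  let N : k := ⟨g * conj hF g, show conj hF _ = _ by simp [conj_conj, mul_comm]⟩
  have eN : (N : F) = g * conj hF g := rfl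
  refine (pc_SL2_cyc p hl hlp φ (fun a b e => ?_) (d := d hF g) (fun b => ⟨N * b, ?_⟩) (fun b => ⟨N⁻¹ * b, ?_⟩)
    (m := q + 1) (c := q ^ 2 * (q ^ 2 - q + 1)) ?_ ?_ ?_).congr (nonempty_equiv hF).some.symm
  · have := congrArg (en hF) e
    rw [eφ, eφ] at this
    exact SL2Unip.sl_ext4 (by simpa using congrFun (congrFun this 0) 0) (by simpa [h0] using congrFun (congrFun this 0) 2)
      (by simpa [h0] using congrFun (congrFun this 2) 0) (by simpa using congrFun (congrFun this 2) 2)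
  · rw [mul_inv_eq_iff_eq_mul]
    refine en_inj ?_
    rw [en_mul, en_mul, en_d, eφ, eφ]
    ext i j
    fin_cases i <;> fin_cases j <;> simp [Matrix.mul_apply, Fin.sum_univ_three, eN]
    field_simp
  · rw [mul_inv_eq_iff_eq_mul]
    refine en_inj ?_
    rw [en_mul, en_mul, en_d, eφ, eφ]
    ext i j
    fin_cases i <;> fin_cases j <;> simp [Matrix.mul_apply, Fin.sum_univ_three, eN]
    field_simp
  · rintro n ⟨a, e⟩
    have := congrFun (congrFun (congrArg (en hF) e) 1) 1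
    rw [← map_pow, eφ, en_d] at this
    have h1 : g ^ (n * q) = g ^ n := Units.ext (by
      simpa [mul_inv_eq_one₀, conj_apply, pow_mul] using this.symm)
    have h2 : (q + 1) * (q - 1) ∣ n * (q - 1) := by
      rw [← Nat.sq_sub_sq, one_pow, ← hg, orderOf_dvd_iff_pow_eq_one, ← mul_left_inj (g ^ n), ← pow_add, one_mul, ← h1,
        ← Nat.mul_succ, Nat.succ_eq_add_one, Nat.sub_add_cancel (by omega), h1]
    exact Nat.dvd_of_mul_dvd_mul_right (by omega) h2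
  · rw [← Nat.card_congr (nonempty_equiv hF).some.toEquiv, card_SU3 hF, CA.SLnCard.card_SL2, hk,
      show q ^ 2 - 1 = (q + 1) * (q - 1) from Nat.sq_sub_sq q 1]; ring
  · exact ((hl.coprime_iff_not_dvd.2 (not_dvd_q hF p hl hlp)).pow_right 2).mul_right (hl.coprime_iff_not_dvd.2 h)

omit hl hlp p hF in
theorem exists_dg : ∃ dg : Fˣ × Fˣ →* SL(3, F), Function.Injective dg ∧
    ∀ x, (dg x).1 = !![(x.1 : F), 0, 0; 0, (x.1 : F)⁻¹ * x.2, 0; 0, 0, (x.2 : F)⁻¹] := by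
  have : ∀ x : Fˣ × Fˣ, ∃ g : SL(3, F), g.1 = !![(x.1 : F), 0, 0; 0, (x.1 : F)⁻¹ * x.2, 0; 0, 0, (x.2 : F)⁻¹] :=
    fun x => ⟨⟨_, by simp [det_fin_three]⟩, rfl⟩
  choose dg edg using this
  refine ⟨MonoidHom.mk' dg fun x y => Subtype.ext ?_, fun x y e => ?_, edg⟩
  · change (dg (x * y)).1 = (dg x).1 * (dg y).1
    rw [edg, edg, edg]
    ext i j; fin_cases i <;> fin_cases j <;> simp [Matrix.mul_apply, Fin.sum_univ_three] <;> ring
  · have : (dg x).1 = (dg y).1 := congrArg Subtype.val e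
    rw [edg, edg] at this
    exact Prod.ext (Units.ext (by simpa using congrFun (congrFun this 0) 0))
      (Units.ext (by simpa using congrFun (congrFun this 2) 2))

omit hl hlp p in
theorem exists_cs : ∃ c s : SUM (conj hF) (1 : Matrix (Fin 3) (Fin 3) F), c.1.1 = !![0, 0, 1; 1, 0, 0; 0, 1, 0] ∧
    s.1.1 = !![0, -1, 0; -1, 0, 0; 0, 0, -1] :=
  ⟨⟨⟨!![0, 0, 1; 1, 0, 0; 0, 1, 0], by simp [det_fin_three]⟩, mem_SUM.2 (by
    ext i j; fin_cases i <;> fin_cases j <;> simp [Matrix.mul_apply, Fin.sum_univ_three])⟩,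
  ⟨⟨!![0, -1, 0; -1, 0, 0; 0, 0, -1], by simp [det_fin_three]⟩, mem_SUM.2 (by
    ext i j; fin_cases i <;> fin_cases j <;> simp [Matrix.mul_apply, Fin.sum_univ_three])⟩, rfl, rfl⟩

omit hl hlp p in
set_option maxHeartbeats 400000 in
theorem pc_SU3b (h : 3 ∣ q + 1) : PC.{_, v} 3 (SU 3 F q) := by
  have hq := two_le_of_card_sq hF
  obtain ⟨a, a0, ha⟩ := PSUOrd.exists_ord hF (t := q + 1) ⟨_, Nat.sq_sub_sq q 1⟩
  have ca : conj hF a = a⁻¹ := eq_inv_of_mul_eq_one_left (by rw [conj_apply, ← pow_succ, ← ha, pow_orderOf_eq_one])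
  obtain ⟨dg, hdg, edg⟩ := exists_dg (F := F)
  obtain ⟨b, hb⟩ : ∃ b : Fˣ, (b : F) = a := ⟨Units.mk0 a a0, rfl⟩
  obtain ⟨t, ht⟩ : ∃ t : SUM (conj hF) 1, t.1 = dg (b, 1) := ⟨⟨dg (b, 1), mem_SUM.2 (by
    ext i j; fin_cases i <;> fin_cases j <;> simp [edg, hb, Matrix.mul_apply, Fin.sum_univ_three, ca, a0])⟩, rfl⟩
  obtain ⟨c, s, hc, hs⟩ := exists_cs hF
  have ex : ∀ {x y : SUM (conj hF) (1 : Matrix (Fin 3) (Fin 3) F)}, (∀ i j, x.1.1 i j = y.1.1 i j) → x = y := fun h =>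
    Subtype.ext (Subtype.ext (Matrix.ext h))
  have e1 : (c * t * c⁻¹).1 = dg (1, b) := by
    rw [Subgroup.coe_mul, Subgroup.coe_mul, Subgroup.coe_inv, mul_inv_eq_iff_eq_mul]
    ext i j; fin_cases i <;> fin_cases j <;> simp [hc, ht, edg, Matrix.mul_apply, Fin.sum_univ_three]
  have e2 : (c⁻¹ * t * c).1 = dg (b⁻¹, b⁻¹) := by
    rw [Subgroup.coe_mul, Subgroup.coe_mul, Subgroup.coe_inv, mul_assoc, inv_mul_eq_iff_eq_mul]
    ext i j; fin_cases i <;> fin_cases j <;> simp [hc, ht, edg, Matrix.mul_apply, Fin.sum_univ_three]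
  have ot : orderOf t = q + 1 := by
    rw [← Subgroup.orderOf_coe, ht, orderOf_injective dg hdg, Prod.orderOf_mk, orderOf_one, Nat.lcm_one_right,
      ← orderOf_units, hb, ha]
  obtain ⟨r, hr⟩ := h
  obtain ⟨r, rfl⟩ : ∃ k, r = k + 1 := ⟨r - 1, by omega⟩
  obtain rfl : q = 3 * r + 2 := by omega
  refine (pc_mono Nat.prime_three (by decide) (t := t) (c := c) (s := s) (ex fun i j => ?_) ?_ ?_ (Subtype.ext ?_)
    (Subtype.ext ?_) (fun i j e => Subtype.ext ?_) (fun e => by simp [e] at ot)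
    (k := (3 * r + 2) ^ 3 * ((3 * r + 1) * (3 * (r ^ 2 + r) + 1))) ?_ ?_).congr (MulEquiv.subgroupCongr (SU_eq hF).symm)
  · fin_cases i <;> fin_cases j <;> simp [hc, pow_succ, Matrix.mul_apply, Fin.sum_univ_three]
  · rw [mul_inv_eq_iff_eq_mul, eq_inv_mul_iff_mul_eq]
    exact ex fun i j => by fin_cases i <;> fin_cases j <;> simp [hs, hc, Matrix.mul_apply, Fin.sum_univ_three]
  · rw [mul_inv_eq_iff_eq_mul, eq_inv_mul_iff_mul_eq]
    exact ex fun i j => by fin_cases i <;> fin_cases j <;> simp [hs, ht, edg, Matrix.mul_apply, Fin.sum_univ_three]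
  · rw [Subgroup.coe_mul, Subgroup.coe_mul _ _ t, e1, ht, ← map_mul, ← map_mul, mul_comm]
  · rw [Subgroup.coe_mul, Subgroup.coe_mul, e1, e2, ht, ← map_mul, ← map_mul]; simp [Prod.mk_one_one]
  · have := congrArg Subtype.val e
    rw [Subgroup.coe_mul, Subgroup.coe_zpow, Subgroup.coe_zpow, e1, ht, ← map_zpow, ← map_zpow, ← map_mul,
      Subgroup.coe_one, ← map_one dg, hdg.eq_iff] at this
    rw [Subgroup.coe_zpow, ht, ← map_zpow, show ((b, 1) : Fˣ × Fˣ) ^ j = 1 by simpa using congrArg Prod.snd this, map_one]; rfl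
  · rw [ot, ← SU_eq, card_SU3 hF, show (3 * r + 2) ^ 2 - (3 * r + 2) = 9 * r ^ 2 + 9 * r + 2 from
      Nat.sub_eq_of_eq_add (by ring)]
    simp; ring
  · simp [Nat.coprime_mul_iff_right, Nat.coprime_pow_right_iff, Nat.odd_iff]

open Polynomial CA.Rcf CA.PSUOrd CA.PSLOrd in
theorem pc_SU3c (h : l ∣ q ^ 2 - q + 1) (h3 : l ≠ 3) : PC.{_, v} l (SU 3 F q) := fun Δ _ _ σ hσ hk => by
  have hq := two_le_of_card_sq hF
  have hT : q ^ 2 - q + 1 = (q + 1) * (q - 2) + 3 := by zify [hq, show q ≤ q ^ 2 by nlinarith]; ring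
  have hT' : q ^ 2 - q + 1 = q * (q - 1) + 1 := by zify [show 1 ≤ q by omega, show q ≤ q ^ 2 by nlinarith]; ring
  have c1 : l.Coprime (q + 1) := hl.coprime_iff_not_dvd.2 fun e =>
    h3 ((Nat.prime_dvd_prime_iff_eq hl Nat.prime_three).1 ((Nat.dvd_add_right (e.mul_right _)).1 (hT ▸ h)))
  have c2 : l.Coprime (q - 1) := hl.coprime_iff_not_dvd.2 fun e =>
    hl.not_dvd_one ((Nat.dvd_add_right (e.mul_left _)).1 (hT' ▸ h))
  obtain ⟨e, m, h1, h2⟩ := Nat.exists_eq_pow_mul_and_not_dvd (n := q ^ 2 - q + 1) (by omega) l hl.ne_one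
  have he : e ≠ 0 := by rintro rfl; exact h1 (by simpa [h2] using h)
  have h4 : l ^ e ∣ T q 3 := T_three (q := q) (by omega) ▸ ⟨m, h2⟩
  have h5 : l ^ e ∣ U q 3 := h4.trans ⟨_, by rw [← mul_T (by omega), mul_comm]⟩
  have h6 : ((l ^ e : ℕ) : F) ≠ 0 := fun H => coprime_U hF p three_ne_zero
    ((CharP.cast_eq_zero_iff F p _).2 (((CharP.cast_eq_zero_iff F p _).1 H).trans h5))
  obtain ⟨φ, hφ⟩ := exists_mem_cycT (F := F) (ne_zero_of_cast h6)
  obtain ⟨c, -, k2, k3⟩ := blk_c hF h6 hφ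
  have h7 : orderOf (-(q : ZMod (l ^ e))) = 3 := ((Nat.dvd_prime Nat.prime_three).1 ((dvd_U_iff (by omega)).1 h5)).resolve_left
    fun H => hl.coprime_iff_not_dvd.1 c1 ((dvd_pow_self l he).trans (U_one (q := q) ▸ (dvd_U_iff (by omega)).2 H.dvd))
  rw [h7] at k2 k3
  have := Fact.mk (mem_cycT.1 hφ).1
  obtain rfl : c = 1 := by
    have h8 := (dvd_X_pow_sub_C_iff _ _ _).1 (k2 _ self_mem_cl)
    rwa [((isPrimitiveRoot_root h6 hφ).pow_eq_one_iff_dvd _).2 h4, eq_comm,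
      map_eq_one_iff _ (algebraMap F _).injective] at h8
  obtain ⟨x, hx⟩ := exists_psu hF (n := 3) (t := l ^ e) (by decide) (adm_cl hF h6 hφ) (by rw [dg_cl hF h6 hφ, h7])
    (by rw [k3, if_pos (by decide)]; ring) fun M hM => (c1.pow_left e).dvd_of_dvd_mul_left ((kl_cl hF h6 hφ M).1 hM)
  obtain ⟨g, rfl⟩ := QuotientGroup.mk'_surjective _ x
  refine ker_eq_bot_of_cyclic hσ hk (H := zpowers g) (coprime_index (t := l ^ e)
    (m := q ^ 3 * ((q + 1) * (q - 1) * ((q + 1) * m))) (Nat.card_zpowers g ▸ hx ▸ orderOf_map_dvd _ g)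
    (by rw [card_SU3 hF, h2]; ring) ?_)
  exact ((hl.coprime_iff_not_dvd.2 (not_dvd_q hF p hl hlp)).pow_right 3).mul_right
    ((c1.mul_right c2).mul_right (c1.mul_right (hl.coprime_iff_not_dvd.2 h1)))

theorem pc_SU3 : PC.{_, v} l (SU 3 F q) := by
  by_cases h : l ∣ q ^ 2 - q + 1
  · by_cases h3 : l = 3
    · subst h3
      have hq := two_le_of_card_sq hF
      refine pc_SU3b hF ?_
      rw [show q ^ 2 - q + 1 = (q + 1) * (q - 2) + 3 by zify [hq, show q ≤ q ^ 2 by nlinarith]; ring,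
        Nat.dvd_add_self_right, Nat.prime_three.dvd_mul] at h
      omega
    · exact pc_SU3c hF p hl hlp h h3
  · exact pc_SU3a hF p hl hlp h

end CA.TwM
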