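/-
The part prime to the characteristic of the multiplier of the unitary groups.
-/
import Cfsg.Agent.Lib.Lie.TwM13

set_option autoImplicit false

namespace CA.TwM

open Matrix Equiv Cfsg Cfsg.Lie Cfsg.Lie.ChevalleyDatum CA.SchurFilt Subgroup CA.Chev CA.Chev.Sys0 CA.Chev.Sys
open CA.SchurHopf CA.Chev.Twist CA.SchurCov CA.CForm CA.CForm.Form
open scoped commutatorElement MatrixGroups

universe u v

theorem exists_blk {m n K : Type*} [Fintype m] [DecidableEq m] [Fintype n] [DecidableEq n] [Field K] {P : m → n}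
    (hP : Function.Injective P) : ∃ φ : SpecialLinearGroup m K →* SpecialLinearGroup n K, Function.Injective φ ∧
      ∀ a d (h : a ≠ d) t, φ (SpecialLinearGroup.transvection h t) = SpecialLinearGroup.transvection (hP.ne h) t := by
  classical
  let e : m ⊕ ((Set.range P)ᶜ : Set n) ≃ n := (Equiv.sumCongr (Equiv.ofInjective P hP) (Equiv.refl _)).trans (Equiv.Set.sumCompl _)
  have he : ∀ a, e (.inl a) = P a := fun _ => rfl
  have : ∀ g : SpecialLinearGroup m K, ∃ g' : SpecialLinearGroup n K, g'.1 = (fromBlocks g.1 0 0 1).submatrix e.symm e.symm :=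
    fun g => ⟨⟨_, (det_submatrix_equiv_self e.symm _).trans (by rw [det_fromBlocks_zero₂₁, g.2]; simp)⟩, rfl⟩
  choose φ hφ using this
  refine ⟨MonoidHom.mk' φ fun g h => Subtype.ext ?_, fun g h e1 => Subtype.ext (Matrix.ext fun a d => ?_),
    fun a d h t => Subtype.ext (Matrix.ext fun x y => ?_)⟩
  · change (φ (g * h)).1 = (φ g).1 * (φ h).1
    rw [hφ, hφ, hφ, submatrix_mul_equiv, fromBlocks_multiply]; simp
  · have : (φ g).1 (e (.inl a)) (e (.inl d)) = (φ h).1 (e (.inl a)) (e (.inl d)) := by rw [show φ g = φ h from e1]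
    simpa [hφ] using this
  · change (φ _).1 x y = _
    obtain ⟨x, rfl⟩ := e.surjective x
    obtain ⟨y, rfl⟩ := e.surjective y
    rw [hφ]
    simp only [SpecialLinearGroup.transvection_coe, ← he, Matrix.add_apply, one_apply, single_apply, e.apply_eq_iff_eq,
      submatrix_apply, e.symm_apply_apply]
    rcases x with x | x <;> rcases y with y | y <;> simp [one_apply, single_apply]

namespace UM
variable {l : ℕ} {hl : 2 ≤ l} {K : Type u} [Field K] {a d : Fin (l + 1)}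

theorem pos_rA (h : a ≠ d) : Pos ((modA l hl).ι (rA a d)) ↔ a < d := by
  rcases h.lt_or_gt with e | e
  · refine iff_of_true (pos_of_coord (i := (⟨a, by omega⟩ : Fin l)) ?_) e
    rw [UA.rt_rA h]; simp; omega
  · refine iff_of_false (not_pos_of_coord (i := (⟨d, by omega⟩ : Fin l)) ?_) e.not_gt
    rw [UA.rt_rA h]; simp; omega

theorem mem_Phi (h : a ≠ d) {J : Set (Fin l)} {m : ℕ} (hJ : ∀ j, j ∈ J ↔ j.val = m ∨ j.val = m + 1) :
    (modA l hl).ι (rA a d) ∈ Phi (D := (modA l hl).D) J ↔ (m ≤ a ∧ a.val ≤ m + 2) ∧ m ≤ d ∧ d.val ≤ m + 2 := by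
  have h' : a.val ≠ d := Fin.val_ne_of_ne h
  constructor
  · intro H
    have k : ∀ j (hj : j < l), j = m ∨ j = m + 1 ∨ (a.val ≤ j ↔ d.val ≤ j) := fun j hj => by
      by_contra e
      have := H ⟨j, hj⟩ (by rw [hJ]; simp only; omega)
      rw [UA.rt_rA h] at this
      split_ifs at this <;> simp_all
    have k1 := fun e => k (min a.val d.val) e
    have k2 := fun e => k (max a.val d.val - 1) e
    have := a.2
    have := d.2
    omega
  · intro H j hj
    rw [hJ] at hj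
    rw [UA.rt_rA h]
    split_ifs <;> omega

theorem exists_xy (α : K →+* K) (hα : ∀ t, α t = t ^ 2) {w : K} (h : w ^ 2 + w + 1 = 0) : ∃ x y : SL(3, K),
    (x.1.map α)ᵀ * UA.J 2 K * x.1 = UA.J 2 K ∧ (y.1.map α)ᵀ * UA.J 2 K * y.1 = UA.J 2 K ∧ scalar _ w = ⁅x, y⁆.1 := by
  have t2 : (2 : K) = 0 := by
    have := hα 2
    rw [map_ofNat] at this; linear_combination -this
  have eJ : UA.J 2 K = !![0, 0, 1; 0, -1, 0; 1, 0, 0] := by
    ext i j; fin_cases i <;> fin_cases j <;> simp [UA.J, Fin.rev, Fin.ext_iff]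
  obtain ⟨x, hx⟩ : ∃ x : SL(3, K), x.1 = !![0, 0, 1; 0, 1, 0; 1, 0, 1] := ⟨⟨_, by simp [det_fin_three]; grind⟩, rfl⟩
  obtain ⟨y, hy⟩ : ∃ x : SL(3, K), x.1 = !![1, 1, w; 1, 0, w ^ 2; w ^ 2, w, 1] := ⟨⟨_, by simp [det_fin_three]; grind⟩, rfl⟩
  have aw := hα w
  clear hα
  refine ⟨x, y, ?_, ?_, ?_⟩
  · rw [hx, eJ]; ext i j; fin_cases i <;> fin_cases j <;> simp [Matrix.mul_apply, Fin.sum_univ_three] <;> grind
  · rw [hy, eJ]; ext i j; fin_cases i <;> fin_cases j <;> simp [Matrix.mul_apply, Fin.sum_univ_three, aw] <;> grind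
  have : scalar _ w * (y * x).1 = (x * y).1 := by
    change _ * (y.1 * x.1) = x.1 * y.1
    rw [hx, hy]; ext i j; fin_cases i <;> fin_cases j <;> simp [Matrix.mul_apply, Fin.sum_univ_three] <;> grind
  rw [show ⁅x, y⁆ = x * y * (y * x)⁻¹ by rw [commutatorElement_def]; group]
  change _ = (x * y).1 * ((y * x)⁻¹).1
  rw [← this, mul_assoc, show (y * x).1 * ((y * x)⁻¹).1 = 1 from congrArg Subtype.val (mul_inv_cancel (y * x)), mul_one]

variable [Finite K]

theorem torH_inj (h3 : (UA.A hl K).R3) : Function.Injective h3.torH := by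
  let M := modA l hl
  have e1 : (UA.e hl K).toMonoidHom.comp (stC M.D K).r3_of_finite.torH = h3.torH := MonoidHom.pi_ext fun i t => by
    rw [MonoidHom.comp_apply, R3.torH_single, R3.torH_single]
    exact map_hh _ _ (fun _ _ => rfl) _ _
  refine (injective_iff_map_eq_one _).2 fun c hc => funext fun j => ?_
  have hg : (stC M.D K).r3_of_finite.torH c = 1 := (UA.e hl K).injective (by rw [map_one, ← hc, ← e1]; rfl)
  have h4 : ∀ a, ∏ i, c i ^ Model.cp (M.p i) (M.μ a) = 1 := fun a => Units.ext (by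
    have := M.ρ_torH c
    rw [hg] at this
    simpa using (congrFun (congrFun this a) a).symm)
  have := prod_zpow_sum h4 fun a => if a ≤ j.castSucc then 1 else 0
  have h5 : ∀ i, (fun a => Model.cp (M.p i) (M.μ a)) = rA i.castSucc i.succ := fun i => funext fun a => by
    rw [Model.cp, norm_A _ (M.p_mem i)]; simp [M, modA, Pi.single_apply, eq_comm]
  have h6 : ∀ i : Fin l, (fun a => if a ≤ j.castSucc then 1 else 0) ⬝ᵥ rA i.castSucc i.succ = if i = j then 1 else 0 :=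
    fun i => by simp only [dotProduct_sub, dotProduct_single, Fin.le_def, Fin.ext_iff, Fin.val_castSucc, Fin.val_succ]; grind
  simpa [h5, h6] using this

theorem σ_T (hl : 2 ≤ l) (α : K →+* K) (h : a ≠ d) (t : K) : UA.σ α (SpecialLinearGroup.transvection h t) =
    SpecialLinearGroup.transvection (Fin.rev_injective.ne h.symm) (-((-1) ^ (d.val + a.val)) * α t) := by
  have := (UA.τ hl α).σ_x ((modA l hl).ι (rA a d)) t
  rw [UA.A_x h] at this
  refine this.trans ?_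
  change (UA.A hl K).x (UA.φ _) ((UA.c _ : Kˣ) * α t) = _
  rw [UA.φ_rA h, UA.A_x (Fin.rev_injective.ne h.symm), UA.c_rA h]
  simp [pow_add, ← inv_pow]

variable {F : Type u} [Field F] [Fintype F] {q : ℕ} (hF : Fintype.card F = q ^ 2)
include hF

theorem ok : (UA.τ hl (conj hF)).OK := Twist.ok_of_types UA.c_sim
  (UA.types (conj_conj hF) (conj_ne_id hF) (fun _ => rfl) (fun _ => rfl) UA.c_sim)

theorem G1_eq' (h : ¬ (l = 2 ∧ q = 2)) : (UA.τ hl (conj hF)).G1 = (UA.τ hl (conj hF)).F := by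
  obtain ⟨e, he, hr⟩ := UA.exists_emb (l := l) hF
  have hr' : e.range = (UA.τ hl (conj hF)).F := Subgroup.ext hr
  exact ((ok hF).range_eq UA.A_G (Sys.r3_of_finite _) (commutator_eq_top_congr (suEquiv hF _)
    (herm_SIsom_perfect hF (hermStd_nondeg hF _) (by simp; omega) (by simp; omega))) hr'.le
    (hr' ▸ Twist.G1_le_F _)).symm.trans hr'

theorem G1_eq : (UA.τ hl (conj hF)).G1 = (UA.τ hl (conj hF)).F := by
  by_cases h : l = 2 ∧ q = 2
  swap
  · exact G1_eq' hF h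
  obtain ⟨rfl, rfl⟩ := h
  have h3 : (UA.A hl F).R3 := Sys.r3_of_finite _
  refine le_antisymm (Twist.G1_le_F _) fun g hg => ?_
  obtain ⟨a, ha, b, ⟨h1, h2⟩, rfl⟩ := (ok hF).exists_G1_H (UA.A_G.ge (mem_top _)) hg
  refine mul_mem ha ((ok hF).commutator_le UA.A_G h3 ?_)
  obtain ⟨c, rfl⟩ := h3.torH_range.ge h1
  have h4 := (mem_T1 _).1 (torH_inj h3 (by rw [← σ_torH]; exact h2) : c ∈ (UA.τ hl (conj hF)).T1)
  have e0 : (c (1 : Fin 2) : F) = c (0 : Fin 2) ^ 2 := h4 (0 : Fin 2)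
  have e1 : (c (0 : Fin 2) : F) = c (1 : Fin 2) ^ 2 := h4 (1 : Fin 2)
  have h5 : c ∈ (tor (D := (modA 2 hl).D)).ker := ch_ext fun i : Fin 2 => by
    rw [tor_rt]
    change ∏ j : Fin 2, (c j : F) ^ wt (sim (D := (modA 2 hl).D) i) j = 1
    fin_cases i <;> simp [Fin.prod_univ_two, UA.wtA, zpow_ofNat, ← e0, ← e1]
  obtain ⟨w, h6, h7⟩ := Matrix.SpecialLinearGroup.mem_center_iff.1 (((UA.A hl F).center_eq UA.A_G).ge
    ((h3.ker_eq UA.A_G).ge ⟨c, h5, rfl⟩))
  by_cases e : w = 1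
  · rw [show h3.torH c = 1 from Subtype.ext (by rw [← h7, e]; simp)]; exact one_mem _
  have h8 : w ^ 2 + w + 1 = 0 := (mul_eq_zero.1 (show (w - 1) * (w ^ 2 + w + 1) = 0 by
    linear_combination (by simpa using h6 : w ^ 3 = 1))).resolve_left (sub_ne_zero.2 e)
  obtain ⟨x, y, k1, k2, k3⟩ := exists_xy (conj hF) (conj_apply hF) h8
  rw [show h3.torH c = ⁅x, y⁆ from Subtype.ext (h7.symm.trans k3)]
  exact commutator_mem_commutator (UA.σ_eq.2 k1) (UA.σ_eq.2 k2)

theorem nodeA (p : ℕ) [Fact p.Prime] [CharP F p] {r : ℕ} (hr : r.Prime) (hrp : r ≠ p) {i : Fin l}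
    (h : (UA.τ hl (conj hF)).TyA i (conj hF)) : NodePC.{v} (UA.τ hl (conj hF)) r i := by
  obtain ⟨m, hm, hJ⟩ : ∃ m, l = 2 * m + 2 ∧ ∀ j : Fin l, j ∈ orb (UA.τ hl (conj hF)).ν i ↔ j.val = m ∨ j.val = m + 1 := by
    have k1 : i ≠ i.rev := h.ne
    have k2 : wt (sim (D := (modA l hl).D) i) i.rev ≠ 0 := h.wt
    rw [UA.wtA] at k2
    simp only [ne_eq, Fin.ext_iff, Fin.val_rev] at k1 k2
    refine ⟨min i (l - (i + 1)), by split_ifs at k2 <;> omega, fun j => ?_⟩
    rw [h.orb_eq]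
    change j = i ∨ j = i.rev ↔ _
    simp only [Fin.ext_iff, Fin.val_rev]
    split_ifs at k2 <;> omega
  let P : Fin 3 → Fin (l + 1) := fun a => ⟨m + a, by omega⟩
  have hP : Function.Injective P := fun a b e => Fin.ext (by simpa [P] using e)
  obtain ⟨φ, hφ, eφ⟩ := exists_blk (K := F) hP
  have e1 : φ.comp (UA.σ (conj hF)) = (UA.σ (conj hF)).comp φ := (UA.A le_rfl F).hom_ext UA.A_G (Model.all_ι _ fun v hv t => by
    obtain ⟨a, d, h, rfl⟩ := mem_modA.1 hv
    rw [UA.A_x h, MonoidHom.comp_apply, MonoidHom.comp_apply, eφ, σ_T le_rfl, σ_T hl, eφ]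
    congr 1
    · exact Fin.ext (by simp [P]; omega)
    · exact Fin.ext (by simp [P]; omega)
    · simp only [P]; rw [add_add_add_comm, pow_add _ (m + m), ← two_mul, pow_mul]; simp)
  have e2 : ∀ Q : Prop → Prop, ((UA.τ le_rfl (conj hF)).X1 {s | Q (Pos s)}).map φ =
      (UA.τ hl (conj hF)).X1 {s | Q (Pos s) ∧ s ∈ Phi (orb (UA.τ hl (conj hF)).ν i)} := fun Q => by
    have k : ((UA.A le_rfl F).X {s | Q (Pos s)}).map φ =
        (UA.A hl F).X {s | Q (Pos s) ∧ s ∈ Phi (orb (UA.τ hl (conj hF)).ν i)} := by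
      refine le_antisymm (map_le_iff_le_comap.2 (X_le _ |>.2 (Model.all_ι _ fun v hv hs t => ?_)))
        (X_le _ |>.2 (Model.all_ι _ fun v hv hs t => ?_))
      · obtain ⟨a, d, h, rfl⟩ := mem_modA.1 hv
        rw [mem_comap, UA.A_x h, eφ, ← UA.A_x (hl := hl)]
        refine x_mem _ (And.intro ?_ ((mem_Phi (hP.ne h) hJ).2 (by simp [P]; omega))) _
        rw [Set.mem_setOf_eq, pos_rA h] at hs
        rwa [pos_rA (hP.ne h), show P a < P d ↔ a < d from Nat.add_lt_add_iff_left]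
      · obtain ⟨a, d, h, rfl⟩ := mem_modA.1 hv
        obtain ⟨h1, h2⟩ := (mem_Phi h hJ).1 hs.2
        obtain ⟨a, rfl⟩ : ∃ x, P x = a := ⟨⟨a - m, by omega⟩, Fin.ext (by simp [P]; omega)⟩
        obtain ⟨d, rfl⟩ : ∃ x, P x = d := ⟨⟨d - m, by omega⟩, Fin.ext (by simp [P]; omega)⟩
        have h' : a ≠ d := fun e => h (e ▸ rfl)
        refine ⟨_, x_mem _ (?_ : (modA 2 le_rfl).ι (rA a d) ∈ _) t, by rw [UA.A_x h', eφ, UA.A_x h]⟩
        have := hs.1
        rw [pos_rA h, show P a < P d ↔ a < d from Nat.add_lt_add_iff_left] at this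
        rwa [Set.mem_setOf_eq, pos_rA h']
    refine le_antisymm ?_ fun g hg => ?_
    · rintro _ ⟨g, hg, rfl⟩
      exact ⟨k.le ⟨g, hg.1, rfl⟩, (DFunLike.congr_fun e1 g).symm.trans (congrArg φ hg.2)⟩
    · obtain ⟨g, h1, rfl⟩ := k.ge hg.1
      exact ⟨g, ⟨h1, hφ ((DFunLike.congr_fun e1 g).trans hg.2)⟩, rfl⟩
  obtain ⟨e, he, hr'⟩ := UA.exists_emb (l := 2) hF
  have e3 : (φ.comp e).range = (UA.τ hl (conj hF)).X1 ((UA.τ hl (conj hF)).Op i) ⊔
      (UA.τ hl (conj hF)).X1 ((UA.τ hl (conj hF)).On i) := by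
    rw [MonoidHom.range_comp, show e.range = (UA.τ le_rfl (conj hF)).F from Subgroup.ext hr', ← G1_eq, G1, Subgroup.map_sup]
    exact congrArg₂ _ (e2 id) (e2 Not)
  exact (pc_SU3 hF p hr hrp).congr ((MonoidHom.ofInjective (f := φ.comp e) (hφ.comp he)).trans (MulEquiv.subgroupCongr e3))

theorem Z_equiv : Nonempty (↥((UA.τ hl (conj hF)).T1 ⊓ (tor (D := (modA l hl).D)).ker) ≃*
    Multiplicative (ZMod (Nat.gcd (l + 1) (q + 1)))) := by
  have h3 : (UA.A hl F).R3 := Sys.r3_of_finite _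
  have e1 : ((UA.τ hl (conj hF)).T1 ⊓ (tor (D := (modA l hl).D)).ker).map h3.torH =
      center _ ⊓ (UA.τ hl (conj hF)).F := by
    rw [(UA.A hl F).center_eq UA.A_G, h3.ker_eq UA.A_G]
    refine le_antisymm ?_ ?_
    · rintro _ ⟨c, hc, rfl⟩; exact ⟨⟨c, hc.2, rfl⟩, torH_mem_F _ h3 hc.1⟩
    · rintro _ ⟨⟨c, hc, rfl⟩, h⟩; exact ⟨c, ⟨torH_inj h3 (by rw [← σ_torH]; exact h), hc⟩, rfl⟩
  have key : ∀ (g : SL(l + 1, F)) (w : F), scalar _ w = g.1 → (g ∈ (UA.τ hl (conj hF)).F ↔ w ^ (q + 1) = 1) := fun g w e => by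
    refine UA.σ_eq.trans ?_
    rw [← e, pow_succ, ← conj_apply hF]
    refine ⟨fun h => ?_, fun h => ?_⟩
    · simpa [UA.J] using congrFun (congrFun h 0) (Fin.last l)
    · ext a d
      simp only [scalar_apply, diagonal_map (map_zero _), diagonal_transpose, mul_diagonal, diagonal_mul]
      rw [mul_right_comm, h, one_mul]
  let f : ↥(center _ ⊓ (UA.τ hl (conj hF)).F) →* Fˣ := (rootsOfUnity _ F).subtype.comp
    ((SpecialLinearGroup.center_equiv_rootsOfUnity' (0 : Fin (l + 1))).toMonoidHom.comp (inclusion inf_le_left))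
  have hf : ∀ g, scalar _ (f g : F) = g.1.1 := fun g => SpecialLinearGroup.scalar_eq_coe_self_center ⟨g.1, g.2.1⟩ 0
  have e2 := rootsEquiv F (Nat.gcd (l + 1) (q + 1))
  rw [hF, Nat.gcd_eq_left ((Nat.gcd_dvd_right _ _).trans ⟨_, Nat.sq_sub_sq q 1⟩)] at e2
  refine ⟨((equivMapOfInjective _ _ (torH_inj h3)).trans (MulEquiv.subgroupCongr e1)).trans ((MulEquiv.ofBijective
    (f.codRestrict (rootsOfUnity _ F) fun g => ?_) ⟨fun a b e => ?_, fun t => ?_⟩).trans e2)⟩
  · refine pow_gcd_eq_one.2 ⟨?_, Units.ext ((key _ _ (hf g)).1 g.2.2)⟩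
    exact (congrArg (f g ^ ·) (Fintype.card_fin (l + 1)).symm).trans
      (SpecialLinearGroup.center_equiv_rootsOfUnity' (0 : Fin (l + 1)) ⟨g.1, g.2.1⟩).2
  · exact Subtype.ext (Subtype.ext ((hf a).symm.trans ((show f a = f b from (Subtype.ext_iff.1 e :)) ▸ hf b)))
  · obtain ⟨h1, h2⟩ := pow_gcd_eq_one.1 t.2
    obtain ⟨g, hg⟩ := (SpecialLinearGroup.center_equiv_rootsOfUnity' (R := F) (0 : Fin (l + 1))).surjective
      ⟨t.1, by simpa using h1⟩
    have h4 := Subtype.ext_iff.1 hg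
    exact ⟨⟨g.1, g.2, (key _ t.1 ((congrArg (fun u : Fˣ => scalar _ (u : F)) h4).symm.trans
      (SpecialLinearGroup.scalar_eq_coe_self_center g 0))).2 (congrArg Units.val h2)⟩, Subtype.ext h4⟩

theorem has_of_pp (hl : 2 ≤ l) (h : ¬ (l = 2 ∧ q = 2)) (p : ℕ) [Fact p.Prime] [CharP F p] (h2 : PP.{_, u} p (PSU (l + 1) F q)) :
    HasCyclicSchurMultiplier (PSU (l + 1) F q) (Nat.gcd (l + 1) (q + 1)) := by
  obtain ⟨M, hM, -⟩ := UA.exists_mod hF hl h
  have h3 : (UA.A hl F).R3 := Sys.r3_of_finite _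
  have pf := commutator_eq_top_congr (suEquiv hF (l + 1))
    (herm_SIsom_perfect hF (hermStd_nondeg hF _) (by simp; omega) (by simp; omega))
  refine has_of p h3 (torH_inj h3) h3 (torH_inj h3) UA.A_G (ok hF) (fun c hc => G1_eq hF ▸ torH_mem_F _ h3 hc) M hM ?_
    (fun r hr hrp i => ?_) h2 (Z_equiv hF).some
  · have := map_commutator_eq _ (QuotientGroup.mk' (center (SU (l + 1) F q)))
    rw [show commutator (SU (l + 1) F q) = ⊤ from pf, MonoidHom.range_eq_top.2 (QuotientGroup.mk'_surjective _),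
      map_top_of_surjective _ (QuotientGroup.mk'_surjective _)] at this
    exact this.symm
  · rcases UA.types (τ := UA.τ hl (conj hF)) (conj_conj hF) (conj_ne_id hF) (fun _ => rfl) (fun _ => rfl) UA.c_sim i
      with e | e | e
    exacts [nodePC1 p hr hrp UA.c_sim h3 (torH_inj h3) e, nodePC2 p hr hrp UA.c_sim h3 (torH_inj h3) e, nodeA hF p hr hrp e]

end UM

end CA.TwM
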