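/-
Twists of order two: orbits of type `A₂`.
-/
import Cfsg.Agent.Lib.Lie.TwM14

set_option autoImplicit false

namespace CA.TwM

open Equiv Cfsg Cfsg.Lie Cfsg.Lie.ChevalleyDatum CA.SchurFilt Subgroup CA.Chev CA.Chev.Sys0 CA.Chev.Sys
open CA.SchurHopf CA.Chev.Twist CA.SchurCov
open scoped commutatorElement IsMulCommutative

variable {D : ChevalleyDatum} [Good D] {K : Type*} [Field K] {Γ : Type*} [Group Γ] {A : Sys D K Γ}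
  {G : Type*} [Group G] {M : Mod A G} {E : Type*} [Group E] {π : E →* G} {α : K →+* K} {F : Fl D}

theorem comm_mul_mul' {H : Type*} [Group H] {p p' w w' : H} (h1 : Commute p w') (h2 : Commute p' w)
    (h3 : Commute p ⁅p', w'⁆) (h4 : Commute w ⁅p', w'⁆) : ⁅p * p', w * w'⁆ = ⁅p, w⁆ * ⁅p', w'⁆ := by
  calc _ = p * (p' * w) * w' * p'⁻¹ * (w' * p)⁻¹ * w⁻¹ := by rw [commutatorElement_def]; group
    _ = p * w * (⁅p', w'⁆ * (p⁻¹ * w⁻¹)) := by rw [h2.eq, ← h1.eq, commutatorElement_def]; group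
    _ = _ := by rw [← (h3.inv_left.mul_left h4.inv_left).eq, commutatorElement_def p]; group

theorem kl_self' {r : Rt D} (hr : r ∈ F.S) (k : ∀ a, ∃ u, Co M F r u a) {v : K} (hv : v ≠ 0 ∧ 1 - v ≠ 0 ∧ v ^ 2 - v + 1 ≠ 0)
    (h1 : ∃ χ, TC M χ ∧ χ r = v) (h2 : ∃ χ, TC M χ ∧ χ r = 1 - v) (L : Subgroup E) : KL M π F r r L := by
  refine kl_bi hr hr (AddMonoidHom.id K) (AddMonoidHom.id K) k (fun _ t _ => ⟨t, rfl⟩) k (fun _ t _ => ⟨t, rfl⟩)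
    fun b b1 b2 b3 _ => ?_
  have k : ∀ x : K, (∃ χ, TC M χ ∧ χ r = x) → ∀ a c, b (x * a) (x * c) = b a c := fun x ⟨χ, h1, e⟩ a c =>
    e ▸ b3 χ h1 _ _ _ _ rfl rfl
  exact biadd_eq_one b b1 b2 hv.1 hv.2.1 hv.2.2 (k _ h1) (k _ h2)

theorem lc_of_k1 [Finite K] (hc : π.ker ≤ center E) (hs : Function.Surjective π) (hF : Inv M F) {S : Set (Rt D)}
    (h1 : ∀ u ∈ M.X S, ∀ v ∈ M.X F.S, Commute u v)
    (h2 : ∀ r ∈ F.S, (∃ χ, TC M χ ∧ (∀ s ∈ S, χ s = 1) ∧ χ r ≠ 1) ∨ M.τ.ρ r = r ∧ LC M π S {r}) : LC M π S F.S := by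
  refine LC.of_cz hc hs fun x hx => le_of_rp fun r hr => ?_
  rcases h2 r hr with ⟨χ, ⟨g, hg⟩, h3, h4⟩ | ⟨h3, h4⟩
  · intro u hu
    obtain ⟨w, hw, e⟩ := exists_comm hr hg h4 u hu
    refine ⟨_, comm_mem_cz hc hs x ?_ (h1 _ hx _ (VV_le _ hw)), e⟩
    have : A.X S ≤ centralizer {M.e g} := A.X_le.2 fun r hr t => mem_centralizer_singleton_iff.2 (by
      rw [eq_comm, ← mul_inv_eq_iff_eq_mul, hg.2, h3 r hr, one_mul])
    exact M.inj (by rw [map_mul, map_mul]; exact mem_centralizer_singleton_iff.1 (this hx))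
  · exact (hF.rp_fix hr h3).mono (h4.cz hc hs hx)

variable (M) in
/-- the sum of a root and its image -/
def Ks (r : Rt D) : Set (Rt D) := {k | rt k = rt r + rt (M.τ.ρ r)}
variable (M) in
/-- the closure of an orbit -/
def Ob (r : Rt D) : Set (Rt D) := O M r ∪ Ks M r
variable (M) in
/-- the elements over a given coefficient -/
def Nm (r : Rt D) (t : K) (y : G) : Prop := (A.x r t * M.τ.σ (A.x r t))⁻¹ * M.e y ∈ A.X (Ks M r)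

theorem forall_Ob {r : Rt D} {P : Rt D → Prop} : (∀ s ∈ Ob M r, P s) ↔ P r ∧ P (M.τ.ρ r) ∧ ∀ k ∈ Ks M r, P k := by
  simp [Ob, O, or_imp, forall_and, and_assoc]

theorem Ks.cmb {r k : Rt D} (hk : k ∈ Ks M r) : Cmb r (M.τ.ρ r) k := ⟨1, 1, le_rfl, le_rfl, by simpa [Ks] using hk⟩

theorem Ob_pos {r : Rt D} : ∀ s ∈ Ob M r, Pos s ↔ Pos r := forall_Ob.2 ⟨Iff.rfl, M.τ.pos r, fun k hk =>
  ⟨fun e => by_contra fun e' => nil_neg.2 r e' _ (mt (M.τ.pos r).1 e') k (Ks.cmb hk) e,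
    fun e => nil_pos.2 r e _ ((M.τ.pos r).2 e) k (Ks.cmb hk)⟩⟩

theorem Inv.Ob_le (h : Inv M F) {r : Rt D} (hr : r ∈ F.S) : Ob M r ⊆ F.S :=
  forall_Ob.2 ⟨hr, h.1 r hr, fun k hk => F.nil.2 r hr _ (h.1 r hr) k (Ks.cmb hk)⟩

theorem Inv.Ks_lt (h : Inv M F) {r k : Rt D} (hr : r ∈ F.S) (hk : k ∈ Ks M r) : kap F.f r < kap F.f k :=
  Chev.kap_lt (F.pos r hr) (by rw [show rt k = _ from hk, map_add, h.2]; linarith [F.pos r hr])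

theorem Nm.mem {r : Rt D} {t : K} {y : G} (h : Nm M r t y) : y ∈ M.X (Ob M r) := by
  have := mul_mem (mul_mem (A.x_mem (S := Ob M r) (r := r) (by simp [Ob, O]) t)
    (A.x_mem (S := Ob M r) (r := M.τ.ρ r) (by simp [Ob, O]) (M.τ.T.f r t))) (A.X_mono Set.subset_union_right h)
  rwa [← σ_x, mul_inv_cancel_left] at this

theorem Nm.co (hF : Inv M F) {r : Rt D} (hr : r ∈ F.S) (e : r < M.τ.ρ r) {t : K} {y : G} (h : Nm M r t y) :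
    Co M F r y t := by
  have := mul_mem (A.x_mem (S := Sg F (kap F.f r + 1)) ⟨hF.1 r hr, (hF.kap_lt 1 e).2⟩ (M.τ.T.f r t))
    (A.X_mono (fun k hk => And.intro (hF.Ob_le hr (.inr hk)) (hF.Ks_lt hr hk)) h)
  rwa [← σ_x, _root_.mul_inv_rev, mul_assoc, mul_inv_cancel_left] at this

theorem Nm.of_eq {r : Rt D} {t : K} {y : G} (h : M.e y = A.x r t * M.τ.σ (A.x r t)) : Nm M r t y := by
  rw [Nm, h, inv_mul_cancel]; exact one_mem _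

namespace S2
variable (h : S2 M α)
include h

theorem Ks_fix {r k : Rt D} (hk : k ∈ Ks M r) : M.τ.ρ k = k := rt_injective (by rw [h.rt_add hk, h.ρρ, hk, add_comm])

theorem Ks_pr {r k : Rt D} (hk : k ∈ Ks M r) (s : Rt D) : pr k s = pr s r + pr s (M.τ.ρ r) := by rw [h.hl, pr_sum hk]

theorem Ks_one {r k : Rt D} (hk : k ∈ Ks M r) : pr r (M.τ.ρ r) = -1 ∧ pr k r = 1 ∧ pr k (M.τ.ρ r) = 1 := by
  have := pr_of_sum h.hl hk
  simp [h.Ks_pr hk, this, h.hl _ r]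

theorem Ks_ρ (r : Rt D) : Ks M (M.τ.ρ r) = Ks M r := by simp [Ks, h.ρρ, add_comm]
theorem Ob_ρ (r : Rt D) : Ob M (M.τ.ρ r) = Ob M r := by rw [Ob, h.O_ρ, h.Ks_ρ, Ob]

theorem Ks_empty {r : Rt D} (e : 0 ≤ pr r (M.τ.ρ r)) : Ks M r = ∅ :=
  Set.eq_empty_of_forall_notMem fun k hk => by have := (h.Ks_one hk).1; omega
theorem Ob_eq {r : Rt D} (e : 0 ≤ pr r (M.τ.ρ r)) : Ob M r = O M r := by rw [Ob, h.Ks_empty e, Set.union_empty]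
theorem Ob_fix {r : Rt D} (e : M.τ.ρ r = r) : Ob M r = {r} := by rw [h.Ob_eq (by simp [e]), O_fix e]

theorem Ob_nonneg {c r : Rt D} (h1 : 0 ≤ pr c r) (h2 : 0 ≤ pr c (M.τ.ρ r)) : ∀ s ∈ Ob M r, 0 ≤ pr c s :=
  forall_Ob.2 ⟨h1, h2, fun k hk => by rw [h.hl, h.Ks_pr hk]; omega⟩

theorem Ob_nonneg' {a b : Rt D} (h1 : 0 ≤ pr a b) (h2 : 0 ≤ pr a (M.τ.ρ b)) : ∀ r ∈ Ob M a, ∀ s ∈ Ob M b, 0 ≤ pr r s :=
  fun r hr => by
    have k := fun c h1 h2 => h.hl c r ▸ h.Ob_nonneg (c := c) h1 h2 r hr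
    exact h.Ob_nonneg (k _ (h.hl a b ▸ h1) (by rwa [h.hl, h.pr_ρ'])) (k _ (h.hl a _ ▸ h2) (by rwa [h.pr_ρ, h.hl]))

theorem exists_Ks {r : Rt D} (e : ¬ 0 ≤ pr r (M.τ.ρ r)) : ∃ k, k ∈ Ks M r := by
  rcases pr_cases h.hl r (M.τ.ρ r) with e1 | e1 | e1 | e1 | e1
  · simp [e1] at e
  · exact absurd (O_pos (M := M) _ (.inr rfl) : Pos (M.τ.ρ r) ↔ Pos r) (by rw [e1, pos_ng]; tauto)
  · omega
  · omega
  · exact ⟨refl r (M.τ.ρ r), show _ = _ by rw [rt_refl, e1]; simp [add_comm]⟩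

theorem exists_nm (r : Rt D) (t : K) : ∃ y, Nm M r t y := by
  by_cases e : 0 ≤ pr r (M.τ.ρ r)
  · exact let ⟨y, _, hy⟩ := h.nm e t; ⟨y, .of_eq hy⟩
  obtain ⟨k, hk⟩ := h.exists_Ks e
  obtain ⟨C, -, -, h1⟩ := h.exists_C hk
  obtain ⟨s, hs⟩ := h.exists_tr
  obtain ⟨-, p1, p2⟩ := h.Ks_one hk
  have h2 := h1 t (M.τ.T.f r t)
  rw [← σ_x] at h2
  generalize C * t * M.τ.T.f r t = c at h2
  have h3 : M.τ.T.f k c = -c := A.x_injective k (by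
    have := congrArg M.τ.σ h2
    rw [map_commutatorElement, h.σσ (A.x_mem_G r t), σ_x _ k, h.Ks_fix hk] at this
    rw [A.x_neg, ← h2, commutatorElement_inv, this])
  have c1 : Commute (A.x k c) (M.τ.σ (A.x r t) * A.x r t) := by
    rw [σ_x]
    exact (A.comm_of_nonneg h.hl (by omega) c _).mul_right (A.comm_of_nonneg h.hl (by omega) c t)
  obtain ⟨y, -, hy⟩ := lift_of (r := r) (g := A.x r t * M.τ.σ (A.x r t) * A.x k (-s * c)) Ob_pos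
    (mul_mem (mul_mem (A.x_mem (by simp [Ob, O]) _) (by rw [σ_x]; exact A.x_mem (by simp [Ob, O]) _)) (A.x_mem (.inr hk) _)) (by
      rw [map_mul, map_mul, h.σσ (A.x_mem_G _ _), σ_x _ k, h.Ks_fix hk, h.f_mul, h3,
        show α (-s) * -c = c + -s * c by rw [map_neg]; linear_combination c * hs, A.add, ← mul_assoc,
        ← c1.eq, ← h2, commutatorElement_def]
      group)
  exact ⟨y, by rw [Nm, hy, inv_mul_cancel_left]; exact A.x_mem hk _⟩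

theorem rp_Ob (hF : Inv M F) {r : Rt D} (hr : r ∈ F.S) : Rp M F r (M.X (Ob M r)) := by
  rcases lt_trichotomy r (M.τ.ρ r) with e1 | e1 | e1
  · exact rp_of hr fun u t _ => let ⟨y, hy⟩ := h.exists_nm r t; ⟨y, hy.mem, hy.co hF hr e1⟩
  · rw [h.Ob_fix e1.symm]; exact hF.rp_fix hr e1.symm
  · exact fun u hu => ⟨1, one_mem _, by simpa using hF.triv 1 (h.ρρ r) e1 hu⟩

theorem le_Ob (hF : Inv M F) {P : Subgroup G} (e : ∀ s ∈ F.S, M.X (Ob M s) ≤ P) : M.X F.S ≤ P :=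
  le_of_rp fun s hs => (h.rp_Ob hF hs).mono (e s hs)

omit h in
theorem comm4 {H : Type*} [Group H] {p p' k w w' k' : H} (h1 : Commute p w') (h2 : Commute p k') (h3 : Commute p' w)
    (h4 : Commute k w) (h5 : Commute p' k') (h6 : Commute k w') (h7 : Commute k k') (h8 : Commute p ⁅p', w'⁆)
    (h9 : Commute w ⁅p', w'⁆) : ⁅p * p' * k, w * w' * k'⁆ = ⁅p, w⁆ * ⁅p', w'⁆ := by
  have c2 := (h6.mul_right h7).commutator_eq
  have e1 : ⁅p' * k, w' * k'⁆ = ⁅p', w'⁆ := by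
    rw [comm_mul_l (by simp [c2]) (by simp [c2]), c2, mul_one, comm_mul_r (by simp [h5.commutator_eq]), h5.commutator_eq,
      mul_one]
  rw [mul_assoc, mul_assoc, comm_mul_mul' (h1.mul_right h2) (h3.mul_left h4) (e1 ▸ h8) (e1 ▸ h9), e1]

theorem comm_Nm {a b r : Rt D} (e : rt r = rt a + rt b) (h1 : 0 ≤ pr a (M.τ.ρ b)) (h2 : 0 ≤ pr a (M.τ.ρ a) + pr a (M.τ.ρ b))
    (h3 : 0 ≤ pr b (M.τ.ρ b) + pr a (M.τ.ρ b)) {t u : K} {y z : G} (hy : Nm M a t y) (hz : Nm M b u z) :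
    M.e ⁅y, z⁆ = ⁅A.x a t, A.x b u⁆ * M.τ.σ ⁅A.x a t, A.x b u⁆ := by
  obtain ⟨C, -, -, h4⟩ := h.exists_C e
  have p := pr_of_sum h.hl e
  have p' : pr b (M.τ.ρ a) = pr a (M.τ.ρ b) := by rw [h.hl, h.pr_ρ']
  have ka : ∀ k ∈ Ks M a, 0 ≤ pr k b := fun k hk => by rw [h.Ks_pr hk, h.hl b]; have := (h.Ks_one hk).1; omega
  have kb : ∀ k ∈ Ks M b, 0 ≤ pr k a := fun k hk => by rw [h.Ks_pr hk]; have := (h.Ks_one hk).1; omega
  have x1 : ∀ r t, A.x r t ∈ A.X {r} := fun r t => A.x_mem (Set.mem_singleton r) t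
  have x2 : ∀ r t, M.τ.σ (A.x r t) ∈ A.X {M.τ.ρ r} := fun r t => by rw [σ_x]; exact x1 _ _
  have x3 : ⁅M.τ.σ (A.x a t), M.τ.σ (A.x b u)⁆ ∈ A.X {M.τ.ρ r} := by rw [← map_commutatorElement, h4]; exact x2 _ _
  have c1 : ∀ {r s g g'}, 0 ≤ pr r s → g ∈ A.X {r} → g' ∈ A.X {s} → Commute g g' := fun e =>
    h.comm_X' (by simpa using e)
  have c2 : ∀ {S s g g'}, (∀ k ∈ S, 0 ≤ pr k s) → g ∈ A.X S → g' ∈ A.X {s} → Commute g g' := fun e =>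
    h.comm_X' (by simpa using e)
  have := comm4 (c1 h1 (x1 a t) (x2 b u)) (c2 kb hz (x1 _ _)).symm (c1 (by rwa [h.pr_ρ']) (x2 a t) (x1 b u))
    (c2 ka hy (x1 _ _)) (c2 (fun k hk => (pr_fix h.toSL (h.Ks_fix hk) a).symm ▸ kb k hk) hz (x2 _ _)).symm
    (c2 (fun k hk => (pr_fix h.toSL (h.Ks_fix hk) b).symm ▸ ka k hk) hy (x2 _ _))
    (h.comm_X' (fun k hk k' hk' => by
      rw [h.hl, h.Ks_pr hk', pr_fix h.toSL (h.Ks_fix hk)]; linarith [ka k hk]) hy hz)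
    (c1 (by rwa [pr_sum (h.rt_add e)]) (x1 _ _) x3) (c1 (by rwa [pr_sum (h.rt_add e), p', add_comm]) (x1 _ _) x3)
  rwa [mul_inv_cancel_left, mul_inv_cancel_left, ← map_commutatorElement M.e, ← map_commutatorElement M.τ.σ] at this

theorem le_sum {a b r : Rt D} (e : rt r = rt a + rt b) (h1 : 0 ≤ pr a (M.τ.ρ b)) (h2 : 0 ≤ pr a (M.τ.ρ a) + pr a (M.τ.ρ b))
    (h3 : 0 ≤ pr b (M.τ.ρ b) + pr a (M.τ.ρ b)) (hr : 0 ≤ pr r (M.τ.ρ r)) :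
    M.X (Ob M r) ≤ ⁅M.X (Ob M a), M.X (Ob M b)⁆ := fun y hy => by
  obtain ⟨t, e1⟩ := h.mem_O hr (h.Ob_eq hr ▸ hy)
  obtain ⟨C, h0, -, h4⟩ := h.exists_C e
  obtain ⟨z, hz⟩ := h.exists_nm a (C⁻¹ * t)
  obtain ⟨w, hw⟩ := h.exists_nm b 1
  rw [show y = ⁅z, w⁆ from M.inj (by rw [e1, h.comm_Nm e h1 h2 h3 hz hw, h4, mul_inv_cancel_left₀ h0, mul_one])]
  exact commutator_mem_commutator hz.mem hw.mem

theorem exists_obF (r : Rt D) : ∃ F : Fl D, Inv M F ∧ F.S = Ob M r := by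
  have p : -1 ≤ pr r (M.τ.ρ r) := by
    by_contra e
    obtain ⟨k, hk⟩ := h.exists_Ks (r := r) (by omega)
    exact e (h.Ks_one hk).1.ge
  have e : ∀ s, (prL r + prL (M.τ.ρ r)) (rt s) = pr r s + pr r (M.τ.ρ s) := fun s => by simp [prL_rt, h.pr_ρ']
  refine ⟨(fF (prL r + prL (M.τ.ρ r))).sub (Ob M r) (forall_Ob.2 ⟨?_, ?_, fun k hk => ?_⟩) fun a ha b hb k hk => ?_,
    ⟨forall_Ob.2 ⟨by simp [Fl.sub, Ob, O], by simp [Fl.sub, Ob, O, h.ρρ], fun k hk => by rw [h.Ks_fix hk]; exact .inr hk⟩,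
      fun s => (e _).trans (by rw [h.ρρ, add_comm]; exact (e _).symm)⟩, rfl⟩
  · change 0 < (prL r + prL (M.τ.ρ r)) _; rw [e, pr_self]; omega
  · change 0 < (prL r + prL (M.τ.ρ r)) _; rw [e, h.ρρ, pr_self]; omega
  · change 0 < (prL r + prL (M.τ.ρ r)) _; rw [e, h.Ks_fix hk, h.hl, (h.Ks_one hk).2.1]; omega
  by_contra hn
  have k1 : ∀ k ∈ Ks M r, ∀ s ∈ Ob M r, 0 ≤ pr k s := fun k hk =>
    h.Ob_nonneg (by simp [h.Ks_one hk]) (by simp [h.Ks_one hk])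
  have k2 : Cmb r (M.τ.ρ r) k → False := fun ⟨i, j, h1, h2, h3⟩ => by
    have h4 := cmb_norm h.hl h3
    have h5 : pr r (M.τ.ρ r) = -1 := by_contra fun e => not_cmb h.hl (by omega) ⟨i, j, h1, h2, h3⟩
    rw [h5] at h4
    obtain rfl : i = 1 := by nlinarith [sq_nonneg ((i : ℤ) - 2 * j), sq_nonneg ((i : ℤ) - j)]
    obtain rfl : j = 1 := by push_cast at h4; nlinarith
    exact hn (.inr (by simpa [Ks] using h3))
  rcases ha with (rfl | rfl) | ha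
  · rcases hb with (rfl | rfl) | hb
    exacts [not_cmb h.hl (by simp) hk, k2 hk, not_cmb h.hl (k1 _ hb _ (by simp [Ob, O])) hk.symm]
  · rcases hb with (rfl | rfl) | hb
    exacts [k2 hk.symm, not_cmb h.hl (by simp) hk, not_cmb h.hl (k1 _ hb _ (by simp [Ob, O])) hk.symm]
  · exact not_cmb h.hl (k1 _ ha _ hb) hk

theorem chi_ρ {χ : Rt D → K} (hχ : TC M χ) (r : Rt D) : χ (M.τ.ρ r) = 1 ↔ χ r = 1 := by
  obtain ⟨g, hg⟩ := hχ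
  rw [hg.ρ, map_eq_one_iff _ (RingHom.injective _)]

theorem k1_ρ {r s : Rt D} (e : K1 M r s) : K1 M (M.τ.ρ r) s ∧ K1 M r (M.τ.ρ s) :=
  let ⟨χ, a, b, c⟩ := e; ⟨⟨χ, a, (h.chi_ρ a r).2 b, c⟩, χ, a, b, mt (h.chi_ρ a s).1 c⟩

theorem lc_k1 [Finite K] (hc : π.ker ≤ center E) (hs : Function.Surjective π) {r s : Rt D} (e : K1 M r s) (h1 : 0 ≤ pr r s)
    (h2 : 0 ≤ pr r (M.τ.ρ s)) (h3 : ∀ k ∈ Ks M s, LC M π (Ob M r) {k}) : LC M π (Ob M r) (Ob M s) := by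
  obtain ⟨F, hF, eF⟩ := h.exists_obF s
  obtain ⟨χ, a, b, c⟩ := e
  have b' : ∀ k ∈ Ob M r, χ k = 1 := forall_Ob.2 ⟨b, (h.chi_ρ a r).2 b, fun k hk => by
    obtain ⟨g, hg⟩ := a
    rw [hg.add hk, b, (h.chi_ρ ⟨g, hg⟩ r).2 b, mul_one]⟩
  rw [← eF]
  refine lc_of_k1 hc hs hF (eF ▸ h.comm_X (h.Ob_nonneg' h1 h2)) (eF ▸ forall_Ob.2 ⟨.inl ⟨χ, a, b', c⟩,
    .inl ⟨χ, a, b', mt (h.chi_ρ a s).1 c⟩, fun k hk => .inr ⟨h.Ks_fix hk, h3 k hk⟩⟩)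

theorem lc_sum (hc : π.ker ≤ center E) (hs : Function.Surjective π) {a b r s : Rt D}
    (e : M.X (Ob M r) ≤ ⁅M.X (Ob M a), M.X (Ob M b)⁆) (h1 : 0 ≤ pr s a) (h2 : 0 ≤ pr s (M.τ.ρ a)) (h3 : 0 ≤ pr s b)
    (h4 : 0 ≤ pr s (M.τ.ρ b)) : LC M π (Ob M s) (Ob M r) :=
  lc_of_le M π h.toSL hc hs e fun k hk => ⟨h.Ob_nonneg' h1 h2 k hk, h.Ob_nonneg' h3 h4 k hk⟩

end S2

end CA.TwM
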