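/-
Twisted groups of type `²A` in coordinates: the torus and commuting lifts.
-/
import Cfsg.Agent.Lib.Lie.TwM15

set_option autoImplicit false

namespace CA.TwM

open Equiv Cfsg Cfsg.Lie Cfsg.Lie.ChevalleyDatum CA.SchurFilt Subgroup CA.Chev CA.Chev.Sys0 CA.Chev.Sys
open CA.SchurHopf CA.Chev.Twist CA.SchurCov
open scoped commutatorElement IsMulCommutative

variable {D : ChevalleyDatum} [Good D] {K : Type*} [Field K] {Γ : Type*} [Group Γ] {A : Sys D K Γ}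
  {G : Type*} [Group G] {M : Mod A G} {E : Type*} [Group E] {π : E →* G} {α : K →+* K} {F : Fl D}
  {I : Type*} [Fintype I] [DecidableEq I]

/-- Kronecker symbol -/
def dl (a b : I) : ℤ := if a = b then 1 else 0
/-- different classes -/
def Nc (j : I → I) (a b : I) : Prop := a ≠ b ∧ a ≠ j b

variable (M α) in
/-- a twisted group of type `²A` in coordinates -/
structure TA (ι : I → I → Rt D) (j : I → I) (q : ℕ) : Prop extends S2 M α where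
  all : ∀ r, ∃ a b, a ≠ b ∧ r = ι a b
  pri : ∀ {a b c d}, a ≠ b → c ≠ d → pr (ι a b) (ι c d) = dl a c + dl b d - dl a d - dl b c
  add : ∀ {a b c}, a ≠ b → b ≠ c → a ≠ c → rt (ι a c) = rt (ι a b) + rt (ι b c)
  ρι : ∀ {a b}, a ≠ b → M.τ.ρ (ι a b) = ι (j b) (j a)
  jj : ∀ a, j (j a) = a
  one : ∀ {a b}, j a = a → j b = b → a = b
  f : ∀ r t, M.τ.T.f r t = α t ∨ M.τ.T.f r t = -α t
  hq : ∀ t, α t = t ^ q
  hK : Nat.card K = q ^ 2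
  n3 : 3 ≤ Fintype.card I
  n4 : Fintype.card I = 4 → 4 ≤ q
  n2 : q = 2 → Fintype.card I = 5 ∨ 7 ≤ Fintype.card I

variable (M) in
/-- diagonal elements -/
def TT (ι : I → I → Rt D) (t : I → K) : Prop := (∀ a, t a ≠ 0) ∧ ∃ χ, TC M χ ∧ ∀ a b, a ≠ b → χ (ι a b) = t a / t b

theorem fresh (s : Finset I) (h : s.card < Fintype.card I) : ∃ e, e ∉ s := by
  obtain ⟨e, -, he⟩ := Finset.exists_mem_notMem_of_card_lt_card h
  exact ⟨e, he⟩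

variable {ι : I → I → Rt D} {j : I → I} {q : ℕ} {a b c d e x y : I}

omit [Fintype I] [DecidableEq I] in
theorem TT.mul {t t' : I → K} (h : TT M ι t) (h' : TT M ι t') : TT M ι (t * t') :=
  let ⟨_, a, b⟩ := h.2; let ⟨_, a', b'⟩ := h'.2
  ⟨fun x => mul_ne_zero (h.1 x) (h'.1 x), _, a.mul a', fun x y e => by
    rw [Pi.mul_apply, b x y e, b' x y e, div_mul_div_comm]; rfl⟩

omit [Fintype I] [DecidableEq I] in
theorem TT.k1 {t : I → K} (h : TT M ι t) (h1 : a ≠ b) (h2 : c ≠ d) (h3 : t a = t b) (h4 : t c ≠ t d) : K1 M (ι a b) (ι c d) :=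
  let ⟨χ, e, e'⟩ := h.2
  ⟨χ, e, by rw [e' _ _ h1, h3, div_self (h.1 b)], by rwa [e' _ _ h2, Ne, div_eq_one_iff_eq (h.1 d)]⟩

theorem fresh1 (h : 2 < Fintype.card I) (a : I) : ∃ e, Nc j e a := by
  simpa [Nc] using fresh {a, j a} (Finset.card_le_two.trans_lt h)
theorem fresh2' (h : 4 < Fintype.card I) (a b : I) : ∃ e, Nc j e a ∧ Nc j e b := by
  simpa [Nc, and_assoc] using fresh {a, j a, b, j b} (Finset.card_le_four.trans_lt h)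
theorem fresh3' (h : 6 < Fintype.card I) (a b c : I) : ∃ e, Nc j e a ∧ Nc j e b ∧ Nc j e c := by
  simpa [Nc, and_assoc] using fresh {a, j a, b, j b, c, j c} (Finset.card_le_six.trans_lt h)

namespace TA
variable (h : TA M α ι j q)
include h

theorem jne (e : a ≠ b) : j a ≠ j b := fun e' => e (by rw [← h.jj a, e', h.jj])
theorem nc (e : Nc j a b) : a ≠ b ∧ b ≠ a ∧ a ≠ j b ∧ j b ≠ a ∧ j a ≠ b ∧ b ≠ j a ∧ j a ≠ j b ∧ j b ≠ j a := by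
  have := h.jj a; have := h.jj b; unfold Nc at e; grind
theorem nc_symm (e : Nc j a b) : Nc j b a := ⟨e.1.symm, (h.nc e).2.2.2.2.2.1⟩

theorem inj (h1 : a ≠ b) (h2 : c ≠ d) (e : ι a b = ι c d) : a = c ∧ b = d := by
  have := h.pri h1 h2
  rw [e, pr_self] at this
  unfold dl at this; grind

theorem of_fix {r : Rt D} (e : M.τ.ρ r = r) : ∃ a, a ≠ j a ∧ r = ι a (j a) := by
  obtain ⟨a, b, h1, rfl⟩ := h.all r
  obtain rfl := (h.inj (h.jne h1.symm) h1 (h.ρι h1 ▸ e)).2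
  exact ⟨a, h1, rfl⟩

theorem fix (e : a ≠ j a) : M.τ.ρ (ι a (j a)) = ι a (j a) := by rw [h.ρι e, h.jj]

theorem cases (r : Rt D) : M.τ.ρ r = r ∨ ∃ a b, Nc j a b ∧ r = ι a b := by
  obtain ⟨a, b, h1, rfl⟩ := h.all r
  by_cases e : a = j b
  · exact .inl (by rw [h.ρι h1, e, h.jj])
  · exact .inr ⟨a, b, ⟨h1, e⟩, rfl⟩

theorem nn (h1 : a ≠ b) (h2 : c ≠ d) (h3 : a ≠ d) (h4 : b ≠ c) : 0 ≤ pr (ι a b) (ι c d) := by
  rw [h.pri h1 h2]; unfold dl; grind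
theorem nn' (h1 : a ≠ b) (h2 : c ≠ d) (h3 : a ≠ j c) (h4 : b ≠ j d) : 0 ≤ pr (ι a b) (M.τ.ρ (ι c d)) :=
  h.ρι h2 ▸ h.nn h1 (h.jne h2.symm) h3 h4

theorem ngι (e : a ≠ b) : ι b a = ng (ι a b) := by
  have := h.pri e e.symm
  rcases pr_cases h.hl (ι a b) (ι b a) with e1 | e1 | e1 | e1 | e1
  · exact absurd (h.inj e.symm e e1).1 e.symm
  · exact e1
  all_goals unfold dl at this; grind

theorem q2 : 2 ≤ q := by
  obtain ⟨t, ht⟩ := h.nid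
  by_contra e
  obtain rfl | rfl : q = 0 ∨ q = 1 := by omega
  · simpa using h.hq 0
  · exact ht (by simp [h.hq])

theorem fresh2 (ha : a ≠ j a) (hb : b ≠ j b) : (∃ e, Nc j e a ∧ Nc j e b) ∨ Fintype.card I = 4 := by
  by_cases e : Nc j a b
  · have : ({a, j a, b, j b} : Finset I).card = 4 := by simp [Finset.card_insert_of_notMem, h.nc e, ha, hb]
    have := Finset.card_le_univ ({a, j a, b, j b} : Finset I)
    exact (eq_or_ne _ _).symm.imp_left fun _ => fresh2' (by omega) a b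
  · obtain ⟨x, hx⟩ := fresh1 (j := j) h.n3 a
    have := h.jj b
    exact .inl ⟨x, hx, by unfold Nc at *; grind⟩

theorem sum (h1 : a ≠ c) (ha : a ≠ j a) (hc : c ≠ j c) (h2 : Nc j b a) (h3 : Nc j b c) :
    M.X (Ob M (ι a c)) ≤ ⁅M.X (Ob M (ι a b)), M.X (Ob M (ι b c))⁆ := by
  have e2 := h.nc h2
  have e3 := h.nc h3
  refine h.le_sum (h.add h2.1.symm h3.1 h1) (h.nn' h2.1.symm h3.1 e2.2.2.2.2.2.1 h3.2) ?_ ?_ (h.nn' h1 h1 ha hc) <;>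
    simp [h.ρι, h.pri, dl, *] <;> split_ifs <;> simp

theorem tt (hcd : c ≠ d) (v : Kˣ) : TT M ι fun x => (v : K) ^ (dl c x - dl d x) * α v ^ (dl d (j x) - dl c (j x)) := by
  have h0 : α v ≠ 0 := by simp
  refine ⟨fun x => by simp [zpow_ne_zero], _, h.tc_pr (ι c d) v, fun a b e => ?_⟩
  rw [h.ρι e, h.pri hcd e, h.pri hcd (h.jne e.symm), ← div_mul_div_comm, ← zpow_sub₀ v.ne_zero, ← zpow_sub₀ h0]
  congr 2 <;> ring

theorem t1 (hc : c ≠ j c) (v : Kˣ) : ∃ t, TT M ι t ∧ t c = v * α v ∧ t (j c) = (v * α v)⁻¹ ∧ ∀ x, Nc j x c → t x = 1 :=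
  ⟨_, h.tt hc v, by simp [dl, hc, hc.symm], by simp [dl, hc, hc.symm, h.jj, mul_comm], fun x e => by simp [dl, h.nc e]⟩

theorem t2 (hc : c ≠ j c) (e : Nc j c d) (v : Kˣ) : ∃ t, TT M ι t ∧ t c = v ∧ t (j c) = (α v)⁻¹ ∧
    (∀ x, Nc j x c → Nc j x d → t x = 1) ∧ (d ≠ j d → t d = (v : K)⁻¹) ∧ (j d = d → t d = (v : K)⁻¹ * α v) ∧
    ((v : K) * α v = 1 → ∀ x, t (j x) = t x) :=
  ⟨_, h.tt e.1 v, by simp [dl, hc, h.nc e], by simp [dl, hc, h.nc e, h.jj], fun x e e' => by simp [dl, h.nc e, h.nc e'],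
    fun hd => by simp [dl, hd, h.nc e], fun hd => by simp [dl, hd, h.nc e], fun hv x => by
      simp only [h.jj, eq_inv_of_mul_eq_one_right hv, inv_zpow', ← zpow_add₀ v.ne_zero]; congr 1; ring⟩

variable [Finite K]

theorem exv (a b : ℤ) (h1 : 0 < |a + q * b|) (h2 : |a + q * b| + 1 < q ^ 2) : ∃ v : Kˣ, (v : K) ^ a * α v ^ b ≠ 1 := by
  have := h.q2
  refine exists_v (n := q ^ 2 - 1) h.hq (by rw [h.hK, Nat.sub_add_cancel (Nat.one_le_pow _ _ (by omega))]) fun e => ?_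
  have := Int.le_of_dvd h1 ((dvd_abs _ _).2 (Int.dvd_of_emod_eq_zero e))
  rw [Nat.cast_sub (Nat.one_le_pow _ _ (by omega))] at this
  push_cast at this; omega

theorem N1 (e : q ≠ 2) : ∃ v : Kˣ, (v : K) * α v ≠ 1 := by
  have : (3 : ℤ) ≤ q := by have := h.q2; omega
  simpa using h.exv 1 1 (abs_pos.2 (by omega)) (by rw [abs_of_pos (by omega)]; nlinarith)

theorem N2 (e : 4 ≤ q) : ∃ v : Kˣ, (v : K) * α v ≠ (v * α v)⁻¹ := by
  have : (4 : ℤ) ≤ q := by omega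
  obtain ⟨v, hv⟩ := h.exv 2 2 (abs_pos.2 (by omega)) (by rw [abs_of_pos (by omega)]; nlinarith)
  exact ⟨v, fun e => hv (by rw [← mul_zpow, zpow_two]; nth_rewrite 1 [e]; exact inv_mul_cancel₀ (by simp))⟩

theorem kL (e : Nc j c d) : ∃ t, TT M ι t ∧ (∀ x, t (j x) = t x) ∧ t c ≠ t d := by
  obtain ⟨v, h1, h2⟩ := h.exists_one
  wlog hc : c ≠ j c generalizing c d
  · have hd : d ≠ j d := fun e' => e.1 (h.one (not_not.1 hc).symm e'.symm)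
    exact (this (h.nc_symm e) hd).imp fun t ht => ⟨ht.1, ht.2.1, ht.2.2.symm⟩
  by_cases hd : d = j d
  swap
  · obtain ⟨t, k0, k1, -, -, k2, -, k3⟩ := h.t2 hc e v
    exact ⟨t, k0, k3 h1, by rw [k1, k2 hd]; exact fun e => h2 (by rw [sq]; nth_rewrite 1 [e]; simp)⟩
  by_cases hn : 3 < Fintype.card I
  · obtain ⟨x, hx⟩ := fresh {c, j c, d} (Finset.card_le_three.trans_lt hn)
    have hx : Nc j x c ∧ Nc j x d := by simpa [Nc, ← hd, and_assoc] using hx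
    obtain ⟨t, k0, k1, -, k2, -, -, k3⟩ := h.t2 hc (h.nc_symm hx.1) v
    exact ⟨t, k0, k3 h1, by rw [k1, k2 d (h.nc_symm e) (h.nc_symm hx.2)]; exact fun e => h2 (by simp [e])⟩
  have : (3 : ℤ) ≤ q := by have := h.q2; have := h.n2; omega
  obtain ⟨w, hw⟩ := h.exv 3 (-3) (abs_pos.2 (by omega)) (by rw [abs_of_neg (by omega)]; nlinarith)
  obtain ⟨t, k0, k1, -, -, -, k2, k3⟩ := h.t2 hc e (Units.mk0 (w / α w) (by simp))
  refine ⟨t, k0, k3 (by simp [h.α2]), ?_⟩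
  rw [k1, k2 hd.symm]
  refine fun e => hw ?_
  have : α w ≠ 0 := by simp
  simp only [Units.val_mk0, map_div₀, h.α2] at e
  field_simp at e ⊢
  exact e

theorem k1L {r s : Rt D} (hr : M.τ.ρ r = r) (hs : M.τ.ρ s ≠ s) : K1 M r s := by
  obtain ⟨a, ha, rfl⟩ := h.of_fix hr
  obtain ⟨c, d, e, rfl⟩ := (h.cases s).resolve_left hs
  obtain ⟨t, h1, h2, h3⟩ := h.kL e
  exact h1.k1 ha e.1 (h2 a).symm h3

theorem kN (h1 : Nc j a b) (h2 : Nc j c d) (hc : c ≠ j c) (h3 : Nc j a c) (h4 : Nc j b c) :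
    (∃ t, TT M ι t ∧ t a = t b ∧ t c ≠ t d) ∨ ∃ t, TT M ι t ∧ t c = t d ∧ t a ≠ t b := by
  by_cases e : q = 2
  swap
  · obtain ⟨v, hv⟩ := h.N1 e
    obtain ⟨t, k0, k1, -, k2⟩ := h.t1 hc v
    exact .inl ⟨t, k0, by rw [k2 a h3, k2 b h4], by rwa [k1, k2 d (h.nc_symm h2)]⟩
  obtain ⟨v, v1, v2⟩ := h.exists_one
  have v3 : (v : K) ≠ 1 := fun e => v2 (by simp [e])
  have v4 : (v : K) ≠ (v : K)⁻¹ := fun e => v2 (by rw [sq]; nth_rewrite 1 [e]; simp)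
  have v5 : (v : K)⁻¹ * α v = v := by rw [h.hq, e, sq, inv_mul_cancel_left₀ v.ne_zero]
  have kB : ∀ {a b}, Nc j a b → Nc j a c → Nc j b c → j b = b → d = a ∨ d = j a ∨ d = b →
      ∃ t, TT M ι t ∧ t a = t b ∧ t c ≠ t d := fun {a b} h1 h3 h4 hb hd => by
    obtain ⟨t, k0, k1, -, k2, -, k3, k4⟩ := h.t2 (fun e => h1.1 (h.one e.symm hb)) h1 v
    refine ⟨t, k0, by rw [k1, k3 hb, v5], ?_⟩
    rw [k2 c (h.nc_symm h3) (h.nc_symm h4)]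
    rcases hd with rfl | rfl | rfl
    exacts [k1 ▸ v3.symm, by rw [k4 v1, k1]; exact v3.symm, by rw [k3 hb, v5]; exact v3.symm]
  have sw : (∃ t, TT M ι t ∧ t b = t a ∧ t c ≠ t d) → ∃ t, TT M ι t ∧ t a = t b ∧ t c ≠ t d :=
    Exists.imp fun t ht => ⟨ht.1, ht.2.1.symm, ht.2.2⟩
  have ja := h.jj a
  have jb := h.jj b
  by_cases e1 : Nc j d a ∧ Nc j d b
  · by_cases hd : d = j d
    · have ha : a ≠ j a := fun e => e1.1.1 (h.one hd.symm e.symm)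
      obtain ⟨t, k0, k1, -, k2, k3, -⟩ := h.t2 ha h1 v
      exact .inr ⟨t, k0, by rw [k2 c (h.nc_symm h3) (h.nc_symm h4), k2 d e1.1 e1.2], by
        rwa [k1, k3 fun e => e1.2.1 (h.one hd.symm e.symm)]⟩
    · obtain ⟨t, k0, k1, -, k2, k3, -⟩ := h.t2 hc h2 v
      exact .inl ⟨t, k0, by rw [k2 a h3 (h.nc_symm e1.1), k2 b h4 (h.nc_symm e1.2)], by rwa [k1, k3 hd]⟩
  by_cases hb : j b = b
  · exact .inl (kB h1 h3 h4 hb (by unfold Nc at e1; grind))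
  by_cases ha : j a = a
  · exact .inl (sw (kB (h.nc_symm h1) h4 h3 ha (by unfold Nc at e1; grind)))
  have : ({a, j a, b, j b, c, j c} : Finset I).card = 6 := by
    simp [Finset.card_insert_of_notMem, h.nc h1, h.nc h3, h.nc h4, Ne.symm ha, Ne.symm hb, hc]
  have := Finset.card_le_univ ({a, j a, b, j b, c, j c} : Finset I)
  obtain ⟨x, x1, x2, x3⟩ := fresh3' (j := j) (by have := h.n2 e; omega) a b c
  obtain ⟨t, k0, k1, -, k2, -⟩ := h.t2 hc (h.nc_symm x3) v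
  refine .inl ⟨t, k0, by rw [k2 a h3 (h.nc_symm x1), k2 b h4 (h.nc_symm x2)], ?_⟩
  rwa [k1, k2 d (h.nc_symm h2) (h.nc_symm (by unfold Nc at *; grind))]

theorem kN' (h1 : Nc j a b) (h2 : Nc j c d) (h3 : c ≠ j c ∧ Nc j a c ∧ Nc j b c ∨ d ≠ j d ∧ Nc j a d ∧ Nc j b d) :
    K1 M (ι a b) (ι c d) ∨ K1 M (ι c d) (ι a b) := by
  rcases h3 with ⟨e1, e2, e3⟩ | ⟨e1, e2, e3⟩
  · exact (h.kN h1 h2 e1 e2 e3).imp (fun ⟨t, k0, k1, k2⟩ => k0.k1 h1.1 h2.1 k1 k2) fun ⟨t, k0, k1, k2⟩ => k0.k1 h2.1 h1.1 k1 k2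
  · exact (h.kN h1 (h.nc_symm h2) e1 e2 e3).imp (fun ⟨t, k0, k1, k2⟩ => k0.k1 h1.1 h2.1 k1 k2.symm)
      fun ⟨t, k0, k1, k2⟩ => k0.k1 h2.1 h1.1 k1.symm k2

theorem kS (e : q ≠ 2) (h1 : Nc j a b) (ha : a ≠ j a) (hb : b ≠ j b) : ∃ t, TT M ι t ∧ t a = t (j b) ∧ t a ≠ t b := by
  rcases h.fresh2 ha hb with ⟨x, x1, x2⟩ | e4
  · obtain ⟨v, hv⟩ := h.N1 e
    obtain ⟨t, k0, k1, -, k2, -⟩ := h.t2 ha (h.nc_symm x1) v
    obtain ⟨t', l0, l1, l2, l3, -⟩ := h.t2 hb (h.nc_symm x2) (Units.mk0 (α v)⁻¹ (by simp))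
    have e1 := k2 b (h.nc_symm h1) (h.nc_symm x2)
    have e2 := k2 (j b) (by simp [Nc, h.nc h1]) (by simp [Nc, h.nc x2])
    have e3 := l3 a h1 (h.nc_symm x1)
    exact ⟨_, k0.mul l0, by simp [h.α2, *], by simpa [*] using fun e => hv (by nth_rewrite 1 [e]; simp)⟩
  · obtain ⟨v, hv⟩ := h.N2 (h.n4 e4)
    obtain ⟨t, k0, k1, -, k2⟩ := h.t1 ha v
    obtain ⟨t', l0, l1, l2, l3⟩ := h.t1 hb v⁻¹
    have e1 := k2 b (h.nc_symm h1)
    have e2 := k2 (j b) (by simp [Nc, h.nc h1])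
    have e3 := l3 a h1
    exact ⟨_, k0.mul l0, by simp [mul_comm, *], by simpa [mul_comm, *] using hv⟩

theorem ne_one {r : Rt D} (e : q ≠ 2 ∨ M.τ.ρ r ≠ r) : ∃ χ, TC M χ ∧ χ r ≠ 1 := by
  rcases h.cases r with e1 | ⟨a, b, e1, rfl⟩
  · obtain ⟨a, ha, rfl⟩ := h.of_fix e1
    obtain ⟨v, hv⟩ := h.N1 (e.resolve_right (not_not.2 e1))
    obtain ⟨x, hx⟩ := fresh1 (j := j) h.n3 a
    obtain ⟨t, ⟨-, χ, k0, k⟩, k1, k2, -⟩ := h.t2 ha (h.nc_symm hx) v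
    exact ⟨χ, k0, by simpa [k _ _ ha, k1, k2] using hv⟩
  · obtain ⟨t, ⟨k0, χ, k1, k2⟩, -, k3⟩ := h.kL e1
    exact ⟨χ, k1, by rwa [k2 _ _ e1.1, Ne, div_eq_one_iff_eq (k0 b)]⟩

theorem bi (h1 : Nc j a b) (e : 4 ≤ q ∨ q = 3 ∧ (j a = a ∨ j b = b)) : ∃ v : K, (v ≠ 0 ∧ 1 - v ≠ 0 ∧ v ^ 2 - v + 1 ≠ 0) ∧
    (∃ χ, TC M χ ∧ χ (ι a b) = v) ∧ ∃ χ, TC M χ ∧ χ (ι a b) = 1 - v := by
  suffices k : ∀ {a b}, Nc j a b → a ≠ j a → 4 ≤ q ∨ q = 3 ∧ j b = b → ∀ x : K, x ≠ 0 → (q ≤ 4 ∨ α x = x) →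
      ∃ t, TT M ι t ∧ t a / t b = x by
    have k' : ∀ x : K, x ≠ 0 → (q ≤ 4 ∨ α x = x) → ∃ χ, TC M χ ∧ χ (ι a b) = x := fun x hx hx' => by
      by_cases ha : a = j a
      · obtain ⟨t, ⟨-, χ, k1, k2⟩, k3⟩ := k (h.nc_symm h1) (fun e => h1.1 (h.one ha.symm e.symm))
          (e.imp_right fun e => ⟨e.1, ha.symm⟩) x⁻¹ (inv_ne_zero hx) (hx'.imp_right fun e => by simp [e])
        exact ⟨χ, k1, by rw [k2 _ _ h1.1, ← inv_div, k3, inv_inv]⟩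
      · obtain ⟨t, ⟨-, χ, k1, k2⟩, k3⟩ := k h1 ha (e.imp_right fun e => ⟨e.1, e.2.resolve_left (Ne.symm ha)⟩) x hx hx'
        exact ⟨χ, k1, by rw [k2 _ _ h1.1, k3]⟩
    by_cases e4 : q ≤ 4
    · obtain ⟨v, hv⟩ := exists_bi (K := K) (by rw [h.hK]; nlinarith [show 3 ≤ q by omega])
      exact ⟨v, hv, k' _ hv.1 (.inl e4), k' _ hv.2.1 (.inl e4)⟩
    haveI := Fintype.ofFinite K
    obtain ⟨v, hv⟩ := exists_bi (K := α.eqLocusField (RingHom.id K)) (by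
      rw [Nat.card_congr (Equiv.subtypeEquivRight (q := fun x => x ^ q = x) fun x => by rw [← h.hq]; rfl),
        CA.CForm.card_conj_fixed (Nat.card_eq_fintype_card.symm.trans h.hK)]; omega)
    have hv : (v : K) ≠ 0 ∧ 1 - (v : K) ≠ 0 ∧ (v : K) ^ 2 - v + 1 ≠ 0 := by exact_mod_cast hv
    exact ⟨v, hv, k' _ hv.1 (.inr v.2), k' _ hv.2.1 (.inr (1 - v).2)⟩
  intro a b h1 ha e x hx hx'
  by_cases e4 : q ≤ 4
  swap
  · obtain ⟨v, rfl⟩ := CA.CForm.exists_norm_eq α h.α2 (fun e => h.nid.elim fun t ht => ht (by simp [e])) x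
      (hx'.resolve_left e4)
    obtain ⟨t, k0, k1, -, k2⟩ := h.t1 ha (Units.mk0 v (left_ne_zero_of_mul hx))
    exact ⟨t, k0, by simp [k1, k2 b (h.nc_symm h1)]⟩
  have pw : x ^ q ^ 2 = x := by rw [sq, pow_mul, ← h.hq, ← h.hq, h.α2]
  by_cases hb : j b = b
  · obtain ⟨n, hn⟩ : ∃ n : ℕ, (x ^ n) ^ (q - 2) = x := by
      obtain rfl | rfl : q = 3 ∨ q = 4 := by omega
      exacts [⟨1, by simp⟩, ⟨8, by rwa [← pow_mul]⟩]
    obtain ⟨t, k0, k1, -, -, -, k2, -⟩ := h.t2 ha h1 (Units.mk0 (x ^ n) (pow_ne_zero _ hx))⁻¹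
    refine ⟨t, k0, Eq.trans ?_ hn⟩
    rw [k1, k2 hb, h.hq]
    obtain ⟨m, rfl⟩ : ∃ m, q = m + 2 := ⟨q - 2, by omega⟩
    simp; field_simp; ring
  · obtain rfl : q = 4 := by have := e.resolve_right fun e => hb e.2; omega
    obtain ⟨t, k0, k1, -, -, k2, -⟩ := h.t2 ha h1 (Units.mk0 (x ^ 8) (pow_ne_zero _ hx))
    exact ⟨t, k0, by rw [k1, k2 (Ne.symm hb), div_inv_eq_mul, Units.val_mk0, ← pow_add]; exact pw⟩

variable (hc : π.ker ≤ center E) (hs : Function.Surjective π)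
include hc hs

omit [Finite K] in
theorem lcs (hxy : x ≠ y) (h1 : a ≠ c) (ha : a ≠ j a) (hc' : c ≠ j c) (h2 : Nc j b a) (h3 : Nc j b c) (h4 : Nc j b x)
    (h5 : Nc j b y) (h6 : x ≠ j a) (h7 : x ≠ c) (h8 : y ≠ a) (h9 : y ≠ j c) : LC M π (Ob M (ι x y)) (Ob M (ι a c)) :=
  h.lc_sum hc hs (h.sum h1 ha hc' h2 h3) (h.nn hxy h2.1.symm h4.1.symm h8) (h.nn' hxy h2.1.symm h6 (h.nc_symm h5).2)
    (h.nn hxy h3.1 h7 h5.1.symm) (h.nn' hxy h3.1 (h.nc_symm h4).2 h9)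

omit [Finite K] in
theorem lcLL (ha : a ≠ j a) (hc' : c ≠ j c) (h1 : a ≠ j c) (h2 : Nc j b a) (h3 : Nc j b c) :
    LC M π (Ob M (ι a (j a))) (Ob M (ι c (j c))) :=
  h.lcs hc hs ha hc' hc' (by simpa [h.jj] using hc'.symm) h3 (by simp [Nc, h.nc h3, h.jj]) h2 (by simp [Nc, h.nc h2, h.jj])
    h1 h1 (fun e => h1 (by rw [← e, h.jj])) (fun e => h1 (by rw [← h.jj a, e, h.jj]))

variable (h5 : 4 < Fintype.card I)
include h5

theorem lcL {r s : Rt D} (hr : M.τ.ρ r = r) (e : 0 ≤ pr r s) : LC M π {r} (Ob M s) := by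
  have k : ∀ s, M.τ.ρ s = s → 0 ≤ pr r s → LC M π (Ob M r) (Ob M s) := fun s hs' e => by
    obtain ⟨a, ha, rfl⟩ := h.of_fix hr
    obtain ⟨c, hc', rfl⟩ := h.of_fix hs'
    obtain ⟨b, h1, h2⟩ := fresh2' (j := j) h5 a c
    refine h.lcLL hc hs ha hc' ?_ h1 h2
    rintro rfl
    rw [h.pri ha hc'] at e
    simp [dl, h.jj, hc', hc'.symm] at e
  rw [← h.Ob_fix hr]
  by_cases e1 : M.τ.ρ s = s
  · exact k s e1 e
  · exact h.lc_k1 hc hs (h.k1L hr e1) e (by rwa [pr_fix h.toSL hr]) fun l hl => h.Ob_fix (h.Ks_fix hl) ▸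
      k l (h.Ks_fix hl) (by rw [h.hl, h.Ks_pr hl, pr_fix h.toSL hr]; omega)

theorem lcK {r s : Rt D} (e : K1 M r s ∨ K1 M s r) (h1 : 0 ≤ pr r s) (h2 : 0 ≤ pr r (M.τ.ρ s)) : LC M π (Ob M r) (Ob M s) := by
  wlog e' : K1 M r s generalizing r s
  · exact (this e.symm (h.hl r s ▸ h1) (by rwa [h.hl, h.pr_ρ']) (e.resolve_left e')).symm
  exact h.lc_k1 hc hs e' h1 h2 fun k hk => (h.lcL hc hs h5 (h.Ks_fix hk) (by rw [h.Ks_pr hk]; omega)).symm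

end TA

end CA.TwM
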