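/-
The multiplier of the unitary groups.
-/
import Cfsg.Agent.Lib.Lie.TwM16

set_option autoImplicit false

namespace CA.TwM

open Equiv Cfsg Cfsg.Lie Cfsg.Lie.ChevalleyDatum CA.SchurFilt Subgroup CA.Chev CA.Chev.Sys0 CA.Chev.Sys
open CA.SchurHopf CA.Chev.Twist CA.SchurCov
open scoped commutatorElement IsMulCommutative

universe u v

section
variable {D : ChevalleyDatum} [Good D] {K : Type*} [Field K] {Γ : Type*} [Group Γ] {A : Sys D K Γ}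
  {G : Type*} [Group G] {M : Mod A G} {E : Type*} [Group E] {π : E →* G} {α : K →+* K} {F : Fl D}
  {I : Type*} [Fintype I] [DecidableEq I] {ι : I → I → Rt D} {j : I → I} {q : ℕ} {a b c d i : I}

theorem S2.co' (h : S2 M α) (hF : Inv M F) {r : Rt D} (hr : r ∈ F.S) (e : r < M.τ.ρ r) {t : K} {y : G}
    (hy : Nm M (M.τ.ρ r) t y) : Co M F r y (M.τ.T.f (M.τ.ρ r) t) := by
  rw [Nm, σ_x, h.ρρ, h.Ks_ρ] at hy
  have := mul_mem (U_conj (inv_mem (A.x_mem hr (M.τ.T.f (M.τ.ρ r) t)))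
    (A.x_mem (S := Sg F (kap F.f r + 1)) ⟨hF.1 r hr, (hF.kap_lt 1 e).2⟩ t))
    (A.X_mono (T := Sg F (kap F.f r + 1)) (fun k hk => And.intro (hF.Ob_le hr (.inr hk)) (hF.Ks_lt hr hk)) hy)
  rw [Co]
  convert this using 1; group

namespace TA
variable (h : TA M α ι j q)
include h

theorem of_Qs (hi : i ≠ j i) {s : Rt D} (hs : s ∈ Qs (ι i (j i))) :
    s = ι i (j i) ∨ ∃ d, Nc j d i ∧ Ob M s = Ob M (ι i d) := by
  obtain ⟨c, d, e, rfl⟩ := h.all s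
  rw [mem_Qs, h.pri hi e] at hs
  have := h.jj i
  have := h.jj c
  obtain ⟨rfl, rfl⟩ | ⟨rfl, e1⟩ | ⟨rfl, e1⟩ : (c = i ∧ d = j i) ∨ (c = i ∧ Nc j d i) ∨ (d = j i ∧ Nc j (j c) i) := by
    unfold dl at hs; unfold Nc; grind
  · exact .inl rfl
  · exact .inr ⟨d, e1, rfl⟩
  · exact .inr ⟨_, e1, by rw [← h.Ob_ρ, h.ρι e, h.jj]⟩

theorem Ob_Qs (hi : i ≠ j i) {s : Rt D} (hs : s ∈ Qs (ι i (j i))) : M.X (Ob M s) ≤ M.X (Qs (ι i (j i))) :=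
  M.X_mono ((h.inv_qF (h.fix hi)).Ob_le hs)

theorem mem_Q (hi : i ≠ j i) (e : Nc j c i) : ι i c ∈ Qs (ι i (j i)) ∧ ι c (j i) ∈ Qs (ι i (j i)) := by
  simp [mem_Qs, h.pri, dl, h.nc e, hi, hi.symm]

section
variable (h2 : q = 2)
include h2

theorem two0 : (2 : K) = 0 := by have := h.hq 2; rw [map_ofNat, h2] at this; linear_combination -this

theorem f2 (r : Rt D) (t : K) : M.τ.T.f r t = α t :=
  (h.f r t).elim id fun e => by linear_combination e - α t * h.two0 h2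

theorem fx {t : K} (e : α t = t) : t = 0 ∨ t = 1 := by
  rw [h.hq, h2] at e
  exact (mul_eq_zero.1 (show t * (t - 1) = 0 by linear_combination e)).imp_right sub_eq_zero.1

theorem comm1 {a b r : Rt D} (e : rt r = rt a + rt b) (t u : K) : ⁅A.x a t, A.x b u⁆ = A.x r (t * u) := by
  obtain ⟨C, h0, h1, h3⟩ := h.exists_C e
  rw [h3, (h.fx h2 h1).resolve_left h0, one_mul]

theorem tr0 {r : Rt D} (e : M.τ.ρ r = r) {t : K} (h1 : A.x r t * M.τ.σ (A.x r t) = 1) : t = 0 ∨ t = 1 := by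
  rw [σ_x, e, h.f2 h2, ← A.add] at h1
  exact h.fx h2 (by linear_combination A.x_eq_one h1 - t * h.two0 h2)

theorem base_odd {r k : Rt D} (e : r < M.τ.ρ r) (hk : k ∈ Ks M r) (H0 : Hz M π k ⊥) : ∃ Y, Hz M π k Y ∧
    (∀ y ∈ Y, π y = 1 → y = 1) ∧ ∀ u ∈ M.X (Ob M r), ∀ v ∈ M.X (Ob M r), Rel π Y u v := by
  obtain ⟨F, hF, eF⟩ := h.exists_obF r
  have hr : r ∈ F.S := eF ▸ .inl (.inl rfl)
  obtain ⟨p0, p1, p2⟩ := h.Ks_one hk
  have PQ : M.X (Ob M r) ≤ M.X (Qs k) := M.X_mono ((h.inv_qF (h.Ks_fix hk)).Ob_le (mem_qF.2 (by omega)))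
  have V : V1 M F r ≤ M.X {k} := VV_le_of_rp fun s hs e1 => by
    rcases eF ▸ hs with (rfl | rfl) | hs'
    · omega
    · exact fun u hu => ⟨1, one_mem _, by simpa using hF.triv 1 rfl e hu⟩
    · obtain rfl : s = k := rt_injective (hs'.trans hk.symm)
      exact hF.rp_fix hs (h.Ks_fix hk)
  obtain ⟨w, hw⟩ := h.nid
  obtain ⟨y0, h0⟩ := h.exists_nm r 1
  obtain ⟨y1, h1⟩ := h.exists_nm (M.τ.ρ r) w
  obtain ⟨y0, rfl⟩ := H0.hs y0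
  obtain ⟨y1, rfl⟩ := H0.hs y1
  have c0 := h0.co hF hr e
  have c1 := h.f2 h2 _ w ▸ h.co' hF hr e h1
  have m0 := h0.mem
  have m1 := h.Ob_ρ r ▸ h1.mem
  have gen : ∀ u ∈ M.X (Ob M r), ∃ y, (y = 1 ∨ y = y1 ∨ y = y0 ∨ y = y0 * y1) ∧ (π y)⁻¹ * u ∈ M.X {k} := fun u hu => by
    obtain ⟨t, ht⟩ := exists_co hr (u := u) (M.X_mono (T := Sg F _) (forall_Ob.2 ⟨And.intro hr le_rfl,
      And.intro (hF.1 r hr) (hF.kap_lt 1 e).2.le, fun k hk => And.intro (hF.Ob_le hr (.inr hk)) (hF.Ks_lt hr hk).le⟩) hu)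
    have a1 := h.α2 t
    have a2 := h.α2 w
    have a3 := h.two0 h2
    simp only [h.hq, h2] at a1 a2 hw c1
    have a4 : w ^ 2 + w + 1 = 0 := (mul_eq_zero.1 (show (w ^ 2 - w) * (w ^ 2 + w + 1) = 0 by
      linear_combination a2)).resolve_left (sub_ne_zero.2 hw)
    have : t * ((t - w ^ 2) * ((t - 1) * (t - (1 + w ^ 2)))) = 0 := by grind
    simp only [mul_eq_zero, sub_eq_zero] at this
    rcases this with rfl | rfl | rfl | rfl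
    exacts [⟨1, .inl rfl, by simpa using V (co_zero.1 ht)⟩, ⟨_, .inr (.inl rfl), V (c1.sub hr ht)⟩,
      ⟨_, .inr (.inr (.inl rfl)), V (c0.sub hr ht)⟩, ⟨_, .inr (.inr (.inr rfl)), V (map_mul π _ _ ▸ (c0.mul hr c1).sub hr ht)⟩]
  have H := H0.of_Dg _ PQ y1 (PQ m1)
  have R1 : ∀ u ∈ M.X (Ob M r), Rel π (H0.Dg _ PQ y1 (PQ m1)) u (π y1) := fun u hu a b ha hb =>
    ⟨a, ha ▸ hu, comm_congr H0.hc rfl hb⟩
  have k1 : ∀ v (hv : v ∈ M.X (Ob M r)), π y0 ∈ H.Rr v (PQ hv) → ∀ u ∈ M.X (Ob M r), u ∈ H.Rr v (PQ hv) := fun v hv a0 u hu => by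
    obtain ⟨y, hy, e1⟩ := gen u hu
    have a1 : π y1 ∈ H.Rr v (PQ hv) := ⟨PQ m1, (R1 v hv).symm⟩
    rw [← mul_inv_cancel_left (π y) u]
    refine mul_mem ?_ (H.Zq_le _ _ (H.X_le_Zq e1))
    rcases hy with rfl | rfl | rfl | rfl
    exacts [map_one π ▸ one_mem _, a1, a0, map_mul π _ _ ▸ mul_mem a0 a1]
  refine ⟨_, H, ?_, fun u hu v hv => (k1 v hv ⟨PQ m0, (k1 _ m0 ⟨PQ m0, fun a b ha hb => ?_⟩ v hv).2.symm⟩ u hu).2⟩
  · rintro _ ⟨x, hx, rfl⟩ e1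
    obtain ⟨y, hy, e2⟩ := gen _ hx
    have my : π y ∈ M.X (Ob M r) := by
      rcases hy with rfl | rfl | rfl | rfl
      exacts [map_one π ▸ one_mem _, m1, m0, map_mul π _ _ ▸ mul_mem m0 m1]
    rw [← map_inv, ← map_mul] at e2
    rw [← mul_inv_cancel_left y x, H.mul_l (PQ my) (X_le_Qs k e2) (PQ m1), (H.lc _ _ e2 (PQ m1)).commutator_eq,
      mul_one] at e1 ⊢
    have n0 : π ⁅y0, y1⁆ ≠ 1 := fun e3 => by
      have := h.comm_Nm hk (by simp [h.ρρ]) (by simp [h.ρρ, p0]) (by simp [h.ρρ, p0, h.hl _ r]) h0 h1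
      rw [← map_commutatorElement, e3, map_one, h.comm1 h2 hk, one_mul] at this
      rcases h.tr0 h2 (h.Ks_fix hk) this.symm with rfl | rfl <;> simp at hw
    rcases hy with rfl | rfl | rfl | rfl
    · simp
    · simp
    · exact absurd e1 n0
    · exact absurd e1 (by simpa [H.mul_l (PQ m0) (PQ m1) (PQ m1)] using n0)
  · rw [comm_congr H0.hc (a' := b) (ha.trans hb.symm) rfl]; simp

end

variable [Finite K] (hc : π.ker ≤ center E) (hs : Function.Surjective π) (h5 : 4 < Fintype.card I)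
include hc hs h5

theorem hz {r : Rt D} (hr : M.τ.ρ r = r) : Hz M π r ⊥ := ⟨h.hl, hc, hs, (lc_iff hc hs).2 (h.le_Ob (h.inv_qF hr) fun s hs' =>
    (lc_iff hc hs).1 (h.lcL hc hs h5 hr (mem_Qs.1 hs').le)), by simp⟩

theorem lcQ (hi : i ≠ j i) (h1 : Nc j c i) (h2 : Nc j d i) (h3 : d ≠ j c) : LC M π (Ob M (ι i c)) (Ob M (ι i d)) := by
  by_cases e : d = c
  · subst e
    obtain ⟨b, e1, e2⟩ := fresh2' (j := j) h5 i d
    exact h.lcs hc hs h1.1.symm h1.1.symm hi h3 e1 e2 e1 e2 hi h1.1.symm h1.1 h3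
  have e1 : Nc j d c := ⟨e, h3⟩
  refine h.lcK hc hs h5 ?_ (h.nn h1.1.symm h2.1.symm h2.1.symm h1.1) (h.nn' h1.1.symm h2.1.symm hi (h.nc_symm e1).2)
  by_cases hd : d = j d
  · exact (h.kN' (h.nc_symm h2) (h.nc_symm h1) (.inr ⟨fun e' => e (h.one hd.symm e'.symm), h.nc_symm h1, e1⟩)).symm
  · exact h.kN' (h.nc_symm h1) (h.nc_symm h2) (.inr ⟨hd, h.nc_symm h2, h.nc_symm e1⟩)

theorem lcP (hi : i ≠ j i) (h1 : Nc j c i) (h2 : Nc j d i) (h3 : c ≠ d) :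
    M.X (Ob M (ι c d)) ≤ CZ M π {ι i (j i)} ⊓ M.X (Pe (ι i (j i))) := by
  have p : pr (ι i (j i)) (ι c d) = 0 := by simp [h.pri hi h3, dl, h.nc h1, h.nc h2]
  refine le_inf ((lc_iff hc hs).1 (h.lcL hc hs h5 (h.fix hi) p.ge)) (M.X_mono (forall_Ob.2 ⟨p,
    (pr_fix h.toSL (h.fix hi) _).trans p, fun k hk => ?_⟩))
  rw [Pe, Set.mem_setOf_eq, h.hl, h.Ks_pr hk, pr_fix h.toSL (h.fix hi), p, add_zero]

variable (h2 : q = 2)
include h2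

theorem base_even (hi : i ≠ j i) (ho : ∀ a, a ≠ j a) (h1 : Nc j c i) : ∃ Y, Hz M π (ι i (j i)) Y ∧
    (∀ y ∈ Y, π y = 1 → y = 1) ∧ ∀ u ∈ M.X (Ob M (ι i c)), ∀ v ∈ M.X (Ob M (ι i (j c))), Rel π Y u v := by
  have H0 := h.hz hc hs h5 (h.fix hi)
  have nn : ∀ r, 0 ≤ pr r (M.τ.ρ r) := fun r => by
    obtain ⟨a, b, e, rfl⟩ := h.all r
    exact h.nn' e e (ho a) (ho b)
  choose y hy ey using fun r t => h.nm (nn r) t
  choose s hs' using id hs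
  have my : ∀ r t, π (s (y r t)) ∈ M.X (Ob M r) := fun r t => by rw [hs']; exact (Nm.of_eq (ey r t)).mem
  have sw : ∀ r t, y (M.τ.ρ r) (α t) = y r t := fun r t => M.inj (by
    rw [ey, ey, σ_x, σ_x, h.ρρ, h.f2 h2, h.f2 h2, h.α2]; exact (A.comm_of_nonneg h.hl (nn r) _ _).eq.symm)
  have cm : ∀ {a b c}, a ≠ c → Nc j b a → Nc j b c → ∀ t u, π ⁅s (y (ι a b) t), s (y (ι b c) u)⁆ = π (s (y (ι a c) (t * u))) :=
    fun {a b c} e1 e2 e3 t u => M.inj (by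
      have p := h.nn' e2.1.symm e3.1 (h.nc_symm e2).2 e3.2
      rw [map_commutatorElement, hs', hs', hs', h.comm_Nm (h.add e2.1.symm e3.1 e1) p (add_nonneg (nn _) p)
        (add_nonneg (nn _) p) (.of_eq (ey _ _)) (.of_eq (ey _ _)), h.comm1 h2 (h.add e2.1.symm e3.1 e1), ey])
  have q1 : ∀ {c}, Nc j c i → ∀ t, π (s (y (ι i c) t)) ∈ M.X (Qs (ι i (j i))) := fun e t => h.Ob_Qs hi (h.mem_Q hi e).1 (my _ _)
  have q2 : ∀ {c}, Nc j c i → ∀ t, π (s (y (ι c (j i)) t)) ∈ M.X (Qs (ι i (j i))) := fun e t =>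
    h.Ob_Qs hi (h.mem_Q hi e).2 (my _ _)
  have nj : ∀ {c}, Nc j c i → Nc j (j c) i := fun e => by simp [Nc, h.nc e]
  have ρ1 : ∀ {c}, Nc j c i → M.τ.ρ (ι i c) = ι (j c) (j i) := fun e => h.ρι e.1.symm
  have ρ2 : ∀ {c}, Nc j c i → M.τ.ρ (ι c (j i)) = ι i (j c) := fun e => by rw [h.ρι e.2, h.jj]
  let B : I → K → K → E := fun c a b => ⁅s (y (ι i c) a), s (y (ι c (j i)) b)⁆
  have l0 : ∀ {c d}, Nc j c i → Nc j d i → c ≠ d → ∀ a b, ⁅s (y (ι i c) a), s (y (ι d (j i)) b)⁆ = 1 := fun e1 e2 e3 a b =>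
    (h.lcQ hc hs h5 hi e1 (nj e2) (h.jne e3.symm) _ _ (my _ _) (by rw [← ρ2 e2, h.Ob_ρ]; exact my _ _)).commutator_eq
  have E1 : ∀ {c d}, Nc j c i → Nc j d i → Nc j c d → ∀ a b t, B c a (t * b) = B d (a * t) b := fun {c d} e1 e2 e3 a b t => by
    have k := H0.conj (g := s (y (ι c d) t)) (h.lcP hc hs h5 hi e1 e2 e3.1 (my _ _)).1 (q1 e1 a) (q2 e2 b)
    rw [l0 e1 e2 e3.1, comm_congr hc (a' := (s (y (ι i d) (a * t)))⁻¹ * s (y (ι i c) a))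
      (b' := s (y (ι c (j i)) (t * b)) * s (y (ι d (j i)) b))
      (by rw [map_mul π _⁻¹, map_inv, ← cm e2.1.symm e1 e3]; simp [commutatorElement_def, mul_assoc])
      (by rw [map_mul π (s _) (s _), ← cm e1.2 (h.nc_symm e3) (by simp [Nc, h.nc e2, h.jj])]; simp [commutatorElement_def]),
      H0.mul_l (map_inv π _ ▸ inv_mem (q1 e2 _)) (q1 e1 _) (map_mul π _ _ ▸ mul_mem (q2 e1 _) (q2 e2 _)),
      H0.inv_l (q1 e2 _) (map_mul π _ _ ▸ mul_mem (q2 e1 _) (q2 e2 _)), H0.mul_r (q1 e2 _) (q2 e1 _) (q2 e2 _),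
      H0.mul_r (q1 e1 _) (q2 e1 _) (q2 e2 _), l0 e1 e2 e3.1, l0 e2 e1 e3.1.symm, one_mul, mul_one, inv_mul_eq_one] at k
    exact k.symm
  obtain ⟨d, d1, d2⟩ := fresh2' (j := j) h5 i c
  have E2 : ∀ {d}, Nc j d i → Nc j c d → ∀ a b, B c a b = B d a b := fun e2 e3 a b => by simpa using E1 h1 e2 e3 a b 1
  have E3 : ∀ a b, B c a b = B c (a * b) 1 := fun a b => by
    rw [E2 d1 (h.nc_symm d2) (a * b), ← E1 h1 d1 (h.nc_symm d2), mul_one]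
  have E4 : ∀ a, B c a 1 * B c (α a) 1 = 1 := fun a => by
    rw [← one_mul (α a), ← E3, E2 (nj d1) (by simp [Nc, h.nc d2, h.jj]) 1, E2 d1 (h.nc_symm d2), mul_eq_one_iff_eq_inv]
    simp only [B]
    rw [commutatorElement_inv, ← ρ1 d1, sw, ← ρ2 d1, ← map_one α, sw, map_one]
  have E5 : B c 1 1 = 1 := by
    obtain ⟨t, ht⟩ := h.exists_tr
    rw [← E4 t, ← H0.mul_l (q1 h1 _) (q1 h1 _) (q2 h1 _)]
    refine comm_congr hc (M.inj ?_) rfl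
    rw [map_mul, map_mul, hs', hs', hs', ey, ey, ey, ← ht, A.add, map_mul, σ_x, σ_x]
    exact (A.comm_of_nonneg h.hl (nn _) _ _).mul_mul_mul_comm _ _
  have ex : ∀ r, ∀ u ∈ M.X (Ob M r), ∃ t, u = π (s (y r t)) := fun r u hu =>
    (h.mem_O (nn r) (h.Ob_eq (nn r) ▸ hu)).imp fun t ht => M.inj (by rw [ht, hs', ey])
  refine ⟨_, H0.of_Dg _ (h.Ob_Qs hi (h.mem_Q hi h1).1) _ (q2 h1 1), ?_, fun u hu v hv x z hx hz => ?_⟩
  · rintro _ ⟨x, hx, rfl⟩ e1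
    obtain ⟨t, ht⟩ := ex _ _ hx
    rw [comm_congr hc ht rfl] at e1 ⊢
    rw [cm hi h1 (by simp [Nc, h.nc h1, h.jj]), hs', mul_one] at e1
    rcases h.tr0 h2 (h.fix hi) (by rw [← ey, e1, map_one]) with rfl | rfl
    · rw [comm_congr hc (a' := 1) (M.inj (by simp [hs', ey])) rfl]; simp
    · exact E5
  · obtain ⟨a, rfl⟩ := ex _ _ hu
    obtain ⟨b, rfl⟩ := ex (ι c (j i)) v (by rwa [← h.Ob_ρ, ρ2 h1])
    exact ⟨_, my _ _, (comm_congr hc hx hz).trans (E3 a b)⟩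

theorem given {r : Rt D} (hr : M.τ.ρ r = r) : Given π M.H (M.X {r}) ⊥ ⁅(M.X (Qs r)).comap π, (M.X (Qs r)).comap π⁆ := by
  obtain ⟨i, hi, rfl⟩ := h.of_fix hr
  obtain ⟨c, h1, h3, Y, H, h4, h6⟩ : ∃ c, Nc j c i ∧ (∀ d, d = j d → d = c) ∧ ∃ Y, Hz M π (ι i (j i)) Y ∧
      (∀ y ∈ Y, π y = 1 → y = 1) ∧ ∀ u ∈ M.X (Ob M (ι i c)), ∀ v ∈ M.X (Ob M (ι i (j c))), Rel π Y u v := by
    by_cases ho : ∀ a, a ≠ j a
    · obtain ⟨c, h1⟩ := fresh1 (j := j) h.n3 i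
      exact ⟨c, h1, fun d e => absurd e (ho d), h.base_even hc hs h5 h2 hi ho h1⟩
    push Not at ho
    obtain ⟨c, e⟩ := ho
    have h1 : Nc j c i := ⟨fun e' => hi (e' ▸ e), fun e' => hi (by rw [← h.jj i, ← e', ← e, ← e])⟩
    have h3 : ι i (j i) ∈ Ks M (ι i c) := by rw [Ks, h.ρι h1.1.symm, ← e]; exact h.add h1.1.symm h1.2 hi
    refine ⟨c, h1, fun d e' => h.one e'.symm e.symm, ?_⟩
    rw [← e]
    rcases lt_trichotomy (ι i c) (M.τ.ρ (ι i c)) with e1 | e1 | e1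
    · exact h.base_odd h2 e1 h3 (h.hz hc hs h5 hr)
    · simpa [← e1] using (h.Ks_one h3).1
    · exact h.Ob_ρ (ι i c) ▸ h.base_odd h2 (by rwa [h.ρρ]) (by rwa [h.Ks_ρ]) (h.hz hc hs h5 hr)
  have I := h.inv_qF hr
  have z0 : M.X (Ob M (ι i c)) ≤ H.Zq := fun u hu => H.mem_Zq_of (h.Ob_Qs hi (h.mem_Q hi h1).1 hu)
    (fun s hs => h.rp_Ob I hs) (fun s => h.Ob_Qs hi) fun s hs' v hv => by
      rcases h.of_Qs hi hs' with rfl | ⟨d, e1, e2⟩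
      · exact H.lc.rel (h.Ob_fix hr ▸ hv) (h.Ob_Qs hi (h.mem_Q hi h1).1 hu)
      rw [e2] at hv
      by_cases e : d = j c
      · exact (h6 u hu v (e ▸ hv)).symm
      · exact (h.lcQ hc hs h5 hi h1 e1 e).symm.rel hv hu
  have step : ∀ {c d}, Nc j c i → Nc j d i → Nc j c d → d ≠ j d → M.X (Ob M (ι i c)) ≤ H.Zq → M.X (Ob M (ι i d)) ≤ H.Zq :=
    fun e1 e2 e3 e4 z => (h.sum e2.1.symm hi e4 e1 e3).trans (commutator_le.2 fun u hu g hg => by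
      have := h.lcP hc hs h5 hi e1 e2 e3.1 hg
      simpa only [commutatorElement_def, mul_assoc] using mul_mem (z hu) (H.Zq_conj this.1 this.2 (inv_mem (z hu))))
  refine H.given (h.le_Ob I fun s hs' => ?_) h4 (h.Ob_fix hr ▸ (h.sum hi hi (by simpa [h.jj] using hi.symm) h1
    (by simp [Nc, h.nc h1, h.jj])).trans (commutator_mono (h.Ob_Qs hi (h.mem_Q hi h1).1) (h.Ob_Qs hi (h.mem_Q hi h1).2)))
  rcases h.of_Qs hi hs' with rfl | ⟨d, e1, e2⟩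
  · exact h.Ob_fix hr ▸ H.X_le_Zq
  rw [e2]
  by_cases e3 : d = c
  · exact e3 ▸ z0
  by_cases e4 : c = j d
  · obtain ⟨x, x1, x2⟩ := fresh2' (j := j) h5 i c
    exact step x1 e1 (by simpa [Nc, e4, h.jj, and_comm] using x2) (mt (h3 d) e3)
      (step h1 x1 (h.nc_symm x2) (mt (h3 x) x2.1) z0)
  · exact step h1 e1 ⟨Ne.symm e3, e4⟩ (mt (h3 d) e3) z0

omit h5 h2 in
theorem pairs {r s : Rt D} (hr : Pos r) (hs' : Pos s) : (K1 M r s ∨ K1 M s r) ∨ LC M π (Ob M r) (Ob M s) ∨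
    (s ∈ O M r ∧ M.τ.ρ r ≠ r ∧ ∃ v : K, (v ≠ 0 ∧ 1 - v ≠ 0 ∧ v ^ 2 - v + 1 ≠ 0) ∧ (∃ χ, TC M χ ∧ χ r = v) ∧
      ∃ χ, TC M χ ∧ χ r = 1 - v) ∨ q = 2 ∧ ∃ k, M.τ.ρ k = k ∧ ∃ s' ∈ O M s, rt k = rt r + rt s' := by
  have ne : ∀ s' ∈ O M s, s' ≠ ng r := fun s' h1 e => (pos_ng r).1 (e ▸ (O_pos s' h1).2 hs') hr
  by_cases e1 : M.τ.ρ r = r
  · by_cases e2 : M.τ.ρ s = s
    swap
    · exact .inl (.inl (h.k1L e1 e2))
    obtain ⟨a, ha, rfl⟩ := h.of_fix e1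
    obtain ⟨c, hc', rfl⟩ := h.of_fix e2
    have e3 : a ≠ j c := by rintro rfl; exact ne _ (.inl rfl) (by rw [← h.ngι ha, h.jj])
    by_cases e4 : ∃ b, Nc j b a ∧ Nc j b c
    · exact let ⟨b, b1, b2⟩ := e4; .inr (.inl (h.lcLL hc hs ha hc' e3 b1 b2))
    have e5 : Nc j a c := ⟨by rintro rfl; exact e4 (by simpa using fresh1 h.n3 a), e3⟩
    obtain ⟨v, hv⟩ := h.N2 (h.n4 ((h.fresh2 ha hc').resolve_left e4))
    obtain ⟨t, k0, k1, k2, k3⟩ := h.t1 hc' v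
    exact .inl (.inl (k0.k1 ha hc' (by rw [k3 a e5, k3 _ (by simp [Nc, h.nc e5])]) (by rwa [k1, k2])))
  by_cases e2 : M.τ.ρ s = s
  · exact .inl (.inr (h.k1L e2 e1))
  obtain ⟨a, b, h1, rfl⟩ := (h.cases r).resolve_left e1
  obtain ⟨c, d, h3, rfl⟩ := (h.cases s).resolve_left e2
  have self : ι c d ∈ O M (ι a b) → _ := fun e => show (K1 M (ι a b) (ι c d) ∨ K1 M (ι c d) (ι a b)) ∨
      LC M π (Ob M (ι a b)) (Ob M (ι c d)) ∨ (ι c d ∈ O M (ι a b) ∧ M.τ.ρ (ι a b) ≠ ι a b ∧ ∃ v : K,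
      (v ≠ 0 ∧ 1 - v ≠ 0 ∧ v ^ 2 - v + 1 ≠ 0) ∧ (∃ χ, TC M χ ∧ χ (ι a b) = v) ∧ ∃ χ, TC M χ ∧ χ (ι a b) = 1 - v) ∨
      q = 2 ∧ ∃ k, M.τ.ρ k = k ∧ ∃ s' ∈ O M (ι c d), rt k = rt (ι a b) + rt s' by
    by_cases e3 : 4 ≤ q ∨ q = 3 ∧ (j a = a ∨ j b = b)
    · exact .inr (.inr (.inl ⟨e, e1, h.bi h1 e3⟩))
    by_cases e4 : j a = a ∨ j b = b
    · obtain ⟨k, hk⟩ := h.exists_Ks (r := ι a b) (by
        rw [h.ρι h1.1, h.pri h1.1 (h.jne h1.1.symm)]; rcases e4 with e4 | e4 <;> simp [dl, e4, h.nc h1] <;> split_ifs <;> simp)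
      exact .inr (.inr (.inr ⟨by have := h.q2; simp [e4] at e3; omega, k, h.Ks_fix hk, _, h.O_eq e ▸ .inr rfl, hk⟩))
    push Not at e4
    obtain ⟨x, x1, x2⟩ := (h.fresh2 e4.1.symm e4.2.symm).resolve_right fun e => e3 (.inl (h.n4 e))
    have : Ob M (ι c d) = Ob M (ι a b) := by
      rcases e with e | e <;> rw [e]
      exact h.Ob_ρ _
    rw [this]
    exact .inr (.inl (h.lcs hc hs h1.1 h1.1 e4.1.symm e4.2.symm x1 x2 x1 x2 e4.1.symm h1.1 h1.1.symm e4.2.symm))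
  have ja := h.jj a
  have jb := h.jj b
  have jc := h.jj c
  have jd := h.jj d
  obtain e | e | ⟨rfl, rfl⟩ | ⟨rfl, rfl⟩ | ⟨rfl, rfl⟩ | ⟨rfl, rfl⟩ | ⟨ha, hb, e⟩ :
      (c ≠ j c ∧ Nc j a c ∧ Nc j b c ∨ d ≠ j d ∧ Nc j a d ∧ Nc j b d) ∨
      (a ≠ j a ∧ Nc j c a ∧ Nc j d a ∨ b ≠ j b ∧ Nc j c b ∧ Nc j d b) ∨ (c = a ∧ d = b) ∨ (c = j b ∧ d = j a) ∨
      (c = b ∧ d = a) ∨ (c = j a ∧ d = j b) ∨ (a ≠ j a ∧ b ≠ j b ∧
        ((c = a ∧ d = j b ∨ c = b ∧ d = j a) ∨ (c = j a ∧ d = b ∨ c = j b ∧ d = a))) := by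
    have := @h.one
    unfold Nc at *; grind
  · exact .inl (h.kN' h1 h3 e)
  · exact .inl (h.kN' h3 h1 e).symm
  · exact self (.inl rfl)
  · exact self (.inr (h.ρι h1.1).symm)
  · exact absurd (h.ngι h1.1) (ne _ (.inl rfl))
  · exact absurd (by rw [h.ρι h3.1, ja, jb, h.ngι h1.1]) (ne _ (.inr rfl))
  have n := h.nc h1
  have e' : (ι b (j a) ∈ O M (ι c d) ∧ ι a (j b) ∈ O M (ι c d)) ∨ ι (j b) a ∈ O M (ι c d) ∧ ι (j a) b ∈ O M (ι c d) := by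
    rcases e with (⟨rfl, rfl⟩ | ⟨rfl, rfl⟩) | ⟨rfl, rfl⟩ | ⟨rfl, rfl⟩ <;> simp [O, h.ρι h3.1, h.jj]
  by_cases e3 : q = 2
  · refine .inr (.inr (.inr ⟨e3, ?_⟩))
    rcases e' with e' | e'
    · exact ⟨_, h.fix ha, _, e'.1, h.add h1.1 (by simp [n]) ha⟩
    · exact ⟨ι (j b) b, by rw [h.ρι hb.symm, jb], _, e'.1, by rw [add_comm]; exact h.add (by simp [n]) h1.1 hb.symm⟩
  have k : ∀ s' ∈ O M (ι c d), K1 M s' (ι a b) → K1 M (ι c d) (ι a b) := by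
    rintro _ (rfl | rfl) k
    exacts [k, h.ρρ (ι c d) ▸ (h.k1_ρ k).1]
  refine .inl (.inr ?_)
  rcases e' with e' | e'
  · obtain ⟨t, k0, k1, k2⟩ := h.kS e3 h1 ha hb
    exact k _ e'.2 (k0.k1 h1.2 h1.1 k1 k2)
  · obtain ⟨t, k0, k1, k2⟩ := h.kS e3 (h.nc_symm h1) hb ha
    exact k _ e'.2 (k0.k1 (by simp [n]) h1.1 k1.symm k2.symm)

omit hc hs h5 h2 in
theorem pp (p : ℕ) [Fact p.Prime] [CharP K p] : PP.{_, v} p G := fun E _ _ π hπ => by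
  classical
  have I := h.inv_hF
  have rp := fun r (hr : r ∈ (hF D).S) => h.rp_Ob I hr
  refine pp_of_filt (f := hF _) p h.h3 hπ rfl _ (fun r _ => h.triv I)
    (fun r => if q = 2 ∧ M.τ.ρ r = r then ⁅(M.X (Qs r)).comap π, (M.X (Qs r)).comap π⁆ else ⊥)
    (fun r hr hr' => ?_) fun r hr s hs hr' hs' _ => ?_
  · by_cases e : q = 2 ∧ M.τ.ρ r = r
    · rw [if_pos e]
      exact Or.inl (given_of hr' (X_le_V0 hr') (I.rp_fix hr' e.2) (X_inf_V1 hr')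
        (h.given hπ.2.1 hπ.1 (by have := h.n2 e.1; omega) e.1 e.2))
    · exact Or.inr ⟨if_neg e, h.ne_one (not_and_or.1 e)⟩
  rcases h.pairs hπ.2.1 hπ.1 hr' hs' with (e | e) | e | ⟨e1, e2, v, e3, e4, e5⟩ | ⟨e0, k, e1, s', e2, e3⟩
  · exact e.kl hr' hs' _
  · exact (e.kl hs' hr' _).swap
  · exact LC.kl hπ.1 (rp r hr') (rp s hs') e _
  · obtain rfl : s = r := e1.elim id fun e => absurd (le_antisymm (by
      have : s ≤ M.τ.ρ s := hs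
      rwa [e, h.ρρ] at this) hr) e2
    exact kl_self' hr' (fun t => let ⟨y, hy⟩ := h.exists_nm s t; ⟨y, hy.co I hr' (lt_of_le_of_ne hr e2.symm)⟩) e3 e4 e5 _
  have p1 := pr_of_sum h.hl e3
  have p2 : pr k r = 1 := by rw [h.hl, pr_sum e3, pr_self, p1]; rfl
  have p3 : pr k s' = 1 := by rw [h.hl, pr_sum e3, pr_self, h.hl, p1]; rfl
  have p4 : (hF D).f (rt s') = (hF D).f (rt s) ∧ pr k s = 1 := by
    rcases e2 with rfl | rfl
    exacts [⟨rfl, p3⟩, ⟨I.2 s, pr_fix h.toSL e1 s ▸ p3⟩]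
  refine kl_Qs (r := k) hπ.1 (rp r hr') (rp s hs') ((h.inv_qF e1).Ob_le (mem_qF.2 (by omega)))
    ((h.inv_qF e1).Ob_le (mem_qF.2 (by omega))) (le_iSup₂_of_le k ⟨e1.ge, (hF D).nil.2 r hr' s'
      ((O_pos s' e2).2 hs') k ⟨1, 1, le_rfl, le_rfl, by simpa using e3⟩, kap_lt ((hF _).pos s hs') ?_⟩ (if_pos ⟨e0, e1⟩).ge)
  have := (hF D).pos r hr'
  rw [e3, map_add, p4.1]; omega

end TA
end

namespace UM
variable {F : Type u} [Field F] [Fintype F] {q : ℕ} (hF : Fintype.card F = q ^ 2) {l : ℕ} (hl : 2 ≤ l)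

theorem ta {G : Type*} [Group G] {M : Mod (adjG (modA l hl).D F) G} (hM : M.τ = (UA.τ hl (CForm.conj hF)).ad)
    (h4 : l = 3 → 4 ≤ q) (h2 : q = 2 → l = 4 ∨ 6 ≤ l) :
    TA M (CForm.conj hF) (fun a b => (modA l hl).ι (rA a b)) Fin.rev q :=
  { hl := Model.hl_of norm_A
    hα := by rw [hM]; exact fun _ => rfl
    hc := by rw [hM]; exact UA.c_sim
    hφ := by rw [hM]; exact UA.hφ
    h3 := adjG_R3
    tor := by
      rw [hM]
      intro c hc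
      have h3 : (UA.A hl F).R3 := Sys.r3_of_finite _
      have e1 : ((UA.A hl F).θG UA.A_G).comp h3.torH = adjG_R3.torH := MonoidHom.pi_ext fun i t => by
        rw [MonoidHom.comp_apply, R3.torH_single, R3.torH_single]
        exact map_hh _ _ ((UA.A hl F).θG_x UA.A_G) _ _
      rw [← e1, ← (UA.τ hl (CForm.conj hF)).ad_G1 UA.A_G, G1_eq hF]
      exact mem_map_of_mem _ (torH_mem_F _ h3 hc)
    ι2 := by rw [hM]; exact Fin.rev_rev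
    α2 := CForm.conj_conj hF
    nid := by_contra fun e => CForm.conj_ne_id hF (RingHom.ext (by simpa using e))
    all := Model.all_ι _ fun v hv => let ⟨a, d, h, e⟩ := mem_modA.1 hv; ⟨a, d, h, e ▸ rfl⟩
    pri := fun h h' => by
      rw [Model.pr_two norm_A (rA_mem h) (rA_mem h')]
      simp only [sub_dotProduct, dotProduct_sub, single_dotProduct, Pi.single_apply, dl, one_mul]; ring
    add := fun h1 h2 h3 => funext fun i => by simp [UA.rt_rA, h1, h2, h3]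
    ρι := by rw [hM]; exact UA.φ_rA
    jj := Fin.rev_rev
    one := fun {a b} h1 h2 => by simp only [Fin.ext_iff, Fin.val_rev] at *; omega
    f := by
      rw [hM]
      refine Model.all_ι _ fun v hv t => ?_
      obtain ⟨a, d, h, rfl⟩ := mem_modA.1 hv
      change ((UA.c _ : Fˣ) : F) * CForm.conj hF t = _ ∨ ((UA.c _ : Fˣ) : F) * CForm.conj hF t = _
      rw [UA.c_rA h]
      rcases neg_one_pow_eq_or Fˣ d.val with e | e <;> rcases neg_one_pow_eq_or Fˣ a.val with e' | e' <;> simp [e, e']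
    hq := CForm.conj_apply hF
    hK := Nat.card_eq_fintype_card.trans hF
    n3 := by simpa using hl
    n4 := by simpa using h4
    n2 := by simpa using h2 }

include hF hl in
theorem has (h4 : l = 3 → 4 ≤ q) (h2 : q = 2 → l = 4 ∨ 6 ≤ l) :
    HasCyclicSchurMultiplier (PSU (l + 1) F q) (Nat.gcd (l + 1) (q + 1)) := by
  obtain ⟨p, hp⟩ := CharP.exists F
  have := Fact.mk (CharP.char_is_prime F p)
  obtain ⟨M, hM, -⟩ := UA.exists_mod hF hl (by omega)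
  exact has_of_pp hF hl (by omega) p ((ta hF hl hM h4 h2).pp p)

end UM

end CA.TwM
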