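import Cfsg.Agent.Lib.Lie.SzAut
import Cfsg.Agent.Lib.Lie.SzEmb
import Cfsg.Agent.Lib.Odd.BGCoprime

/-! Automorphisms of Suzuki groups: field automorphisms and their fixed points. -/

set_option autoImplicit false

namespace CA.SzAut

open Subgroup MulAction Cfsg CA.SzBasic CA.SzGroup CA.BG CA.AutFld CA.SzClass

variable {F : Type*} [Field F] [Fintype F] {m : ℕ} [hy : Hyp F m]
include hy

/-- `Φ` is the action of the field automorphisms -/
def IsPhi (Φ : RingAut F →* MulAut (G F)) : Prop := ∀ φ, (∀ a b, Φ φ (T a b) = T (φ a) (φ b)) ∧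
  (∀ μ, Φ φ (D μ) = D (Units.map (φ : F →* F) μ)) ∧ Φ φ (J F) = J F

variable {Φ : RingAut F →* MulAut (G F)}

theorem IsPhi.bij (hΦ : IsPhi Φ) : Function.Bijective ((QuotientGroup.mk' (Cfsg.Inn (G F))).comp Φ) := by
  refine (Nat.bijective_iff_injective_and_card _).2 ⟨(injective_iff_map_eq_one _).2 fun φ h => ?_, card_out.symm⟩
  obtain ⟨g, e⟩ := (QuotientGroup.eq_one_iff _).1 h
  have e : ∀ x, g * x * g⁻¹ = Φ φ x := DFunLike.congr_fun e
  have h1 := split.fix_of_conj_mem (T_mem_U 1 0) T10 (by rw [e, (hΦ φ).1]; exact T_mem_U ..)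
  have h2 : g • (pt 0 0 : Ov F) = pt 0 0 := by
    rw [← J_inf, ← mul_smul, mul_inv_eq_iff_eq_mul.1 (e (J F)), mul_smul, h1, (hΦ φ).2.2]
  obtain ⟨κ, rfl⟩ := exists_eq_D h1 h2
  have k := fun t => (T_inj.1 ((D_conj_T κ t 0).symm.trans ((e _).trans ((hΦ φ).1 ..)))).1
  have := k 1
  exact RingEquiv.ext fun t => by rw [← k, show th F κ = 1 by simpa using this, one_mul]; rfl

theorem cyc_out : IsCyclic (Cfsg.Out (G F)) :=
  let ⟨_, h⟩ := exists_Φ (F := F)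
  isCyclic_of_surjective _ (IsPhi.bij h).2

theorem IsPhi.conj (hΦ : IsPhi Φ) {α : MulAut (G F)} {n : ℕ} (hn : α ^ n = 1) (hc : (Nat.card (G F)).Coprime n) :
    ∃ g φ, φ ^ n = 1 ∧ MulAut.conj g * α * (MulAut.conj g)⁻¹ = Φ φ := by
  obtain ⟨φ, e⟩ := hΦ.bij.2 (α : Cfsg.Out (G F))
  have h1 : φ ^ n = 1 := hΦ.bij.1 (by rw [map_pow, e, ← QuotientGroup.mk_pow, hn, map_one]; rfl)
  have h2 : ∀ β : MulAut (G F), β ^ n = 1 → (♯(Cfsg.Inn (G F))).Coprime ♯(zpowers β) := fun β h =>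
    (hc.coprime_dvd_left (card_range_dvd _)).coprime_dvd_right (Nat.card_zpowers β ▸ orderOf_dvd_of_pow_eq_one h)
  obtain ⟨_, ⟨g, rfl⟩, h3⟩ := coprime_conj_le (A := zpowers (Φ φ)) (K := Cfsg.Inn (G F)) (B := zpowers α)
    (normalizer_eq_top (Cfsg.Inn (G F)) ▸ le_top) (h2 _ (by rw [← map_pow, h1, map_one])) (zpowers_le.2 (by
      simpa using mul_mem (mem_sup_left (mem_zpowers (Φ φ))) (mem_sup_right (QuotientGroup.eq.1 e) :
        _ ∈ zpowers (Φ φ) ⊔ Cfsg.Inn (G F)))) (h2 _ hn) (.inl (solv_of_comm (comm_of_cyclic (cyc_zpowers _))))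
  obtain ⟨i, h4⟩ := h3 (conj_mem_cj.2 (mem_zpowers α))
  exact ⟨g, φ ^ i, by rw [← zpow_natCast, ← zpow_mul, mul_comm, zpow_mul, zpow_natCast, h1, one_zpow], by
    rw [map_zpow]; exact h4.symm⟩

theorem not_solv_Sub {K : Subfield F} (h : ∃ x ∈ K, x ≠ 0 ∧ x ≠ 1) : ¬ Group.IsSolvable (SzClass.Sub K) := fun hs => by
  obtain ⟨k, h1, h2, -⟩ := SzEmb.exists_hyp K h
  haveI := Fintype.ofFinite K
  haveI : Hyp K k := ⟨h1, Nat.card_eq_fintype_card.symm.trans h2⟩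
  have e := SzEmb.subEquiv (F := F) K.subtype
  rw [K.fieldRange_subtype] at e
  haveI := solvable_of_surjective (f := e.toMonoidHom) e.surjective
  exact IsSolvable.commutator_lt_top_of_nontrivial (G K) |>.ne perfect

/-- fixed points of a coprime automorphism of prime order -/
theorem exists_fix {α : MulAut (G F)} {r : ℕ} (hr : r.Prime) (hn : α ^ r = 1) (hc : ¬ r ∣ Nat.card (G F)) :
    ∃ M : Subgroup (G F), (∀ x ∈ M, α x = x) ∧ (∃ t ∈ M, t ≠ 1 ∧ t * t = 1) ∧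
      (Group.IsSolvable M → Fintype.card F = 2 ^ r) := by
  obtain ⟨Φ, hΦ⟩ := exists_Φ (F := F)
  obtain ⟨g, φ, h1, h2⟩ := IsPhi.conj hΦ hn (hr.coprime_iff_not_dvd.2 hc).symm
  have h3 : SzClass.Sub (fixF φ) ≤ MonoidHom.eqLocus (Φ φ).toMonoidHom (MonoidHom.id _) :=
    Sub_le (fun a ha b hb => by
      change Φ φ _ = T a b
      rw [(hΦ φ).1, mem_fixF.1 ha, mem_fixF.1 hb]) (fun μ h => by
      change Φ φ _ = D μ
      rw [(hΦ φ).2.1]; congr 1; exact Units.ext (mem_fixF.1 h)) (hΦ φ).2.2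
  refine ⟨cj g⁻¹ (SzClass.Sub (fixF φ)), fun x hx => ?_, ⟨g⁻¹ * J F * g, mem_cj_inv.2 (by simpa [mul_assoc] using J_mem_Sub),
    fun e => J_ne_one (F := F) (by simpa [mul_assoc] using congrArg (fun x => g * x * g⁻¹) e), by
      simp [mul_assoc, ← mul_assoc (J F)]⟩, fun hs => ?_⟩
  · have h4 : Φ φ _ = _ := h3 (mem_cj_inv.1 hx)
    rw [← h2] at h4
    simpa [mul_assoc] using h4
  have h4 : Nat.card (fixF φ) = 2 := by
    have h5 : ∀ x ∈ fixF φ, x = 0 ∨ x = 1 := fun x hx => by_contra fun h => not_solv_Sub ⟨x, hx, not_or.1 h⟩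
      (cj_cj_inv g (SzClass.Sub (fixF φ)) ▸ isSolvable_cj g hs)
    rw [Nat.card_eq_two_iff]
    refine ⟨0, 1, zero_ne_one, Set.eq_univ_of_forall fun x => ?_⟩
    exact (h5 x x.2).imp Subtype.ext Subtype.ext
  have h5 := card_fixF_pow φ
  have h6 := eight_le_card (F := F)
  rw [h4, Nat.card_eq_fintype_card] at h5
  rcases (Nat.dvd_prime hr).1 (orderOf_dvd_of_pow_eq_one h1) with e | e
  · rw [e] at h5; omega
  · rw [← h5, e]

end CA.SzAut
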