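/-
Character degrees of `³D₄(q)`: weight spaces and field lemmas.
-/
import Cfsg.Agent.Lib.Lin.DegO1

set_option autoImplicit false
set_option linter.unusedSectionVars false

namespace CA.DegT

open Cfsg CA.Wt CA.DegO Finset Module Polynomial
open scoped commutatorElement

section
variable {G A M : Type*} [Group G] [AddCommGroup A] [Fintype A] [AddCommGroup M] [Module ℂ M] [FiniteDimensional ℂ M]
  {ρ : Representation ℂ G M} {x : AddChar A G} {Y : Type*} [AddCommGroup Y] [Fintype Y] (P : Par Y A)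

theorem sum_Ws {W : Submodule ℂ M} (hW : ∀ a, ∀ v ∈ W, ρ (x a) v ∈ W) : ∑ y, finrank ℂ ↥(W ⊓ Ws ρ x (P.e y)) = finrank ℂ W := by
  let S : Subrepresentation (ρ.comp x.toMonoidHom) := ⟨W, fun a v hv => hW a.toAdd v hv⟩
  let z : AddChar A (Multiplicative A) := ⟨.ofAdd, rfl, fun _ _ => rfl⟩
  have := sum_wt P (χ := S.toRepresentation.character) (x := z) 1
  simp only [← finrank_Ws (x := z) fun _ _ h => h, Representation.char_one] at this
  refine Eq.trans (sum_congr rfl fun y _ => ?_) (by exact_mod_cast this)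
  rw [← Submodule.finrank_map_subtype_eq S.toSubmodule]
  refine congrArg (fun U : Submodule ℂ M => finrank ℂ U) (Submodule.ext fun v => ?_)
  exact ⟨fun h => ⟨⟨v, h.1⟩, fun a => Subtype.ext (h.2 a), rfl⟩, by
    rintro ⟨w, hw, rfl⟩; exact ⟨w.2, fun a => congrArg Subtype.val (hw a)⟩⟩

theorem exists_Ws {W : Submodule ℂ M} (h : finrank ℂ W ≠ 0) (hW : ∀ a, ∀ v ∈ W, ρ (x a) v ∈ W) :
    ∃ y, finrank ℂ ↥(W ⊓ Ws ρ x (P.e y)) ≠ 0 := by
  rw [← sum_Ws P hW] at h
  exact (exists_ne_zero_of_sum_ne_zero h).imp fun _ h => h.2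

theorem fr_le (g : G) {W W' : Submodule ℂ M} (h : ∀ v ∈ W, ρ g v ∈ W') : finrank ℂ W ≤ finrank ℂ W' :=
  LinearMap.finrank_le_finrank_of_injective (f := (ρ g).restrict h) fun a b e => Subtype.ext (by
    simpa using congrArg (fun v : W' => ρ g⁻¹ v) e)

theorem conj_apply {g a b : G} (h : g * a * g⁻¹ = b) (v : M) : ρ a (ρ g⁻¹ v) = ρ g⁻¹ (ρ b v) := by
  rw [← End.mul_apply, ← End.mul_apply, ← map_mul, ← map_mul, ← h]; group

theorem st_comm {g : G} {ψ : AddChar A ℂ} (h : ∀ a, Commute g (x a)) {v : M} (hv : v ∈ Ws ρ x ψ) : ρ g v ∈ Ws ρ x ψ := fun a => by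
  rw [← End.mul_apply, ← map_mul, ← h a, map_mul, End.mul_apply, hv, map_smul]

/-- stability modulo a central subgroup -/
theorem st_mod {g : G} {ψ : AddChar A ℂ} {Z : Subgroup G} (h : ∀ a, ⁅(x a)⁻¹, g⁻¹⁆ ∈ Z) {v : M} (hZ : ∀ z ∈ Z, ρ z v = v)
    (hv : v ∈ Ws ρ x ψ) : ρ g v ∈ Ws ρ x ψ := fun a => by
  rw [← End.mul_apply, ← map_mul, show x a * g = g * x a * ⁅(x a)⁻¹, g⁻¹⁆ by group, map_mul, map_mul, End.mul_apply, End.mul_apply,
    hZ _ (h a), hv, map_smul]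
end

variable {K : Type*} [Field K] [Fintype K] {α : K →+* K}

variable (α) in
/-- the trace -/
def tr : K →+ K := AddMonoidHom.id K + α.toAddMonoidHom + (α.comp α).toAddMonoidHom

theorem tr_apply (t : K) : tr α t = t + α t + α (α t) := rfl
theorem tr_mul {c : K} (hc : α c = c) (t : K) : tr α (c * t) = c * tr α t := by simp [tr_apply, hc, mul_add]

variable {q : ℕ} (hq : ∀ t, α t = t ^ q) (hα : ∀ t, α (α (α t)) = t) (h2 : 2 ≤ q) (hK : Fintype.card K = q ^ 3)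
include hα

theorem tr_fix (t : K) : α (tr α t) = tr α t := by simp only [tr_apply, map_add, hα]; ring
theorem tr_α (t : K) : tr α (α t) = tr α t := by simp only [tr_apply, hα]; ring

include hq h2 hK
theorem exists_tr : ∃ s, tr α s = 1 := by
  have a1 : q < q ^ 2 := by nlinarith
  have a2 : (X ^ q ^ 2 + (X + X ^ q) : K[X]).natDegree = q ^ 2 := by
    rw [natDegree_add_eq_left_of_natDegree_lt] <;> rw [natDegree_X_pow]
    exact (natDegree_add_le_of_degree_le (natDegree_X_le.trans (by omega)) (natDegree_X_pow_le _)).trans_lt a1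
  obtain ⟨s, hs⟩ : ∃ s, tr α s ≠ 0 := not_forall.1 fun h => by
    have := eq_zero_of_natDegree_lt_card_of_eval_eq_zero (X ^ q ^ 2 + (X + X ^ q) : K[X]) Function.injective_id
      (fun t => by rw [← h t, tr_apply, hq, hq]; simp; ring) (by rw [a2, hK]; nlinarith)
    rw [this, natDegree_zero] at a2
    omega
  exact ⟨(tr α s)⁻¹ * s, by rw [tr_mul (by rw [map_inv₀, tr_fix hα]), inv_mul_cancel₀ hs]⟩

theorem exists_root {a d : K} (a0 : a ≠ 0) (ha : α a = a) (hd : α d = d) (b c : K) :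
    ∃ t, d + a * (t * α t * α (α t)) + tr α (b * (α t * α (α t)) + c * t) = 0 := by
  by_contra! h
  have a1 : q < q ^ 2 := by nlinarith
  let l : K[X] := C d + (C b * X ^ (q + q ^ 2) + C c * X ^ 1) + (C (α b) * X ^ (q ^ 2 + 1) + C (α c) * X ^ q) +
    (C (α (α b)) * X ^ (1 + q) + C (α (α c)) * X ^ q ^ 2)
  have a2 : (C a * X ^ (1 + q + q ^ 2) + l).natDegree = 1 + q + q ^ 2 := by
    rw [natDegree_add_eq_left_of_natDegree_lt] <;> rw [natDegree_C_mul_X_pow _ _ a0]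
    refine lt_of_le_of_lt (b := q + q ^ 2) ?_ (by omega)
    have k : ∀ (c : K) n, n ≤ q + q ^ 2 → (C c * X ^ n).natDegree ≤ q + q ^ 2 := fun c n h => (natDegree_C_mul_X_pow_le _ _).trans h
    refine natDegree_add_le_of_degree_le (natDegree_add_le_of_degree_le (natDegree_add_le_of_degree_le (by simp) ?_) ?_) ?_ <;>
      exact natDegree_add_le_of_degree_le (k _ _ (by omega)) (k _ _ (by omega))
  obtain ⟨n, rfl⟩ := Nat.exists_eq_add_of_le' h2
  have a3 : ((C a * X ^ (1 + (n + 2) + (n + 2) ^ 2) + l) ^ (n + 1) - 1).natDegree = (n + 1) * (1 + (n + 2) + (n + 2) ^ 2) := by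
    rw [← C_1, natDegree_sub_C, natDegree_pow, a2]
  have := eq_zero_of_natDegree_lt_card_of_eval_eq_zero _ Function.injective_id (fun t => ?_) (a3.trans_lt (by rw [hK]; nlinarith))
  · rw [this, natDegree_zero] at a3
    nlinarith
  have e := hq (d + a * (t * α t * α (α t)) + tr α (b * (α t * α (α t)) + c * t))
  rw [map_add, map_add, tr_fix hα, map_mul, map_mul, map_mul, hα, ha, hd, mul_right_comm (α t), mul_comm (α t), pow_succ,
    right_eq_mul₀ (h t)] at e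
  rw [eval_sub, eval_pow, eval_one, sub_eq_zero, ← e]
  congr 1
  simp only [l, tr_apply, map_add, map_mul, hα, eval_add, eval_mul, eval_C, eval_pow, eval_X, id]
  simp only [hq t, hq (t ^ _)]
  ring

/-- the characters of `K` -/
theorem exists_par : ∃ P : Par K K, ∃ ψ : AddChar K ℂ, (∀ c s, P.e c s = ψ (c * s)) ∧ (∀ s, ψ (α s) = ψ s) ∧
    ∀ s w, ψ (w * tr α s) = ψ (tr α w * s) := by
  obtain ⟨s, hs⟩ := exists_tr hq hα h2 hK
  obtain ⟨ψ, hψ⟩ := exists_addChar K one_ne_zero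
  refine ⟨.of (ψ.compAddMonoidHom (tr α)) AddMonoidHom.mul (fun a ha => ⟨s / a, by simpa [ha, hs]⟩) rfl, ψ.compAddMonoidHom (tr α), fun _ _ => rfl,
    fun s => congrArg ψ (tr_α hα s), fun s w => congrArg ψ ?_⟩
  rw [mul_comm w, tr_mul (tr_fix hα s), tr_mul (tr_fix hα w), mul_comm]

omit hq hα hK in
theorem arith {D : ℕ} (h : (q ^ 2 - 1) * q ^ 3 + (q - 1) ≤ D) (hD : D ∣ q ^ 12 * (q ^ 2 - 1) * (q ^ 6 - 1) * (q ^ 8 + q ^ 4 + 1)) :
    q * (q ^ 4 - q ^ 2 + 1) ≤ D := by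
  have a1 : 1 ≤ q := by omega
  rw [← Int.natCast_dvd_natCast] at hD
  zify [a1, Nat.one_le_pow 2 q a1, Nat.one_le_pow 6 q a1, Nat.pow_le_pow_right a1 (show 2 ≤ 4 by omega)] at h hD h2 ⊢
  generalize (q : ℤ) = q at *
  by_contra hlt
  rw [show (D : ℤ) = (q - 1) * (q ^ 4 + q ^ 3 + 1) by linarith, show q ^ 12 * (q ^ 2 - 1) * (q ^ 6 - 1) * (q ^ 8 + q ^ 4 + 1) = (q - 1) * (q ^ 12 *
    ((q ^ 4 + q ^ 3 + 1) * (q ^ 11 + q ^ 6 - 2 * q ^ 5 + q ^ 4 + q - 3) + (3 * q ^ 3 - 2 * q + 2))) by ring,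
    mul_dvd_mul_iff_left (by omega)] at hD
  have c : IsCoprime (q ^ 4 + q ^ 3 + 1) q := ⟨1, -(q ^ 3 + q ^ 2), by ring⟩
  obtain ⟨a, rfl⟩ : ∃ a, q = a + 2 := ⟨q - 2, by ring⟩
  have ha : 0 ≤ a := by omega
  refine (Int.le_of_dvd (by ring_nf; positivity) ((dvd_add_right (dvd_mul_right _ _)).1 (c.pow_right.dvd_of_dvd_mul_left hD))).not_gt ?_
  rw [← sub_pos]
  ring_nf
  positivity

end CA.DegT
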