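/-
The root elements of the isometry group of the cubic form in 27 variables.
-/
import Cfsg.Agent.Lib.Lie.E6F1
import Cfsg.Agent.Lib.Lie.H23Iso

set_option autoImplicit false

namespace CA.Cub27

open Cfsg.Lie Matrix CA.Chev

variable {F : Type*} [Field F]

/-- the partial permutations -/
noncomputable def uN (r n : ℕ) : ℕ := fld 0xe4f7b56939460f74ecb5250732c911041ace2f6ad2728c1f183d6a49ce62106108359c5ed5a4e5183d6a4ad4941ce5210410eb38bdaa199e307db2c5a9283992478820d6701b1e939460f9b72b52507328901041a092f6ad2728c1eea5d6a4acf129062083597ded5a4e3183dc062c29b1cd720c4106b30bda349ca307b9a05a83339a8418820d6537b56935c42f7098b52507b14971041acaaf65d2728c02e6896a4a0f32928208359cded6a4e7183dcd62d4941cc20804106b38bdab4092307df4c5a9293bca418820d6717092939460fa374b52547814831041ace2f67d2708c1e06b02a4e4e6d106208359c5ec9a4d4183c4d62d4941f252684106b3abdaf49d2307b9ac5a922080a41882021f17b56939460f74aab52507314835862fce2f6ac6728c1ee331674a0e6a907608219c46d5a4e5183dcd32d4741cd220e6102738bdaab9ca277b90c5a928398a4a88365670b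b5693946077350b525073149210679ce2d6ace728c1ee6b16a4a0e641cc2082f6aded5a4e518bdce62d6941cc520c4105272bdab49ca308b9ae5a968398a418820064d7b56939460f7358b9d90733a2310402ca2f6ad2728cece6b16a4a0e62adc208359c5ed521e5183eb862d4941cc520d217eb3821eb49ca307c9b85a928398a41a830d670fb56139460f335875250736083c841ace136aaa723c1e86b16a4a0e6293020e74fc5ed5a465183dc362c89a9cc520ee106a18bc6b49ca307b9a35a892398a41d020d6717b56939460f7359183cc730c830041a4e2f6ad172891ee2b16a4a0f5290620df4ac5d75a4e51811cd2ad4941e4520c41a6b38bdab7b562f7b98c5a528398a418820d67149ca9394610735ab52907314831041ace2f6a82668c1ee6b2d94a0e663c6208359c02c6a4e5183dcd64d5941ccd80c4106b38bdab49c96a4b9ac5a9283a0a428822d6717b545345b2f7358b525073152c1041ace056452729c32e6b16a4a0e62a9a2083401ded5a4e5183dcd62e97744c520c4106845bdab49ca34bb9ac5a9285b8a418820d6597b56937440f7358b12516316e31041acb6f6752728c00e6b16a122662d06208359c5df5a425183c6d61149c1cc520f4106b38ba6b454890795ac5a9283e0a41883ad6717b5759c3e0f6358952507314831041ace359c5272841ed6b14a4a0e6290620835ac5ef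5a525183dcd62d492906520c4106b38bdab400e307b9acbe92c798a418820d671700e939460f73594569b0314831041ace2f6ad045be9ee6b16a4a12c2906208359c5c45a4e54869cd62d49429a520c4106b38bd9949b4107b9ac12928c98ba18820c6715b56539460f7358b525073148341cc3362f6ad2728c1ee6b172aa0e62906e880a8c5ed5a4e51955cd62d4941cc520c4b73338bdaae9ca267b9ac5a128398b518ac06e70eb5693946067358b521073164314c1ac62f5ad2528c1ee6b16a4a0e62906520f59c5ed519a5183dcd6570941cc520d8f06b3819ab49ca307b9ac92b08398a41b600d6717b54a89570f7358b52507314831259ace0a8ad2729430e6b16a4a0e62906253759c32d56ce4683dcd6214941cc5c0c5906998bdab474a237b9ac59528a98a418ae0d371775693946037358b51512314831501ace2f6ad2728c1ee6b1cd620c628c6200359c5ed5a4e4e6b1cd62d49420c528c4206b38bb2b46c8707b9ac2a928c18a418b40 5 31 (Nat.add (Nat.mul 27 r) n)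
/-- the signs -/
noncomputable def sC (r n : ℕ) : ℕ := Nat.mod (fld 0x48000024001200000002a010410000000a8004104001202400048002100084002100600000602100004008020481000204000206040004008810008100204008100204004104000002a000006018021000009000480480000081020420400002060400081002082000015000900000240000490020008100810810000081020410020204000081810002040002050410000000a8054000820800001500008208000084000000601801200024000024000090090000048060002100002102040081002040081081000008110020020440080810000205002000000002a41040800410800200110800108008004002a10410000002a001041000000012000900900012000012024000000a80001041000858000006000840840000180180000006600006000180006000040084008204001080080044200004200420800400204810001002000560820000000540820800000104100000a800000060006180000060000216000000066000060000060210001800000428004042008208000000005580000001800186000060000001a001020010010881000100200810410400000002a000600018000600600000840018000618000000180600840000006020410020008104008100204008108002001200100000000a8410400002a000104100108800408004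 2 3 (Nat.add (Nat.mul 27 r) n)) 3
/-- product of signs -/
def m3 (a b : ℕ) : ℕ := Nat.mod (Nat.mul a b) 3
/-- decoding of signs -/
def zz (x : ℕ) : ℤ := if x = 0 then 0 else if x = 1 then 1 else -1
/-- the point with a given number -/
def dc (n : ℕ) : I27 := (Fin.ofNat 3 (n / 9), Fin.ofNat 3 (n / 3), Fin.ofNat 3 n)
/-- the partial permutations -/
noncomputable def up (r : ℕ) (a : I27) : I27 := dc (uN r (enc a))
/-- the signs -/
noncomputable def sg (r : ℕ) (a : I27) : ℤ := zz (sC r (enc a))
/-- the root vectors -/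
noncomputable def Em (F : Type*) [Field F] (r : ℕ) : Matrix I27 I27 F := of fun a b => if b = up r a then (sg r a : F) else 0
/-- coefficients of products -/
noncomputable def co (r s n : ℕ) : ℕ := m3 (sC r n) (sC s (uN r n))

theorem zz_mul : ∀ a < 3, ∀ b < 3, zz (m3 a b) = zz a * zz b := by decide
theorem m3_lt (a b : ℕ) : m3 a b < 3 := Nat.mod_lt _ (by omega)
theorem sC_lt (r n : ℕ) : sC r n < 3 := Nat.mod_lt _ (by omega)
theorem enc_lt : ∀ a, enc a < 27 := by decide
theorem enc_up : ∀ r < 72, ∀ a, enc (up r a) = uN r (enc a) := by decide +kernel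
theorem co_self : ∀ r < 72, ∀ n < 27, co r r n = 0 := by decide +kernel

theorem Em_mul (r : ℕ) (M : Matrix I27 I27 F) (a b : I27) : (Em F r * M) a b = sg r a * M (up r a) b := by
  simp [Em, Matrix.mul_apply]
theorem Em_mulVec (r : ℕ) (v : I27 → F) (a : I27) : (Em F r *ᵥ v) a = sg r a * v (up r a) := by
  simp [Em, mulVec, dotProduct]
theorem EE {r : ℕ} (hr : r < 72) (s : ℕ) (a b : I27) :
    (Em F r * Em F s) a b = if b = dc (uN s (uN r (enc a))) then (zz (co r s (enc a)) : F) else 0 := by
  rw [Em_mul, Em, of_apply, sg, sg, up, enc_up r hr, co, zz_mul _ (sC_lt ..) _ (sC_lt ..)]; split_ifs <;> simp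
theorem EE_zero {r s : ℕ} (hr : r < 72) (h : ∀ n < 27, co r s n = 0) : Em F r * Em F s = 0 := by
  ext a b; rw [EE hr, h _ (enc_lt a)]; simp [zz]

theorem one_add_mul {E : Matrix I27 I27 F} (h : E * E = 0) (t u : F) : (1 + t • E) * (1 + u • E) = 1 + (t + u) • E := by
  simp only [add_mul, mul_add, one_mul, mul_one, smul_mul_assoc, mul_smul_comm, h]; module

/-- the root elements -/
noncomputable def xx (r : ℕ) (t : F) : GL I27 F := if h : r < 72 then ⟨1 + t • Em F r, 1 + (-t) • Em F r,
  by rw [one_add_mul (EE_zero h (co_self r h))]; simp, by rw [one_add_mul (EE_zero h (co_self r h))]; simp⟩ else 1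

theorem xx_val {r : ℕ} (h : r < 72) (t : F) : (xx r t).val = 1 + t • Em F r := by rw [xx, dif_pos h]
theorem xx_mv {r : ℕ} (h : r < 72) (t : F) (v : I27 → F) (a : I27) :
    ((xx r t).val *ᵥ v) a = v a + t * (sg r a * v (up r a)) := by
  simp [xx_val h, add_mulVec, smul_mulVec, Em_mulVec]

theorem xx_mem {r : ℕ} (h : r < 72) {t : F} (σ : I27 → ℤ) (υ : I27 → I27) (e : ∀ a, sg r a = σ a ∧ up r a = υ a)
    (H : ∀ v : I27 → F, cubicT (fun a => v a + t * (σ a * v (υ a))) = cubicT v) : xx r t ∈ E6univ F := fun v => by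
  rw [← H v]; congr 1; funext a; rw [← (e a).1, ← (e a).2]; exact xx_mv h t v a

theorem inv56 (t : F) : xx 56 t ∈ E6univ F := xx_mem (by omega)
  (fun a => if a = (0, 2, 0) then 1 else if a = (0, 2, 1) then 1 else if a = (0, 2, 2) then 1 else if a = (2, 0, 0) then -1 else if a = (2, 1, 0) then -1 else if a = (2, 2, 0) then -1 else 0)
  (fun a => if a = (0, 2, 0) then (0, 0, 0) else if a = (0, 2, 1) then (0, 0, 1) else if a = (0, 2, 2) then (0, 0, 2) else if a = (2, 0, 0) then (2, 0, 2) else if a = (2, 1, 0) then (2, 1, 2) else if a = (2, 2, 0) then (2, 2, 2) else a)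
  (by decide +kernel) (fun v => by simp [cubicT, mat3, det_fin_three, trace, Matrix.mul_apply, Fin.sum_univ_three]; ring)

theorem inv46 (t : F) : xx 46 t ∈ E6univ F := xx_mem (by omega)
  (fun a => if a = (0, 1, 0) then 1 else if a = (0, 1, 1) then -1 else if a = (1, 2, 0) then 1 else if a = (1, 2, 1) then -1 else if a = (2, 2, 0) then -1 else if a = (2, 2, 2) then 1 else 0)
  (fun a => if a = (0, 1, 0) then (1, 1, 2) else if a = (0, 1, 1) then (1, 0, 2) else if a = (1, 2, 0) then (2, 1, 1) else if a = (1, 2, 1) then (2, 0, 1) else if a = (2, 2, 0) then (0, 2, 2) else if a = (2, 2, 2) then (0, 0, 2) else a)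
  (by decide +kernel) (fun v => by simp [cubicT, mat3, det_fin_three, trace, Matrix.mul_apply, Fin.sum_univ_three]; ring)

theorem inv42 (t : F) : xx 42 t ∈ E6univ F := xx_mem (by omega)
  (fun a => if a = (0, 0, 0) then 1 else if a = (0, 1, 0) then -1 else if a = (1, 1, 2) then 1 else if a = (1, 2, 2) then -1 else if a = (2, 0, 2) then 1 else if a = (2, 1, 2) then -1 else 0)
  (fun a => if a = (0, 0, 0) then (2, 2, 1) else if a = (0, 1, 0) then (2, 2, 0) else if a = (1, 1, 2) then (0, 2, 2) else if a = (1, 2, 2) then (0, 2, 1) else if a = (2, 0, 2) then (1, 0, 1) else if a = (2, 1, 2) then (1, 0, 0) else a)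
  (by decide +kernel) (fun v => by simp [cubicT, mat3, det_fin_three, trace, Matrix.mul_apply, Fin.sum_univ_three]; ring)

theorem inv39 (t : F) : xx 39 t ∈ E6univ F := xx_mem (by omega)
  (fun a => if a = (0, 0, 2) then 1 else if a = (0, 1, 2) then 1 else if a = (0, 2, 2) then 1 else if a = (1, 0, 0) then -1 else if a = (1, 0, 1) then -1 else if a = (1, 0, 2) then -1 else 0)
  (fun a => if a = (0, 0, 2) then (0, 0, 0) else if a = (0, 1, 2) then (0, 1, 0) else if a = (0, 2, 2) then (0, 2, 0) else if a = (1, 0, 0) then (1, 2, 0) else if a = (1, 0, 1) then (1, 2, 1) else if a = (1, 0, 2) then (1, 2, 2) else a)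
  (by decide +kernel) (fun v => by simp [cubicT, mat3, det_fin_three, trace, Matrix.mul_apply, Fin.sum_univ_three]; ring)

theorem inv37 (t : F) : xx 37 t ∈ E6univ F := xx_mem (by omega)
  (fun a => if a = (0, 0, 0) then 1 else if a = (0, 2, 0) then -1 else if a = (1, 1, 0) then -1 else if a = (1, 2, 0) then 1 else if a = (2, 1, 1) then -1 else if a = (2, 2, 1) then 1 else 0)
  (fun a => if a = (0, 0, 0) then (2, 0, 2) else if a = (0, 2, 0) then (2, 0, 0) else if a = (1, 1, 0) then (0, 1, 2) else if a = (1, 2, 0) then (0, 1, 1) else if a = (2, 1, 1) then (1, 0, 2) else if a = (2, 2, 1) then (1, 0, 1) else a)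
  (by decide +kernel) (fun v => by simp [cubicT, mat3, det_fin_three, trace, Matrix.mul_apply, Fin.sum_univ_three]; ring)

theorem inv36 (t : F) : xx 36 t ∈ E6univ F := xx_mem (by omega)
  (fun a => if a = (1, 0, 1) then 1 else if a = (1, 1, 1) then 1 else if a = (1, 2, 1) then 1 else if a = (2, 0, 0) then -1 else if a = (2, 0, 1) then -1 else if a = (2, 0, 2) then -1 else 0)
  (fun a => if a = (1, 0, 1) then (1, 0, 0) else if a = (1, 1, 1) then (1, 1, 0) else if a = (1, 2, 1) then (1, 2, 0) else if a = (2, 0, 0) then (2, 1, 0) else if a = (2, 0, 1) then (2, 1, 1) else if a = (2, 0, 2) then (2, 1, 2) else a)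
  (by decide +kernel) (fun v => by simp [cubicT, mat3, det_fin_three, trace, Matrix.mul_apply, Fin.sum_univ_three]; ring)

theorem inv15 (t : F) : xx 15 t ∈ E6univ F := xx_mem (by omega)
  (fun a => if a = (0, 0, 0) then 1 else if a = (0, 0, 1) then 1 else if a = (0, 0, 2) then 1 else if a = (2, 0, 2) then -1 else if a = (2, 1, 2) then -1 else if a = (2, 2, 2) then -1 else 0)
  (fun a => if a = (0, 0, 0) then (0, 2, 0) else if a = (0, 0, 1) then (0, 2, 1) else if a = (0, 0, 2) then (0, 2, 2) else if a = (2, 0, 2) then (2, 0, 0) else if a = (2, 1, 2) then (2, 1, 0) else if a = (2, 2, 2) then (2, 2, 0) else a)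
  (by decide +kernel) (fun v => by simp [cubicT, mat3, det_fin_three, trace, Matrix.mul_apply, Fin.sum_univ_three]; ring)

theorem inv25 (t : F) : xx 25 t ∈ E6univ F := xx_mem (by omega)
  (fun a => if a = (0, 0, 2) then 1 else if a = (0, 2, 2) then -1 else if a = (1, 0, 2) then -1 else if a = (1, 1, 2) then 1 else if a = (2, 0, 1) then -1 else if a = (2, 1, 1) then 1 else 0)
  (fun a => if a = (0, 0, 2) then (2, 2, 2) else if a = (0, 2, 2) then (2, 2, 0) else if a = (1, 0, 2) then (0, 1, 1) else if a = (1, 1, 2) then (0, 1, 0) else if a = (2, 0, 1) then (1, 2, 1) else if a = (2, 1, 1) then (1, 2, 0) else a)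
  (by decide +kernel) (fun v => by simp [cubicT, mat3, det_fin_three, trace, Matrix.mul_apply, Fin.sum_univ_three]; ring)

theorem inv29 (t : F) : xx 29 t ∈ E6univ F := xx_mem (by omega)
  (fun a => if a = (0, 2, 1) then -1 else if a = (0, 2, 2) then 1 else if a = (1, 0, 0) then -1 else if a = (1, 0, 1) then 1 else if a = (2, 2, 0) then -1 else if a = (2, 2, 1) then 1 else 0)
  (fun a => if a = (0, 2, 1) then (1, 2, 2) else if a = (0, 2, 2) then (1, 1, 2) else if a = (1, 0, 0) then (2, 1, 2) else if a = (1, 0, 1) then (2, 0, 2) else if a = (2, 2, 0) then (0, 1, 0) else if a = (2, 2, 1) then (0, 0, 0) else a)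
  (by decide +kernel) (fun v => by simp [cubicT, mat3, det_fin_three, trace, Matrix.mul_apply, Fin.sum_univ_three]; ring)

theorem inv32 (t : F) : xx 32 t ∈ E6univ F := xx_mem (by omega)
  (fun a => if a = (0, 0, 0) then 1 else if a = (0, 1, 0) then 1 else if a = (0, 2, 0) then 1 else if a = (1, 2, 0) then -1 else if a = (1, 2, 1) then -1 else if a = (1, 2, 2) then -1 else 0)
  (fun a => if a = (0, 0, 0) then (0, 0, 2) else if a = (0, 1, 0) then (0, 1, 2) else if a = (0, 2, 0) then (0, 2, 2) else if a = (1, 2, 0) then (1, 0, 0) else if a = (1, 2, 1) then (1, 0, 1) else if a = (1, 2, 2) then (1, 0, 2) else a)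
  (by decide +kernel) (fun v => by simp [cubicT, mat3, det_fin_three, trace, Matrix.mul_apply, Fin.sum_univ_three]; ring)

theorem inv34 (t : F) : xx 34 t ∈ E6univ F := xx_mem (by omega)
  (fun a => if a = (0, 1, 1) then 1 else if a = (0, 1, 2) then -1 else if a = (1, 0, 1) then 1 else if a = (1, 0, 2) then -1 else if a = (2, 0, 0) then -1 else if a = (2, 0, 2) then 1 else 0)
  (fun a => if a = (0, 1, 1) then (1, 2, 0) else if a = (0, 1, 2) then (1, 1, 0) else if a = (1, 0, 1) then (2, 2, 1) else if a = (1, 0, 2) then (2, 1, 1) else if a = (2, 0, 0) then (0, 2, 0) else if a = (2, 0, 2) then (0, 0, 0) else a)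
  (by decide +kernel) (fun v => by simp [cubicT, mat3, det_fin_three, trace, Matrix.mul_apply, Fin.sum_univ_three]; ring)

theorem inv35 (t : F) : xx 35 t ∈ E6univ F := xx_mem (by omega)
  (fun a => if a = (1, 0, 0) then 1 else if a = (1, 1, 0) then 1 else if a = (1, 2, 0) then 1 else if a = (2, 1, 0) then -1 else if a = (2, 1, 1) then -1 else if a = (2, 1, 2) then -1 else 0)
  (fun a => if a = (1, 0, 0) then (1, 0, 1) else if a = (1, 1, 0) then (1, 1, 1) else if a = (1, 2, 0) then (1, 2, 1) else if a = (2, 1, 0) then (2, 0, 0) else if a = (2, 1, 1) then (2, 0, 1) else if a = (2, 1, 2) then (2, 0, 2) else a)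
  (by decide +kernel) (fun v => by simp [cubicT, mat3, det_fin_three, trace, Matrix.mul_apply, Fin.sum_univ_three]; ring)

/-- the bracket -/
noncomputable def Br (r s k c n : ℕ) : Bool := ((sC r n).beq 0 && (sC s n).beq 0 && (c.beq 0 || (sC k n).beq 0)) ||
  ((co r s n).beq (co s r n) && (m3 c (sC k n)).beq 0 && ((co r s n).beq 0 || (uN s (uN r n)).beq (uN r (uN s n)))) ||
  ((co s r n).beq 0 && (co r s n).beq (m3 c (sC k n)) && (uN s (uN r n)).beq (uN k n)) ||
  ((co r s n).beq 0 && (co s r n).beq (m3 2 (m3 c (sC k n))) && (uN r (uN s n)).beq (uN k n))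

theorem br_eq {r s k c : ℕ} (h : ∀ n < 27, Br r s k c n = true) (hc : c < 3) (hr : r < 72) (hs : s < 72) :
    Em F s * Em F r = Em F r * Em F s - (zz c : F) • Em F k := by
  ext a b
  have : (if b = dc (uN r (uN s (enc a))) then zz (co s r (enc a)) else 0) = (if b = dc (uN s (uN r (enc a))) then
      zz (co r s (enc a)) else 0) - if b = dc (uN k (enc a)) then zz (m3 c (sC k (enc a))) else 0 := by
    have := h _ (enc_lt a)
    simp only [Br, Bool.or_eq_true, Bool.and_eq_true, Nat.beq_eq] at this
    rcases this with ((⟨⟨h1, h2⟩, h3 | h3⟩ | ⟨⟨h1, h2⟩, h3 | h3⟩) | ⟨⟨h1, h2⟩, h3⟩) | ⟨⟨h1, h2⟩, h3⟩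
    · simp [co, m3, h1, h2, h3, zz, show Nat.mod 0 3 = 0 from rfl]
    · simp [co, m3, h1, h2, h3, zz, show Nat.mod 0 3 = 0 from rfl]
    · simp [← h1, h2, h3, zz]
    · simp [← h1, h2, h3, zz]
    · simp [h1, h2, h3, zz]
    · rw [h1, h2, h3, zz_mul 2 (by omega) _ (m3_lt ..), show zz 2 = -1 from rfl, show zz 0 = 0 from rfl]; split_ifs <;> simp
  have := congrArg (Int.cast (R := F)) this
  rw [Matrix.sub_apply, EE hr, EE hs, Matrix.smul_apply, Em, of_apply, up, sg, smul_eq_mul, mul_ite, mul_zero]
  simpa only [Int.cast_sub, Int.cast_ite, Int.cast_zero, Int.cast_mul, zz_mul c hc _ (sC_lt ..)] using this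

/-- sum of two roots -/
noncomputable def kk (r s : ℕ) : ℕ := Nat.div (fld (getN rowsE6 r) 12 4095 s) 16
/-- structure constants -/
noncomputable def gg (r s : ℕ) : ℕ := Nat.mod (Nat.mod (fld (getN rowsE6 r) 12 4095 s) 16) 3

set_option synthInstance.maxSize 2000 in
theorem cT_chk : ∀ r < 72, ∀ s < 72, kk r s < 72 ∧ tabE6.cT r s = if gg r s = 0 then [] else [(kk r s, zz (gg r s), 1, 1)] := by
  decide +kernel
theorem br_chk : (allLt 72 fun r => allLt 72 fun s => s.beq (Nat.sub 71 r) || allLt 27 (Br r s (kk r s) (gg r s))) = true := by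
  decide +kernel
theorem z_chk : (allLt 72 fun r => allLt 72 fun s => (gg r s).beq 0 ||
    allLt 27 fun n => (co r (kk r s) n).beq 0 && (co s (kk r s) n).beq 0) = true := by decide +kernel

theorem cT_eq {r s : Rt chevE6} {L : List (Rt chevE6 × ℤ × ℕ × ℕ)}
    (h : tabE6.cT r s = L.map fun c => (c.1.val, c.2)) : cT r s = L := by
  rw [← tab_E6] at h
  exact List.map_injective_iff.2 (fun _ _ e => Prod.ext (Fin.ext (Prod.mk.inj e).1) (Prod.mk.inj e).2)
    ((commTerms_eq r s).symm.trans h)

theorem exists_φ : ∃ φ : chevE6.SteinbergCover F →* GL I27 F, ∀ r t, φ ((stC chevE6 F).x r t) = xx r t := by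
  refine exists_liftC (D := chevE6) (x := fun r t => xx r t) (fun r t u => Units.ext ?_) fun {r s} e1 e2 t u => Units.ext ?_
  · rw [Units.val_mul, xx_val r.2, xx_val r.2, xx_val r.2, one_add_mul (EE_zero r.2 (co_self _ r.2))]
  have h2 := br_chk
  have h3 := z_chk
  simp only [allLt_iff, Bool.or_eq_true, Bool.and_eq_true, Nat.beq_eq] at h2 h3
  replace h2 := br_eq (F := F) ((h2 r r.2 s s.2).resolve_left fun e => e2 (Fin.ext (e.trans (ng_val' r).symm)))
    (Nat.mod_lt _ (by omega)) r.2 s.2
  obtain ⟨hk, h1⟩ := cT_chk r r.2 s s.2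
  by_cases h : gg r s = 0
  · rw [cw, cT_eq (L := []) (h1.trans (if_pos h))]
    simp only [List.map_nil, List.prod_nil, Units.val_mul, xx_val r.2, xx_val s.2, add_mul, mul_add, one_mul, mul_one,
      smul_mul_assoc, mul_smul_comm, h2, h, zz, if_true, Int.cast_zero]
    module
  · replace h3 := (h3 r r.2 s s.2).resolve_left h
    rw [cw, cT_eq (L := [(⟨_, hk⟩, _, 1, 1)]) (h1.trans (if_neg h))]
    simp only [List.map_cons, List.map_nil, List.prod_cons, List.prod_nil, Units.val_mul, xx_val r.2, xx_val s.2, xx_val hk,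
      add_mul, mul_add, one_mul, mul_one, smul_mul_assoc, mul_smul_comm, h2, mul_assoc,
      EE_zero r.2 fun n h => (h3 n h).1, EE_zero s.2 fun n h => (h3 n h).2, mul_zero]
    module

theorem φ_mem {φ : chevE6.SteinbergCover F →* GL I27 F} (h : ∀ r t, φ ((stC chevE6 F).x r t) = xx r t)
    (g : chevE6.SteinbergCover F) : φ g ∈ E6univ F := by
  refine (stC chevE6 F).G_le_of_sim (M := (E6univ F).comap φ) (fun i t => ?_) (fun i t => ?_) (stC_G.ge (Subgroup.mem_top g)) <;>
    rw [Subgroup.mem_comap, h] <;> fin_cases i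
  exacts [inv56 t, inv46 t, inv42 t, inv39 t, inv37 t, inv36 t, inv15 t, inv25 t, inv29 t, inv32 t, inv34 t, inv35 t]

end CA.Cub27
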