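/-
Coordinates in the unipotent subgroup of a Chevalley group over an arbitrary field.
-/
import Cfsg.Agent.Lib.Lie.H12BT2
import Cfsg.Agent.Lib.Lie.ChevSL2

set_option autoImplicit false

namespace CA.H12BG1

open Equiv Cfsg.Lie CA.Chev CA.H12BT

variable {D : ChevalleyDatum} [Good D] {K : Type*} [Field K] {Γ : Type*} [Group Γ]

theorem rt_of_pre {a : ℕ → ℕ → ℤ} {d : ℕ → ℤ} (h : Pre D a d) (r : Rt D) (i : Nd D) : rt r i = a r i := by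
  refine congrFun (Cm_injective (a₁ := rt r) (a₂ := fun i => a r i) ?_) i
  change Matrix.mulVec _ _ = Matrix.mulVec _ _
  rw [← wt_eq]
  funext i
  rw [wt, h.wt_eq r r.2 i i.2]
  simp only [Matrix.mulVec, dotProduct]
  exact Finset.sum_congr rfl fun j _ => mul_comm _ _

theorem ht_of_pre {a : ℕ → ℕ → ℤ} {d : ℕ → ℤ} (h : Pre D a d) (r : Rt D) : ht r = sumLt D.rank (a r) := by
  rw [sumLt_eq]; exact Finset.sum_congr rfl fun i _ => rt_of_pre h r i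

theorem exists_ne (i : Nd D) : ∃ j : Nd D, j ≠ i := by
  have := (pre D).two_le
  by_cases e : i.val = 0
  · exact ⟨⟨1, by omega⟩, fun h => by have := congrArg Fin.val h; simp only at this; omega⟩
  · exact ⟨⟨0, by omega⟩, fun h => e (congrArg Fin.val h).symm⟩

theorem ht_cmb {r s k : Rt D} (h : Cmb r s k) : ∃ i j : ℤ, 1 ≤ i ∧ 1 ≤ j ∧ ht k = i * ht r + j * ht s := by
  obtain ⟨i, j, hi, hj, e⟩ := h.coord
  exact ⟨i, j, hi, hj, by simp only [ht, e, Finset.sum_add_distrib, Finset.mul_sum]⟩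

theorem ht_cmb_lt {r s k : Rt D} (hr : Pos r) (hs : Pos s) (h : Cmb r s k) : ht s < ht k := by
  obtain ⟨i, j, hi, hj, e⟩ := ht_cmb h
  have := hr.ht_pos
  have := hs.ht_pos
  nlinarith

theorem eq_sim_of_ht {r : Rt D} (h : ht r = 1) : ∃ i, r = sim i := by
  have hr : Pos r := (pos_iff_ht r).2 (by omega)
  obtain ⟨i, hi⟩ := hr.exists_coord
  refine ⟨i, hr.eq_sim_of_supp fun j hj => ?_⟩
  have := Finset.add_le_sum (s := Finset.univ) (f := rt r) (fun k _ => hr.rt_nonneg k) (Finset.mem_univ j)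
    (Finset.mem_univ i) hj
  have := hr.rt_nonneg j
  unfold ht at h
  omega

/-- positive roots of height at least `m` -/
def Lh (m : ℤ) : Set (Rt D) := {k | Pos k ∧ m ≤ ht k}

/-- the roots of height at least that of `γ`, except `γ` -/
def Tg (γ : Rt D) : Set (Rt D) := {k | (Pos k ∧ ht γ ≤ ht k) ∧ k ≠ γ}

theorem Lh_one : Lh 1 = {r : Rt D | Pos r} := Set.ext fun _ => ⟨fun h => h.1, fun h => ⟨h, h.ht_pos⟩⟩

theorem Tg_sim (i : Nd D) : Tg (sim i) = {r : Rt D | Pos r ∧ r ≠ sim i} :=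
  Set.ext fun _ => ⟨fun h => ⟨h.1.1, h.2⟩, fun h => ⟨⟨h.1, by rw [ht_sim]; exact h.1.ht_pos⟩, h.2⟩⟩

theorem ideal_L (m : ℤ) : ∀ a ∈ {a : Rt D | Pos a}, ∀ s ∈ Lh m, s ≠ ng a ∧ ∀ k, Cmb a s k → k ∈ Lh m :=
  fun a ha s hs => ⟨nil_pos.ne_ng ha hs.1, fun k hk => ⟨nil_pos.2 a ha s hs.1 k hk, hs.2.trans (ht_cmb_lt ha hs.1 hk).le⟩⟩

theorem ideal_T (γ : Rt D) : ∀ a ∈ {a : Rt D | Pos a}, ∀ s ∈ Tg γ, s ≠ ng a ∧ ∀ k, Cmb a s k → k ∈ Tg γ :=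
  fun a ha s hs => ⟨nil_pos.ne_ng ha hs.1.1, fun k hk => ⟨(ideal_L _ a ha s hs.1).2 k hk, fun e =>
    absurd (ht_cmb_lt ha hs.1.1 hk) (not_lt.2 (e ▸ hs.1.2))⟩⟩

theorem nil_L (m : ℤ) : Nil (Lh m : Set (Rt D)) := nil_pos.mono (fun _ h => h.1) fun a ha s hs => (ideal_L m a ha.1 s hs).2

theorem nil_T (γ : Rt D) : Nil (Tg γ) := nil_pos.mono (fun _ h => h.1.1) fun a ha s hs => (ideal_T γ a ha.1.1 s hs).2

theorem cmb_T {a γ k : Rt D} (ha : Pos a) (hγ : Pos γ) (h : Cmb a γ k) : k ∈ Tg γ :=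
  ⟨⟨nil_pos.2 a ha γ hγ k h, (ht_cmb_lt ha hγ h).le⟩, fun e => (ht_cmb_lt ha hγ h).ne (by rw [e])⟩

variable (A : Sys D K Γ)

theorem isP_X (p : ℕ) [hp : Fact p.Prime] [CharP K p] {S : Set (Rt D)} (hS : Nil S) : IsPGroup p (A.X S) := by
  rintro ⟨g, hg⟩
  obtain ⟨f, hf⟩ := hS.1
  obtain ⟨n, hn⟩ := (A.θ_str hf hg).isNilpotent
  refine ⟨n, Subtype.ext (A.θ_eq_one hS (pow_mem hg _) (Units.ext ?_))⟩
  have : Nonempty D.Idx := ⟨Sum.inl ⟨0, by have := (pre D).two_le; omega⟩⟩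
  rw [Subgroup.coe_pow, map_pow, Units.val_pow_eq_pow_val, Units.val_one, ← sub_add_cancel (A.θ g : Matrix D.Idx D.Idx K) 1,
    add_pow_char_pow_of_commute p n (Commute.one_right _), one_pow, pow_eq_zero_of_le (Nat.lt_pow_self hp.out.one_lt).le hn,
    zero_add]

theorem mem_U_of_pow (hθ : Function.Injective A.θ) (p : ℕ) [hp : Fact p.Prime] [CharP K p] {b : Γ} (hb : b ∈ A.B) {n : ℕ}
    (h : b ^ p ^ n = 1) : b ∈ A.U := by
  obtain ⟨u, hu, k, hk, rfl⟩ := A.mem_B.1 hb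
  have h1 : ∀ m : ℕ, (u * k) ^ m * (k ^ m)⁻¹ ∈ A.U := fun m => by
    induction m with
    | zero => simp
    | succ m ih =>
      convert mul_mem hu (A.H_conj_X hk ih) using 1
      rw [pow_succ', pow_succ']; group
  have h2 := A.U_inf_H (h1 (p ^ n)) (by rw [h, one_mul]; exact inv_mem (pow_mem hk _))
  rw [h, one_mul, inv_eq_one] at h2
  obtain ⟨χ, hχ⟩ := A.θ_H hk
  have h3 : χ ^ p ^ n = 1 := dgG_injective (by rw [map_pow, ← hχ, ← map_pow, h2, map_one, map_one])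
  have h4 : χ = 1 := by
    ext v
    have := DFunLike.congr_fun h3 v
    rw [AddChar.pow_apply, AddChar.one_apply] at this
    rw [AddChar.one_apply, ← sub_eq_zero]
    exact pow_eq_zero_iff (pow_ne_zero n hp.out.ne_zero) |>.1 (by rw [sub_pow_char_pow, this, one_pow, sub_self])
  rw [hθ (hχ.trans (by rw [h4, map_one, map_one]) : A.θ k = A.θ 1), mul_one]
  exact hu

theorem X_iInter {ι : Type*} [Finite ι] {T : ι → Set (Rt D)} (hT : ∀ i, Nil (T i)) (hp : ∀ i, ∀ r ∈ T i, Pos r) {g : Γ}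
    (hg : g ∈ A.U) (h : ∀ i, g ∈ A.X (T i)) : g ∈ A.X {r | Pos r ∧ ∀ i, r ∈ T i} := by
  classical
  cases nonempty_fintype ι
  have key : ∀ I : Finset ι, g ∈ A.X {r | Pos r ∧ ∀ i ∈ I, r ∈ T i} := fun I => by
    induction I using Finset.induction_on with
    | empty => simpa [Sys0.U] using hg
    | insert a I _ ih =>
      refine A.X_mono (fun r hr => ?_) ((A.X_inf (T := {r | Pos r ∧ ∀ i ∈ I, r ∈ T i}) nil_pos (nil_pos.mono (fun _ h => h.1) fun r hr s hs k hk =>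
        ⟨nil_pos.2 r hr.1 s hs.1 k hk, fun i hi => (hT i).2 r (hr.2 i hi) s (hs.2 i hi) k hk⟩) (hT a) (fun _ h => h.1)
        (hp a)).le (Subgroup.mem_inf.2 ⟨ih, h a⟩))
      exact ⟨hr.1.1, fun i hi => (Finset.mem_insert.1 hi).elim (fun e => e ▸ hr.2) (hr.1.2 i)⟩
  simpa using key Finset.univ

theorem L_le_U (m : ℤ) : A.X (Lh m) ≤ A.U := A.X_mono fun _ h => h.1
theorem T_le_L (γ : Rt D) : A.X (Tg γ) ≤ A.X (Lh (ht γ)) := A.X_mono fun _ h => h.1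
theorem L_mono {m n : ℤ} (h : m ≤ n) : A.X (Lh n) ≤ A.X (Lh m) := A.X_mono fun _ e => ⟨e.1, h.trans e.2⟩
theorem L_sim (i : Nd D) : A.X (Lh (ht (sim i))) = A.U := by rw [ht_sim, Lh_one]; rfl
theorem x_mem_L {γ : Rt D} (hγ : Pos γ) {m : ℤ} (h : m ≤ ht γ) (t : K) : A.x γ t ∈ A.X (Lh m) := A.x_mem (S := Lh m) ⟨hγ, h⟩ t

open Classical in
/-- the coordinate at the root `γ` of an element of the corresponding layer -/
noncomputable def cf (γ : Rt D) (g : Γ) : K := if h : ∃ t, (A.x γ t)⁻¹ * g ∈ A.X (Tg γ) then h.choose else 0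

variable {A} {γ : Rt D}

theorem cf_eq (hγ : Pos γ) {g : Γ} {t : K} (h : (A.x γ t)⁻¹ * g ∈ A.X (Tg γ)) : cf A γ g = t := by
  have h0 : ∃ t, (A.x γ t)⁻¹ * g ∈ A.X (Tg γ) := ⟨t, h⟩
  rw [cf, dif_pos h0]
  have h1 := mul_mem h (inv_mem h0.choose_spec)
  rw [show ∀ a b : Γ, a⁻¹ * g * (b⁻¹ * g)⁻¹ = a⁻¹ * b by intros; group, ← A.x_neg, ← A.add] at h1
  by_contra hn
  exact (A.x_mem_X_iff nil_pos (nil_T γ) (fun _ h => h.1.1) hγ (fun e => hn (by linear_combination e)) h1).2 rfl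

theorem cf_spec (hγ : Pos γ) {g : Γ} (hg : g ∈ A.X (Lh (ht γ))) : (A.x γ (cf A γ g))⁻¹ * g ∈ A.X (Tg γ) := by
  obtain ⟨t, ht⟩ := A.mem_X_insert (T := Tg γ) (ideal_T γ γ hγ) (A.X_mono (fun r hr => by
    by_cases e : r = γ
    · exact Or.inl e
    · exact Or.inr ⟨hr, e⟩) hg)
  rwa [cf_eq hγ ht]

theorem cf_of_mem (hγ : Pos γ) {g : Γ} (hg : g ∈ A.X (Tg γ)) : cf A γ g = 0 := cf_eq hγ (by simpa using hg)

theorem mem_T (hγ : Pos γ) {g : Γ} (hg : g ∈ A.X (Lh (ht γ))) (h : cf A γ g = 0) : g ∈ A.X (Tg γ) := by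
  simpa [h] using cf_spec hγ hg

theorem cf_x (hγ : Pos γ) (t : K) : cf A γ (A.x γ t) = t := cf_eq hγ (by simp)

theorem cf_x_ne (hγ : Pos γ) {r : Rt D} (hr : Pos r) (h : ht γ ≤ ht r) (h' : r ≠ γ) (t : K) : cf A γ (A.x r t) = 0 :=
  cf_of_mem hγ (A.x_mem (S := Tg γ) ⟨⟨hr, h⟩, h'⟩ t)

theorem cf_mul (hγ : Pos γ) {g g' : Γ} (hg : g ∈ A.X (Lh (ht γ))) (hg' : g' ∈ A.X (Lh (ht γ))) :
    cf A γ (g * g') = cf A γ g + cf A γ g' := by
  refine cf_eq hγ ?_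
  convert mul_mem (A.conj_mem' (ideal_T γ) (A.x_mem hγ (cf A γ g')) (cf_spec hγ hg)) (cf_spec hγ hg') using 1
  rw [A.add]; group

theorem cf_inv (hγ : Pos γ) {g : Γ} (hg : g ∈ A.X (Lh (ht γ))) : cf A γ g⁻¹ = -cf A γ g := by
  have := cf_mul hγ hg (inv_mem hg)
  rw [mul_inv_cancel, cf_of_mem hγ (one_mem _)] at this
  linear_combination -this

theorem cf_conj (hγ : Pos γ) {g u : Γ} (hg : g ∈ A.X (Lh (ht γ))) (hu : u ∈ A.U) : cf A γ (u * g * u⁻¹) = cf A γ g := by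
  refine cf_eq hγ ?_
  convert mul_mem (A.central_mod (ideal_T γ) (r := γ) (fun s hs => ⟨nil_pos.ne_ng hs hγ, fun k hk => cmb_T hs hγ hk⟩)
    (cf A γ g) (inv_mem hu)) (A.conj_mem (ideal_T γ) hu _ (cf_spec hγ hg)) using 1
  group

theorem cf_act {δ : Rt D} (hδ : Pos δ) {n : Γ} {w : Perm (Rt D)} (h : A.Act n w) {c : K}
    (hc : ∀ u, n * A.x γ u * n⁻¹ = A.x δ (c * u)) {g : Γ} {S : Set (Rt D)} (hS : ∀ r ∈ S, w r ∈ Tg δ)
    (hg : (A.x γ (cf A γ g))⁻¹ * g ∈ A.X S) : cf A δ (n * g * n⁻¹) = c * cf A γ g := by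
  refine cf_eq hδ ?_
  convert h.conj_X hS hg using 1
  rw [← hc]; group

theorem cf_H (hγ : Pos γ) {k g : Γ} (hk : k ∈ A.H) {c : K} (hc : ∀ u, k * A.x γ u * k⁻¹ = A.x γ (c * u))
    (hg : g ∈ A.X (Lh (ht γ))) : cf A γ (k * g * k⁻¹) = c * cf A γ g :=
  cf_act hγ (A.act_H hk) hc (fun _ h => h) (cf_spec hγ hg)

theorem cf_σ (τ : Twist A) (hh : ∀ r, ht (τ.ρ r) = ht r) (hγ : Pos γ) {g : Γ} (hg : g ∈ A.X (Lh (ht γ))) :
    cf A (τ.ρ γ) (τ.σ g) = τ.T.f γ (cf A γ g) := by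
  refine cf_eq (γ := τ.ρ γ) ((τ.pos γ).2 hγ) ?_
  rw [← τ.σ_x, ← map_inv, ← map_mul]
  exact τ.is.mem_X (S' := Tg (τ.ρ γ)) (fun r hr => ⟨⟨(τ.pos r).2 hr.1.1, by rw [hh]; exact hr.1.2.trans_eq (hh r).symm⟩,
    fun e => hr.2 (τ.ρ.injective e)⟩) (cf_spec hγ hg)

theorem mem_L_succ {m : ℤ} {g : Γ} (hg : g ∈ A.X (Lh m)) (h : ∀ γ, Pos γ → ht γ = m → cf A γ g = 0) :
    g ∈ A.X (Lh (m + 1)) := by
  refine A.X_mono (T := Lh (m + 1)) (fun r hr => ⟨hr.1, ?_⟩) (X_iInter A (ι := Option {γ : Rt D // Pos γ ∧ ht γ = m})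
    (T := fun o => o.elim (Lh m) fun γ => Tg γ.1) ?_ ?_ (L_le_U A m hg) ?_)
  · exact lt_of_le_of_ne (hr.2 none).2 fun e => (hr.2 (some ⟨r, hr.1, e.symm⟩)).2 rfl
  · rintro (_ | γ)
    exacts [nil_L m, nil_T _]
  · rintro (_ | γ) r hr
    exacts [hr.1, hr.1.1]
  · rintro (_ | γ)
    exacts [hg, mem_T γ.2.1 (γ.2.2.symm ▸ hg) (h _ γ.2.1 γ.2.2)]

theorem mem_L_two {g : Γ} (hg : g ∈ A.U) (h : ∀ i, cf A (sim i) g = 0) : g ∈ A.X (Lh 2) :=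
  mem_L_succ (m := 1) (Lh_one (D := D) ▸ hg) fun γ _ e => by obtain ⟨i, rfl⟩ := eq_sim_of_ht e; exact h i

theorem eq_one_of_L {g : Γ} (h : ∀ m : ℕ, g ∈ A.X (Lh m)) : g = 1 := by
  obtain ⟨m, hm⟩ := (Set.finite_range (ht (D := D))).bddAbove
  have := A.X_mono (T := ∅) (fun r hr => by have := hm ⟨r, rfl⟩; have := hr.2; omega) (h (m.toNat + 1))
  rwa [A.X_empty] at this

theorem co_spec (i : Nd D) {g : Γ} (hg : g ∈ A.U) :
    (A.x (sim i) (cf A (sim i) g))⁻¹ * g ∈ A.X {r | Pos r ∧ r ≠ sim i} := Tg_sim i ▸ cf_spec (pos_sim i) (L_sim A i ▸ hg)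

theorem co_mul (i : Nd D) {g g' : Γ} (hg : g ∈ A.U) (hg' : g' ∈ A.U) :
    cf A (sim i) (g * g') = cf A (sim i) g + cf A (sim i) g' := cf_mul (pos_sim i) (L_sim A i ▸ hg) (L_sim A i ▸ hg')

theorem co_inv (i : Nd D) {g : Γ} (hg : g ∈ A.U) : cf A (sim i) g⁻¹ = -cf A (sim i) g := cf_inv (pos_sim i) (L_sim A i ▸ hg)

theorem co_conj (i : Nd D) {g u : Γ} (hg : g ∈ A.U) (hu : u ∈ A.U) : cf A (sim i) (u * g * u⁻¹) = cf A (sim i) g :=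
  cf_conj (pos_sim i) (L_sim A i ▸ hg) hu

theorem co_of_mem {i : Nd D} {g : Γ} (hg : g ∈ A.X {r | Pos r ∧ r ≠ sim i}) : cf A (sim i) g = 0 :=
  cf_of_mem (pos_sim i) (Tg_sim i ▸ hg)

theorem co_x_ne {i : Nd D} {r : Rt D} (hr : Pos r) (h : r ≠ sim i) (t : K) : cf A (sim i) (A.x r t) = 0 :=
  co_of_mem (A.x_mem_Up hr h t)

theorem mem_B_of_conj {g : Γ} (hg : g ∈ A.G) (hc : ∀ i, ∃ y ∈ A.U, cf A (sim i) y ≠ 0 ∧ g * y * g⁻¹ ∈ A.U) : g ∈ A.B := by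
  obtain ⟨b, hb, m, hm, w, hw, u, hu, rfl⟩ := A.bruhat_canon hg
  have hU : u ∈ A.U := A.X_mono (fun _ hr => (mem_invs.1 hr).1) hu
  obtain rfl : w = 1 := eq_one_of_pos hw.1 fun i => by
    by_contra hn
    obtain ⟨y, hy, h0, h1⟩ := hc i
    have h2 := hw.conj_X' (T := w ⁻¹' {r | Pos r}) (fun s hs => by simpa using hs) (A.B_conj_U (inv_mem hb) h1)
    rw [show m⁻¹ * (b⁻¹ * (b * m * u * y * (b * m * u)⁻¹) * b⁻¹⁻¹) * m = u * y * u⁻¹ by group] at h2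
    have h3 := X_inf' A nil_pos (nil_pos.comap hw.ra) (fun _ h => h) hw.1 (fun _ h => h)
      (A.B_conj_U (A.U_le_B hU) hy) h2
    exact h0 (by rw [← co_conj i hy hU, co_of_mem (A.X_mono (T := {r | Pos r ∧ r ≠ sim i}) (fun r hr => ⟨hr.1, fun e => hn (e ▸ hr.2)⟩) h3)])
  exact mul_mem (mul_mem hb (A.H_le_B (A.mem_H_of_act hm hw))) (A.U_le_B hU)

theorem comm_of_not_cmb {r s : Rt D} (h2 : s ≠ ng r) (h : ∀ k, ¬ Cmb r s k) (t u : K) :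
    A.x r t * A.x s u * (A.x r t)⁻¹ = A.x s u := by
  have := A.central_mod (S := {r}) (T := ∅) (fun _ _ _ h => h.elim) (r := s) (by
    rintro _ rfl; exact ⟨h2, fun k hk => h k hk⟩) u (inv_mem (A.x_mem (Set.mem_singleton r) t))
  rw [A.X_empty, Subgroup.mem_bot, inv_mul_eq_one, inv_inv] at this
  exact this.symm

theorem n_conj_Up (i : Nd D) {y : Γ} (hy : y ∈ A.X {r | Pos r ∧ r ≠ sim i}) :
    A.n (sim i) 1 * y * (A.n (sim i) 1)⁻¹ ∈ A.U := (A.act_sim i 1).conj_X (fun _ h => h.1.sR_pos h.2) hy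

theorem U_conj_Up (i : Nd D) {u y : Γ} (hu : u ∈ A.U) (hy : y ∈ A.X {r | Pos r ∧ r ≠ sim i}) :
    u * y * u⁻¹ ∈ A.X {r | Pos r ∧ r ≠ sim i} := A.conj_mem (fun r hr => nil_Up i r (Or.inl hr)) hu _ hy

/-- the highest term of a root string -/
theorem co_string {i j : Nd D} {k : ℕ} (hk : wt (sim j) i = -k) (h1 : 1 ≤ k) : ∃ ε : K, (ε = 1 ∨ ε = -1) ∧ ∀ a t,
    cf A (sim j) (A.n (sim i) 1 * (A.x (sim i) a * A.x (sim j) t * (A.x (sim i) a)⁻¹) * (A.n (sim i) 1)⁻¹) =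
      ε * a ^ k * t := by
  have hij : j ≠ i := fun e => by rw [e, wt_sim_self] at hk; omega
  have hs : Pos (sR i (sim j)) := (pos_sim j).sR_pos (sim_inj.not.2 hij)
  refine ⟨et (sim i) (sR i (sim j)) * et (ng (sim i)) (sim j) * (-1) ^ k, ?_, fun a t => ?_⟩
  · rcases et_pm (sim i) (sR i (sim j)) with a | a <;> rcases et_pm (ng (sim i)) (sim j) with b | b <;>
      rcases neg_one_pow_eq_or K k with c | c <;> simp [a, b, c]
  by_cases ha : a = 0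
  · rw [ha, zero_pow (by omega), mul_zero, zero_mul, A.x_zero, one_mul, inv_one, mul_one, A.n_conj, refl_sim]
    refine co_x_ne hs (fun e => ?_) _
    have := ht_sR i (sim j)
    rw [e, hk] at this
    omega
  have e1 := A.x_ng_eq (ng (sim i)) (Units.mk0 a ha)
  rw [ng_ng, Units.val_mk0] at e1
  have e2 := comm_of_not_cmb (A := A) (r := ng (sim i)) (s := sim j) (by simpa using hij) (fun k hk => by
    obtain ⟨b, c, hb, hc, e⟩ := hk.coord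
    have a1 := e i
    have a2 := e j
    simp only [rt_ng, rt_sim, Pi.neg_apply, Pi.single_eq_same, Pi.single_eq_of_ne hij, Pi.single_eq_of_ne hij.symm] at a1 a2
    exact not_pos_of_coord (r := k) (i := i) (by omega) (pos_of_coord (i := j) (by omega))) ((Units.mk0 a ha)⁻¹ : Kˣ) t
  obtain ⟨c, hc⟩ := (A.act_sim i 1).conj_x (ng (sim i))
  rw [e1, show ∀ n y m z : Γ, n * (y * m * y * z * (y * m * y)⁻¹) * n⁻¹ =
    n * y * n⁻¹ * (n * (m * (y * z * y⁻¹) * m⁻¹) * n⁻¹) * (n * y * n⁻¹)⁻¹ by intros; group, e2, hc, A.n_conj, A.n_conj,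
    refl_ng, refl_sim, sR_sR, sR_ng_sim, co_conj j (A.x_mem (pos_sim j) _) (A.x_mem (pos_sim i) _), cf_x (pos_sim j),
    pr_ng_left, pr_sim_left, pr_sim_left, hk]
  simp [← inv_pow, inv_neg, neg_pow a, mul_assoc]

theorem co_transfer (i j : Nd D) {u y : Γ} (hu : u ∈ A.U) (hy : y ∈ A.X {r | Pos r ∧ r ≠ sim i}) :
    cf A (sim j) (A.n (sim i) 1 * (u * y * u⁻¹) * (A.n (sim i) 1)⁻¹) = cf A (sim j) (A.n (sim i) 1 *
      (A.x (sim i) (cf A (sim i) u) * y * (A.x (sim i) (cf A (sim i) u))⁻¹) * (A.n (sim i) 1)⁻¹) := by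
  have hx := A.x_mem (S := {r | Pos r}) (pos_sim i) (cf A (sim i) u)
  rw [← co_conj j (n_conj_Up i (U_conj_Up i hx hy)) (n_conj_Up i (U_conj_Up i hx (co_spec i hu)))]
  congr 1
  group

theorem comm_mem_L {β : Rt D} (hβ : Pos β) {s : Γ} (hs : s ∈ A.U) (t : K) :
    s * A.x β t * s⁻¹ * (A.x β t)⁻¹ ∈ A.X (Lh (ht β + 1)) := by
  have := A.central_mod (ideal_L (ht β + 1)) (r := β) (fun a ha => ⟨nil_pos.ne_ng ha hβ, fun k hk =>
    ⟨nil_pos.2 a ha β hβ k hk, ht_cmb_lt ha hβ hk⟩⟩) t (inv_mem hs)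
  convert A.conj_mem (ideal_L _) (A.x_mem hβ t) _ this using 1
  group

theorem cmb_eq {s β : Rt D} (hs : Pos s) (hβ : Pos β) (h : Cmb s β γ) (e : ht γ = ht β + 1) : rt γ = rt s + rt β := by
  obtain ⟨i, j, hi, hj, e'⟩ := h.coord
  have h1 : ht γ = i * ht s + j * ht β := by simp only [ht, e', Finset.sum_add_distrib, Finset.mul_sum]
  have := hs.ht_pos
  have := hβ.ht_pos
  obtain rfl : j = 1 := by nlinarith
  obtain rfl : i = 1 := by nlinarith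
  funext a
  simp [e']

theorem comm_mem_T {β : Rt D} (hβ : Pos β) (e : ht γ = ht β + 1) {S : Set (Rt D)} (hS : ∀ r ∈ S, Pos r ∧ rt γ ≠ rt r + rt β)
    {s : Γ} (hs : s ∈ A.X S) (t : K) : s * A.x β t * s⁻¹ * (A.x β t)⁻¹ ∈ A.X (Tg γ) := by
  have := A.central_mod (fun r hr => ideal_T γ r (hS r hr).1) (r := β) (fun a ha => ⟨nil_pos.ne_ng (hS a ha).1 hβ,
    fun k hk => ⟨⟨nil_pos.2 a (hS a ha).1 β hβ k hk, e.trans_le (ht_cmb_lt (hS a ha).1 hβ hk)⟩,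
      fun e' => (hS a ha).2 (cmb_eq (hS a ha).1 hβ (e' ▸ hk) e)⟩⟩) t (inv_mem hs)
  convert A.conj_mem (ideal_T _) (A.x_mem hβ t) _ this using 1
  group

/-- the lowest term of a commutator -/
theorem cf_comm {β : Rt D} (hβ : Pos β) {i : Nd D} {C : ℤ} {L : List (Rt D × ℤ × ℕ × ℕ)}
    (h : cT (sim i) β = (γ, C, 1, 1) :: L) (hL : ∀ c ∈ L, c.1 ≠ γ) {s : Γ} (hs : s ∈ A.U) (t : K) :
    Pos γ ∧ ht γ = ht β + 1 ∧ cf A γ (s * A.x β t * s⁻¹ * (A.x β t)⁻¹) = C * cf A (sim i) s * t := by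
  have c0 := cmb_of_mem (h ▸ List.mem_cons_self : (γ, C, 1, 1) ∈ cT (sim i) β)
  have hγ : Pos γ := nil_pos.2 _ (pos_sim i) _ hβ _ c0
  have e0 := (cT_spec (h ▸ List.mem_cons_self : (γ, C, 1, 1) ∈ cT (sim i) β)).1
  simp only [Nat.cast_one, one_smul] at e0
  have e : ht γ = ht β + 1 := by rw [← ht_sim i]; simp only [ht, e0, Pi.add_apply, Finset.sum_add_distrib, add_comm]
  refine ⟨hγ, e, ?_⟩
  set a := cf A (sim i) s
  have hx := A.x_mem (S := {r | Pos r}) (pos_sim i) a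
  have h1 := A.conj_mem (ideal_T γ) hx _ (comm_mem_T hβ e (fun r hr => ⟨hr.1, fun e' => hr.2 (rt_injective
    (add_right_cancel (e'.symm.trans e0)))⟩) (co_spec i hs) t)
  have h2 := A.conj_eq (r := sim i) (s := β) (fun e => not_cmb_self _ _ (e ▸ c0)) (nil_pos.ne_ng (pos_sim i) hβ) (-a) t
  rw [A.x_neg, inv_inv, cw, h, List.map_cons, List.prod_cons] at h2
  have h3 : (L.map fun c => A.x c.1 (c.2.1 * (- -a) ^ c.2.2.1 * t ^ c.2.2.2)).prod ∈ A.X (Tg γ) :=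
    list_prod_mem fun y hy => by
      obtain ⟨c, hc, rfl⟩ := List.mem_map.1 hy
      have := cmb_of_mem (h ▸ List.mem_cons_of_mem _ hc : c ∈ cT (sim i) β)
      exact A.x_mem (S := Tg γ) ⟨⟨nil_pos.2 _ (pos_sim i) _ hβ _ this, e.trans_le (ht_cmb_lt (pos_sim i) hβ this)⟩, hL c hc⟩ _
  have h4 := mul_mem (x_mem_L A hγ le_rfl (C * (- -a) ^ 1 * t ^ 1)) (T_le_L A γ h3)
  have h5 := A.conj_mem (ideal_L _) (A.x_mem hβ t) _ h4
  rw [show s * A.x β t * s⁻¹ * (A.x β t)⁻¹ = A.x (sim i) a * ((A.x (sim i) a)⁻¹ * s * A.x β t * ((A.x (sim i) a)⁻¹ * s)⁻¹ *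
    (A.x β t)⁻¹) * (A.x (sim i) a)⁻¹ * (A.x (sim i) a * A.x β t * (A.x (sim i) a)⁻¹ * (A.x β t)⁻¹) by group, h2,
    cf_mul hγ (T_le_L A γ h1) h5, cf_of_mem hγ h1, cf_conj hγ h4 (A.x_mem hβ t), cf_mul hγ (x_mem_L A hγ le_rfl _)
      (T_le_L A γ h3), cf_x hγ, cf_of_mem hγ h3]
  ring

end CA.H12BG1
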