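/-
Canonical Borel–Tits parabolics; finite overgroups of the rational points: the parabolic intersections are rational.
-/
import Cfsg.Agent.Lib.Lie.H12BG1

set_option autoImplicit false

namespace CA.H12BG2

open Equiv Cfsg.Lie CA.Chev CA.H12BT CA.H12BT2 CA.H12BG1

variable {D : ChevalleyDatum} [Good D] {K : Type*} [Field K] {Γ : Type*} [Group Γ] {A : Sys D K Γ}

theorem opt_unique {X : Set Γ} {l l' : Nd D → ℝ} (hl : ∀ i, 0 ≤ l i) (hl' : ∀ i, 0 ≤ l' i) {g g' : Γ} (hg : g ∈ A.G)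
    (hg' : g' ∈ A.G) (h1 : ∀ x ∈ X, g * x * g⁻¹ ∈ A.X (Sl l)) (h1' : ∀ x ∈ X, g' * x * g'⁻¹ ∈ A.X (Sl l'))
    (hm : ∀ k, (∃ g ∈ A.G, ∀ x ∈ X, g * x * g⁻¹ ∈ A.X (Sl k)) → Q l ≤ Q k) (hQ : Q l' = Q l) :
    l' = l ∧ g' * g⁻¹ ∈ A.PJ {i | l i = 0} := by
  obtain ⟨b, hb, m, hm', b', hb', e⟩ := A.bruhat (mul_mem hg' (inv_mem hg))
  obtain ⟨w, hw⟩ := A.exists_act hm'
  have h2 := hm (fun i => (l i + ac w l' i) / 2) ⟨b' * g, mul_mem (A.B_le_G hb') hg, fun x hx => by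
    have a1 := B_conj_X A (Sl_ideal hl) hb' (h1 x hx)
    have a2 := hw.conj_X' (T := w ⁻¹' Sl l') (fun s hs => by simpa using hs)
      (B_conj_X A (Sl_ideal hl') (inv_mem hb) (h1' x hx))
    rw [show m⁻¹ * (b⁻¹ * (g' * x * g'⁻¹) * b⁻¹⁻¹) * m = b' * (g * x * g⁻¹) * b'⁻¹ by
      rw [show g' = b * m * b' * g by rw [← e]; group]; group] at a2
    convert A.X_mono (fun r hr => ?_) (X_inf' A (nil_Sl hl) ((nil_Sl hl').comap hw.ra) (Sl_pos hl) hw.1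
      (fun r hr => Sl_pos hl' _ hr) a1 a2) using 1
    · group
    · have b1 : 1 ≤ vl l r := hr.1
      have b2 : 1 ≤ vl l' (w r) := hr.2
      rw [← vl_ac hw.1] at b2
      change 1 ≤ vl _ r
      simp only [vl, add_div, mul_add, Finset.sum_add_distrib, ← mul_div_assoc, ← Finset.sum_div] at b1 b2 ⊢
      linarith⟩
  have h3 : ∑ r, (vl l r - vl l' (w r)) ^ 2 = 0 := by
    have a1 := Q_ac hw.1 l'
    have a2 : ∀ r, vl (fun i => (l i + ac w l' i) / 2) r = (vl l r + vl l' (w r)) / 2 := fun r => by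
      rw [← vl_ac hw.1]
      simp only [vl, add_div, mul_add, Finset.sum_add_distrib, ← mul_div_assoc, ← Finset.sum_div]
    have a3 : ∑ r, (vl l r - vl l' (w r)) ^ 2 = 2 * Q l + 2 * Q (ac w l') - 4 * Q fun i => (l i + ac w l' i) / 2 := by
      simp only [Q, a2, vl_ac hw.1, Finset.mul_sum, ← Finset.sum_add_distrib, ← Finset.sum_sub_distrib]
      exact Finset.sum_congr rfl fun r _ => by ring
    exact le_antisymm (by linarith) (Finset.sum_nonneg fun _ _ => sq_nonneg _)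
  rw [Finset.sum_eq_zero_iff_of_nonneg fun _ _ => sq_nonneg _] at h3
  have h4 : ∀ r, vl l r = vl l' (w r) := fun r =>
    sub_eq_zero.1 (pow_eq_zero_iff two_ne_zero |>.1 (h3 r (Finset.mem_univ _)))
  have h5 : w ∈ WJ {i | l i = 0} := mem_WJ_of hw.1 fun r hr hr' => pos_of_vl hl' (h4 r ▸ vl_pos hl hr hr')
  refine ⟨funext fun i => ?_, e ▸ mul_mem (mul_mem (A.B_le_PJ _ hb) (A.mem_PJ_of_act hm' hw h5)) (A.B_le_PJ _ hb')⟩
  rw [← vl_sim l', ← papply_inv w (sim i), ← h4, ← vl_sim l i]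
  refine Finset.sum_congr rfl fun j _ => ?_
  by_cases e : l j = 0
  · rw [e, mul_zero, mul_zero]
  · rw [rt_WJ (inv_mem h5) _ e]

/-- twists acting linearly on the roots -/
def Lin (τ : Twist A) : Prop := ∀ r i, rt (τ.ρ r) (τ.ν i) = rt r i

theorem Lin.ht {τ : Twist A} (h : Lin τ) (r : Rt D) : ht (τ.ρ r) = ht r := by
  rw [CA.Chev.ht, ← Equiv.sum_comp τ.ν]; exact Finset.sum_congr rfl fun i _ => h r i

/-- **Borel–Tits**, canonical form -/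
theorem btc {X : Set Γ} (hX : X ⊆ A.U) (hne : ∃ x ∈ X, x ≠ 1) :
    ∃ g ∈ A.G, ∃ J : Set (Nd D), J ≠ Set.univ ∧ (∀ y ∈ A.G, (∀ x ∈ X, y * x * y⁻¹ ∈ X) → g * y * g⁻¹ ∈ A.PJ J) ∧
      ∀ τ : Twist A, Lin τ → X ⊆ τ.F → (∀ j ∈ J, τ.ν j ∈ J) ∧ τ.σ g * g⁻¹ ∈ A.PJ J := by
  let F : Set (Nd D → ℝ) := {l | ∃ g ∈ A.G, ∀ x ∈ X, g * x * g⁻¹ ∈ A.X (Sl l)}
  have hF : IsClosed F := by
    have : F = ⋃ S : {S // ∃ g ∈ A.G, ∀ x ∈ X, g * x * g⁻¹ ∈ A.X S}, ⋂ r ∈ S.1, {l | 1 ≤ vl l r} := by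
      ext l
      simp only [Set.mem_iUnion, Set.mem_iInter]
      exact ⟨fun h => ⟨⟨_, h⟩, fun r hr => hr⟩, fun ⟨⟨S, g, hg, h⟩, h'⟩ => ⟨g, hg, fun x hx => A.X_mono h' (h x hx)⟩⟩
    rw [this]
    exact isClosed_iUnion_of_finite fun S => isClosed_biInter fun r _ => isClosed_le continuous_const (continuous_vl r)
  obtain ⟨l₀, ⟨g₀, hg₀, h₀⟩, hm⟩ := exists_min hF (l₀ := fun _ => 1) ⟨1, one_mem _, fun x hx => by
    rw [one_mul, inv_one, mul_one]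
    refine A.X_mono (fun r hr => ?_) (hX hx)
    have := Pos.ht_pos hr
    change 1 ≤ vl _ r
    simp only [vl, mul_one, ← Int.cast_sum]
    exact_mod_cast this⟩
  obtain ⟨w₀, hw₀, hl⟩ := exists_dom l₀
  obtain ⟨m₀, hm₀, ha₀⟩ := A.exists_N hw₀
  rw [← Q_ac hw₀] at hm
  have h1 : ∀ x ∈ X, m₀⁻¹ * g₀ * x * (m₀⁻¹ * g₀)⁻¹ ∈ A.X (Sl (ac w₀ l₀)) := fun x hx => by
    convert ha₀.conj_X' (T := Sl (ac w₀ l₀)) (fun s hs => by
      change 1 ≤ vl (ac w₀ l₀) (w₀⁻¹ s); rwa [vl_ac hw₀, papply_inv]) (h₀ x hx) using 1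
    group
  have hg := mul_mem (inv_mem (A.N_le_G hm₀)) hg₀
  generalize m₀⁻¹ * g₀ = g at h1 hg
  generalize ac w₀ l₀ = l at h1 hl hm
  refine ⟨g, hg, {i | l i = 0}, fun e => ?_, fun y hy h => (opt_unique hl hl hg (mul_mem hg hy) h1 (fun x hx => by
    simpa [mul_assoc] using h1 _ (h x hx)) hm rfl).2, fun τ hτ h => ?_⟩
  · obtain ⟨x, hx, hx1⟩ := hne
    have := A.X_mono (T := ∅) (fun r hr => ?_) (h1 x hx)
    · rw [A.X_empty, Subgroup.mem_bot] at this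
      exact hx1 (by simpa using this)
    · have h2 : 1 ≤ vl l r := hr
      have : ∀ i, l i = 0 := fun i => (e.ge trivial : i ∈ {i | l i = 0})
      simp only [vl, this, mul_zero, Finset.sum_const_zero] at h2
      linarith
  have a1 : ∀ r, vl (fun i => l (τ.ν⁻¹ i)) (τ.ρ r) = vl l r := fun r => by
    rw [vl, ← Equiv.sum_comp τ.ν]; exact Finset.sum_congr rfl fun i _ => by rw [hτ, pinv_apply]
  obtain ⟨a2, a3⟩ := opt_unique (l' := fun i => l (τ.ν⁻¹ i)) hl (fun _ => hl _) hg (τ.is.mem_G hg) h1 (fun x hx => by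
    rw [← τ.mem_F.1 (h hx), ← map_inv, ← map_mul, ← map_mul]
    exact τ.is.mem_X (fun r hr => show 1 ≤ vl _ (τ.ρ r) by rwa [a1]) (h1 x hx)) hm (by
    rw [Q, ← Equiv.sum_comp τ.ρ]; exact Finset.sum_congr rfl fun r _ => by rw [a1])
  exact ⟨fun j hj => show l _ = 0 by rw [← congrFun a2, pinv_apply]; exact hj, a3⟩

theorem σ_PJ (τ : Twist A) {J : Set (Nd D)} (hJ : ∀ j ∈ J, τ.ν j ∈ J) {y : Γ} (hy : y ∈ A.PJ J) : τ.σ y ∈ A.PJ J := by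
  obtain ⟨a, ha, m, hm, w, hw, hw', b, hb, rfl⟩ := mem_LJ_mul A hy
  rw [map_mul, map_mul]
  exact mul_mem (mul_mem (A.B_le_PJ J (A.U_le_B (τ.is.mem_U τ.pos (A.X_mono (fun _ h => h.1) ha))))
    (A.mem_PJ_of_act (τ.is.mem_N hm) (τ.act hm hw') (τ.dsym.conj_WJ hJ hw))) (A.B_le_PJ J (τ.is.mem_B τ.pos hb))

/-- canonical representatives of the cosets of a parabolic subgroup -/
theorem exists_rep (J : Set (Nd D)) {g : Γ} (hg : g ∈ A.G) : ∃ u ∈ A.U, ∃ n ∈ A.N, ∃ z, A.Act n z ∧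
    g⁻¹ * (u⁻¹ * n) ∈ A.PJ J ∧ ∀ τ : Twist A, (∀ j ∈ J, τ.ν j ∈ J) → g⁻¹ * τ.σ g ∈ A.PJ J → z ∈ W1 τ.ρ ∧ τ.σ u = u := by
  obtain ⟨b, hb, m, hm, b', hb', rfl⟩ := A.bruhat hg
  obtain ⟨w, hw⟩ := A.exists_act hm
  obtain ⟨v, hv, hp⟩ := H12BT2.exists_min_rep J hw.ra
  obtain ⟨m', hm', hv'⟩ := A.exists_N (WJ_le J hv)
  have ha := hw.mul hv'
  have hn := mul_mem hm hm'
  obtain ⟨c, hc, u, hu, e⟩ := A.exists_canon (one_mem _) (inv_mem hb) (inv_mem hn) ha.inv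
  have hq : (b * m * b')⁻¹ * (u⁻¹ * (m * m')) ∈ A.PJ J := by
    rw [show u⁻¹ * (m * m') = (1 * (m * m')⁻¹ * b⁻¹)⁻¹ * c by rw [e]; group]
    simpa [mul_assoc] using mul_mem (mul_mem (inv_mem (A.B_le_PJ J hb')) (A.mem_PJ_of_act hm' hv' hv)) (A.B_le_PJ J hc)
  generalize m * m' = n at ha hn hq
  generalize w * v = z at ha hp hu
  generalize b * m * b' = g at hq
  have hU := A.X_mono (T := {r | Pos r}) (fun _ h => (mem_invs.1 h).1) hu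
  refine ⟨u, hU, n, hn, z, ha, hq, fun τ hJ h0 => ?_⟩
  have S := τ.dsym
  have h1 : (u⁻¹ * n)⁻¹ * τ.σ (u⁻¹ * n) ∈ A.PJ J := by
    simpa [mul_assoc] using mul_mem (mul_mem (inv_mem hq) h0) (σ_PJ τ hJ hq)
  obtain ⟨a, ha', m, hm, w, hw, hw', b, hb, e⟩ := mem_LJ_mul A h1
  have h2 : n * a * n⁻¹ ∈ A.U := ha.conj_X (fun s hs => pos_of_Phi ha.ra hp hs.1 hs.2) ha'
  have h3 : z * w = τ.ρ * z * τ.ρ⁻¹ := A.bruhat_unique (A.U_le_B (mul_mem (mul_mem (τ.is.mem_U τ.pos hU) (inv_mem hU)) h2))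
    hb (mul_mem hn hm) (ha.mul hw') (τ.act hn ha) (by
      rw [show τ.σ n = τ.σ u * (u⁻¹ * n) * ((u⁻¹ * n)⁻¹ * τ.σ (u⁻¹ * n)) by simp [mul_assoc], e]; group)
  obtain rfl : w = 1 := by_contra fun hn => by
    obtain ⟨j, hj, hj'⟩ := exists_descent_J hw hn
    obtain ⟨i, hi, rfl⟩ : ∃ i ∈ J, τ.ν i = j :=
      ((Set.toFinite J).injOn_iff_bijOn_of_mapsTo hJ).1 τ.ν.injective.injOn |>.surjOn hj
    have h4 : Pos ((z * w) (sim (τ.ν i))) := by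
      rw [h3, ← S.map_sim, Perm.mul_apply, Perm.mul_apply, pinv_apply, S.pos]; exact hp i hi
    have h5 := pos_of_Phi ha.ra hp ((pos_ng _).2 hj') (ng_mem_Phi.2 ((map_mem_Phi hw).2 (sim_mem_Phi.2 hj)))
    rw [map_ng ha.ra, pos_ng] at h5
    exact h5 h4
  have hz : z ∈ W1 τ.ρ := mem_W1.2 ⟨ha.1, by rw [← h3, mul_one]⟩
  have h4 := A.mem_H_of_act_eq hn (τ.is.mem_N hn) ha (by simpa [← h3] using τ.act hn ha)
  exact ⟨hz, (A.canon_unique (inv_mem (mul_mem (mul_mem (A.U_le_B (A.X_mono (fun _ h => h.1) ha'))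
    (A.H_le_B (A.mem_H_of_act hm hw'))) hb)) (inv_mem (A.H_le_B h4)) ha.inv hu
    (τ.is.mem_X (fun r hr => (S.map_invs (inv_mem hz) r).2 hr) hu) (by rw [← e]; simp [mul_assoc])).2.symm⟩

/-- a subgroup of the fixed points of `τ` meeting all fundamental root subgroups -/
structure Hyp (τ : Twist A) (M : Subgroup Γ) : Prop where
  inj : Function.Injective A.θ
  le : M ≤ A.G
  fix : M ≤ τ.F
  lin : Lin τ
  orth : ∀ i, ∀ j ∈ orb τ.ν i, ∀ k ∈ orb τ.ν i, j ≠ k → wt (sim j) k = 0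
  desc : ∀ r, 2 ≤ ht r → ∃ i, ht (wJ (orb τ.ν i) r) < ht r
  sim : ∀ j, ∃ y ∈ M, y ∈ A.X (τ.Op j) ∧ cf A (sim j) y ≠ 0

variable {τ σ : Twist A} {M : Subgroup Γ}

theorem Op_le_U (i : Nd D) : A.X (τ.Op i) ≤ A.U := A.X_mono fun _ h => h.1

namespace Hyp
variable (h : Hyp τ M)
include h

theorem mem_Op {i : Nd D} {r : Rt D} : r ∈ τ.Op i ↔ ∃ j ∈ orb τ.ν i, CA.Chev.sim j = r := by
  rw [Twist.Op, Phi_pos_eq (h.orth i)]; rfl

theorem pos_wO (i : Nd D) {r : Rt D} (hr : 2 ≤ ht r) : Pos (wJ (orb τ.ν i) r) := by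
  have hp := (pos_iff_ht r).2 (by omega)
  refine hp.map_WJ (wJ_mem _) fun e => ?_
  obtain ⟨j, -, rfl⟩ := h.mem_Op.1 ⟨hp, e⟩
  simp at hr

theorem mem_B {g : Γ} (hg : g ∈ A.G) (hc : ∀ y ∈ M, y ∈ A.U → g * y * g⁻¹ ∈ A.U) : g ∈ A.B :=
  H12BG1.mem_B_of_conj hg fun i => by
    obtain ⟨y, h1, h2, h3⟩ := h.sim i
    exact ⟨y, Op_le_U i h2, h3, hc y h1 (Op_le_U i h2)⟩

theorem cent_two {c : Γ} (hc : c ∈ A.B) (e : ∀ y ∈ M, y ∈ A.U → c * y * c⁻¹ = y) : c ∈ A.X (Lh 2) := by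
  obtain ⟨u, hu, k, hk, rfl⟩ := A.mem_B.1 hc
  obtain rfl : k = 1 := h.inj ((A.θ_eq_one_of_comm hk fun i => by
    obtain ⟨χ, -, hχ⟩ := A.exists_ch hk
    obtain ⟨y, h1, h2, h3⟩ := h.sim i
    have h4 := Op_le_U i h2
    have := congrArg (cf A (CA.Chev.sim i)) (e y h1 h4)
    rw [show u * k * y * (u * k)⁻¹ = u * (k * y * k⁻¹) * u⁻¹ by group, co_conj i (A.H_conj_X hk h4) hu,
      cf_H (pos_sim i) hk (hχ _) (L_sim A i ▸ h4)] at this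
    rw [hχ, (mul_eq_right₀ h3).1 this, mul_one]).trans (map_one _).symm)
  rw [mul_one] at e ⊢
  refine mem_L_two hu fun i => ?_
  obtain ⟨j0, hj0⟩ := exists_ne i
  obtain ⟨i', hi', j, hj, hw⟩ := exists_bond (J := {i}) (Set.mem_singleton i) hj0
  rw [show i' = i from hi'] at hw
  have hij : j ≠ i := hj
  obtain ⟨k, hk⟩ : ∃ k : ℕ, wt (CA.Chev.sim j) i = -k := ⟨(-wt (CA.Chev.sim j) i).toNat, by have := wt_sim_nonpos hij.symm; omega⟩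
  obtain ⟨ε, hε, e1⟩ := co_string (A := A) hk (by omega)
  obtain ⟨y, h1, h2, h3⟩ := h.sim j
  have hO : ∀ r ∈ τ.Op j, Pos r ∧ r ≠ CA.Chev.sim i := fun r hr => ⟨hr.1, fun e => hw (h.orth j j (mem_orb_self _ _) i
    (sim_mem_Phi.1 (e ▸ hr.2)) hij)⟩
  have h4 := A.X_mono (T := {r | (Pos r ∧ r ≠ CA.Chev.sim i) ∧ rt r j = 0}) (fun r hr => ⟨hO r hr.2, by
    obtain ⟨l, -, rfl⟩ := h.mem_Op.1 hr.2
    rw [rt_sim, Pi.single_eq_of_ne fun e => hr.1.2 (by rw [e])]⟩) ((A.X_inf nil_pos (Tg_sim j ▸ nil_T _) (nil_Phi_pos _)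
      (fun _ h => h.1) fun _ h => h.1).le (Subgroup.mem_inf.2 ⟨co_spec j (Op_le_U j h2), mul_mem (inv_mem (A.x_mem
        (S := τ.Op j) ⟨pos_sim j, sim_mem_Phi.2 (mem_orb_self _ _)⟩ _)) h2⟩))
  have key : ∀ u ∈ A.U, cf A (CA.Chev.sim j) (A.n (CA.Chev.sim i) 1 * (u * y * u⁻¹) * (A.n (CA.Chev.sim i) 1)⁻¹) =
      ε * cf A (CA.Chev.sim i) u ^ k * cf A (CA.Chev.sim j) y := fun u hu => by
    have h5 := (A.act_sim i 1).conj_X (T := {r | Pos r ∧ r ≠ CA.Chev.sim j}) (fun r hr => ⟨hr.1.1.sR_pos hr.1.2, fun e => by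
      have := congrFun (rt_sR i r) j
      simp [e, rt_sim, hr.2, hij] at this⟩) (A.x_conj_mem (r := CA.Chev.sim i) (T := {r | (Pos r ∧ r ≠ CA.Chev.sim i) ∧ rt r j = 0}) (fun s hs =>
        ⟨(nil_Up i _ (Or.inl (pos_sim i)) s hs.1).1, fun k hk => ⟨(nil_Up i _ (Or.inl (pos_sim i)) s hs.1).2 k hk, by
          obtain ⟨a, b, -, -, e⟩ := hk.coord
          simp [e, rt_sim, hs.2, hij]⟩⟩) (cf A (CA.Chev.sim i) u) h4)
    rw [co_transfer i j hu (A.X_mono hO h2), ← e1, ← add_zero (cf A (CA.Chev.sim j) (_ * (_ * A.x _ _ * _) * _)),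
      ← co_of_mem h5, ← co_mul j (n_conj_Up i (U_conj_Up i (A.x_mem (pos_sim i) _)
        (A.x_mem_Up (pos_sim j) (sim_inj.not.2 hij) _))) (A.X_mono (fun _ h => h.1) h5)]
    congr 1
    group
  have h5 := key u hu
  have h6 := key 1 (one_mem _)
  rw [e y h1 (Op_le_U j h2)] at h5
  rw [one_mul, inv_one, mul_one, h5, co_of_mem (g := 1) (one_mem _), zero_pow (by omega), mul_zero, zero_mul] at h6
  rcases hε with rfl | rfl <;> simp [h3] at h6 <;> exact h6.1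

end Hyp

/-- `M` contains the rational points and its unipotent elements are rational to first order -/
structure Hyp2 (τ σ : Twist A) (M : Subgroup Γ) : Prop extends Hyp τ M where
  triv : ∀ r, σ.ρ r = r
  comm : ∀ g ∈ A.G, τ.σ (σ.σ g) = σ.σ (τ.σ g)
  U0 : ∀ u ∈ A.U, τ.σ u = u → σ.σ u = u → u ∈ M
  N0 : ∀ i, ∃ n ∈ M, n ∈ A.N ∧ σ.σ n = n ∧ A.Act n (wJ (orb τ.ν i))
  two : ∀ g ∈ M, g ∈ A.U → g⁻¹ * σ.σ g ∈ A.X (Lh 2)

namespace Hyp2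
variable (h : Hyp2 τ σ M)
include h

theorem ν_eq (i : Nd D) : σ.ν i = i := sim_injective (by rw [← σ.dsym.map_sim, h.triv])

theorem lin' : Lin σ := fun r i => by rw [h.triv, h.ν_eq]

theorem σ_X {S : Set (Rt D)} {g : Γ} (hg : g ∈ A.X S) : σ.σ g ∈ A.X S :=
  σ.is.mem_X (fun r hr => by rwa [← σ.ρ_apply, h.triv]) hg

theorem exists_n {w : Perm (Rt D)} (hw : w ∈ W1 τ.ρ) : ∃ n ∈ M, n ∈ A.N ∧ σ.σ n = n ∧ A.Act n w := by
  refine τ.dsym.W1_induction (P := fun w => ∃ n ∈ M, n ∈ A.N ∧ σ.σ n = n ∧ A.Act n w)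
    ⟨1, one_mem _, one_mem _, map_one _, Sys0.Act.one⟩ ?_ hw
  rintro w - i - ⟨n, h1, h2, h3, h4⟩
  obtain ⟨m, k1, k2, k3, k4⟩ := h.N0 i
  exact ⟨n * m, mul_mem h1 k1, mul_mem h2 k2, by rw [map_mul, h3, k3], h4.mul k4⟩

theorem ind (P : Prop) (h2 : ∀ g ∈ M, g ∈ A.B → (P → g ∈ A.U) → g⁻¹ * σ.σ g ∈ A.X (Lh 2)) {g : Γ} (hg : g ∈ M)
    (hB : g ∈ A.B) (hP : P → g ∈ A.U) : σ.σ g = g := by
  have key : ∀ m : ℕ, ∀ g ∈ M, g ∈ A.B → (P → g ∈ A.U) → g⁻¹ * σ.σ g ∈ A.X (Lh (m + 2)) := fun m => by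
    induction m with
    | zero => simpa using h2
    | succ m ih =>
      intro g hg hB hP
      have h0 := h2 g hg hB hP
      obtain ⟨u, hu, k, hk, rfl⟩ := τ.mem_B_fix hB (h.fix hg)
      have hu1 : u ∈ A.U := hu.1
      have hk0 : k ∈ A.H := hk.1
      have hk1 : σ.σ k = k := (inv_mul_eq_one.1 (A.U_inf_H (by
        convert mul_mem (inv_mem (show _ ∈ A.U from A.H_conj_X' hk0 (mul_mem (inv_mem hu1) (h.σ_X hu1))))
          (L_le_U A 2 h0) using 1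
        rw [map_mul]; group) (mul_mem (inv_mem hk0) (σ.is.mem_H hk0)))).symm
      have nU : ∀ i, Nil {r | Pos r ∧ r ∉ Phi (orb τ.ν i)} := fun i => Sys.nil_UJ' _
      have step : ∀ i, (u * k)⁻¹ * σ.σ (u * k) ∈ A.X (wJ (orb τ.ν i) ⁻¹' Lh (m + 2)) := fun i => by
        obtain ⟨a, ha, b, hb, rfl⟩ := τ.exists_mul_fix (T := τ.Op i) nil_pos (nil_Phi_pos _) (nU i)
          (fun r => by simp only [Twist.Op, Set.mem_ofPred_eq]; tauto) (Set.disjoint_left.2 fun r h1 h2 => h2.2 h1.2)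
          (fun r hr => ⟨(τ.pos r).2 hr.1, (τ.map_Phi_orb i r).2 hr.2⟩)
          (fun r hr => ⟨(τ.pos r).2 hr.1, (τ.map_Phi_orb i r).not.2 hr.2⟩) hu
        have hb1 : b ∈ A.X {r | Pos r ∧ r ∉ Phi (orb τ.ν i)} := hb.1
        have ha1 : a ∈ A.X (τ.Op i) := ha.1
        have h3 : a⁻¹ * σ.σ a ∈ A.X {r | Pos r ∧ r ∉ Phi (orb τ.ν i)} := by
          convert mul_mem (mul_mem hb1 (A.H_conj_X hk.1 (A.X_mono (T := {r | Pos r ∧ r ∉ Phi (orb τ.ν i)})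
            (fun r hr => ⟨hr.1, fun e => ?_⟩) h0))) (inv_mem (h.σ_X hb1)) using 1
          · rw [map_mul, map_mul, hk1]; group
          · obtain ⟨j, -, rfl⟩ := h.mem_Op.1 ⟨hr.1, e⟩
            simpa using hr.2
        have h4 := A.X_mono (T := ∅) (fun r hr => hr.2.2 hr.1.2) ((A.X_inf nil_pos (nil_Phi_pos _) (nU i) (fun _ h => h.1)
          fun _ h => h.1).le (Subgroup.mem_inf.2 ⟨mul_mem (inv_mem ha1) (h.σ_X ha1), h3⟩))
        rw [A.X_empty, Subgroup.mem_bot, inv_mul_eq_one] at h4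
        obtain ⟨n, n1, n2, n3, n4⟩ := h.N0 i
        have h5 : n * b * n⁻¹ ∈ A.U := n4.conj_X (fun r hr => hr.1.map_WJ (wJ_mem _) hr.2) hb.1
        have h6 : b * k ∈ M := by simpa [mul_assoc] using mul_mem (inv_mem (h.U0 a (Op_le_U i ha.1) ha.2 h4.symm)) hg
        have e : n * (b * k) * n⁻¹ = n * b * n⁻¹ * (n * k * n⁻¹) := by group
        have h7 := ih _ (mul_mem (mul_mem n1 h6) (inv_mem n1)) (e ▸ mul_mem (A.U_le_B h5) (A.H_le_B (A.conj_H n2 hk.1)))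
          fun hp => by
            rw [A.U_inf_H (g := k) (by simpa [mul_assoc] using mul_mem (inv_mem hu1) (hP hp)) hk.1, mul_one]; exact h5
        convert n4.conj_X' (T := wJ (orb τ.ν i) ⁻¹' Lh (m + 2)) (fun r hr => by simpa using hr) h7 using 1
        simp only [map_mul, map_inv, n3, ← h4]; group
      refine A.X_mono (T := Lh _) (fun r hr => ⟨hr.1, ?_⟩) (X_iInter A (ι := Option (Nd D))
        (T := fun o => o.elim (Lh 2) fun i => wJ (orb τ.ν i) ⁻¹' Lh (m + 2)) ?_ ?_ (L_le_U A 2 h0) ?_)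
      · obtain ⟨i, hi⟩ := h.desc r (hr.2 none).2
        have : (m : ℤ) + 2 ≤ ht (wJ (orb τ.ν i) r) := (hr.2 (some i)).2
        push_cast; omega
      · rintro (_ | i)
        exacts [nil_L 2, (nil_L _).comap (wJ_ra _)]
      · rintro (_ | i) r hr
        · exact hr.1
        · have : (m : ℤ) + 2 ≤ ht (wJ (orb τ.ν i) r) := hr.2
          simpa [wJ_wJ] using h.pos_wO i (r := wJ (orb τ.ν i) r) (by omega)
      · rintro (_ | i)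
        exacts [h0, step i]
  exact (inv_mul_eq_one.1 (eq_one_of_L fun m => L_mono A (by omega) (key m g hg hB hP))).symm

theorem fix_U {g : Γ} (hg : g ∈ M) (hU : g ∈ A.U) : σ.σ g = g :=
  h.ind True (fun g hg _ hU => h.two g hg (hU trivial)) hg (A.U_le_B hU) fun _ => hU

theorem cent_of {g y : Γ} (hg : g ∈ M) (hy : y ∈ M) (h1 : y ∈ A.U) (h2 : g * y * g⁻¹ ∈ A.U) :
    g⁻¹ * σ.σ g * y * (g⁻¹ * σ.σ g)⁻¹ = y := by
  have := h.fix_U (mul_mem (mul_mem hg hy) (inv_mem hg)) h2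
  rw [map_mul, map_mul, map_inv, h.fix_U hy h1] at this
  calc _ = g⁻¹ * (σ.σ g * y * (σ.σ g)⁻¹) * g := by group
    _ = y := by rw [this]; group

theorem fix_B {g : Γ} (hg : g ∈ M) (hB : g ∈ A.B) : σ.σ g = g :=
  h.ind False (fun _ hg hB _ => h.cent_two (mul_mem (inv_mem hB) (σ.is.mem_B σ.pos hB)) fun _ hy hU =>
    h.cent_of hg hy hU (A.B_conj_U hB hU)) hg hB False.elim

theorem exists_orb {r : Rt D} (hr : Pos r) : ∃ v ∈ W1 τ.ρ, ∃ i, r = v (CA.Chev.sim i) := by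
  induction e : (ht r).toNat using Nat.strong_induction_on generalizing r with
  | _ n ih =>
    by_cases h1 : ht r = 1
    · obtain ⟨i, rfl⟩ := eq_sim_of_ht h1
      exact ⟨1, one_mem _, i, rfl⟩
    have := hr.ht_pos
    obtain ⟨j, hj⟩ := h.desc r (by omega)
    have h2 := h.pos_wO j (r := r) (by omega)
    obtain ⟨v, hv, i, e'⟩ := ih _ (by have := h2.ht_pos; omega) h2 rfl
    exact ⟨_, mul_mem (τ.dsym.wO_mem j) hv, i, by rw [Perm.mul_apply, ← e', wJ_wJ]⟩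

theorem cent_B {J : Set (Nd D)} (hJ : ∀ j ∈ J, τ.ν j ∈ J) (hne : J ≠ Set.univ) {c : Γ} (hc : c ∈ A.G) (hF : τ.σ c = c)
    (e : ∀ y ∈ M, y ∈ A.UJ J → c * y * c⁻¹ = y) : c ∈ A.B := by
  obtain ⟨u, hu, m, hm, w, hw, ha, u', hu', rfl⟩ := τ.bruhat_fix hc hF
  have hU := A.X_mono (T := {r | Pos r}) (fun _ h => (mem_invs.1 h).1) hu'.1
  have h1 : ∀ r, Pos r ∧ r ∉ Phi J → (Pos (w r) ∧ w r ∉ Phi J) ∧ ht r ≤ ht (w r) := fun r hr => by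
    obtain ⟨v, hv, i, rfl⟩ := h.exists_orb hr.1
    have h2 : ∀ z ∈ W1 τ.ρ, ∀ j ∈ orb τ.ν i, ht (z (CA.Chev.sim j)) = ht (z (CA.Chev.sim i)) ∧
        (z (CA.Chev.sim j) ∈ Phi J ↔ z (CA.Chev.sim i) ∈ Phi J) := fun z hz j hj =>
      orb_induction (P := fun j => ht (z (CA.Chev.sim j)) = ht (z (CA.Chev.sim i)) ∧
        (z (CA.Chev.sim j) ∈ Phi J ↔ z (CA.Chev.sim i) ∈ Phi J)) (fun j hj => by
          rwa [← τ.dsym.map_sim, W1_apply hz, h.lin.ht, τ.dsym.map_Phi hJ]) ⟨rfl, Iff.rfl⟩ hj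
    let T : Set (Rt D) := {s | (Pos s ∧ s ∉ Phi J) ∧ ht (v (CA.Chev.sim i)) ≤ ht s}
    have id : ∀ a ∈ {a : Rt D | Pos a}, ∀ s ∈ T, s ≠ ng a ∧ ∀ k, Cmb a s k → k ∈ T := fun a ha s hs =>
      ⟨nil_pos.ne_ng ha hs.1.1, fun k hk => ⟨(nil_UJ J a (Or.inl ha) s hs.1).2 k hk, hs.2.trans (ht_cmb_lt ha hs.1.1 hk).le⟩⟩
    have nT : Nil T := nil_pos.mono (fun _ h => h.1.1) fun a ha s hs => (id a ha.1.1 s hs).2
    have hS : ∀ s ∈ ⇑v⁻¹ ⁻¹' τ.Op i, ∃ j ∈ orb τ.ν i, s = v (CA.Chev.sim j) := fun s hs => by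
      obtain ⟨j, hj, e⟩ := h.mem_Op.1 hs
      exact ⟨j, hj, by rw [e, papply_inv]⟩
    have hS' : ∀ s ∈ ⇑v⁻¹ ⁻¹' τ.Op i, s ∈ T := fun s hs => by
      obtain ⟨j, hj, rfl⟩ := hS s hs
      exact ⟨⟨τ.dsym.pos_orb hv hr.1 j hj, (h2 v hv j hj).2.not.2 hr.2⟩, (h2 v hv j hj).1.ge⟩
    obtain ⟨y, y1, y2, y3⟩ := h.sim i
    obtain ⟨n, n1, -, -, n2⟩ := h.exists_n hv
    have h3 := n2.conj_X (T := ⇑v⁻¹ ⁻¹' τ.Op i) (fun s hs => by simpa using hs) y2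
    have h4 : n * y * n⁻¹ ≠ 1 := fun e => y3 (by rw [conj_eq_one_iff.1 e, co_of_mem (one_mem _)])
    have h5 := e _ (mul_mem (mul_mem n1 y1) (inv_mem n1)) (A.X_mono (fun s hs => (hS' s hs).1) h3)
    generalize n * y * n⁻¹ = x at h3 h4 h5
    have h6 := ha.conj_X' (T := w ⁻¹' T) (fun s hs => by simpa using hs)
      (B_conj_X A id (inv_mem (A.U_le_B hu.1)) (A.X_mono hS' h3))
    rw [← h5, show m⁻¹ * (u⁻¹ * (u * m * u' * x * (u * m * u')⁻¹) * u⁻¹⁻¹) * m = u' * x * u'⁻¹ by group] at h6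
    obtain ⟨s, hs, hs'⟩ := meet ((nil_Phi_pos (orb τ.ν i)).comap (inv_mem (W1_ra hv))) (nil_pos.inter (nT.comap ha.ra))
      (fun s hs => (hS' s hs).1.1) (fun _ h => h.1) h3 h4 (A.U_le_B hU) (X_inf' A nil_pos (nT.comap ha.ra) (fun _ h => h)
        ha.1 (fun _ h => h.1.1) (A.B_conj_U (A.U_le_B hU) (A.X_mono (fun s hs => (hS' s hs).1.1) h3)) h6)
    obtain ⟨j, hj, rfl⟩ := hS s hs
    obtain ⟨a1, a2⟩ := h2 _ (mul_mem hw hv) j hj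
    have a3 := hs'.2.2.trans_eq a1
    exact ⟨⟨(pos_iff_ht _).2 (hr.1.ht_pos.trans_le a3), a2.not.1 hs'.2.1.2⟩, a3⟩
  have h2 : ∀ k : ℕ, ∀ r, Pos r ∧ r ∉ Phi J → (Pos ((w ^ k) r) ∧ (w ^ k) r ∉ Phi J) ∧ ht r ≤ ht ((w ^ k) r) := fun k => by
    induction k with
    | zero => exact fun r hr => ⟨hr, le_rfl⟩
    | succ k ih => exact fun r hr => by rw [pow_succ']; exact ⟨(h1 _ (ih r hr).1).1, (ih r hr).2.trans (h1 _ (ih r hr).1).2⟩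
  obtain rfl : w = 1 := eq_one_of_pos ha.1 fun i => by
    let f : (Nd D → ℤ) →ₗ[ℤ] ℤ := ∑ j, LinearMap.proj j
    have hf : ∀ r, f (rt r) = ht r := fun r => by simp [f, ht]
    have := sim_mem_of hne (M := (LinearMap.eqLocus (f ∘ₗ lin w) f).toAddSubgroup) (fun r hr hr' => by
      change f (lin w _) = f _
      have := (h2 (orderOf w - 1) _ (h1 r ⟨hr, hr'⟩).1).2
      rw [← Perm.mul_apply, ← pow_succ, Nat.sub_add_cancel (orderOf_pos w), pow_orderOf_eq_one] at this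
      rw [lin_rt ha.ra, hf, hf]
      exact le_antisymm this (h1 r ⟨hr, hr'⟩).2) i
    change f (lin w _) = f _ at this
    rw [lin_rt ha.ra, hf, hf, ht_sim] at this
    exact (pos_iff_ht _).2 (by omega)
  exact mul_mem (mul_mem (A.U_le_B hu.1) (A.H_le_B (A.mem_H_of_act hm.1 ha))) (A.U_le_B hU)

theorem exists_rat {J : Set (Nd D)} (hJ : ∀ j ∈ J, τ.ν j ∈ J) {g : Γ} (hg : g ∈ A.G) (h1 : g⁻¹ * τ.σ g ∈ A.PJ J)
    (h2 : g⁻¹ * σ.σ g ∈ A.PJ J) : ∃ m ∈ M, σ.σ m = m ∧ g⁻¹ * m ∈ A.PJ J := by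
  obtain ⟨u, hu, n, hn, z, ha, hq, k⟩ := exists_rep J hg
  obtain ⟨a1, a2⟩ := k τ hJ h1
  have a3 := (k σ (fun j hj => by rwa [h.ν_eq]) h2).2
  obtain ⟨m, m1, m2, m3, m4⟩ := h.exists_n a1
  exact ⟨u⁻¹ * m, mul_mem (inv_mem (h.U0 u hu a2 a3)) m1, by rw [map_mul, map_inv, a3, m3], by
    simpa [mul_assoc] using mul_mem hq (A.B_le_PJ J (A.H_le_B (A.mem_H_of_act_eq hn m2 ha m4)))⟩

theorem fix_PJ {J : Set (Nd D)} (hJ : ∀ j ∈ J, τ.ν j ∈ J) (hne : J ≠ Set.univ) {g : Γ} (hg : g ∈ M) (hP : g ∈ A.PJ J) :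
    σ.σ g = g := by
  have hG := h.le hg
  have hF := τ.mem_F.1 (h.fix hg)
  obtain ⟨m, m1, m2, m3⟩ := h.exists_rat (J := ∅) (fun _ h => h) hG (by rw [hF, inv_mul_cancel]; exact one_mem _)
    (A.PJ_empty ▸ h.cent_B hJ hne (mul_mem (inv_mem hG) (σ.is.mem_G hG)) (by rw [map_mul, map_inv, h.comm g hG, hF])
      fun y hy hU => h.cent_of hg hy (A.X_mono (fun _ h => h.1) hU) (A.X_mono (S := {s | Pos s ∧ s ∉ Phi J})
        (fun _ h => h.1) ((Subgroup.mem_normalizer_iff.1 (A.PJ_le_normalizer J hP) y).1 hU)))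
  have := h.fix_B (mul_mem (inv_mem hg) m1) (A.PJ_empty ▸ m3)
  rwa [map_mul, m2, mul_left_inj, map_inv, inv_inj] at this

theorem fix_norm {X : Set Γ} (h1 : X ⊆ M) (h2 : X ⊆ A.U) (hne : ∃ x ∈ X, x ≠ 1) {g : Γ} (hg : g ∈ M)
    (hn : ∀ x ∈ X, g * x * g⁻¹ ∈ X) : σ.σ g = g := by
  obtain ⟨x, hx, J, hJ, a1, a2⟩ := btc h2 hne
  obtain ⟨a3, a4⟩ := a2 τ h.lin fun y hy => h.fix (h1 hy)
  have a5 := (a2 σ h.lin' fun y hy => σ.mem_F.2 (h.fix_U (h1 hy) (h2 hy))).2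
  obtain ⟨m, m1, m2, m3⟩ := h.exists_rat a3 (inv_mem hx) (by simpa using inv_mem a4) (by simpa using inv_mem a5)
  have := h.fix_PJ a3 hJ (mul_mem (mul_mem (inv_mem m1) hg) m1) (by
    simpa [mul_assoc] using mul_mem (mul_mem (inv_mem m3) (a1 g (h.le hg) hn)) m3)
  rwa [map_mul, map_mul, map_inv, m2, mul_left_inj, mul_right_inj] at this

end Hyp2

end CA.H12BG2
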