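/-
Finite overgroups of the rational points of a Chevalley group: the main step (after Burgoyne, Griess and Lyons).
-/
import Cfsg.Agent.Lib.Lie.H12BG2
import Cfsg.Agent.Lib.Loc.AmbSpe
import Cfsg.Agent.Lib.Grp.SEmb
import Cfsg.Agent.Lib.Lin.SL2Dickson

set_option autoImplicit false

namespace CA.H12BG3

open Equiv Cfsg.Lie CA.Chev CA.H12BT CA.H12BG1 CA.H12BG2 CA.Amb CA.AmbSyl CA.AmbSpe
open scoped MatrixGroups

variable {D : ChevalleyDatum} [Good D] {K : Type*} [Field K] {Γ : Type*} [Group Γ] {A : Sys D K Γ}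

variable (D) in
/-- the highest root -/
def tp : Rt D := ⟨D.nroots - 1, by have := (pre D).simple_lt 0 (by have := (pre D).two_le; omega); omega⟩

theorem le_tp (r : Rt D) : r ≤ tp D := Nat.le_sub_one_of_lt r.2

theorem lex_le (r : Rt D) : lexL D (rt r) ≤ lexL D (rt (tp D)) := lex_strictMono.monotone (le_tp r)

theorem pos_tp : Pos (tp D) := by
  obtain ⟨j, -⟩ := exists_ne (⟨0, by have := (pre D).two_le; omega⟩ : Nd D)
  exact le_trans (pos_sim j) (le_tp _)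

theorem not_cmb_tp {s : Rt D} (hs : Pos s) (k : Rt D) : ¬ Cmb s (tp D) k := fun h =>
  (cmb_lt hs pos_tp h).not_ge (le_tp k)

theorem eq_tp {k : Rt D} (h : 2 ≤ pr (tp D) k) : k = tp D := by
  by_contra hn
  have h1 := lex_le (ng (refl (tp D) k))
  have h2 := lex_strictMono ((le_tp k).lt_of_ne hn)
  have h3 := (pos_iff_lex _).1 (pos_tp (D := D))
  rw [rt_ng, rt_refl, map_neg, map_sub, map_smul, smul_eq_mul] at h1
  simp only at h2
  nlinarith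

theorem pr_tp_nonneg {r : Rt D} (hr : Pos r) : 0 ≤ pr (tp D) r := by
  by_contra hn
  have h0 := pr_neg_symm (not_le.1 hn)
  have h1 := lex_le (refl r (tp D))
  have h3 := (pos_iff_lex _).1 hr
  rw [rt_refl, map_sub, map_smul, smul_eq_mul] at h1
  nlinarith

theorem pr_cmb (a : Rt D) {r s k : Rt D} (h : Cmb r s k) : ∃ i j : ℤ, 1 ≤ i ∧ 1 ≤ j ∧ pr a k = i * pr a r + j * pr a s := by
  simpa only [prL_rt] using h.lin (prL a)

theorem exists_nil {r s : Rt D} (h : s ≠ ng r) : ∃ S, Nil S ∧ r ∈ S ∧ s ∈ S := by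
  by_cases e : s = r
  · exact ⟨{r}, nil_single r, rfl, e⟩
  obtain ⟨f, f1, f2⟩ := exists_sep e h
  obtain ⟨g, g1, g2⟩ := exists_sep (Ne.symm e) (fun e => h (by rw [e, ng_ng]))
  exact ⟨_, nil_of_fun (f + g), by simpa [f1] using g2, by simpa [g1] using f2⟩

theorem conj_eq_of {S : Set (Rt D)} {r : Rt D} (h : ∀ s ∈ S, r ≠ ng s ∧ ∀ k, ¬ Cmb s r k) {u : Γ} (hu : u ∈ A.X S) (t : K) :
    u * A.x r t * u⁻¹ = A.x r t := by
  have := A.central_mod (S := S) (T := ∅) (fun _ _ _ h => h.elim) (r := r) h t (inv_mem hu)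
  rw [A.X_empty, Subgroup.mem_bot, inv_mul_eq_one, inv_inv] at this
  exact this.symm

theorem U_conj_tp {u : Γ} (hu : u ∈ A.U) (t : K) : u * A.x (tp D) t * u⁻¹ = A.x (tp D) t :=
  conj_eq_of (fun _ hs => ⟨nil_pos.ne_ng hs pos_tp, not_cmb_tp hs⟩) hu t

theorem conj_tp {g : Γ} (hg : g ∈ A.G) : ∃ u ∈ A.U, ∃ w ∈ W D, ∃ c : K, c ≠ 0 ∧
    g * A.x (tp D) 1 * g⁻¹ = u * A.x (w (tp D)) c * u⁻¹ := by
  obtain ⟨b, hb, m, hm, b', hb', rfl⟩ := A.bruhat hg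
  obtain ⟨u, hu, k, hk, rfl⟩ := A.mem_B.1 hb
  obtain ⟨k', hk', u', hu', rfl⟩ := A.mem_B'.1 hb'
  obtain ⟨w, hw⟩ := A.exists_act (mul_mem (mul_mem (A.H_le_N hk) hm) (A.H_le_N hk'))
  obtain ⟨c, hc⟩ := hw.conj_x (tp D)
  exact ⟨u, hu, w, hw.1, c * 1, by simp, by
    rw [← hc]; conv_rhs => rw [← U_conj_tp hu' 1]
    group⟩

theorem ne_conj_tp {s : Γ} (hs : s ∈ A.U) {i : Nd D} (h0 : cf A (sim i) s ≠ 0)
    (h : (∃ k ≠ sim i, 2 ≤ pr (sim i) k) ∨ ∃ j ≠ i, cf A (sim j) s ≠ 0) {g : Γ} (hg : g ∈ A.G) :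
    g * A.x (tp D) 1 * g⁻¹ ≠ s := fun e => by
  obtain ⟨u, hu, w, hw, c, hc, e'⟩ := conj_tp hg
  have h1 : Pos (w (tp D)) := A.pos_of_mem_U hc (by
    simpa [← e, e', mul_assoc] using mul_mem (mul_mem (inv_mem hu) hs) hu)
  have h2 : ∀ j, cf A (sim j) s ≠ 0 → w (tp D) = sim j := fun j hj => by_contra fun hn =>
    hj (by rw [← e, e', co_conj j (A.x_mem h1 c) hu, co_x_ne h1 hn])
  rcases h with ⟨k, h3, h4⟩ | ⟨j, h3, h4⟩
  · rw [← h2 i h0, ← papply_inv w k, pr_map (W_le_RA hw)] at h4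
    exact h3 (by rw [← h2 i h0, ← eq_tp h4, papply_inv])
  · exact h3 (sim_injective ((h2 j h4).symm.trans (h2 i h0)))

theorem x_pow (p : ℕ) [CharP K p] (r : Rt D) (t : K) : A.x r t ^ p ^ 1 = 1 := by
  have : ∀ n : ℕ, A.x r t ^ n = A.x r (n * t) := fun n => by
    induction n with
    | zero => simp
    | succ n ih => rw [pow_succ, ih, ← A.add]; push_cast; ring_nf
  rw [pow_one, this, CharP.cast_eq_zero, zero_mul, A.x_zero]

open CA.SL2Unip CA.SL2Torus in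
theorem h_neg_one_mem (hθ : Function.Injective A.θ) (p : ℕ) [hp : Fact p.Prime] [CharP K p] (h2 : p ≠ 2) {r s : Rt D}
    (hr : Pos r) (hs : pr r s = 1) {M : Subgroup Γ} [Finite M] {a c : K} (ha : a ≠ 0) (hc : c ≠ 0) (h1 : A.x r a ∈ M)
    (h1' : A.x (ng r) c ∈ M) : A.h r (-1) ∈ M := by
  obtain ⟨ψ, e1, e2, e3, e4⟩ := (A.r3_of_inj hθ).exists_SL2 r
  have hB : ∀ g ∈ B K, ψ g ∈ A.B ∧ (ψ g = 1 → g = 1) := fun g hg => by
    obtain ⟨a, b, rfl⟩ := exists_of_mem_B hg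
    rw [map_mul, e1, e3]
    refine ⟨mul_mem (A.U_le_B (A.x_mem hr b)) (A.H_le_B (A.h_mem r a)), fun e => ?_⟩
    obtain ⟨a1, a2⟩ := A.UH_unique (A.x_mem hr b) (one_mem _) (A.h_mem r a) (one_mem _) (e.trans (mul_one 1).symm)
    have := A.h_conj r s a 1
    rw [a2, hs, one_mul, inv_one, mul_one, zpow_one, mul_one] at this
    rw [A.x_eq_one a1, show a = 1 from Units.ext (A.x_injective s this).symm, u_zero, one_mul]
    exact sl_ext4 (by simp [dg_coe]) (by simp [dg_coe]) (by simp [dg_coe]) (by simp [dg_coe])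
  have hi : Function.Injective ψ := (injective_iff_map_eq_one ψ).2 fun g hg => by
    by_cases e : g ∈ B K
    · exact (hB g e).2 hg
    obtain ⟨c, b, hb, rfl⟩ := bruhat e
    rw [map_mul, map_mul, e1, e4] at hg
    have := A.not_mem_B_of_act (A.n_mem r 1) (A.act_n r 1) (by
      rw [show A.n r 1 = (A.x r c)⁻¹ * (A.x r c * A.n r 1 * ψ b) * (ψ b)⁻¹ by group, hg, mul_one]
      exact mul_mem (inv_mem (A.U_le_B (A.x_mem hr c))) (inv_mem (hB b hb).1))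
    exact absurd (by rw [← refl_self, this]; rfl) (ng_ne r)
  have : Finite (M.comap ψ) := Finite.of_injective (fun y : M.comap ψ => (⟨ψ y, y.2⟩ : M))
    fun _ _ e => Subtype.ext (hi (congrArg Subtype.val e))
  have t2 : ∀ (F : Type _) [Field F] [CharP F p], (2 : F) ≠ 0 := fun F _ _ e =>
    h2 ((Nat.prime_dvd_prime_iff_eq hp.out Nat.prime_two).1 ((CharP.cast_eq_zero_iff F p 2).1 e))
  obtain ⟨L, hL, ⟨e⟩⟩ := SL2Dickson.exists_sl2p p h2 (M.comap ψ) (a := u a) (b := l c) (m := 1) (n := 1)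
    (by rwa [Subgroup.mem_comap, e1]) (by rwa [Subgroup.mem_comap, e2]) (hi (by rw [map_pow, e1, x_pow, map_one]))
    (hi (by rw [map_pow, e2, x_pow, map_one])) fun e => by
      have := congrArg (fun g : SL(2, K) => g.1 0 0) e
      simp [sl_mul_apply, ha, hc] at this
  have h3 := SL2Basic.eq_neg_one_of_orderOf (t2 K) (e.symm (-1)) (by
    rw [Subgroup.orderOf_coe, MulEquiv.orderOf_eq]
    refine SL2Basic.orderOf_neg_one fun e => h2 ?_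
    exact (Nat.prime_dvd_prime_iff_eq hp.out Nat.prime_two).1 ((CharP.cast_eq_zero_iff (ZMod p) p 2).1 e))
  have h4 := hL (e.symm (-1)).2
  rwa [h3, Subgroup.mem_comap, show (-1 : SL(2, K)) = SL2Torus.dg (-1) from
    sl_ext4 (by simp [dg_coe]) (by simp [dg_coe]) (by simp [dg_coe]) (by simp [dg_coe]), e3] at h4

variable {τ σ : Twist A} {M : Subgroup Γ} [Finite M] (p : ℕ) [hp : Fact p.Prime] [CharP K p]

theorem sylIn (h : Hyp τ M) : SylIn p (M ⊓ A.U) M := by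
  have h1 : IsPGroup p ↥(M ⊓ A.U) := (isP_X A p nil_pos).to_inf_right
  refine sylIn_of_normalizer ⟨le_inf inf_le_left Subgroup.le_normalizer, h1, fun Q hQ a b => le_antisymm (fun g hg => ?_) a⟩
  obtain ⟨k, hk⟩ := hQ ⟨g, hg⟩
  exact ⟨(b hg).1, mem_U_of_pow A h.inj p (h.mem_B (h.le (b hg).1) fun y h1 h2 =>
    ((Subgroup.mem_normalizer_iff.1 (b hg).2 y).1 ⟨h1, h2⟩).2) (congrArg Subtype.val hk)⟩

theorem spe (h : Hyp2 τ σ M) (hn : ¬ M ≤ σ.F) : SPE p (M ⊓ σ.F) M := by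
  have h1 := sylIn p h.toHyp
  have h2 : M ⊓ A.U ≤ M ⊓ σ.F := fun g hg => ⟨hg.1, h.fix_U hg.1 hg.2⟩
  refine spe_of_syl (inf_le_left.lt_of_ne fun e => hn (e.ge.trans inf_le_right))
    ⟨h2, h1.pg, fun Q a b c => h1.max a b (c.trans inf_le_left)⟩ (fun e => ?_) fun X a b g hg => ⟨hg.1, h.fix_norm (X := X)
      (fun _ hx => (a hx).1) (fun _ hx => (a hx).2) (by simpa [Subgroup.eq_bot_iff_forall] using b) hg.1
      fun x hx => (Subgroup.mem_normalizer_iff.1 hg.2 x).1 hx⟩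
  obtain ⟨j, -⟩ := exists_ne (⟨0, by have := (pre D).two_le; omega⟩ : Nd D)
  obtain ⟨y, y1, y2, y3⟩ := h.sim j
  exact y3 (by rw [Subgroup.mem_bot.1 (e.le ⟨y1, Op_le_U j y2⟩), co_of_mem (one_mem _)])

theorem mem_of_nil {M1 : Subgroup Γ} (h : SPE p M1 M) {r s : Rt D} (hrs : s ≠ ng r) {v : Γ} {a b : K} (ha : a ≠ 0)
    (h1 : v * A.x r a * v⁻¹ ∈ M1) (h2 : v * A.x s b * v⁻¹ ∈ M) : v * A.x s b * v⁻¹ ∈ M1 := by
  obtain ⟨S, hS, hr, hs⟩ := exists_nil hrs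
  refine h.le_of_inf_ne_bot (Q := M ⊓ cj v (A.X S)) (isPGroup_cj (isP_X A p hS) v).to_inf_right inf_le_left (fun e => ?_)
    ⟨h2, mem_cj'.2 ⟨_, A.x_mem hs b, rfl⟩⟩
  exact ha (A.x_eq_one (conj_eq_one_iff.1 (Subgroup.mem_bot.1 (e.le ⟨⟨h.le h1, mem_cj'.2 ⟨_, A.x_mem hr a, rfl⟩⟩, h1⟩))))

/-- the main step -/
theorem le_F (h : Hyp2 τ σ M) (hz : A.x (tp D) 1 ∈ M)
    (h2 : p = 2 → ∃ s ∈ M, s ∈ A.U ∧ s * s = 1 ∧ ∃ i, cf A (sim i) s ≠ 0 ∧
      ((∃ k ≠ sim i, 2 ≤ pr (sim i) k) ∨ ∃ j ≠ i, cf A (sim j) s ≠ 0))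
    (h3 : p ≠ 2 → ∃ m, pr (tp D) (sim m) = 1 ∧ A.x (sim m) 1 ∈ M) : M ≤ σ.F := by
  by_contra hn
  have H := spe p h hn
  have z1 : A.x (tp D) 1 ≠ 1 := fun e => one_ne_zero (A.x_eq_one e)
  have hz1 : A.x (tp D) 1 ∈ M ⊓ σ.F := ⟨hz, h.fix_U hz (A.x_mem pos_tp 1)⟩
  by_cases e : p = 2
  · obtain ⟨s, s1, s2, s3, i, s4, s5⟩ := h2 e
    subst e
    obtain ⟨a1, a2, a3⟩ := spe_top_iff.1 ((spe_subgroupOf_iff inf_le_left).2 H)
    have : Fact (Nat.Prime 2) := hp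
    obtain ⟨g, hg⟩ := isConj_iff.1 (SEmb.isConj (H := (M ⊓ σ.F).subgroupOf M) ⟨a1, even_iff_two_dvd.2 a2, fun g hg =>
      Nat.odd_iff.2 (Nat.two_dvd_ne_zero.1 (a3 g hg))⟩ (a := ⟨_, hz⟩) (b := ⟨s, s1⟩)
      (orderOf_eq_prime (Subtype.ext (by simpa using x_pow (A := A) 2 (tp D) 1)) fun e => z1 (congrArg Subtype.val e))
      (orderOf_eq_prime (Subtype.ext (by simpa [sq] using s3)) fun e => s4 (by
        rw [show s = 1 from congrArg Subtype.val e, co_of_mem (one_mem _)])))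
    exact ne_conj_tp s2 s4 s5 (h.le g.2) (congrArg Subtype.val hg)
  obtain ⟨m, m1, m2⟩ := h3 e
  refine hn fun g hg => (H.mem_of_conj_mem (x_pow p _ 1) z1 hz1 hg ?_).2
  have hz' := mul_mem (mul_mem hg hz) (inv_mem hg)
  obtain ⟨u, hu, w, -, c, hc, e1⟩ := conj_tp (h.le hg)
  rw [e1] at hz' ⊢
  by_cases e2 : w (tp D) ≠ ng (tp D)
  · exact mem_of_nil p H e2 one_ne_zero (by rwa [U_conj_tp hu]) hz'
  rw [not_not.1 e2] at hz' ⊢
  obtain ⟨v, hv, l, hl, rfl⟩ := A.exists_mul nil_pos (fun r => 0 < pr (tp D) r) hu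
  have hV : v ∈ A.U := A.X_mono (fun _ h => h.1) hv
  have e3 := conj_eq_of (r := ng (tp D)) (fun s hs => ⟨fun e => hs.2 (by rw [← ng_inj.1 e, pr_self]; omega), fun k hk => by
    have := hk.map (refl_mem_RA (tp D))
    rw [refl_ng_self, refl_eq_self (le_antisymm (not_lt.1 hs.2) (pr_tp_nonneg hs.1))] at this
    exact not_cmb_tp hs.1 _ this⟩) hl c
  rw [show v * l * A.x (ng (tp D)) c * (v * l)⁻¹ = v * (l * A.x (ng (tp D)) c * l⁻¹) * v⁻¹ by group, e3] at hz' ⊢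
  have : Finite (cj v⁻¹ M) := Finite.of_equiv _ (cjEquiv v⁻¹ M).toEquiv
  have h4 := mem_cj_inv.1 (h_neg_one_mem h.inj p e pos_tp m1 (M := cj v⁻¹ M) one_ne_zero hc
    (mem_cj_inv.2 (by rwa [U_conj_tp hV])) (mem_cj_inv.2 hz'))
  have h5 : _ ∈ M ⊓ σ.F := ⟨h4, h.fix_B h4 (mul_mem (mul_mem (A.U_le_B hV) (A.H_le_B (A.h_mem _ _))) (inv_mem (A.U_le_B hV)))⟩
  have h6 : _ ∈ M ⊓ σ.F := ⟨m2, h.fix_U m2 (A.x_mem (pos_sim m) 1)⟩
  obtain ⟨t, ht⟩ := A.mem_X_single.1 (A.central_mod (T := {tp D}) (r := sim m) (fun r hr s hs => by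
    rw [show s = tp D from hs]; exact ⟨nil_pos.ne_ng hr.1 pos_tp, fun k hk => (not_cmb_tp hr.1 k hk).elim⟩)
    (fun s hs => ⟨nil_pos.ne_ng hs.1 (pos_sim m), fun k hk => by
      obtain ⟨i, j, hi, hj, e⟩ := pr_cmb (tp D) hk
      have : 0 < pr (tp D) s := hs.2
      exact eq_tp (by rw [e, m1]; nlinarith)⟩) 1 hv)
  have h7 := mul_mem (mul_mem (mul_mem h5 h6) (inv_mem h5)) (inv_mem h6)
  rw [show ∀ k x : Γ, v * k * v⁻¹ * x * (v * k * v⁻¹)⁻¹ * x⁻¹ = v * (k * x * k⁻¹ * (k * (x⁻¹ * (v⁻¹ * x * v)) * k⁻¹ *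
    (x⁻¹ * (v⁻¹ * x * v))⁻¹) * x⁻¹) * v⁻¹ by intros; group, ht, A.h_conj, A.h_conj, m1, pr_self] at h7
  simp only [Units.val_neg, Units.val_one, pow_one, zpow_ofNat, even_two, Even.neg_pow, one_pow, one_mul, add_neg_cancel,
    mul_one, ← A.x_neg, ← A.add, A.x_zero] at h7
  refine mem_of_nil p H (fun e => ?_) (fun e' => e ?_) h7 hz'
  · rw [← ng_inj.1 e, pr_self] at m1; omega
  · exact (Nat.prime_dvd_prime_iff_eq hp.out Nat.prime_two).1 ((CharP.cast_eq_zero_iff K p 2).1 (by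
      push_cast; linear_combination -e'))

end CA.H12BG3
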