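/-
Finite overgroups of the rational points of a split Chevalley group: the field of definition.
-/
import Cfsg.Agent.Lib.Lie.H12BG3
import Cfsg.Agent.Lib.Lie.H23Fix
import Cfsg.Agent.Lib.Lie.ChevAll

set_option autoImplicit false

namespace CA.H12BG4

open Equiv Cfsg.Lie CA.Chev CA.H12BT CA.H12BG1 CA.H12BG2 CA.H12BG3

section field
variable {K : Type*} [Field K]

theorem exists_subfield (S : AddSubgroup K) [Finite S] (h1 : (1 : K) ∈ S) (h : ∀ a ∈ S, ∀ b ∈ S, a * b ∈ S) :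
    ∃ F : Subfield K, ∀ t, t ∈ F ↔ t ∈ S :=
  ⟨{ carrier := S
     mul_mem' := fun ha hb => h _ ha _ hb
     one_mem' := h1
     add_mem' := S.add_mem
     zero_mem' := S.zero_mem
     neg_mem' := S.neg_mem
     inv_mem' := fun x hx => by
      by_cases e : x = 0
      · rwa [e, inv_zero, ← e]
      obtain ⟨y, hy⟩ := (Finite.injective_iff_surjective (f := fun y : S => (⟨x * y, h x hx y y.2⟩ : S))).1
        (fun a b e' => Subtype.ext (mul_left_cancel₀ e (congrArg Subtype.val e'))) ⟨1, h1⟩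
      rw [← eq_inv_of_mul_eq_one_right (congrArg Subtype.val hy)]
      exact y.2 }, fun _ => Iff.rfl⟩

theorem mem_of_pow (p : ℕ) [Fact p.Prime] [CharP K p] (F : Subfield K) [Finite F] {a : K} (h : a ^ p ∈ F) : a ∈ F := by
  obtain ⟨b, hb⟩ := Finite.injective_iff_surjective.1 (frobenius F p).injective ⟨_, h⟩
  rw [← (frobenius K p).injective (a₁ := b) (a₂ := a) (congrArg Subtype.val hb)]
  exact b.2

theorem cast_ne_zero (p : ℕ) [hp : Fact p.Prime] [CharP K p] {q : ℕ} (hq : q.Prime) (h : p ≠ q) : (q : K) ≠ 0 := fun e =>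
  h ((Nat.prime_dvd_prime_iff_eq hp.out hq).1 ((CharP.cast_eq_zero_iff K p q).1 e))

theorem mem_of_mul {F : Subfield K} {c a : K} (hc : c ∈ F) (h0 : c ≠ 0) (h : c * a ∈ F) : a ∈ F := by
  simpa [h0] using mul_mem (inv_mem hc) h

theorem half_mem (p : ℕ) [hp : Fact p.Prime] [CharP K p] (h2 : p ≠ 2) {S : AddSubgroup K} {a : K} (h : 2 * a ∈ S) : a ∈ S := by
  obtain ⟨k, hk⟩ := hp.out.odd_of_ne_two h2
  have := CharP.cast_eq_zero K p
  rw [hk] at this
  convert S.nsmul_mem h (k + 1) using 1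
  push_cast at this
  rw [nsmul_eq_mul]; push_cast; linear_combination -a * this

theorem mem_iff_pow (F : Subfield K) [Finite F] {t : K} : t ^ Nat.card F = t ↔ t ∈ F := by
  classical
  cases nonempty_fintype F
  have h0 : ∀ t ∈ F, t ^ Nat.card F = t := fun t ht => by
    rw [Nat.card_eq_fintype_card]; exact congrArg Subtype.val (FiniteField.pow_card (⟨t, ht⟩ : F))
  refine ⟨fun h => ?_, h0 t⟩
  have h1 : 1 < Nat.card F := Finite.one_lt_card
  have hm := FiniteField.X_pow_card_sub_X_ne_zero K h1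
  have h2 : ∀ t : K, t ^ Nat.card F = t → t ∈ (Polynomial.X ^ Nat.card F - Polynomial.X : Polynomial K).roots.toFinset :=
    fun t ht => by rw [Multiset.mem_toFinset, Polynomial.mem_roots hm]; simp [-Nat.card_eq_fintype_card, ht]
  have h3 := Finset.eq_of_subset_of_card_le (s := Finset.univ.map (⟨F.subtype, F.subtype.injective⟩ : F ↪ K))
    (fun x hx => by obtain ⟨y, -, rfl⟩ := Finset.mem_map.1 hx; exact h2 _ (h0 _ y.2)) (by
      rw [Finset.card_map, Finset.card_univ, ← Nat.card_eq_fintype_card]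
      exact (Multiset.toFinset_card_le _).trans ((Polynomial.card_roots' _).trans
        (FiniteField.X_pow_card_sub_X_natDegree_eq K h1).le))
  obtain ⟨y, -, rfl⟩ := Finset.mem_map.1 (h3.ge (h2 t h))
  exact y.2

end field

variable {D : ChevalleyDatum} [Good D] {K : Type*} [Field K] {Γ : Type*} [Group Γ] {A : Sys D K Γ}

theorem pr_tp_pos {k : Rt D} (h : ∀ i, 0 ≤ wt k i) : 0 < pr (tp D) k := by
  obtain ⟨i, hi⟩ := Function.ne_iff.1 (wt_ne_zero k)
  have h1 : ∀ i, 0 < cor (tp D) i := fun i => by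
    have : 0 < rt (tp D) i := (pre D).top i i.2
    exact lt_of_le_of_ne ((rt_nonneg_iff _ i).1 this.le) fun e => this.ne' ((rt_eq_zero_iff _ i).2 e.symm)
  exact Finset.sum_pos' (fun i _ => mul_nonneg (h1 i).le (h i))
    ⟨i, Finset.mem_univ _, mul_pos (h1 i) (lt_of_le_of_ne (h i) (Ne.symm hi))⟩

theorem eq_tp_of_ht {k : Rt D} (h : ht (tp D) ≤ ht k) : k = tp D := by
  have key : ∀ k : Rt D, (∀ r : Rt D, ht r ≤ ht k) → k = tp D := fun k hk => by
    have h1 := pr_tp_pos (k := k) fun i => by have := hk (sR i k); rw [ht_sR] at this; omega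
    by_contra hn
    have h2 : pr (tp D) k = 1 := by have := mt (eq_tp (k := k)) hn; omega
    have h3 := rt_refl (tp D) k
    have h4 : ¬ Pos (refl (tp D) k) := by
      have := lex_le k
      rw [pos_iff_lex, h3, h2, one_smul, map_sub]; omega
    have h5 : ht (refl (tp D) k) = ht k - ht (tp D) := by simp only [ht, h3, h2, one_smul, Pi.sub_apply, Finset.sum_sub_distrib]
    have h6 := ((pos_ng _).2 h4).ht_pos
    have := hk (tp D)
    rw [ht_ng] at h6; omega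
  have : Nonempty (Rt D) := ⟨k⟩
  obtain ⟨k0, hk0⟩ := Finite.exists_max (ht (D := D))
  exact key k fun r => (key k0 hk0 ▸ hk0 r).trans h

theorem exists_pr_one (r : Rt D) : ∃ w ∈ W D, w r = tp D ∨ pr (tp D) (w r) = 1 := by
  obtain ⟨w, hw, h⟩ := Set.exists_max_image (W D : Set (Perm (Rt D))) (fun w => ht (w r)) (Set.toFinite _) ⟨1, one_mem _⟩
  have h1 := pr_tp_pos (k := w r) fun i => by
    have := h _ (mul_mem (sR_mem i) hw)
    rw [Perm.mul_apply, ht_sR] at this; omega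
  exact ⟨w, hw, or_iff_not_imp_left.2 fun hn => by have := mt (eq_tp (k := w r)) hn; omega⟩

theorem mem_of_fix {β : K → K} {φ : Γ →* Γ} (hφ : ∀ r t, φ (A.x r t) = A.x r (β t)) {S : Set (Rt D)} (hS : Nil S)
    {M : Subgroup Γ} (h : ∀ r ∈ S, ∀ t, β t = t → A.x r t ∈ M) {g : Γ} (hg : g ∈ A.X S) (e : φ g = g) : g ∈ M := by
  obtain ⟨L, hL, hLS⟩ := Sys0.exists_list S
  obtain ⟨t, rfl⟩ := A.exists_P hS hL hLS hg
  have := A.P_unique hS hL (fun r hr => (hLS r).1 hr) (t := fun r => β (t r)) (t' := t) (by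
    rw [← e]; simp only [Sys0.P, map_list_prod, List.map_map, Function.comp_def, hφ])
  exact list_prod_mem fun y hy => by
    obtain ⟨r, hr, rfl⟩ := List.mem_map.1 hy
    exact h r ((hLS r).1 hr) _ (this r hr)

theorem not_cmb_of_orth {i j : Nd D} (hij : i ≠ j) (h : wt (sim j) i = 0) (k : Rt D) : ¬ Cmb (sim i) (sim j) k := fun hk => by
  obtain ⟨b, c, hb, hc, e⟩ := (hk.map (sR_mem_RA i)).coord
  have a1 := e i
  have a2 := e j
  simp only [sR_sim, sR_eq_self h, rt_ng, rt_sim, Pi.neg_apply, Pi.single_eq_same, Pi.single_eq_of_ne hij,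
    Pi.single_eq_of_ne hij.symm] at a1 a2
  exact not_pos_of_coord (r := sR i k) (i := i) (by omega) (pos_of_coord (i := j) (by omega))

variable (A) in
/-- parameters of the root elements of `M` -/
def AA (M : Subgroup Γ) (r : Rt D) : AddSubgroup K where
  carrier := {t | A.x r t ∈ M}
  add_mem' ha hb := by simpa [A.add] using mul_mem ha hb
  zero_mem' := by simp
  neg_mem' ha := by simpa [A.x_neg] using ha

variable (A) in
/-- coordinates of the unipotent elements of `M` -/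
def CC (M : Subgroup Γ) (i : Nd D) : AddSubgroup K where
  carrier := {t | ∃ s ∈ M, s ∈ A.U ∧ cf A (sim i) s = t}
  add_mem' := by
    rintro _ _ ⟨a, a1, a2, rfl⟩ ⟨b, b1, b2, rfl⟩
    exact ⟨a * b, mul_mem a1 b1, mul_mem a2 b2, co_mul i a2 b2⟩
  zero_mem' := ⟨1, one_mem _, one_mem _, co_of_mem (one_mem _)⟩
  neg_mem' := by
    rintro _ ⟨a, a1, a2, rfl⟩
    exact ⟨a⁻¹, inv_mem a1, inv_mem a2, co_inv i a2⟩

variable {M : Subgroup Γ}

theorem mem_AA {r : Rt D} {t : K} : t ∈ AA A M r ↔ A.x r t ∈ M := Iff.rfl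

theorem AA_le_CC (i : Nd D) : AA A M (sim i) ≤ CC A M i := fun t ht => ⟨_, ht, A.x_mem (pos_sim i) t, cf_x (pos_sim i) t⟩

instance finite_AA [Finite M] (r : Rt D) : Finite (AA A M r) :=
  Finite.of_injective (fun t : AA A M r => (⟨A.x r t, t.2⟩ : M)) fun _ _ e =>
    Subtype.ext (A.x_injective r (congrArg Subtype.val e))

instance finite_CC [Finite M] (i : Nd D) : Finite (CC A M i) :=
  ((Set.toFinite (M : Set Γ)).image (cf A (sim i))).subset (by rintro _ ⟨s, h, -, rfl⟩; exact ⟨s, h, rfl⟩)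

theorem sgn_mem {S : AddSubgroup K} {ε t : K} (h : ε = 1 ∨ ε = -1) : ε * t ∈ S ↔ t ∈ S := by
  rcases h with rfl | rfl <;> simp

theorem et_pm' (r s : Rt D) : (et r s : K) = 1 ∨ (et r s : K) = -1 := by rcases et_pm r s with h | h <;> simp [h]

theorem n_mem {r : Rt D} {t : Kˣ} (h : A.x r t ∈ M) (h' : A.x (ng r) (t : K)⁻¹ ∈ M) : A.n r t ∈ M :=
  mul_mem (mul_mem h (by rwa [A.x_neg, inv_mem_iff])) h

theorem top_mem {m : Nd D} {β : Rt D} {C : ℤ} (hβ : Pos β) (h : cT (sim m) β = [(tp D, C, 1, 1)]) {a t : K}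
    (ha : a ∈ CC A M m) (ht' : t ∈ AA A M β) : C * a * t ∈ AA A M (tp D) := by
  obtain ⟨s, s1, s2, rfl⟩ := ha
  obtain ⟨a1, a2, a3⟩ := cf_comm hβ h (by simp) s2 t
  have := A.X_mono (T := ∅) (fun r hr => hr.2 (eq_tp_of_ht hr.1.2)) (cf_spec a1 (a2 ▸ comm_mem_L hβ s2 t))
  rw [A.X_empty, Subgroup.mem_bot, inv_mul_eq_one, a3] at this
  rw [mem_AA, this]
  exact mul_mem (mul_mem (mul_mem s1 ht') (inv_mem s1)) (inv_mem ht')

variable (h1 : ∀ r, A.x r 1 ∈ M)
include h1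

theorem n_one_mem (r : Rt D) : A.n r 1 ∈ M := n_mem (h1 r) (by simpa using h1 _)

theorem AA_refl (r s : Rt D) : AA A M (refl r s) = AA A M s := by
  ext t
  rw [← sgn_mem (et_pm' r s), mem_AA, mem_AA, ← Subgroup.mul_mem_cancel_left M (n_one_mem h1 r) (y := A.x s t),
    ← Subgroup.mul_mem_cancel_right M (inv_mem (n_one_mem h1 r)) (y := _ * A.x s t), A.n_conj]
  simp

theorem AA_W {w : Perm (Rt D)} (hw : w ∈ W D) (s : Rt D) : AA A M (w s) = AA A M s :=
  W_induction_left (P := fun w => AA A M (w s) = AA A M s) rfl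
    (fun w _ i _ ih => by rw [Perm.mul_apply, ← refl_sim, AA_refl h1, ih]) hw

theorem le_AA {F : Subfield K} (hF : ∀ t ∈ F, t ∈ AA A M (tp D)) (r : Rt D) : ∀ t ∈ F, t ∈ AA A M r := fun t ht => by
  obtain ⟨w, hw, h | h⟩ := exists_pr_one r
  · rw [← AA_W h1 hw, h]; exact hF t ht
  by_cases e : t = 0
  · rw [e]; exact zero_mem _
  have h2 : A.h (tp D) (Units.mk0 t e) ∈ M := by
    rw [A.h_eq]
    refine mul_mem (n_mem (hF t ht) ?_) (inv_mem (n_one_mem h1 _))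
    rw [← mem_AA, ← refl_self, AA_refl h1]; exact hF _ (inv_mem ht)
  have := mul_mem (mul_mem h2 (h1 (w r))) (inv_mem h2)
  rw [A.h_conj, h] at this
  rw [← AA_W h1 hw, mem_AA]
  simpa using this

theorem pow_mem_CC {i j : Nd D} {k : ℕ} (hk : wt (sim j) i = -k) (h : 1 ≤ k) {a : K} (ha : a ∈ CC A M i) :
    a ^ k ∈ CC A M j := by
  obtain ⟨s, s1, s2, rfl⟩ := ha
  obtain ⟨ε, hε, e⟩ := co_string (A := A) hk h
  have hij : j ≠ i := fun e => by rw [e, wt_sim_self] at hk; omega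
  have hy := A.x_mem_Up (pos_sim j) (sim_inj.not.2 hij) (1 : K)
  have hn := n_one_mem h1 (sim i)
  exact (sgn_mem hε).1 ⟨_, mul_mem (mul_mem hn (mul_mem (mul_mem s1 (h1 _)) (inv_mem s1))) (inv_mem hn),
    n_conj_Up i (U_conj_Up i s2 hy), by rw [co_transfer i j s2 hy, e, mul_one]⟩

theorem cf_mem_CC {γ : Rt D} {i j : Nd D} (h : sR i γ = sim j) (h2 : 2 ≤ ht γ) {g : Γ} (hg : g ∈ M)
    (hL : g ∈ A.X (Lh (ht γ))) : cf A γ g ∈ CC A M j := by
  have hγ := (pos_iff_ht γ).2 (by omega)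
  have hn := n_one_mem h1 (sim i)
  have a1 : ∀ r ∈ Lh (ht γ), Pos r ∧ r ≠ sim i := fun r hr => ⟨hr.1, fun e => by have := hr.2; rw [e, ht_sim] at this; omega⟩
  refine (sgn_mem (et_pm' (sim i) γ)).1 ⟨_, mul_mem (mul_mem hn hg) (inv_mem hn), n_conj_Up i (A.X_mono a1 hL),
    cf_act (pos_sim j) (A.act_sim i 1) (fun u => by rw [A.n_conj, refl_sim, h]; simp) (fun r hr => ?_) (cf_spec hγ hL)⟩
  rw [Tg_sim]
  exact ⟨hr.1.1.sR_pos (a1 r hr.1).2, fun e => hr.2 ((sR i).injective (e.trans h.symm))⟩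

theorem field_of_top [Finite M] {m : Nd D} {β : Rt D} (hβ : Pos β) (h : cT (sim m) β = [(tp D, 1, 1, 1)])
    (h2 : pr β (tp D) = 1) (h3 : wt (tp D) m = 1) :
    ∃ F : Subfield K, (∀ t, t ∈ F ↔ t ∈ AA A M (tp D)) ∧ ∀ t ∈ CC A M m, t ∈ F := by
  have e0 := (cT_spec (h ▸ List.mem_cons_self : (tp D, 1, 1, 1) ∈ cT (sim m) β)).1
  simp only [Nat.cast_one, one_smul] at e0
  have e1 : AA A M β = AA A M (tp D) := by
    rw [← AA_refl h1 (sim m) (tp D), show refl (sim m) (tp D) = β from rt_injective (by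
      rw [rt_refl, pr_sim_left, h3, e0]; simp)]
  have e2 : AA A M (sim m) = AA A M (tp D) := by
    rw [← AA_refl h1 β (tp D), show refl β (tp D) = sim m from rt_injective (by rw [rt_refl, h2, e0]; simp)]
  obtain ⟨F, hF⟩ := exists_subfield (AA A M (tp D)) (h1 _) fun a ha b hb => by
    have := top_mem hβ h (AA_le_CC m (e2.ge ha)) (e1.ge hb)
    rwa [Int.cast_one, one_mul] at this
  exact ⟨F, hF, fun t ht => (hF t).2 (by simpa only [Int.cast_one, one_mul, mul_one] using top_mem hβ h ht (h1 β))⟩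

variable (p : ℕ) [hp : Fact p.Prime] [CharP K p]
include p

theorem propagate {F : Subfield K} [Finite F] {m : Nd D} (hm : ∀ t ∈ CC A M m, t ∈ F)
    (h3 : ∀ i j, wt (sim i) j < -2 → ∀ t ∈ CC A M j, t ∈ F) (j0 : Nd D) : ∀ t ∈ CC A M j0, t ∈ F := by
  by_contra hn
  obtain ⟨i, hi, j, hj, hw⟩ := exists_bond (J := {j | ∀ t ∈ CC A M j, t ∈ F}) hm hn
  have hij : j ≠ i := fun e => hj (e ▸ hi)
  have h4 := wt_sim_nonpos hij
  have h5 : wt (sim i) j ≠ 0 := fun e => hw (wt_sim_symm e)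
  refine hj fun t ht => ?_
  by_cases e1 : wt (sim i) j = -1
  · simpa using hi _ (pow_mem_CC h1 (k := 1) e1 le_rfl ht)
  by_cases e2 : wt (sim i) j = -2
  · have a1 := hi _ (pow_mem_CC h1 (k := 2) e2 one_le_two ht)
    by_cases e : p = 2
    · exact mem_of_pow p F (e ▸ a1)
    have a2 := hi _ (pow_mem_CC h1 (k := 2) e2 one_le_two (add_mem ht (AA_le_CC j (h1 _))))
    refine mem_of_mul (natCast_mem F 2) (cast_ne_zero p Nat.prime_two e) ?_
    convert sub_mem (sub_mem a2 a1) (one_mem F) using 1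
    push_cast; ring
  · exact h3 i j (by omega) t ht

omit h1 in
theorem fix_of_field [Finite M] (hθ : Function.Injective A.θ) (hM : M ≤ A.G) {β : K →+* K} {φ : Γ →* Γ}
    (hφ : ∀ r t, φ (A.x r t) = A.x r (β t)) (hx : ∀ r t, β t = t → A.x r t ∈ M) (hC : ∀ i, ∀ t ∈ CC A M i, β t = t)
    (h2 : (∃ i, ∃ k ≠ sim i, 2 ≤ pr (sim i : Rt D) k) ∨ ∃ i j : Nd D, j ≠ i ∧ wt (sim j) i = 0)
    {m : Nd D} (hm : pr (tp D) (sim m) = 1) : ∀ g ∈ M, φ g = g := by
  have h1 : ∀ r, A.x r 1 ∈ M := fun r => hx r 1 (map_one β)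
  let τ : Twist A := fieldTwist (RingHom.id K) (MonoidHom.id Γ) fun _ _ => rfl
  have ho : ∀ i, orb τ.ν i = {i} := fun i => Twist.orb1 rfl
  refine le_F p (τ := τ) (σ := fieldTwist β φ hφ) ⟨⟨hθ, hM, fun _ _ => rfl, fun _ _ => rfl, fun i j hj k hk e => ?_,
    fun r hr => ?_, fun j => ⟨_, h1 (sim j), A.x_mem (S := τ.Op j) ⟨pos_sim j, sim_mem_Phi.2 (mem_orb_self _ _)⟩ 1,
      by rw [cf_x (pos_sim j)]; exact one_ne_zero⟩⟩, fun _ => rfl, fun _ _ => rfl,
    fun u hu _ e => mem_of_fix hφ nil_pos (fun r _ => hx r) hu e, fun i => ⟨_, n_one_mem h1 (sim i), A.n_mem _ _, ?_, ?_⟩,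
    fun g hg hU => ?_⟩ (h1 _) (fun e => ?_) fun _ => ⟨m, hm, h1 _⟩
  · rw [ho] at hj hk; exact absurd (hj.trans hk.symm) e
  · obtain ⟨i, hi, -⟩ := ((pos_iff_ht r).2 (by omega)).exists_wt_pos
    exact ⟨i, by rw [ho, wJ_single, ht_sR]; omega⟩
  · change φ _ = _
    simp [Sys0.n_def, hφ]
  · rw [ho, wJ_single]; exact A.act_sim i 1
  · have hU' : φ g ∈ A.U := (fieldTwist β φ hφ).is.mem_U (fun _ => Iff.rfl) hU
    refine mem_L_two (mul_mem (inv_mem hU) hU') fun i => ?_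
    have := cf_σ (fieldTwist β φ hφ) (fun _ => rfl) (pos_sim i) (L_sim A i ▸ hU)
    change cf A (sim i) (φ g) = 1 * β _ at this
    change cf A (sim i) (g⁻¹ * φ g) = 0
    rw [co_mul i (inv_mem hU) hU', co_inv i hU, this, hC i _ ⟨g, hg, hU, rfl⟩, one_mul, neg_add_cancel]
  subst e
  have hx2 : ∀ r, A.x r 1 * A.x r 1 = 1 := fun r => by simpa [sq] using x_pow (A := A) 2 r 1
  rcases h2 with ⟨i, h2⟩ | ⟨i, j, hij, h2⟩
  · exact ⟨_, h1 (sim i), A.x_mem (pos_sim i) 1, hx2 _, i, by rw [cf_x (pos_sim i)]; exact one_ne_zero, Or.inl h2⟩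
  have a1 := A.x_mem (S := {r | Pos r}) (pos_sim i) (1 : K)
  have a2 := A.x_mem (S := {r | Pos r}) (pos_sim j) (1 : K)
  refine ⟨_, mul_mem (h1 (sim i)) (h1 (sim j)), mul_mem a1 a2, ?_, i, ?_, Or.inr ⟨j, hij, ?_⟩⟩
  · have := comm_of_not_cmb (A := A) (nil_pos.ne_ng (pos_sim i) (pos_sim j)) (not_cmb_of_orth hij.symm h2) 1 1
    rw [inv_eq_of_mul_eq_one_right (hx2 _)] at this
    rw [← mul_assoc, this, hx2]
  · simp [co_mul i a1 a2, cf_x (pos_sim i), co_x_ne (pos_sim j) (sim_inj.not.2 hij)]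
  · simp [co_mul j a1 a2, cf_x (pos_sim j), co_x_ne (pos_sim i) (sim_inj.not.2 hij.symm)]

end CA.H12BG4
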