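/-
The theorem of Burgoyne, Griess and Lyons for the split Chevalley groups.
-/
import Cfsg.Agent.Lib.Lie.H12BG4

set_option autoImplicit false

namespace CA.H12BG5

open Equiv Cfsg.Lie CA.Chev CA.H12BT CA.H12BG1 CA.H12BG2 CA.H12BG3 CA.H12BG4

variable {D : ChevalleyDatum} [Good D] {K : Type*} [Field K] {Γ : Type*} [Group Γ]

theorem cT_of_tab {T : Tab} (hT : tab D = T) {r s k : Rt D} {C : ℤ} {i j : ℕ} (h : T.cT r s = [(k.val, C, i, j)]) :
    cT r s = [(k, C, i, j)] := by subst hT; exact cT_of_raw h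

theorem sR_of_tab {T : Tab} (hT : tab D = T) {i : Nd D} {r s : Rt D} (h : T.rf i r = s) : sR i r = s := by
  subst hT; exact Fin.ext (by simpa using (apW_eq [i] r).symm.trans h)

theorem map_xG {K' : Type*} [Field K'] (β : K →+* K') (r : Rt D) (t : K) :
    Matrix.GeneralLinearGroup.map β (xG r t) = xG r (β t) := Units.ext (map_xR β r t)

/-- a root given by its number -/
abbrev mkR (D : ChevalleyDatum) (k : ℕ) (h : k < D.nroots := by decide) : Rt D := ⟨k, h⟩
/-- a node given by its number -/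
abbrev mkN (D : ChevalleyDatum) (k : ℕ) (h : k < D.rank := by decide) : Nd D := ⟨k, h⟩

/-- the field of definition exists -/
def Fld (A : Sys D K Γ) (M : Subgroup Γ) : Prop :=
  ∃ F : Subfield K, (∀ t, t ∈ F ↔ t ∈ AA A M (tp D)) ∧ ∀ i, ∀ t ∈ CC A M i, t ∈ F

variable {M : Subgroup Γ} [Finite M] (p : ℕ) [hp : Fact p.Prime] [CharP K p]
include p

theorem fld_of_chk {A : Sys D K Γ} (h1 : ∀ r, A.x r 1 ∈ M) {T : Tab} (hT : tab D = T) (m : Nd D) (β : Rt D)
    (h : Pos β ∧ T.cT (sim m).val β = [((tp D).val, 1, 1, 1)] ∧ sumLt T.l (fun j => T.co β j * T.wt (tp D).val j) = 1 ∧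
      T.wt (tp D).val m = 1) (h3 : ∀ F : Subfield K, Finite F → (∀ t ∈ CC A M m, t ∈ F) → ∀ i j : Nd D, T.wt (sim i).val j < -2 →
      ∀ t ∈ CC A M j, t ∈ F) : Fld A M := by
  obtain ⟨F, a1, a2⟩ := field_of_top h1 h.1 (cT_of_tab hT h.2.1) ((pr_eq_tab hT _ _).trans h.2.2.1)
    ((wt_eq_tab hT _ _).trans h.2.2.2)
  have : Finite F := Finite.of_injective (fun t : F => (⟨t, (a1 t).1 t.2⟩ : AA A M (tp D))) fun _ _ e =>
    Subtype.ext (congrArg Subtype.val e :)
  exact ⟨F, a1, propagate h1 p a2 fun i j e => h3 F this a2 i j (wt_eq_tab hT _ _ ▸ e)⟩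

theorem fld_G2 {A : Sys chevG2 K Γ} (h1 : ∀ r, A.x r 1 ∈ M) : Fld A M := by
  refine fld_of_chk p h1 tab_G2 (mkN _ 1) (mkR _ 10) (by decide +kernel) fun F _ hF i j e t ht => ?_
  obtain ⟨rfl, rfl⟩ := (by decide +kernel : ∀ i j : Nd chevG2, tabG2.wt (sim i).val j < -2 → i = mkN _ 1 ∧ j = mkN _ 0) i j e
  by_cases e3 : p = 3
  · exact mem_of_pow p F (e3 ▸ hF _ (pow_mem_CC h1 (k := 3) ((wt_eq_tab tab_G2 _ _).trans (by decide +kernel)) (by omega) ht))
  obtain ⟨s, s1, s2, rfl⟩ := ht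
  have hβ : Pos (mkR chevG2 9) := by decide +kernel
  obtain ⟨-, a2, a3⟩ := cf_comm (γ := mkR _ 10) (i := mkN _ 0) (C := 3) hβ (cT_of_tab tab_G2 (by decide +kernel))
    (by simp) s2 (1 : K)
  have := hF _ (cf_mem_CC h1 (γ := mkR _ 10) (i := mkN _ 0) (sR_of_tab tab_G2 (by decide +kernel))
    (by have := hβ.ht_pos; omega) (mul_mem (mul_mem (mul_mem s1 (h1 _)) (inv_mem s1)) (inv_mem (h1 _)))
    (a2 ▸ comm_mem_L hβ s2 1))
  rw [a3, mul_one] at this
  exact mem_of_mul (natCast_mem F 3) (cast_ne_zero p Nat.prime_three e3) (by exact_mod_cast this)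

theorem fld_B2 {A : Sys chevB2 K Γ} (h1 : ∀ r, A.x r 1 ∈ M) : Fld A M := by
  let a : Nd chevB2 := mkN _ 0
  let b : Nd chevB2 := mkN _ 1
  let c : Rt chevB2 := mkR _ 6
  have hab : ∀ i : Nd chevB2, i = a ∨ i = b := by decide +kernel
  have e1 : ∀ t ∈ CC A M b, t ∈ CC A M a := fun t ht => by
    simpa using pow_mem_CC h1 (k := 1) (j := a) ((wt_eq_tab tab_B2 _ _).trans (by decide +kernel)) le_rfl ht
  have e2 : ∀ t ∈ CC A M a, t ^ 2 ∈ CC A M b := fun t ht =>
    pow_mem_CC h1 (k := 2) ((wt_eq_tab tab_B2 _ _).trans (by decide +kernel)) one_le_two ht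
  have s1 : sR a (tp chevB2) = sim b := sR_of_tab tab_B2 (by decide +kernel)
  have e3 : ∀ t ∈ AA A M (tp chevB2), t ∈ CC A M b := fun t ht => AA_le_CC b (by rwa [← s1, AA_W h1 (sR_mem a)])
  by_cases e : p ≠ 2
  · have e4 : ∀ t ∈ CC A M a, t ∈ AA A M (tp chevB2) := fun t ht => half_mem p e (by
      simpa using top_mem (β := c) (C := 2) (by decide +kernel) (cT_of_tab tab_B2 (by decide +kernel)) ht (h1 _))
    obtain ⟨F, hF⟩ := exists_subfield (AA A M (tp chevB2)) (h1 _) fun x hx y hy => half_mem p e (by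
      have k := fun t ht => e4 _ (e1 _ (e2 t (e1 _ (e3 t ht))))
      convert sub_mem (sub_mem (k _ (add_mem hx hy)) (k x hx)) (k y hy) using 1
      ring)
    refine ⟨F, hF, fun i t ht => (hF t).2 ?_⟩
    rcases hab i with rfl | rfl
    exacts [e4 t ht, e4 t (e1 t ht)]
  obtain rfl := not_not.1 e
  have t2 : ((2 : ℤ) : K) = 0 := by exact_mod_cast CharP.cast_eq_zero K 2
  have et1 : ∀ r s : Rt chevB2, (et r s : K) = 1 := fun r s => by
    rcases et_pm' (K := K) r s with h | h <;> simp [h, CharTwo.neg_eq]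
  have e4 : ∀ t ∈ CC A M a, t ∈ CC A M b := fun t ht => by
    obtain ⟨y, hy⟩ := (Finite.injective_iff_surjective (f := fun y : CC A M a => (⟨_, e1 _ (e2 y y.2)⟩ : CC A M a))).1
      (fun x y e' => Subtype.ext ((frobenius K 2).injective (congrArg Subtype.val e'))) ⟨t, ht⟩
    rw [← show y.1 ^ 2 = t from congrArg Subtype.val hy]; exact e2 y y.2
  have x4 := xN_eq A.x (k := 4) (sim b) (by decide +kernel)
  have x5 := xN_eq A.x (k := 5) (sim a) (by decide +kernel)
  have x6 := xN_eq A.x (k := 6) c rfl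
  have x7 := xN_eq A.x (k := 7) (tp chevB2) rfl
  have n1 : ∀ x y, A.x c x * A.x (tp chevB2) y ∈ M → A.x (sim a) x * A.x (tp chevB2) y ∈ M ∧ A.x c x * A.x (sim b) y ∈ M :=
    fun x y h => by
      have k : ∀ i, A.x (sR i c) x * A.x (sR i (tp chevB2)) y ∈ M := fun i => by
        have := mul_mem (mul_mem (n_one_mem h1 (sim i)) h) (inv_mem (n_one_mem h1 (sim i)))
        rw [show ∀ n u v : Γ, n * (u * v) * n⁻¹ = n * u * n⁻¹ * (n * v * n⁻¹) by intros; group, A.n_conj, A.n_conj] at this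
        simpa [et1, refl_sim] using this
      have k1 := k a
      have k2 := k b
      rw [s1, sR_of_tab tab_B2 (s := c) (by decide +kernel)] at k1
      rw [sR_of_tab tab_B2 (s := sim a) (by decide +kernel), sR_of_tab tab_B2 (s := tp chevB2) (by decide +kernel)] at k2
      exact ⟨k2, k1⟩
  have n2 : ∀ d ∈ CC A M b, A.x c d * A.x (tp chevB2) d ∈ M := by
    rintro _ ⟨s, s1, s2, rfl⟩
    have k1 := Subgroup.mem_centralizer_singleton_iff.1 ((A.X_le (M := Subgroup.centralizer {A.x (sim a) 1})).2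
      (fun r hr t => Subgroup.mem_centralizer_singleton_iff.2 (by
        rcases (by decide +kernel : ∀ r : Rt chevB2, Pos r → r ≠ sim b → r = sim a ∨ cmm tabB2 2 r (sim a).val = true)
          r hr.1 hr.2 with rfl | h
        · exact A.x_comm _ _ _
        · rw [← xN_val A.x, ← xN_val A.x]; exact (commute_of_cmm A.add A.comm t2 (tab_B2 ▸ h) t 1).eq)) (co_spec b s2))
    have k2 := wN_eq_of_colChk A.toSys0 t2 [cf A (sim b) s] tab_B2 (κ := κ0 tabB2) (n := 9)
      (w := [(4, .v 0), (5, .c 1)]) (w' := [(6, .v 0), (7, .v 0), (5, .c 1), (4, .v 0)]) (by decide +kernel)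
    simp only [List.map_cons, List.map_nil, Ex.ev, Int.cast_one, List.getD_cons_zero, wN_cons, wN_nil, mul_one, x4, x5,
      x6, x7] at k2
    convert mul_mem (mul_mem (mul_mem s1 (h1 (sim a))) (inv_mem s1)) (inv_mem (h1 (sim a))) using 1
    generalize A.x (sim b) (cf A (sim b) s) = y at k1 k2
    rw [show s * A.x (sim a) 1 = y * (y⁻¹ * s * A.x (sim a) 1) by group, k1, ← mul_assoc, k2]; group
  have n3 : ∀ x ∈ CC A M a, ∀ y ∈ CC A M a, A.x c (x * y) * A.x (tp chevB2) (x ^ 2 * y) ∈ M := fun x hx y hy => by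
    have k1 := (n1 _ _ (n2 x (e4 x hx))).1
    have k2 := (n1 _ _ (n2 y (e4 y hy))).2
    have k3 := wN_eq_of_colChk A.toSys0 t2 [x, y] tab_B2 (κ := κ0 tabB2) (n := 9)
      (w := [(5, .v 0), (7, .v 0), (6, .v 1), (4, .v 1)])
      (w' := [(6, .v 0 * .v 1), (7, .mul (.pow (.v 0) 2) (.v 1)), (6, .v 1), (4, .v 1), (5, .v 0), (7, .v 0)]) (by decide +kernel)
    simp only [List.map_cons, List.map_nil, Ex.ev, List.getD_cons_zero, List.getD_cons_succ, wN_cons, wN_nil, mul_one,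
      x4, x5, x6, x7] at k3
    have := mul_mem (mul_mem (mul_mem k1 k2) (inv_mem k1)) (inv_mem k2)
    rw [mul_assoc (A.x (sim a) x), k3] at this
    simpa [mul_assoc] using this
  obtain ⟨F, hF⟩ := exists_subfield (CC A M a) (AA_le_CC a (h1 _)) fun x hx y hy => by
    have k := A.x_mem (S := {r | Pos r}) (pos_sim a) (x * y)
    have k' := A.x_mem (S := {r | Pos r}) pos_tp (x ^ 2 * y)
    exact ⟨_, (n1 _ _ (n3 x hx y hy)).1, mul_mem k k', by
      rw [co_mul a k k', cf_x (pos_sim a), co_x_ne pos_tp (by decide +kernel), add_zero]⟩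
  refine ⟨F, fun t => ⟨fun ht => ?_, fun ht => (hF t).2 (e1 t (e3 t ht))⟩, fun i t ht => (hF t).2 ?_⟩
  · by_cases h0 : t ^ 2 - t = 0
    · rcases mul_eq_zero.1 (show t * (t - 1) = 0 by linear_combination h0) with h | h
      · rw [h]; exact zero_mem _
      · rw [sub_eq_zero.1 h]; exact h1 _
    have hy := div_mem ht (sub_mem (pow_mem ht 2) ht)
    have := mul_mem (inv_mem (n3 1 ((hF _).1 (one_mem F)) _ ((hF _).1 (mul_mem ht hy)))) (n3 t ((hF _).1 ht) _ ((hF _).1 hy))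
    rw [one_mul, show ∀ u v w : Γ, (u * v)⁻¹ * (u * w) = v⁻¹ * w by intros; group, ← A.x_neg, ← A.add] at this
    rwa [mem_AA, show t = -(1 ^ 2 * (t * (t / (t ^ 2 - t)))) + t ^ 2 * (t / (t ^ 2 - t)) by
      linear_combination -t * mul_inv_cancel₀ h0]
  · rcases hab i with rfl | rfl
    exacts [ht, e1 t ht]

theorem fld_of_mem (hD : D ∈ [chevG2, chevB2, chevD4, chevF4, chevE6, chevE7, chevE8]) {A : Sys D K Γ}
    (h1 : ∀ r, A.x r 1 ∈ M) : Fld A M ∧ ((∃ i, ∃ k ≠ sim i, 2 ≤ pr (sim i : Rt D) k) ∨ ∃ i j : Nd D, j ≠ i ∧ wt (sim j) i = 0) ∧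
      ∃ m, pr (tp D) (sim m) = 1 := by
  simp only [List.mem_cons, List.not_mem_nil, or_false] at hD
  rcases hD with rfl | rfl | rfl | rfl | rfl | rfl | rfl
  · obtain rfl := Subsingleton.elim ‹Good chevG2› good_G2
    exact ⟨fld_G2 p h1, by simp only [pr_eq_tab tab_G2, wt_eq_tab tab_G2]; decide +kernel⟩
  · obtain rfl := Subsingleton.elim ‹Good chevB2› good_B2
    exact ⟨fld_B2 p h1, by simp only [pr_eq_tab tab_B2, wt_eq_tab tab_B2]; decide +kernel⟩
  · obtain rfl := Subsingleton.elim ‹Good chevD4› good_D4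
    exact ⟨fld_of_chk p h1 tab_D4 (mkN _ 1) (mkR _ 22) (by decide +kernel) fun _ _ _ i j e =>
      absurd e ((by decide +kernel : ∀ i j : Nd chevD4, ¬ tabD4.wt (sim i).val j < -2) i j),
      Or.inr (by simp only [wt_eq_tab tab_D4]; decide +kernel), by simp only [pr_eq_tab tab_D4]; decide +kernel⟩
  · obtain rfl := Subsingleton.elim ‹Good chevF4› good_F4
    exact ⟨fld_of_chk p h1 tab_F4 (mkN _ 3) (mkR _ 46) (by decide +kernel) fun _ _ _ i j e =>
      absurd e ((by decide +kernel : ∀ i j : Nd chevF4, ¬ tabF4.wt (sim i).val j < -2) i j),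
      Or.inr (by simp only [wt_eq_tab tab_F4]; decide +kernel), by simp only [pr_eq_tab tab_F4]; decide +kernel⟩
  · obtain rfl := Subsingleton.elim ‹Good chevE6› good_E6
    exact ⟨fld_of_chk p h1 tab_E6 (mkN _ 1) (mkR _ 70) (by decide +kernel) fun _ _ _ i j e =>
      absurd e ((by decide +kernel : ∀ i j : Nd chevE6, ¬ tabE6.wt (sim i).val j < -2) i j),
      Or.inr (by simp only [wt_eq_tab tab_E6]; decide +kernel), by simp only [pr_eq_tab tab_E6]; decide +kernel⟩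
  · obtain rfl := Subsingleton.elim ‹Good chevE7› good_E7
    exact ⟨fld_of_chk p h1 tab_E7 (mkN _ 0) (mkR _ 124) (by decide +kernel) fun _ _ _ i j e =>
      absurd e ((by decide +kernel : ∀ i j : Nd chevE7, ¬ tabE7.wt (sim i).val j < -2) i j),
      Or.inr (by simp only [wt_eq_tab tab_E7]; decide +kernel), by simp only [pr_eq_tab tab_E7]; decide +kernel⟩
  · obtain rfl := Subsingleton.elim ‹Good chevE8› good_E8
    exact ⟨fld_of_chk p h1 tab_E8 (mkN _ 7) (mkR _ 238) (by decide +kernel) fun _ _ _ i j e =>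
      absurd e ((by decide +kernel : ∀ i j : Nd chevE8, ¬ tabE8.wt (sim i).val j < -2) i j),
      Or.inr (by simp only [wt_eq_tab tab_E8]; decide +kernel), by simp only [pr_eq_tab tab_E8]; decide +kernel⟩

/-- **Burgoyne–Griess–Lyons**, split case -/
theorem bgl (hD : D ∈ [chevG2, chevB2, chevD4, chevF4, chevE6, chevE7, chevE8]) {M : Subgroup (GL D.Idx K)} [Finite M]
    (hM : M ≤ D.group K) (h1 : ∀ r : Rt D, xG r 1 ∈ M) : ∃ F : Subfield K, Finite F ∧ (∀ t, xG (tp D) t ∈ M → t ∈ F) ∧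
      (∀ r : Rt D, ∀ t ∈ F, xG r t ∈ M) ∧ ∀ g ∈ M, ∀ i j, (g : Matrix D.Idx D.Idx K) i j ∈ F := by
  obtain ⟨⟨F, a1, a2⟩, a3, m, a4⟩ := fld_of_mem p hD (A := adj D K) h1
  have : Finite F := Finite.of_injective (fun t : F => (⟨t, (a1 t).1 t.2⟩ : AA (adj D K) M (tp D))) fun _ _ e =>
    Subtype.ext (congrArg Subtype.val e :)
  have a5 := fun r => le_AA (A := adj D K) h1 (fun t ht => (a1 t).1 ht) r
  cases nonempty_fintype F
  obtain ⟨n, -, hn⟩ := FiniteField.card F p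
  have a6 : ∀ t, iterateFrobenius K p n t = t ↔ t ∈ F := fun t => by
    rw [← mem_iff_pow, Nat.card_eq_fintype_card, hn, iterateFrobenius_def]
  refine ⟨F, this, fun t ht => (a1 t).2 ht, a5, fun g hg i j => (a6 _).1 ?_⟩
  exact congrArg (fun g : GL D.Idx K => (g : Matrix D.Idx D.Idx K) i j) (fix_of_field p (A := adj D K) (fun _ _ h => h) (group_eq (D := D) (K := K) ▸ hM)
    (map_xG (iterateFrobenius K p n)) (fun r t h => a5 r t ((a6 t).1 h)) (fun i t h => (a6 t).2 (a2 i t h)) a3 a4 g hg)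

omit [Finite M]

variable (K) in
/-- the fixed field of a power of the Frobenius map -/
def Fq (a : ℕ) : Subfield K := (iterateFrobenius K p a).eqLocusField (RingHom.id K)

theorem mem_Fq {a : ℕ} {t : K} : t ∈ Fq K p a ↔ t ^ p ^ a = t := by
  rw [← iterateFrobenius_def]; rfl

omit p in
theorem card_pow_of_le {F0 F : Subfield K} [Finite F] (h : F0 ≤ F) : ∃ r, 1 ≤ r ∧ Nat.card F = Nat.card F0 ^ r := by
  let _ : Algebra F0 F := (Subfield.inclusion h).toAlgebra
  have : Finite F0 := Finite.of_injective _ (Subfield.inclusion h).injective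
  exact ⟨_, Module.finrank_pos, Module.natCard_eq_pow_finrank (K := F0)⟩

theorem card_Fq [Finite K] {a r : ℕ} (hK : Nat.card K = (p ^ a) ^ r) : Nat.card (Fq K p a) = p ^ a :=
  (Nat.card_congr (Equiv.subtypeEquivRight fun _ => mem_Fq p)).trans (card_fix (Nat.one_le_pow _ _ hp.out.pos) hK)

theorem eq_or_top [Finite K] {a r : ℕ} (ha : 1 ≤ a) (hr : r.Prime) (hK : Nat.card K = (p ^ a) ^ r) {F : Subfield K}
    (h : Fq K p a ≤ F) : F = Fq K p a ∨ F = ⊤ := by
  obtain ⟨m, -, e1⟩ := card_pow_of_le h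
  obtain ⟨n, -, e2⟩ := card_pow_of_le (le_top : F ≤ ⊤)
  have h1 := Nat.one_lt_pow (by omega : a ≠ 0) hp.out.one_lt
  have e3 : Nat.card (⊤ : Subfield K) = Nat.card K := Nat.card_congr Subfield.topEquiv.toEquiv
  rw [card_Fq p hK] at e1
  have e4 : m * n = r := by rw [e3, hK, e1, ← pow_mul (p ^ a)] at e2; exact (Nat.pow_right_injective h1 e2).symm
  rcases (Nat.dvd_prime hr).1 ⟨n, e4.symm⟩ with rfl | rfl
  · exact Or.inl (SetLike.coe_injective (Set.eq_of_subset_of_ncard_le h (by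
      rw [← Nat.card_coe_set_eq, ← Nat.card_coe_set_eq]; exact (e1.trans ((pow_one _).trans (card_Fq p hK).symm)).le)).symm)
  · exact Or.inr (SetLike.coe_injective (Set.eq_of_subset_of_ncard_le (le_top : F ≤ ⊤) (by
      rw [← Nat.card_coe_set_eq, ← Nat.card_coe_set_eq]; exact (e3.trans (hK.trans e1.symm)).le)))

theorem exists_not_fix [Finite K] {a r : ℕ} (ha : 1 ≤ a) (hr : 1 < r) (hK : Nat.card K = (p ^ a) ^ r) :
    ∃ t : K, t ^ p ^ a ≠ t := by
  by_contra! h
  have e := card_Fq p hK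
  rw [Nat.card_congr (Equiv.subtypeUnivEquiv fun t => (mem_Fq p).2 (h t)), hK] at e
  exact hr.ne' (Nat.pow_right_injective (Nat.one_lt_pow (by omega : a ≠ 0) hp.out.one_lt) (e.trans (pow_one _).symm))

omit [Good D] in
theorem map_eq_iff {a : ℕ} {g : GL D.Idx K} : Matrix.GeneralLinearGroup.map (iterateFrobenius K p a) g = g ↔
    ∀ i j, (g : Matrix D.Idx D.Idx K) i j ^ p ^ a = (g : Matrix D.Idx D.Idx K) i j := by
  rw [← Units.val_inj, ← Matrix.ext_iff]; rfl

omit p in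
theorem closure_le {P : K → Prop} {M : Subgroup (GL D.Idx K)} :
    Subgroup.closure {g : GL D.Idx K | ∃ (s : ℕ) (t : K), P t ∧ (g : Matrix D.Idx D.Idx K) = D.x K s t} ≤ M ↔
      ∀ r : Rt D, ∀ t, P t → xG r t ∈ M := by
  rw [Subgroup.closure_le]
  refine ⟨fun h r t ht => h ⟨r, t, ht, eq_xG.2 rfl⟩, fun h g ⟨s, t, ht, e⟩ => ?_⟩
  by_cases hs : s < D.nroots
  · exact (eq_xG (r := ⟨s, hs⟩)).1 e ▸ h _ t ht
  · rw [ChevalleyDatum.x, dif_neg hs, Units.val_eq_one] at e
    exact e ▸ one_mem M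

end CA.H12BG5
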