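/-
Overgroups of the rational points of a twisted Chevalley group.
-/
import Cfsg.Agent.Lib.Lie.H12BG5

set_option autoImplicit false

namespace CA.H12BG6

open Equiv Cfsg.Lie CA.Chev CA.Chev.Twist CA.H12BT CA.H12BG1 CA.H12BG2 CA.H12BG3 CA.H12BG4

section field
variable {K : Type*} [Field K] {α : K →+* K} {B : AddSubgroup K} (hB : ∀ u, α u = u → ∀ t ∈ B, u * t ∈ B) (h1 : (1 : K) ∈ B)
  {t : K} (ht : t ∈ B) (hn : α t ≠ t)
include hB h1 ht hn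

theorem top2 (hα : ∀ t, α (α t) = t) (x : K) : x ∈ B := by
  have e := sub_ne_zero.2 hn
  have := add_mem (hB ((α t * x - t * α x) / (α t - t)) (by
    rw [map_div₀, ← neg_div_neg_eq]; simp [hα]) 1 h1) (hB ((α x - x) / (α t - t)) (by
    rw [map_div₀, ← neg_div_neg_eq]; simp [hα]) t ht)
  convert this using 1
  field_simp; ring

theorem top3 (hα : ∀ t, α (α (α t)) = t) (h : α t * α (α t) ∈ B) (x : K) : x ∈ B := by
  have e1 := sub_ne_zero.2 hn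
  have e2 : α t - α (α t) ≠ 0 := sub_ne_zero.2 fun e => hn (α.injective e).symm
  have e3 : t - α (α t) ≠ 0 := sub_ne_zero.2 fun e => hn (by simpa [hα] using congrArg α e)
  have k : ∀ y, α y = y → α (y / ((α t - t) * (t - α (α t)) * (α t - α (α t)))) =
      y / ((α t - t) * (t - α (α t)) * (α t - α (α t))) := fun y hy => by
    rw [map_div₀, hy]; congr 1; simp only [map_mul, map_sub, hα]; ring
  have := add_mem (add_mem (hB _ (k (x * t * (α t ^ 2 - α (α t) ^ 2) + α x * α t * (α (α t) ^ 2 - t ^ 2) +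
    α (α x) * α (α t) * (t ^ 2 - α t ^ 2)) (by simp only [map_mul, map_sub, map_add, map_pow, hα]; ring)) 1 h1)
    (hB _ (k (x * t * (α (α t) - α t) + α x * α t * (t - α (α t)) + α (α x) * α (α t) * (α t - t))
      (by simp only [map_mul, map_sub, map_add, hα]; ring)) t ht))
    (hB _ (k (x * (α (α t) - α t) + α x * (t - α (α t)) + α (α x) * (α t - t))
      (by simp only [map_mul, map_sub, map_add, hα]; ring)) _ h)
  convert this using 1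
  field_simp; ring

end field

variable {D : ChevalleyDatum} [Good D] {K : Type*} [Field K] {Γ : Type*} [Group Γ] {A : Sys D K Γ} {M : Subgroup Γ}

theorem nw_append (L L' : List (Nd D)) : A.nw (L ++ L') = A.nw L * A.nw L' := by simp [Sys.nw]

theorem nw_conj (L : List (Nd D)) (r : Rt D) :
    ∃ ε : K, (ε = 1 ∨ ε = -1) ∧ ∀ u, A.nw L * A.x r u * (A.nw L)⁻¹ = A.x (wd L r) (ε * u) := by
  induction L with
  | nil => exact ⟨1, Or.inl rfl, by simp⟩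
  | cons i L ih =>
    obtain ⟨ε, h, e⟩ := ih
    refine ⟨et (sim i) (wd L r) * ε, ?_, fun u => ?_⟩
    · rcases et_pm' (K := K) (sim i) (wd L r) with h' | h' <;> rcases h with rfl | rfl <;> simp [h']
    · rw [A.nw_cons, show ∀ a b c : Γ, a * b * c * (a * b)⁻¹ = a * (b * c * b⁻¹) * a⁻¹ by intros; group, e, A.n_conj,
        refl_sim]
      simp [mul_assoc]

variable (A M) in
/-- leading coordinates of the elements of `M` -/
def BB {γ : Rt D} (hγ : Pos γ) : AddSubgroup K where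
  carrier := {t | ∃ g ∈ M, g ∈ A.X (Lh (ht γ)) ∧ cf A γ g = t}
  add_mem' := by
    rintro _ _ ⟨a, a1, a2, rfl⟩ ⟨b, b1, b2, rfl⟩
    exact ⟨a * b, mul_mem a1 b1, mul_mem a2 b2, cf_mul hγ a2 b2⟩
  zero_mem' := ⟨1, one_mem _, one_mem _, cf_of_mem hγ (one_mem _)⟩
  neg_mem' := by
    rintro _ ⟨a, a1, a2, rfl⟩
    exact ⟨a⁻¹, inv_mem a1, inv_mem a2, cf_inv hγ a2⟩

theorem BB_sim {i : Nd D} {t : K} : t ∈ BB A M (pos_sim i) ↔ t ∈ CC A M i := by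
  change (∃ g ∈ M, g ∈ A.X _ ∧ _) ↔ _
  rw [L_sim]; rfl

theorem cf_mul_T {γ : Rt D} (hγ : Pos γ) (u : K) {z : Γ} (hz : z ∈ A.X (Tg γ)) :
    A.x γ u * z ∈ A.X (Lh (ht γ)) ∧ cf A γ (A.x γ u * z) = u :=
  ⟨mul_mem (x_mem_L A hγ le_rfl u) (T_le_L A γ hz), cf_eq hγ (by simpa using hz)⟩

theorem word_cf {β γ : Rt D} (hγ : Pos γ) {L : List (Nd D)} (h : wd L β = γ) {S : Set (Rt D)} (hS : ∀ r ∈ S, wd L r ∈ Tg γ)
    (u : K) {z : Γ} (hz : z ∈ A.X S) : A.nw L * (A.x β u * z) * (A.nw L)⁻¹ ∈ A.X (Lh (ht γ)) ∧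
      ∃ ε : K, (ε = 1 ∨ ε = -1) ∧ cf A γ (A.nw L * (A.x β u * z) * (A.nw L)⁻¹) = ε * u := by
  obtain ⟨ε, h1, h2⟩ := nw_conj (A := A) L β
  have := cf_mul_T hγ (ε * u) ((A.act_nw L).conj_X hS hz)
  rw [← h, ← h2, h, show ∀ a b : Γ, a * b * a⁻¹ * (a * z * a⁻¹) = a * (b * z) * a⁻¹ by intros; group] at this
  exact ⟨this.1, ε, h1, this.2⟩

theorem BB_of_word {β γ : Rt D} (hγ : Pos γ) {L : List (Nd D)} (hn : A.nw L ∈ M) (h : wd L β = γ) {S : Set (Rt D)}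
    (hS : ∀ r ∈ S, wd L r ∈ Tg γ) {u : K} {z : Γ} (hz : z ∈ A.X S) (hM : A.x β u * z ∈ M) : u ∈ BB A M hγ := by
  obtain ⟨a1, ε, a2, a3⟩ := word_cf hγ h hS u hz
  exact (sgn_mem a2).1 ⟨_, mul_mem (mul_mem hn hM) (inv_mem hn), a1, a3⟩

theorem BB_word {β γ : Rt D} (hβ : Pos β) (hγ : Pos γ) {L : List (Nd D)} (hn : A.nw L ∈ M) (h : wd L β = γ)
    (hS : ∀ r ∈ Tg β, wd L r ∈ Tg γ) : BB A M hβ ≤ BB A M hγ := by
  rintro _ ⟨g, g1, g2, rfl⟩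
  exact BB_of_word hγ hn h hS (cf_spec hβ g2) (by rwa [mul_inv_cancel_left])

theorem wd_val {T : Tab} (hT : tab D = T) (L : List (Nd D)) (r : Rt D) : (wd L r).val = apW T (L.map Fin.val) r :=
  hT ▸ (apW_eq L r).symm

/-- commutators -/
def cm (s y : Γ) : Γ := s * y * s⁻¹ * y⁻¹

theorem cm_mem {s y : Γ} (hs : s ∈ M) (hy : y ∈ M) : cm s y ∈ M := mul_mem (mul_mem (mul_mem hs hy) (inv_mem hs)) (inv_mem hy)

/-- leading terms -/
def Ld (A : Sys D K Γ) (γ : Rt D) (g : Γ) (t : K) : Prop := g ∈ A.X (Lh (ht γ)) ∧ cf A γ g = t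

theorem Ld.cm_mul {γ : Rt D} (hγ : Pos γ) {s y z : Γ} {t u : K} (h : Ld A γ (cm s y) t) (h' : Ld A γ (cm s z) u)
    (hy : y ∈ A.U) : Ld A γ (cm s (y * z)) (t + u) := by
  have := A.conj_mem (ideal_L _) hy _ h'.1
  rw [show cm s (y * z) = cm s y * (y * cm s z * y⁻¹) by simp only [cm]; group]
  exact ⟨mul_mem h.1 this, by rw [cf_mul hγ h.1 this, cf_conj hγ h'.1 hy, h.2, h'.2]⟩

theorem ld_one {β γ : Rt D} (hβ : Pos β) {i : Nd D} {C : ℤ} (h : cT (sim i) β = [(γ, C, 1, 1)]) {s : Γ} (hs : s ∈ A.U)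
    (t : K) : Ld A γ (cm s (A.x β t)) (C * cf A (sim i) s * t) :=
  have := cf_comm hβ h (by simp) hs t
  ⟨this.2.1 ▸ comm_mem_L hβ hs t, this.2.2⟩

theorem ld_zero {β γ : Rt D} (hγ : Pos γ) (hβ : Pos β) (e : ht γ = ht β + 1) (h : ∃ i, rt γ i < rt β i) {s : Γ}
    (hs : s ∈ A.U) (t : K) : Ld A γ (cm s (A.x β t)) 0 := by
  have := comm_mem_T hβ e (S := {r | Pos r}) (fun r hr => ⟨hr, fun e => by
    obtain ⟨i, hi⟩ := h
    have := Pos.rt_nonneg hr i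
    rw [e, Pi.add_apply] at hi; omega⟩) hs t
  exact ⟨T_le_L A γ this, cf_of_mem hγ this⟩

/-- the data of an orbit of nodes -/
structure NodeD (τ : Twist A) (φ : Γ →* Γ) (i : Nd D) (l : List (Nd D)) : Prop where
  nw : A.nw l ∈ τ.G1
  mem : ∀ j, j ∈ orb τ.ν i ↔ j ∈ l
  orth : ∀ j ∈ orb τ.ν i, ∀ k ∈ orb τ.ν i, j ≠ k → wt (sim j) k = 0
  sim : ∃ y ∈ τ.X1 (τ.Op i), φ y = y ∧ cf A (sim i) y = 1 ∧ ((2 : K) = 0 → y * y = 1)

/-- an overgroup of the rational points of a twisted group -/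
structure Ov (τ : Twist A) (α : K →+* K) (φ : Γ →* Γ) (η : Rt D → ℤ) (M : Subgroup Γ) : Prop where
  hφ : ∀ r t, φ (A.x r t) = A.x r (α t)
  f : ∀ r t, τ.T.f r t = η r * α t
  hc : ∀ j, τ.T.c (sim j) = 1
  le : M ≤ τ.G1
  ge : ∀ g ∈ τ.G1, φ g = g → g ∈ M
  lin : Lin τ

variable {τ : Twist A} {α : K →+* K} {φ : Γ →* Γ} {η : Rt D → ℤ}

namespace Ov
variable (h : Ov τ α φ η M)
include h

theorem α_sim (i : Nd D) (t : K) : τ.T.α (sim i) t = α t := by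
  have := h.f (sim i) 1
  rw [f_sim h.hc, map_one, map_one, mul_one] at this
  rw [← f_sim h.hc, h.f, ← this, one_mul]

theorem φ_n (r : Rt D) {u : Kˣ} (hu : α u = u) : φ (A.n r u) = A.n r u := by simp [Sys0.n_def, h.hφ, hu]

theorem φ_nw (L : List (Nd D)) : φ (A.nw L) = A.nw L := by
  induction L with
  | nil => simp
  | cons i L ih => rw [A.nw_cons, map_mul, ih, h.φ_n _ (map_one α)]

theorem x_mem {r : Rt D} (hr : τ.ρ r = r ∧ η r = 1) {t : K} (ht : α t = t) : A.x r t ∈ M :=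
  h.ge _ (τ.x_mem_G1 hr.1 (by simp [h.f, hr.2, ht])) (by rw [h.hφ, ht])

theorem n_mem {r : Rt D} (hr : τ.ρ r = r ∧ η r = 1) {t : Kˣ} (ht : α t = t) : A.n r t ∈ M :=
  h.ge _ (τ.n_mem_G1 hr.1 (by simp [h.f, hr.2, ht])) (h.φ_n r ht)

theorem fix {g : Γ} (hg : g ∈ M) : τ.σ g = g := τ.G1_le_F (h.le hg)

theorem BB_mul {r γ : Rt D} (hγ : Pos γ) (hr : τ.ρ r = r ∧ η r = 1) (e : pr r γ = 1) (u : K) (hu : α u = u) :
    ∀ t ∈ BB A M hγ, u * t ∈ BB A M hγ := by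
  rintro _ ⟨g, g1, g2, rfl⟩
  by_cases h0 : u = 0
  · rw [h0, zero_mul]; exact zero_mem _
  have k : A.h r (Units.mk0 u h0) ∈ M := mul_mem (h.n_mem hr hu) (h.n_mem hr (by simp))
  exact ⟨_, mul_mem (mul_mem k g1) (inv_mem k), A.H_conj_X (A.h_mem _ _) g2,
    cf_H hγ (A.h_mem _ _) (fun v => by simp [A.h_conj, e]) g2⟩

theorem cf_ρ {γ : Rt D} (hγ : Pos γ) {g : Γ} (hg : g ∈ A.X (Lh (ht γ))) (e : τ.σ g = g) :
    cf A (τ.ρ γ) g = η γ * α (cf A γ g) := by rw [← h.f, ← cf_σ τ h.lin.ht hγ hg, e]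

theorem co_ι (i : Nd D) {g : Γ} (hg : g ∈ A.U) (e : τ.σ g = g) : cf A (sim (τ.ι i)) g = α (cf A (sim i) g) := by
  rw [← ρ_sim, ← h.α_sim i, ← f_sim h.hc, ← cf_σ τ h.lin.ht (pos_sim i) (L_sim A i ▸ hg), e]

theorem mem_of_BB {γ : Rt D} (hγ : Pos γ) (h1 : ∀ r, ht γ < ht r → τ.ρ r = r ∧ η r = 1)
    (h2 : ∀ r, ht r = ht γ → r = γ ∨ r = τ.ρ γ ∨ r = τ.ρ (τ.ρ γ)) {y : Γ} (hy : y ∈ A.X (Lh (ht γ))) (e : τ.σ y = y)
    (hb : cf A γ y ∈ BB A M hγ) : y ∈ M := by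
  obtain ⟨g, g1, g2, g3⟩ := hb
  have z1 := mul_mem (inv_mem g2) hy
  have z2 : τ.σ (g⁻¹ * y) = g⁻¹ * y := by rw [map_mul, map_inv, e, h.fix g1]
  have z3 : cf A γ (g⁻¹ * y) = 0 := by rw [cf_mul hγ (inv_mem g2) hy, cf_inv hγ g2, g3, neg_add_cancel]
  rw [← mul_inv_cancel_left g y]
  generalize g⁻¹ * y = z at z1 z2 z3
  have z4 : cf A (τ.ρ γ) z = 0 := by rw [h.cf_ρ hγ z1 z2, z3, map_zero, mul_zero]
  have z5 : cf A (τ.ρ (τ.ρ γ)) z = 0 := by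
    rw [h.cf_ρ (γ := τ.ρ γ) ((τ.pos γ).2 hγ) (by rwa [h.lin.ht]) z2, z4, map_zero, mul_zero]
  have z6 := mem_L_succ z1 fun r _ hr => by rcases h2 r hr with rfl | rfl | rfl <;> assumption
  refine mul_mem g1 (h.ge _ (τ.mem_G1_of_U (L_le_U A _ z1) z2) (Eq.trans ?_ z2))
  refine (A.X_le (M := φ.eqLocus τ.σ)).2 (fun r hr t => ?_) z6
  have := h1 r hr.2
  change φ _ = τ.σ _
  rw [h.hφ, τ.σ_x, h.f, this.1, this.2, Int.cast_one, one_mul]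

theorem mem_of_word {γ : Rt D} (hγ : Pos γ) (h1 : ∀ r, ht γ < ht r → τ.ρ r = r ∧ η r = 1)
    (h2 : ∀ r, ht r = ht γ → r = γ ∨ r = τ.ρ γ ∨ r = τ.ρ (τ.ρ γ)) {L : List (Nd D)} (hn : A.nw L ∈ M) {β : Rt D}
    (e : wd L β = γ) {S : Set (Rt D)} (hS : ∀ r ∈ S, wd L r ∈ Tg γ) {u : K} (hu : u ∈ BB A M hγ) {z : Γ} (hz : z ∈ A.X S)
    (hF : A.x β u * z ∈ τ.F) : A.x β u * z ∈ M := by
  obtain ⟨a1, ε, a2, a3⟩ := word_cf hγ e hS u hz
  have := h.mem_of_BB hγ h1 h2 a1 (by rw [map_mul, map_mul, map_inv, h.fix hn, τ.mem_F.1 hF]) (a3 ▸ (sgn_mem a2).2 hu)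
  rwa [Subgroup.mul_mem_cancel_right M (inv_mem hn), Subgroup.mul_mem_cancel_left M hn] at this

theorem node1 {i : Nd D} (e : τ.ι i = i) : NodeD τ φ i [i] := by
  refine ⟨?_, by simp [orb1 e], by simp [orb1 e], _, (mem_Op1 h.hc e).2 ⟨1, map_one _, rfl⟩, by simp [h.hφ],
    cf_x (pos_sim i) 1, fun e => by rw [← A.add, one_add_one_eq_two, e, A.x_zero]⟩
  simpa using τ.n_mem_G1 ((ρ_sim i).trans (congrArg _ e)) (t := 1) (by simp [f_sim h.hc])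

theorem node2 {i : Nd D} (e : τ.Ty2 i) : NodeD τ φ i [i, τ.ι i] := by
  have a := (e.mem_Op h.hc).2 ⟨1, rfl⟩
  have b := τ.X1_On_le i ((e.mem_On h.hc).2 ⟨-1, rfl⟩)
  refine ⟨?_, by simp [e.orb_eq], e.wt', _, a, by simp [h.hφ],
    (cf_mul_T (pos_sim i) 1 (Tg_sim i ▸ A.x_mem_Up (pos_sim _) (sim_injective.ne e.ne.symm) _)).2, fun e2 => ?_⟩
  · have := mul_mem (mul_mem (τ.X1_Op_le i a) b) (τ.X1_Op_le i a)
    simpa [e.orth.n_mul] using this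
  · rw [(e.orth.symm.xx _ _).mul_mul_mul_comm]; simp [← A.add, one_add_one_eq_two, e2]

theorem node3 {i j k : Nd D} (e : τ.Ty3 i j k) : NodeD τ φ i [i, j, k] := by
  have a := (e.mem_Op h.hc).2 ⟨1, rfl⟩
  have b := τ.X1_On_le i ((e.mem_On h.hc).2 ⟨-1, rfl⟩)
  refine ⟨?_, by simp [e.orb_eq], e.wt', _, a, by simp [h.hφ],
    by rw [mul_assoc]; exact (cf_mul_T (pos_sim i) 1 (Tg_sim i ▸ e.mem_Up _ _)).2, fun e2 => ?_⟩
  · have := mul_mem (mul_mem (τ.X1_Op_le i a) b) (τ.X1_Op_le i a)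
    rw [A.nw_cons, A.nw_cons, A.nw_cons, A.nw_nil, mul_one, ← mul_assoc, e.o1.n_mul, Sys0.n_def,
      mul3_mul3 ((e.o2.yx _ _).mul_left (e.o3.yx _ _)) ((e.o2.xx _ _).mul_left (e.o3.xx _ _))
        ((e.o2.xy _ _).mul_left (e.o3.xy _ _))]
    simpa using this
  · rw [mul3_mul3 (e.o1.symm.xx _ _) (e.o2.symm.xx _ _) (e.o3.symm.xx _ _)]; simp [← A.add, one_add_one_eq_two, e2]

variable {L : Nd D → List (Nd D)} (hL : ∀ i, NodeD τ φ i (L i))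
include hL

theorem nw_mem (ws : List (Nd D)) : A.nw (ws.flatMap L) ∈ M := by
  induction ws with
  | nil => exact one_mem _
  | cons i ws ih => rw [List.flatMap_cons, nw_append]; exact mul_mem (h.ge _ (hL i).nw (h.φ_nw _)) ih

theorem one_mem_CC (i : Nd D) : (1 : K) ∈ CC A M i := by
  obtain ⟨y, y1, y2, y3, -⟩ := (hL i).sim
  exact ⟨y, h.ge _ (τ.X1_Op_le i y1) y2, Op_le_U i y1.1, y3⟩

theorem fix_of [Finite M] (p : ℕ) [hp : Fact p.Prime] [CharP K p] (hθ : Function.Injective A.θ)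
    (hw : ∀ i, wJ (orb τ.ν i) = wd (L i)) (desc : ∀ r, 2 ≤ ht r → ∃ i, ht (wd (L i) r) < ht r)
    (htp : τ.ρ (tp D) = tp D ∧ η (tp D) = 1) {m : Nd D} (hm : τ.ι m = m) (hm' : pr (tp D) (sim m) = 1) {i0 : Nd D}
    (h0 : τ.ι i0 ≠ i0) (hC : ∀ i, ∀ t ∈ CC A M i, α t = t) : ∀ g ∈ M, φ g = g := by
  refine le_F p (τ := τ) (σ := fieldTwist α φ h.hφ) ⟨⟨hθ, h.le.trans τ.G1_le_G, h.le.trans τ.G1_le_F, h.lin,
    fun i => (hL i).orth, by simpa only [hw] using desc, fun j => ?_⟩, fun _ => rfl, fun g hg => ?_,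
    fun u hu e e' => h.ge u (τ.mem_G1_of_U hu e) e', fun i => ⟨_, h.ge _ (hL i).nw (h.φ_nw _), A.nw_mem _, h.φ_nw _,
      hw i ▸ A.act_nw _⟩, fun g hg hU => ?_⟩ (h.x_mem htp (map_one α)) (fun e => ?_) fun _ => ⟨m, hm', ?_⟩
  · obtain ⟨y, y1, y2, y3, -⟩ := (hL j).sim
    exact ⟨y, h.ge _ (τ.X1_Op_le j y1) y2, y1.1, y3 ▸ one_ne_zero⟩
  · refine (A.X_le (M := (τ.σ.comp φ).eqLocus (φ.comp τ.σ))).2 (fun r _ t => ?_) hg
    change τ.σ (φ _) = φ (τ.σ _)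
    simp [h.hφ, τ.σ_x, h.f]
  · have hU' : φ g ∈ A.U := (fieldTwist α φ h.hφ).is.mem_U (fun _ => Iff.rfl) hU
    refine mem_L_two (mul_mem (inv_mem hU) hU') fun i => ?_
    have := cf_σ (fieldTwist α φ h.hφ) (fun _ => rfl) (pos_sim i) (L_sim A i ▸ hU)
    change cf A (sim i) (φ g) = 1 * α _ at this
    change cf A (sim i) (g⁻¹ * φ g) = 0
    rw [co_mul i (inv_mem hU) hU', co_inv i hU, this, hC i _ ⟨g, hg, hU, rfl⟩, one_mul, neg_add_cancel]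
  · subst e
    obtain ⟨y, y1, y2, y3, y4⟩ := (hL i0).sim
    have hU := Op_le_U i0 y1.1
    exact ⟨y, h.ge _ (τ.X1_Op_le i0 y1) y2, hU, y4 (by exact_mod_cast CharP.cast_eq_zero K 2), i0, y3 ▸ one_ne_zero,
      Or.inr ⟨_, h0, by rw [h.co_ι i0 hU y1.2, y3, map_one]; exact one_ne_zero⟩⟩
  · exact h.ge _ (τ.X1_Op_le m ((mem_Op1 h.hc hm).2 ⟨1, map_one _, rfl⟩)) (by simp [h.hφ])

omit hL in
theorem G1_le (ok : τ.OK) {ι : Type*} {rep : ι → Nd D} (hr : ∀ i, ∃ a, i ∈ orb τ.ν (rep a))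
    (h1 : ∀ a, τ.ι (rep a) ≠ rep a → τ.X1 (τ.Op (rep a)) ≤ M ∧ τ.X1 (τ.On (rep a)) ≤ M) : τ.G1 ≤ M := by
  have k : ∀ a, τ.X1 (τ.Op (rep a)) ≤ M ∧ τ.X1 (τ.On (rep a)) ≤ M := fun a => by
    by_cases e : τ.ι (rep a) = rep a
    · refine ⟨fun g hg => h.ge g (τ.X1_Op_le _ hg) ?_, fun g hg => h.ge g (τ.X1_On_le _ hg) ?_⟩
      · obtain ⟨t, e1, rfl⟩ := (mem_Op1 h.hc e).1 hg
        rw [h.hφ, ← h.α_sim, e1]
      · obtain ⟨t, e1, rfl⟩ := (mem_On1 h.hc e).1 hg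
        rw [h.hφ, ← h.α_sim, e1]
    · exact h1 a e
  exact ok.G1_le (fun i => by obtain ⟨a, ha⟩ := hr i; rw [Op_congr ha]; exact (k a).1)
    fun i => by obtain ⟨a, ha⟩ := hr i; rw [On_congr ha]; exact (k a).2

end Ov

theorem final {τ : Twist (adjG D K)} {Gt : Subgroup (GL D.Idx K)} (hR : Real τ Gt) {q : ℕ} (hq : ∀ t, α t = t ^ q)
    (hf : ∀ r t, τ.T.f r t = η r * α t) (hc : ∀ j, τ.T.c (sim j) = 1) (lin : Lin τ)
    (main : ∀ φ M, Ov τ α φ η M → (∀ g ∈ M, φ g = g) ∨ τ.G1 ≤ M)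
    (ne : ∃ i, ∃ g ∈ τ.X1 (τ.Op i), α (cf (adjG D K) (sim i) g) ≠ cf (adjG D K) (sim i) g) {M : Subgroup (GL D.Idx K)}
    (hM : ∀ g : GL D.Idx K, g ∈ M ↔ g ∈ Gt ∧ ∀ i j, (g : Matrix D.Idx D.Idx K) i j ^ q = (g : Matrix D.Idx D.Idx K) i j) :
    M ≠ Gt ∧ ∀ H : Subgroup (GL D.Idx K), M ≤ H → H ≤ Gt → H = M ∨ H = Gt := by
  let φ : D.group K →* D.group K := ((Matrix.GeneralLinearGroup.map α).comp (D.group K).subtype).codRestrict _ fun g =>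
    ((adj D K).X_le (S := Set.univ) (M := (D.group K).comap (Matrix.GeneralLinearGroup.map α))).2
      (fun r _ t => by change Matrix.GeneralLinearGroup.map α (xG r t) ∈ D.group K; rw [H12BG5.map_xG]; exact xG_mem_group _ _)
      ((group_eq (D := D) (K := K)).le g.2)
  have hφ : ∀ r t, φ ((adjG D K).x r t) = (adjG D K).x r (α t) := fun r t => Subtype.ext (H12BG5.map_xG α r t)
  have h1 : ∀ g : D.group K, g.1 ∈ M ↔ g ∈ τ.G1 ∧ φ g = g := fun g => by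
    rw [hM, hR.mem_iff, Subtype.ext_iff, ← Units.val_inj, ← Matrix.ext_iff]; simp only [← hq]; rfl
  refine ⟨fun e => ?_, fun H h2 h3 => ?_⟩
  · obtain ⟨i, g, g1, g2⟩ := ne
    have := cf_σ (fieldTwist α φ hφ) (fun _ => rfl) (pos_sim i) ((L_sim (adjG D K) i).ge (Op_le_U i g1.1))
    change cf _ (sim i) (φ g) = 1 * α _ at this
    rw [((h1 g).1 (e ▸ hR.mem_iff.2 (τ.X1_Op_le i g1))).2, one_mul] at this
    exact g2 this.symm
  rcases main φ (H.subgroupOf (D.group K)) ⟨hφ, hf, hc, fun g hg => hR.mem_iff.1 (h3 hg),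
    fun g hg e => h2 ((h1 g).2 ⟨hg, e⟩), lin⟩ with h | h
  · exact Or.inl (le_antisymm (fun g hg => (h1 ⟨g, hR.le (h3 hg)⟩).2 ⟨hR.mem_iff.1 (h3 hg), h _ hg⟩) h2)
  · exact Or.inr (le_antisymm h3 fun g hg => h (hR.mem_iff (g := ⟨g, hR.le hg⟩).1 hg))

end CA.H12BG6
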