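/-
The classes of involutions of the Chevalley group of type E6 in characteristic two.
-/
import Cfsg.Agent.Lib.Lie.H12Inv3

set_option autoImplicit false

namespace CA.H12InvE6

open Cfsg.Lie CA.Chev CA.H12Inv2 CA.H12Sup CA.H12Inv3

noncomputable def rfE6 (i : ℕ) : ℕ → ℕ := nb (getN [0x47464544433736353433322d2c2b2a0f4241403f3e3d31302f2e3c3b3a39292827262524232221201f1e0e0d0c0b191817160a0908070605381d1c1b1a1514131211100403020100, 0x46474544434241403c3b3a3f3e3d39383736352d2c2b292827193433322a31302f2625242322211817161d1514132e201f1e1c1b1a1211100f0e0a09080d0c0b0706050403020001, 0x47464241404544433f3e3d3c3b3a383937363531302f3433322e2928271d2d2c2b2625242322211c1b1a2a201f1e191514131817161211100e0f0d0c0b0a09080403020706050100, 0x4745464443423f3e41403d3c3b393a3837343336353231302e2f2d2c2a2b262520292824231f1e2722211c1d1b1a181917161512111413100f0d0e0c0b0a07060908050403010200,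 0x47464445434142403f3d3e3c3a3b3938363735343233312f302e2d2b2c2a2927282422262125231f201e1d1b1c1a191718161415131210110f0e0c0d0b090a080705060402030100, 0x47464543444240413e3f3d3b3c3a393837353633343230312f2e2c2d2b2a282927252623242122201e1f1d1c1a1b191816171513141112100f0e0d0b0c0a08090607050304020100] i)
noncomputable def w0E6 : ℕ → ℕ := nb 0x10205100306110813160b1a1e21230407120914170a1518190c1b1f220d1c200e1d0f382a39272b3a25282c3b2e2f323d30333e3540432426292d3c31343f3641443742454647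
def l0E6 : List ℕ := [0, 1, 2, 0, 3, 1, 2, 0, 3, 2, 4, 3, 1, 2, 0, 3, 2, 4, 3, 1, 5, 4, 3, 1, 2, 0, 3, 2, 4, 3, 1, 5, 4, 3, 2, 0]
def rsE6 : List (List ℕ × List ℕ × List ℕ × ℤ) := [([71], [], [71], 2),
  ([68, 66], [69, 70, 71], [68, 66], 2),
  ([55, 65, 67], [66, 68, 69, 70, 71], [55, 65, 67], 3)]
def clE6 : List (List ℕ × List St × List ℕ) := [([], [], []),
  ([32], [.N [1, 3, 4, 5, 2, 3, 4, 0, 2, 1]], [71]),
  ([29, 35], [.N [5, 4, 3, 0, 2, 1, 3, 4, 1, 3, 0]], [68, 66]),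
  ([15, 25, 35], [.N [3, 4, 5, 2, 3, 0, 2, 1, 3, 4, 2, 3, 2]], [55, 65, 67]),
  ([18, 25, 29, 34], [.U [40, 42, 43, 44, 47, 50, 53] [46, 42, 37], .N [4, 3, 0, 2, 1, 3, 4, 5, 3, 4, 0, 2, 1, 3, 0]], [55, 65, 67])]
def datE6 : List (List ℕ × List ℕ × ℕ) := [([], [5, 4, 3, 0, 2, 1, 3, 4, 5, 1, 3, 4], 4),
  ([0], [], 0),
  ([1], [3, 4, 2, 3, 0, 2, 1, 3, 4, 5, 0, 2, 3, 4, 2, 3, 1], 3),
  ([0, 1], [], 0),
  ([2], [], 0),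
  ([0, 2, 0], [], 0),
  ([1, 2], [], 0),
  ([0, 1, 2, 0], [], 0),
  ([3], [3, 4, 2, 3, 0, 2, 1, 3, 4, 5, 0, 2, 3, 4, 2, 1, 3], 3),
  ([0, 3], [], 0),
  ([1, 3, 1], [], 0),
  ([0, 1, 3, 1], [], 0),
  ([2, 3, 2], [], 0),
  ([0, 2, 0, 3, 2, 0], [], 0),
  ([1, 2, 3, 1, 2, 3], [], 0),
  ([0, 1, 2, 0, 3, 1, 2, 0, 3, 2], [], 0),
  ([4], [], 0),
  ([0, 4], [], 0),
  ([1, 4], [], 0),
  ([0, 1, 4], [], 0),
  ([2, 4], [], 0),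
  ([0, 2, 0, 4], [], 0),
  ([1, 2, 4], [], 0),
  ([0, 1, 2, 0, 4], [], 0),
  ([3, 4, 3], [], 0),
  ([0, 3, 4, 3], [], 0),
  ([1, 3, 1, 4, 3, 1], [], 0),
  ([0, 1, 3, 1, 4, 3, 1], [], 0),
  ([2, 3, 2, 4, 3, 2], [4, 3, 0, 2, 1, 3, 4, 5, 3, 4, 2, 1, 3, 1, 0], 2),
  ([0, 2, 0, 3, 2, 0, 4, 3, 2, 0], [], 0),
  ([1, 2, 3, 1, 2, 3, 4, 3, 1, 2, 3, 4], [], 0),
  ([0, 1, 2, 0, 3, 1, 2, 0, 3, 2, 4, 3, 1, 2, 0, 3, 2, 4, 3, 1], [], 0),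
  ([5], [], 0),
  ([0, 5], [], 0),
  ([1, 5], [], 0),
  ([0, 1, 5], [], 0),
  ([2, 5], [], 0),
  ([0, 2, 0, 5], [], 0),
  ([1, 2, 5], [], 0),
  ([0, 1, 2, 0, 5], [], 0),
  ([3, 5], [], 0),
  ([0, 3, 5], [], 0),
  ([1, 3, 1, 5], [], 0),
  ([0, 1, 3, 1, 5], [], 0),
  ([2, 3, 2, 5], [], 0),
  ([0, 2, 0, 3, 2, 0, 5], [], 0),
  ([1, 2, 3, 1, 2, 3, 5], [], 0),
  ([0, 1, 2, 0, 3, 1, 2, 0, 3, 2, 5], [], 0),
  ([4, 5, 4], [], 0),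
  ([0, 4, 5, 4], [], 0),
  ([1, 4, 5, 4], [], 0),
  ([0, 1, 4, 5, 4], [], 0),
  ([2, 4, 5, 4], [], 0),
  ([0, 2, 0, 4, 5, 4], [], 0),
  ([1, 2, 4, 5, 4], [], 0),
  ([0, 1, 2, 0, 4, 5, 4], [], 0),
  ([3, 4, 3, 5, 4, 3], [], 0),
  ([0, 3, 4, 3, 5, 4, 3], [], 0),
  ([1, 3, 1, 4, 3, 1, 5, 4, 3, 1], [], 0),
  ([0, 1, 3, 1, 4, 3, 1, 5, 4, 3, 1], [], 0),
  ([2, 3, 2, 4, 3, 2, 5, 4, 3, 2], [], 0),
  ([0, 2, 0, 3, 2, 0, 4, 3, 2, 0, 5, 4, 3, 2, 0], [5, 4, 2, 3, 0, 2, 1, 3, 4, 5, 4, 3, 2, 1, 3, 2, 1, 0], 1),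
  ([1, 2, 3, 1, 2, 3, 4, 3, 1, 2, 3, 4, 5, 4, 3, 1, 2, 3, 4, 5], [], 0),
  ([0, 1, 2, 0, 3, 1, 2, 0, 3, 2, 4, 3, 1, 2, 0, 3, 2, 4, 3, 1, 5, 4, 3, 1, 2, 0, 3, 2, 4, 3, 1, 5, 4, 3, 2, 0], [5, 4, 2, 3, 0, 2, 1, 3, 4, 5, 3, 2, 1, 3, 2, 1, 0], 0)]

def zE6 (L : List ℕ) : List ℕ := if L = [] then [0] else []

theorem h_rf : rfChk tabE6 rfE6 = true := by decide +kernel
theorem h_w0 : w0Chk tabE6 rfE6 l0E6 w0E6 = true := by decide +kernel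
theorem h_rs : repChk tabE6 id rsE6 zE6 = true := by decide +kernel
theorem h_cl : clE6.all (clsChk tabE6 rfE6 id (O1 tabE6.l) (rsE6.map Prod.fst)) = true := by decide +kernel
theorem h_dat : allI (jChk tabE6 rfE6 (O1 tabE6.l) id (fun j i => j == i) w0E6 clE6.length
    fun c => bW tabE6 ((clE6.map Prod.fst).getD c [])) datE6 0 = true := by decide +kernel

theorem reps {K Γ : Type*} [Field K] [Finite K] [CharP K 2] [Group Γ] (A : Sys chevE6 K Γ)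
    (hθ : Function.Injective A.θ) : Reps (idTw A) (rsE6.map Prod.fst) :=
  have C := ctx_id A hθ tab_E6 h_rf
  reps_of_chk C h_rs (fun _ => rfl) (hob_id A) h_w0 (cls_of_all C h_cl) (by decide +kernel) h_dat

end CA.H12InvE6
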