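/-
The classes of involutions of the Chevalley group of type F4 in characteristic two.
-/
import Cfsg.Agent.Lib.Lie.H12Inv3

set_option autoImplicit false

namespace CA.H12InvF4

open Cfsg.Lie CA.Chev CA.H12Inv2 CA.H12Sup CA.H12Inv3

noncomputable def rfF4 (i : ℕ) : ℕ → ℕ := nb (getN [0x2f2e2d28201f1e2c2726251d1c1b0e2b2a292423221a19181716150d0c0b060504211413120a09080311100f07020100, 0x2f2e2b2c2d2a292728242326252122201a191d1c141f1e181711101b131216150f0d0e0a090c0b070806050203040100, 0x2f2d2e2c2a2b2928262725242223211f201e1d1b1c18161a151917131412110f100e0c0d0b0a08090706040503010200, 0x2e2f2d2c2b292a2827252623242221201e1f1c1d1b191a1718151614121310110f0e0d0b0c090a080705060403020001] i)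
noncomputable def w0F4 : ℕ → ℕ := nb 0x102030405060708090a0b0c0d0e0f101112131415161718191a1b1c1d1e1f202122232425262728292a2b2c2d2e2f
def l0F4 : List ℕ := [0, 1, 0, 2, 1, 0, 2, 1, 2, 3, 2, 1, 0, 2, 1, 2, 3, 2, 1, 0, 2, 1, 2, 3]
def rsF4 : List (List ℕ × List ℕ × List ℕ × ℤ) := [([47], [], [47], 2),
  ([44], [], [44], 2),
  ([47, 44], [], [44], 2),
  ([39, 45], [40, 44, 46, 47], [39, 45], 3)]
def clF4 : List (List ℕ × List St × List ℕ) := [([], [], []),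
  ([22], [.N [3, 2, 1, 2, 3, 0, 1]], [47]),
  ([20], [.N [0, 1, 2, 3, 1, 2, 0]], [44]),
  ([17, 22], [.U [27] [25, 28], .N [3, 2, 0, 1, 2, 3, 0, 1, 0]], [47, 44]),
  ([14, 22], [.N [2, 1, 2, 0, 1, 2, 3, 2, 0, 1]], [39, 45]),
  ([15, 20, 23], [.U [26] [24, 27, 29, 31, 32], .U [28] [24, 27, 31], .N [2, 1, 2, 3, 1, 2, 0, 1, 2, 0], .U [26] [39, 45]], [39, 45]),
  ([6, 17, 22], [.U [33] [25, 30, 37], .U [27] [25, 28, 37], .N [2, 1, 2, 0, 1, 2, 3, 0, 1], .U [27] [39, 45]], [39, 45]),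
  ([0, 6, 17, 22], [.U [27] [25, 28, 41, 47], .N [0, 1], .U [27] [30, 35, 37, 41, 47], .U [33] [30, 35, 47], .U [31] [30, 35, 40, 46, 47], .U [36] [30, 35, 46], .N [2, 1, 2, 0, 1, 2, 3, 0], .U [26] [39, 45]], [39, 45])]
def datF4 : List (List ℕ × List ℕ × ℕ) := [([], [], 7),
  ([0], [0, 1, 2, 3, 1, 2, 1, 0], 5),
  ([1], [0, 1, 2, 3, 1, 2, 0, 1], 5),
  ([0, 1, 0], [], 0),
  ([2], [3, 2, 1, 2, 3, 0, 1], 6),
  ([0, 2], [3, 1, 2, 0, 1, 2, 3, 2, 0, 1, 0], 4),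
  ([1, 2, 1, 2], [3, 2, 0, 1, 2, 3, 0, 1, 0], 3),
  ([0, 1, 0, 2, 1, 0, 2, 1, 2], [3, 1, 2, 0, 1, 2, 3, 0, 1, 2, 0, 1, 0], 1),
  ([3], [3, 2, 1, 2, 0, 1, 2], 6),
  ([0, 3], [1, 2, 3, 2, 1, 2, 0, 1, 2, 1, 0], 4),
  ([1, 3], [1, 2, 3, 2, 1, 2, 0, 1, 2, 0, 1], 4),
  ([0, 1, 0, 3], [], 0),
  ([2, 3, 2], [], 0),
  ([0, 2, 3, 2], [], 0),
  ([1, 2, 1, 2, 3, 2, 1, 2, 3], [2, 3, 0, 1, 2, 0, 1, 0], 2),
  ([0, 1, 0, 2, 1, 0, 2, 1, 2, 3, 2, 1, 0, 2, 1, 2, 3, 2, 1, 0, 2, 1, 2, 3], [2, 1, 2, 3, 0, 1, 2, 0, 1, 0], 0)]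

def zF4 (L : List ℕ) : List ℕ := if L = [44] then [0] else []

theorem h_rf : rfChk tabF4 rfF4 = true := by decide +kernel
theorem h_w0 : w0Chk tabF4 rfF4 l0F4 w0F4 = true := by decide +kernel
theorem h_rs : repChk tabF4 id rsF4 zF4 = true := by decide +kernel
theorem h_cl : clF4.all (clsChk tabF4 rfF4 id (O1 tabF4.l) (rsF4.map Prod.fst)) = true := by decide +kernel
theorem h_dat : allI (jChk tabF4 rfF4 (O1 tabF4.l) id (fun j i => j == i) w0F4 clF4.length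
    fun c => bW tabF4 ((clF4.map Prod.fst).getD c [])) datF4 0 = true := by decide +kernel

theorem reps {K Γ : Type*} [Field K] [Finite K] [CharP K 2] [Group Γ] (A : Sys chevF4 K Γ)
    (hθ : Function.Injective A.θ) : Reps (idTw A) (rsF4.map Prod.fst) :=
  have C := ctx_id A hθ tab_F4 h_rf
  reps_of_chk C h_rs (fun _ => rfl) (hob_id A) h_w0 (cls_of_all C h_cl) (by decide +kernel) h_dat

end CA.H12InvF4
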