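import Cfsg.Agent.Lib.Char.H19Tab2
import Cfsg.Agent.Lib.Lie.SzTori
import Cfsg.Agent.Lib.Perm.PermChar
import Cfsg.Agent.S2241
import Mathlib.Analysis.Fourier.FiniteAbelian.PontryaginDuality

/-! The class structure of the Suzuki groups, as needed for the character table. -/

set_option autoImplicit false
set_option linter.unusedSectionVars false

namespace CA.H19SzDat

open Subgroup Cfsg CChar.CharFun CChar.CharOrth CA.TorusCount Finset CA.SzBasic CA.SzGroup CA.SzTori MulAction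
  CA.PermChar
open scoped ComplexConjugate Classical

variable {F : Type*} [Field F] [Fintype F] {m : ℕ} [hy : Hyp F m]
include hy

theorem u_ne : T (1 : F) 0 ≠ 1 := by simp [T_eq_one]
theorem s_ne : T (0 : F) 1 ≠ 1 := by simp [T_eq_one]

theorem nu : ¬ IsConj (T (1 : F) 0) (T (1 : F) 0)⁻¹ := fun h => by
  have := (Cfsg.Agent.S2241.result hy.hm hy.hF sylU (T (1 : F) 0) (T_mem_U 1 0) u_ne).1 h
  have h2 := pow_orderOf_eq_one (T (1 : F) 0)
  rw [this, sq, T_sq] at h2
  simp [T_eq_one] at h2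

theorem conj_s {b : F} (hb : b ≠ 0) : IsConj (T (0 : F) 1) (T 0 b) := by
  obtain ⟨μ, h⟩ := exists_scale one_ne_zero hb
  exact isConj_iff.2 ⟨D μ, by rw [D_conj_T, h, mul_zero]⟩

theorem conj_one (b c : F) : IsConj (T (1 : F) b) (T 1 (b + (th F c + c))) := isConj_iff.2 ⟨T c 0, by
  rw [mul_inv_eq_iff_eq_mul.1 (T_commutator c 0 1 b), T_mul]
  congr 1 <;> simp [add_comm]⟩

theorem conj_u {a : F} (ha : a ≠ 0) (b : F) : IsConj (T (1 : F) 0) (T a b) ∨ IsConj (T (1 : F) 0)⁻¹ (T a b) := by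
  obtain ⟨μ, h⟩ := exists_scale' ha one_ne_zero
  have h1 : IsConj (T a b) (T 1 (th F μ * μ ^ 2 * b)) := isConj_iff.2 ⟨D μ, by rw [D_conj_T, h]⟩
  generalize th F μ * μ ^ 2 * b = y at h1
  let φ : F →+ F := (th F).toAddMonoidHom + AddMonoidHom.id F
  have hφ : ∀ c, φ c = th F c + c := fun c => rfl
  have h2 : φ.range.index = 2 := by
    rw [AddSubgroup.index_range, Nat.card_eq_two_iff]
    refine ⟨0, ⟨1, by simp [hφ, add_self]⟩, by simp [Subtype.ext_iff], Set.eq_univ_of_forall fun ⟨z, hz⟩ => ?_⟩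
    have : th F z = z := by
      rw [AddMonoidHom.mem_ker, hφ] at hz
      linear_combination hz - add_self z
    simpa [Subtype.ext_iff] using eq_of_th_eq_self this
  have e : (T (1 : F) 0)⁻¹ = T 1 1 := by rw [T_inv]; simp
  have h3 : (1 : F) ∉ φ.range := fun ⟨c, hc⟩ => nu (F := F) (by
    rw [e]; simpa only [← hφ, hc, zero_add] using conj_one 0 c)
  by_cases h4 : y ∈ φ.range
  · obtain ⟨c, hc⟩ := h4
    exact .inl (IsConj.trans (by simpa only [← hφ, hc, zero_add] using conj_one 0 c) h1.symm)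
  · obtain ⟨c, hc⟩ := (AddSubgroup.add_mem_iff_of_index_two h2).2 (iff_of_false h3 h4)
    refine .inr (IsConj.trans ?_ h1.symm)
    rw [e]
    simpa only [← hφ, hc, ← add_assoc, add_self, zero_add] using conj_one 1 c

theorem cent_s : centralizer {T (0 : F) 1} = U F := by
  ext g
  rw [mem_centralizer_singleton_iff]
  refine ⟨fun h => ?_, fun ⟨a, b, h⟩ => by rw [h, T_comm]; simp⟩
  have h1 : g * T 0 1 * g⁻¹ = T 0 1 := by rw [h, mul_inv_cancel_right]
  obtain ⟨a, b, μ, rfl⟩ := exists_eq_T_mul_D (split.fix_of_conj_mem (T_mem_U 0 1) s_ne (h1.symm ▸ T_mem_U 0 1))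
  rw [mul_assoc, D_mul_T, ← mul_assoc, ← mul_assoc, mul_left_inj, T_mul, T_mul, T_inj] at h
  have : (μ : F) = 1 := eq_one_of_sq_mul_th (by
    have := h.2
    simp only [mul_zero, map_zero, zero_mul, add_zero, mul_one] at this
    linear_combination this)
  rw [Units.ext (v := 1) this, D_one, mul_one]
  exact T_mem_U a b

theorem card_cent_u : Nat.card (centralizer {T (1 : F) 0}) = 2 * 2 ^ (2 * m + 1) := by
  rw [← card_F (F := F), ← Nat.card_congr (Equiv.ofBijective (fun p : Bool × F =>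
    (⟨T (if p.1 then 1 else 0) p.2, by
      rw [mem_centralizer_singleton_iff, T_comm]; split_ifs <;> simp⟩ : centralizer {T (1 : F) 0})) ⟨?_, ?_⟩)]
  · simp
  · rintro ⟨a, b⟩ ⟨c, d⟩ h
    replace h := T_inj.1 (congrArg Subtype.val h)
    refine Prod.ext ?_ h.2
    cases a <;> cases c <;> simp_all
  · rintro ⟨g, h⟩
    rw [mem_centralizer_singleton_iff] at h
    have h1 : g * T 1 0 * g⁻¹ = T 1 0 := by rw [h, mul_inv_cancel_right]
    obtain ⟨a, b, μ, rfl⟩ := exists_eq_T_mul_D (split.fix_of_conj_mem (T_mem_U 1 0) u_ne (h1.symm ▸ T_mem_U 1 0))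
    rw [mul_assoc, D_mul_T, ← mul_assoc, ← mul_assoc, mul_left_inj] at h
    have h2 := h
    rw [T_mul, T_mul, T_inj] at h2
    have : (μ : F) = 1 := eq_one_of_th_eq_one (by linear_combination h2.1)
    obtain rfl := Units.ext (v := 1) this
    simp only [Units.val_one, map_one, mul_one, mul_zero] at h
    rw [T_comm, mul_one, map_one, one_mul] at h
    rcases eq_of_th_eq_self h with rfl | rfl
    · exact ⟨(false, b), by simp⟩
    · exact ⟨(true, b), by simp⟩

theorem cls_Der {x : G F} (hx : x ∈ Der F) {g : G F} (hg : g ∈ Cls (centralizer {x})) : g ∈ Der F := by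
  obtain ⟨h1, k, hk⟩ := hg
  simpa [mul_assoc] using conj_mem_Der (mem_Der_of_comm hx _ hk (conj_ne_one h1 k)) k⁻¹

theorem pc_Der {g : G F} (hg : g ∈ Der F) : pc (G F) (Ov F) g = 0 := by
  have : fixedBy (Ov F) g = ∅ := Set.eq_empty_of_forall_notMem fun p hp => hg p hp
  simp [pc, this]

theorem pc_U {g : G F} (hg : g ∈ U F) (h1 : g ≠ 1) : pc (G F) (Ov F) g = 1 := by
  have : fixedBy (Ov F) g = {SzBasic.inf} := Set.eq_singleton_iff_unique_mem.2
    ⟨split.le hg, fun p hp => split.eq_of_fix hg h1 hp⟩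
  simp [pc, this]

theorem pc_H {g : G F} (hg : g ∈ H F) (h1 : g ≠ 1) : pc (G F) (Ov F) g = 2 := by
  obtain ⟨μ, rfl⟩ := mem_H.1 hg
  have : fixedBy (Ov F) (D μ) = {SzBasic.inf, pt 0 0} := by
    ext p
    refine ⟨fun h => D_fix (fun e => h1 (D_eq_one.2 e)) h, ?_⟩
    rintro (rfl | rfl) <;> simp
  simp [pc, this, card_pair (pt_ne_inf (0 : F) 0).symm]

theorem mult [Fintype (G F)] {χ : G F → ℂ} (hχ : IsCharacter (G F) χ) : ∃ e a f : ℕ,
    χ 1 = e + (Fintype.card F - 1) * a + (Fintype.card F - 1) * f ∧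
    χ (T 0 1) = e + (Fintype.card F - 1) * a - f ∧ (χ (T 1 0)).re = e - a := by
  obtain ⟨ψ, hψ⟩ := AddChar.exists_apply_ne_zero.2 (one_ne_zero (α := F))
  have h0 : ∑ a, conj (ψ a) = 0 := by
    rw [← map_sum, AddChar.sum_eq_zero_iff_ne_zero.2 fun e => hψ (by rw [e]; rfl), map_zero]
  have hq : (Fintype.card F : ℂ) ≠ 0 := Nat.cast_ne_zero.2 Fintype.card_ne_zero
  have z1 : ∀ ω : F → ℂ, ω 0 = 1 → ∑ b, χ (T 0 b) * ω b = χ 1 + χ (T 0 1) * (∑ b, ω b - 1) := fun ω h => by
    rw [← add_sum_erase _ _ (mem_univ (0 : F)), ← add_sum_erase _ ω (mem_univ (0 : F)), h, T_zero, mul_one,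
      add_sub_cancel_left, mul_sum]
    congr 1
    exact sum_congr rfl fun b hb => by rw [classFun_of_isConj (char_classFun hχ) (conj_s (mem_erase.1 hb).1)]
  have z2 : ∀ a : F, a ≠ 0 → ∑ b, χ (T a b) = Fintype.card F * (χ (T 1 0)).re := fun a ha => by
    have b1 : conj (∑ b, χ (T a b)) = ∑ b, χ (T a b) := by
      rw [map_sum, ← Equiv.sum_comp (Equiv.addRight (th F a * a)) fun b => χ (T a b)]
      exact sum_congr rfl fun b _ => by rw [← char_apply_inv hχ, T_inv]; rfl
    rw [← Complex.conj_eq_iff_re.1 b1, Complex.re_sum, sum_congr rfl (g := fun _ => (χ (T 1 0)).re) fun b _ => ?_]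
    · simp
    · rcases conj_u ha b with h | h <;> rw [← classFun_of_isConj (char_classFun hχ) h]
      rw [char_apply_inv hχ, Complex.conj_re]
  have z3 : ∀ ω : F → ℂ, ω 0 = 1 → ∑ u : U F, χ u * ω (uEquiv.symm u).1 =
      χ 1 + χ (T 0 1) * (Fintype.card F - 1) + Fintype.card F * (χ (T 1 0)).re * (∑ b, ω b - 1) := fun ω h => by
    rw [← Equiv.sum_comp uEquiv, Fintype.sum_prod_type]
    simp only [Equiv.symm_apply_apply]
    change ∑ a, ∑ b, χ (T a b) * ω a = _
    have := z1 (fun _ => 1) rfl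
    rw [← add_sum_erase _ _ (mem_univ (0 : F)), ← add_sum_erase _ ω (mem_univ (0 : F)), h, this,
      add_sub_cancel_left, mul_sum]
    simp only [sum_const, card_univ, nsmul_eq_mul, mul_one]
    congr 1
    exact sum_congr rfl fun a ha => by rw [← sum_mul, z2 a (mem_erase.1 ha).1]
  let lam : U F →* ℂ := MonoidHom.mk (⟨fun u => ψ (uEquiv.symm u).1, by
      rw [show (1 : U F) = uEquiv (0, 0) from Subtype.ext T_zero.symm]; simp⟩) (by
    intro x y
    obtain ⟨⟨a, b⟩, rfl⟩ := uEquiv.surjective x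
    obtain ⟨⟨c, d⟩, rfl⟩ := uEquiv.surjective y
    rw [show uEquiv (a, b) * uEquiv (c, d) = uEquiv (a + c, b + d + th F a * c) from Subtype.ext (T_mul a b c d)]
    simp [AddChar.map_add_eq_mul])
  let zz : Multiplicative F →* G F := MonoidHom.mk' (fun b => T 0 b.toAdd) fun a b => by simp [T_mul]
  obtain ⟨e, he⟩ := inner_char_char (char_restrict hχ (U F)) char_one
  obtain ⟨a, ha⟩ := inner_char_char (char_restrict hχ (U F)) (char_of_irr (irr_of_monoidHom lam))
  obtain ⟨f, hf⟩ := inner_char_char (char_comp hχ zz) (char_of_irr (irr_of_monoidHom ψ.toMonoidHom))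
  have cU : (Nat.card (U F) : ℂ) = Fintype.card F ^ 2 := by rw [card_U, hy.hF]; push_cast; rfl
  have e1 := congrArg ((Nat.card (U F) : ℂ) * ·) he
  have e2 := congrArg ((Nat.card (U F) : ℂ) * ·) ha
  have e3 := congrArg ((Nat.card (Multiplicative F) : ℂ) * ·) hf
  simp only [card_mul_inner] at e1 e2 e3
  have e4 := (z3 (fun _ => conj 1) (map_one _)).symm.trans e1
  have e5 := (z3 (fun a => conj (ψ a)) (by simp)).symm.trans e2
  have e6 := (z1 (fun a => conj (ψ a)) (by simp)).symm.trans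
    ((Equiv.sum_comp Multiplicative.ofAdd fun g => χ (zz g) * conj (ψ.toMonoidHom g)).trans e3)
  rw [cU] at e4 e5
  rw [h0] at e5 e6
  simp only [map_one, sum_const, card_univ, nsmul_eq_mul, mul_one, Nat.card_eq_fintype_card,
    Fintype.card_multiplicative] at e4 e6
  have e7 : ((χ (T 1 0)).re : ℂ) = e - a := mul_left_cancel₀ (pow_ne_zero 2 hq) (by linear_combination e4 - e5)
  have e8 : χ (T 0 1) = e + (Fintype.card F - 1) * a - f := mul_left_cancel₀ hq (by
    rw [e7] at e5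
    linear_combination e5 - e6)
  exact ⟨e, a, f, by rw [e8] at e6; linear_combination e6, e8, by exact_mod_cast e7⟩

theorem exists_data [Fintype (G F)] : ∃ D : H19Tor.Data (G F) (2 ^ m), D.s * D.s = 1 := by
  obtain ⟨x, hx, y, hy', k1, k2, n1, n2, -, hc⟩ := exists_tori (F := F)
  have hm := hy.hm
  have : Nontrivial (Ov F) := ⟨_, _, pt_ne_inf 0 0⟩
  have := two_trans (F := F)
  have : IsPretransitive (G F) (Ov F) := isPretransitive_of_is_two_pretransitive
  have hSt := (irr_iff_two (G := G F) (X := Ov F)).2 two_trans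
  have q := q_eq m
  have r2 : 2 ^ (m + 1) = 2 * 2 ^ m := pow_succ' 2 m
  have r1 : 2 ≤ 2 ^ m := Nat.le_self_pow (by omega) 2
  have r3 : 2 * 2 ^ m ≤ (2 ^ m) ^ 2 := by nlinarith
  have nn : ∀ K : Subgroup (G F), K.relIndex (normalizer (K : Set (G F))) = 4 →
      Nat.card (normalizer (K : Set (G F))) = 4 * Nat.card K := fun K h => by
    rw [← (K.subgroupOf (normalizer (K : Set (G F)))).index_mul_card,
      Nat.card_congr (subgroupOfEquivOfLe le_normalizer).toEquiv]
    exact congrArg (· * _) h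
  have cF : (Fintype.card F : ℂ) = 2 * ((2 ^ m : ℕ) : ℂ) ^ 2 := by rw [hy.hF, q]; push_cast; rfl
  refine ⟨
    { s := T 0 1, u := T 1 0, T0 := H F, T1 := centralizer {x}, T2 := centralizer {y}, St := ⟨_, hSt⟩, hr := r1
      cG := ?_, c0 := cc_H, c1 := cc_cent hx, c2 := cc_cent hy', k0 := ?_, k1 := ?_, k2 := ?_, n0 := ?_
      n1 := nn _ n1, n2 := nn _ n2, s1 := s_ne, u1 := u_ne, cs := ?_, cu := ?_, nu := nu, cases := fun g hg => ?_
      St1 := ?_, Sts := ?_, Stu := ?_, St0 := fun g hg => ?_, Sta := fun g hg => ?_, Stb := fun g hg => ?_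
      mult := fun χ => ?_ }, by simp [T_sq]⟩
  · rw [card_G, q]
    push_cast [Nat.cast_sub (show 1 ≤ 2 * (2 ^ m) ^ 2 by omega)]
    rfl
  · rw [card_H, q]; omega
  · rw [k1, q, r2]
  · rw [k2, q, r2]; omega
  · rw [card_normalizer_H, card_H, mul_comm]
  · rw [cent_s, card_U, q]
  · rw [card_cent_u, q]
  · rcases cases_elt hg with ⟨-, k, a, b, h⟩ | h | h
    · have e : IsConj (T a b) g := (isConj_iff.2 ⟨k, h⟩).symm
      by_cases ha : a = 0
      · subst ha
        exact .inl ((conj_s fun hb => conj_ne_one hg k (by rw [h, hb, T_zero])).trans e)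
      · rcases conj_u ha b with h | h
        · exact .inr (.inl (h.trans e))
        · exact .inr (.inr (.inl (h.trans e)))
    · exact .inr (.inr (.inr (.inl h)))
    · exact .inr (.inr (.inr (.inr (hc g h))))
  · simp only [Pi.sub_apply, pc_one, card_Ov]
    rw [← cF]; simp
  · simp [pc_U (T_mem_U 0 1) s_ne]
  · simp [pc_U (T_mem_U 1 0) u_ne]
  · obtain ⟨h1, k, hk⟩ := hg
    refine (classFun_apply (irr_classFun hSt) g k).symm.trans ?_
    rw [Pi.sub_apply, pc_H hk (conj_ne_one h1 k)]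
    norm_num
  · simp [pc_Der (cls_Der hx hg)]
  · simp [pc_Der (cls_Der hy' hg)]
  · obtain ⟨e, a, f, h⟩ := mult (char_of_irr χ.2)
    rw [cF] at h
    exact ⟨e, a, f, h⟩

end CA.H19SzDat
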