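import Cfsg.Agent.Lib.Grp.PcEx

/-! The Sylow 2-subgroup of the covering group `2².²E₆(2)`. -/

set_option autoImplicit false
set_option linter.all false
set_option maxRecDepth 100000
set_option Elab.async false

namespace CA.H22E6
open CA.SchurPc CA.SchurLow CA.PcEx CA.CNet CA.CWord
noncomputable section

def c3_t : List (List (List ℕ)) := [[[],[1],[2,4],[3,5],[4],[5],[6],[7,9],[8,10],[9],[10],[11,12,28,36],[12],[13,28],[14],[15],[16,18],[17,19],[18],[19],[20,21,29,36],[21],[22,29],[23,24,30,36],[24],[25,30],[26,31],[27,32],[28],[29],[30],[31],[32],[33],[34],[35],[36],[37]],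
  [[],[],[2,5,36],[3,4,5,37],[4],[5],[6],[7,10,36],[8,9,10,37],[9],[10],[11,13,28],[12,28],[13],[14],[15],[16,19,36],[17,18,19,37],[18],[19],[20,22,29],[21,29],[22],[23,25,30],[24,30],[25],[26,31,32,36],[27,31,37],[28],[29],[30],[31],[32],[33],[34],[35],[36],[37]],
  [[],[],[],[3],[4],[5],[6,7,11],[7],[8,11],[9,12],[10,13,36,37],[11],[12],[13],[14],[15,16,20],[16],[17,20],[18,21],[19,22,36,37],[20],[21],[22],[23],[24,26],[25,27,36],[26],[27],[28],[29],[30,31,33],[31],[32,33,36],[33],[34],[35],[36],[37]],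
  [[],[],[],[],[4],[5],[6,8,11],[7,11],[8],[9,12,13,37],[10,12,36,37],[11],[12],[13],[14],[15,17,20],[16,20],[17],[18,21,22,37],[19,21,36,37],[20],[21],[22],[23],[24,27],[25,26,27,37],[26],[27],[28],[29],[30,32,33,36,37],[31,33,36],[32],[33],[34],[35],[36],[37]],
  [[],[],[],[],[],[5],[6,9,28,36],[7,12],[8,12,13,37],[9],[10,28],[11],[12],[13],[14],[15,18,29,36],[16,21],[17,21,22,37],[18],[19,29],[20],[21],[22],[23,26,33],[24,31],[25,31,32,36],[26],[27,33,36],[28],[29],[30],[31],[32],[33],[34],[35],[36],[37]],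
  [[],[],[],[],[],[],[6,10,28,37],[7,13,36,37],[8,12,36,37],[9,28],[10],[11],[12],[13],[14],[15,19,29,37],[16,22,36,37],[17,21,36,37],[18,29],[19],[20],[21],[22],[23,27,33,36,37],[24,32],[25,31,37],[26,33,36],[27],[28],[29],[30],[31],[32],[33],[34],[35],[36],[37]],
  [[],[],[],[],[],[],[],[7],[8],[9],[10],[11],[12],[13],[14,15],[15],[16],[17],[18],[19],[20,23],[21,24,35,36],[22,25,35],[23],[24],[25],[26],[27],[28],[29,30],[30],[31],[32],[33,34],[34],[35],[36],[37]],
  [[],[],[],[],[],[],[],[],[8],[9],[10],[11],[12],[13],[14,16,23],[15],[16],[17,23],[18,24],[19,25,36,37],[20],[21,26],[22,27,36],[23],[24],[25],[26],[27],[28],[29,31,34,36],[30],[31],[32,34],[33],[34],[35],[36],[37]],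
  [[],[],[],[],[],[],[],[],[],[9],[10],[11],[12],[13],[14,17,23],[15],[16,23],[17],[18,24,25,37],[19,24,36,37],[20],[21,27],[22,26,27,37],[23],[24],[25],[26],[27],[28],[29,32,34,37],[30],[31,34],[32],[33],[34],[35],[36],[37]],
  [[],[],[],[],[],[],[],[],[],[],[10],[11],[12],[13],[14,18,30,36],[15],[16,24],[17,24,25,37],[18],[19,30],[20,26,34,36],[21,31],[22,31,32,36],[23],[24],[25],[26],[27,34],[28],[29],[30],[31],[32],[33],[34],[35],[36],[37]],
  [[],[],[],[],[],[],[],[],[],[],[],[11],[12],[13],[14,19,30,37],[15],[16,25,36,37],[17,24,36,37],[18,30],[19],[20,27,34,37],[21,32],[22,31,37],[23],[24],[25],[26,34],[27],[28],[29],[30],[31],[32],[33],[34],[35],[36],[37]],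
  [[],[],[],[],[],[],[],[],[],[],[],[],[12],[13],[14,20],[15,23],[16],[17],[18,26,35,36],[19,27,35,37],[20],[21],[22],[23],[24],[25],[26],[27],[28],[29,33,36],[30,34],[31],[32],[33],[34],[35],[36],[37]],
  [[],[],[],[],[],[],[],[],[],[],[],[],[],[13],[14,21,33],[15,24,34,36],[16,26],[17,27],[18,31],[19,32],[20],[21],[22,33,36],[23],[24],[25,34],[26],[27],[28],[29],[30],[31],[32],[33],[34],[35],[36],[37]],
  [[],[],[],[],[],[],[],[],[],[],[],[],[],[],[14,22,33,36],[15,25,34],[16,27,36],[17,26,27,37],[18,31,32,36],[19,31,37],[20],[21,33,36],[22],[23],[24,34],[25],[26],[27],[28],[29],[30],[31],[32],[33],[34],[35],[36],[37]],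
  [[],[],[],[],[],[],[],[],[],[],[],[],[],[],[],[15],[16],[17],[18],[19],[20],[21],[22],[23],[24],[25],[26],[27],[28,29],[29],[30],[31],[32],[33],[34,35],[35],[36],[37]],
  [[],[],[],[],[],[],[],[],[],[],[],[],[],[],[],[],[16],[17],[18],[19],[20],[21],[22],[23],[24],[25],[26],[27],[28,30],[29],[30],[31],[32],[33,35],[34],[35],[36],[37]],
  [[],[],[],[],[],[],[],[],[],[],[],[],[],[],[],[],[],[17],[18],[19],[20],[21],[22],[23],[24],[25],[26],[27],[28,31,35,36],[29],[30],[31],[32,35],[33],[34],[35],[36],[37]],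
  [[],[],[],[],[],[],[],[],[],[],[],[],[],[],[],[],[],[],[18],[19],[20],[21],[22],[23],[24],[25],[26],[27],[28,32,35,37],[29],[30],[31,35],[32],[33],[34],[35],[36],[37]],
  [[],[],[],[],[],[],[],[],[],[],[],[],[],[],[],[],[],[],[],[19],[20],[21],[22],[23],[24],[25],[26],[27,35],[28],[29],[30],[31],[32],[33],[34],[35],[36],[37]],
  [[],[],[],[],[],[],[],[],[],[],[],[],[],[],[],[],[],[],[],[],[20],[21],[22],[23],[24],[25],[26,35],[27],[28],[29],[30],[31],[32],[33],[34],[35],[36],[37]],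
  [[],[],[],[],[],[],[],[],[],[],[],[],[],[],[],[],[],[],[],[],[],[21],[22],[23],[24],[25],[26],[27],[28,33,36],[29],[30,35],[31],[32],[33],[34],[35],[36],[37]],
  [[],[],[],[],[],[],[],[],[],[],[],[],[],[],[],[],[],[],[],[],[],[],[22],[23],[24],[25,35],[26],[27],[28],[29],[30],[31],[32],[33],[34],[35],[36],[37]],
  [[],[],[],[],[],[],[],[],[],[],[],[],[],[],[],[],[],[],[],[],[],[],[],[23],[24,35],[25],[26],[27],[28],[29],[30],[31],[32],[33],[34],[35],[36],[37]],
  [[],[],[],[],[],[],[],[],[],[],[],[],[],[],[],[],[],[],[],[],[],[],[],[],[24],[25],[26],[27],[28,34],[29,35],[30],[31],[32],[33],[34],[35],[36],[37]],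
  [[],[],[],[],[],[],[],[],[],[],[],[],[],[],[],[],[],[],[],[],[],[],[],[],[],[25],[26],[27],[28],[29],[30],[31],[32],[33],[34],[35],[36],[37]],
  [[],[],[],[],[],[],[],[],[],[],[],[],[],[],[],[],[],[],[],[],[],[],[],[],[],[],[26],[27],[28],[29],[30],[31],[32],[33],[34],[35],[36],[37]],
  [[],[],[],[],[],[],[],[],[],[],[],[],[],[],[],[],[],[],[],[],[],[],[],[],[],[],[],[27],[28],[29],[30],[31],[32],[33],[34],[35],[36],[37]],
  [[],[],[],[],[],[],[],[],[],[],[],[],[],[],[],[],[],[],[],[],[],[],[],[],[],[],[],[],[28],[29],[30],[31],[32],[33],[34],[35],[36],[37]],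
  [[],[],[],[],[],[],[],[],[],[],[],[],[],[],[],[],[],[],[],[],[],[],[],[],[],[],[],[],[],[29],[30],[31],[32],[33],[34],[35],[36],[37]],
  [[],[],[],[],[],[],[],[],[],[],[],[],[],[],[],[],[],[],[],[],[],[],[],[],[],[],[],[],[],[],[30],[31],[32],[33],[34],[35],[36],[37]],
  [[],[],[],[],[],[],[],[],[],[],[],[],[],[],[],[],[],[],[],[],[],[],[],[],[],[],[],[],[],[],[],[31],[32],[33],[34],[35],[36],[37]],
  [[],[],[],[],[],[],[],[],[],[],[],[],[],[],[],[],[],[],[],[],[],[],[],[],[],[],[],[],[],[],[],[],[32],[33],[34],[35],[36],[37]],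
  [[],[],[],[],[],[],[],[],[],[],[],[],[],[],[],[],[],[],[],[],[],[],[],[],[],[],[],[],[],[],[],[],[],[33],[34],[35],[36],[37]],
  [[],[],[],[],[],[],[],[],[],[],[],[],[],[],[],[],[],[],[],[],[],[],[],[],[],[],[],[],[],[],[],[],[],[],[34],[35],[36],[37]],
  [[],[],[],[],[],[],[],[],[],[],[],[],[],[],[],[],[],[],[],[],[],[],[],[],[],[],[],[],[],[],[],[],[],[],[],[35],[36],[37]],
  [[],[],[],[],[],[],[],[],[],[],[],[],[],[],[],[],[],[],[],[],[],[],[],[],[],[],[],[],[],[],[],[],[],[],[],[],[36],[37]],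
  [[],[],[],[],[],[],[],[],[],[],[],[],[],[],[],[],[],[],[],[],[],[],[],[],[],[],[],[],[],[],[],[],[],[],[],[],[],[37]],
  [[],[],[],[],[],[],[],[],[],[],[],[],[],[],[],[],[],[],[],[],[],[],[],[],[],[],[],[],[],[],[],[],[],[],[],[],[],[]]]
def c3 : PC := ⟨38, 2, 2, 11, 100, 4, 1, 1, 1, fun e => nth (nth c3_t [] (Nat.div e 38)) [] (Nat.mod e 38), []⟩
def c3_w : List (List (List ℕ)) := [[[0],[1],[2],[3],[4],[5],[15],[16],[17],[18],[19],[20],[21],[22],[],[6],[7],[8],[9],[10],[11],[12],[13],[23],[24],[25],[26],[27],[29],[28],[30],[31],[32],[33],[35],[34],[36],[37]],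
  [[0],[1],[7],[8],[9],[10],[],[2],[3],[4],[5],[11],[12],[13],[15],[14],[16],[17],[18],[19],[23],[24],[25],[20],[21],[22],[26],[27],[28],[30],[29],[31],[32],[34,36],[33,36],[35],[36],[37]],
  [[4],[5],[],[],[0],[1],[11],[7],[7,8],[12],[13,37],[6],[9],[10,37],[14],[20],[16],[16,17],[21],[22,37],[15],[18],[19,37],[23],[26],[27,37],[24],[25,37],[28],[29],[33,36],[31],[31,32,36],[30,36],[34],[35],[36],[37]],
  [[],[],[4],[5],[2],[3],[6],[9,36],[10,37],[7,36],[8,37],[28],[12],[12,13,36],[14],[15],[18,36],[19,37],[16,36],[17,37],[29],[21],[21,22,36],[30],[24],[24,25,36],[31],[32],[11],[20],[23],[26],[27],[33],[34],[35],[36],[37]],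
  [[0,1],[0],[2,3],[2],[5,36,37],[4,5,36],[6],[7,8],[7],[10,36,37],[9,10,36],[11],[12,13],[12,36],[14],[15],[16,17],[16],[19,36,37],[18,19,36],[20],[21,22],[21,36],[23],[24,25],[24,36],[27,36,37],[26,27,36],[28],[29],[30],[31,32,37],[31,36,37],[33],[34],[35],[36],[37]]]
theorem c3_wf : wf c3 = true := by decide +kernel
theorem c3_l0 : lvl c3 0 = true := by decide +kernel
theorem c3_l1 : lvl c3 1 = true := by decide +kernel
theorem c3_l2 : lvl c3 2 = true := by decide +kernel
theorem c3_l3 : lvl c3 3 = true := by decide +kernel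
theorem c3_l4 : lvl c3 4 = true := by decide +kernel
theorem c3_l5 : lvl c3 5 = true := by decide +kernel
theorem c3_l6 : lvl c3 6 = true := by decide +kernel
theorem c3_l7 : lvl c3 7 = true := by decide +kernel
theorem c3_l8 : lvl c3 8 = true := by decide +kernel
theorem c3_l9 : lvl c3 9 = true := by decide +kernel
theorem c3_l10 : lvl c3 10 = true := by decide +kernel
theorem c3_l11 : lvl c3 11 = true := by decide +kernel
theorem c3_l12 : lvl c3 12 = true := by decide +kernel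
theorem c3_l13 : lvl c3 13 = true := by decide +kernel
theorem c3_l14 : lvl c3 14 = true := by decide +kernel
theorem c3_l15 : lvl c3 15 = true := by decide +kernel
theorem c3_l16 : lvl c3 16 = true := by decide +kernel
theorem c3_l17 : lvl c3 17 = true := by decide +kernel
theorem c3_l18 : lvl c3 18 = true := by decide +kernel
theorem c3_l19 : lvl c3 19 = true := by decide +kernel
theorem c3_l20 : lvl c3 20 = true := by decide +kernel
theorem c3_l21 : lvl c3 21 = true := by decide +kernel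
theorem c3_l22 : lvl c3 22 = true := by decide +kernel
theorem c3_l23 : lvl c3 23 = true := by decide +kernel
theorem c3_l24 : lvl c3 24 = true := by decide +kernel
theorem c3_l25 : lvl c3 25 = true := by decide +kernel
theorem c3_l26 : lvl c3 26 = true := by decide +kernel
theorem c3_l27 : lvl c3 27 = true := by decide +kernel
theorem c3_l28 : lvl c3 28 = true := by decide +kernel
theorem c3_l29 : lvl c3 29 = true := by decide +kernel
theorem c3_l30 : lvl c3 30 = true := by decide +kernel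
theorem c3_l31 : lvl c3 31 = true := by decide +kernel
theorem c3_l32 : lvl c3 32 = true := by decide +kernel
theorem c3_l33 : lvl c3 33 = true := by decide +kernel
theorem c3_l34 : lvl c3 34 = true := by decide +kernel
theorem c3_l35 : lvl c3 35 = true := by decide +kernel
theorem c3_l36 : lvl c3 36 = true := by decide +kernel
theorem c3_l37 : lvl c3 37 = true := by decide +kernel
theorem c3_l : ∀ i < c3.K, lvl c3 i = true := fun i hi => by
  have hi : i < 38 := hi
  interval_cases i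
  exacts [c3_l0, c3_l1, c3_l2, c3_l3, c3_l4, c3_l5, c3_l6, c3_l7, c3_l8, c3_l9, c3_l10, c3_l11, c3_l12, c3_l13, c3_l14, c3_l15, c3_l16, c3_l17, c3_l18, c3_l19, c3_l20, c3_l21, c3_l22, c3_l23, c3_l24, c3_l25, c3_l26, c3_l27, c3_l28, c3_l29, c3_l30, c3_l31, c3_l32, c3_l33, c3_l34, c3_l35, c3_l36, c3_l37]
/-- the skipped intervals -/
def sk (g : ℕ) : ℕ × ℕ := nth [(14, 1), (6, 1), (2, 2), (0, 2)] (0, 0) g
theorem c3_f0 : ∀ i < c3.K, fusR c3 (sk 0).1 (sk 0).2 (nth (nth c3_w [] 0) []) i = true := by decide +kernel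
theorem c3_f1 : ∀ i < c3.K, fusR c3 (sk 1).1 (sk 1).2 (nth (nth c3_w [] 1) []) i = true := by decide +kernel
theorem c3_f2 : ∀ i < c3.K, fusR c3 (sk 2).1 (sk 2).2 (nth (nth c3_w [] 2) []) i = true := by decide +kernel
theorem c3_f3 : ∀ i < c3.K, fusR c3 (sk 3).1 (sk 3).2 (nth (nth c3_w [] 3) []) i = true := by decide +kernel
theorem c3_f4 : ∀ i < c3.K, fusR c3 (sk 4).1 (sk 4).2 (nth (nth c3_w [] 4) []) i = true := by decide +kernel
theorem c3_f : ∀ g < 5, ∀ i < c3.K, fusR c3 (sk g).1 (sk g).2 (nth (nth c3_w [] g) []) i = true := fun g hg => by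
  interval_cases g
  exacts [c3_f0, c3_f1, c3_f2, c3_f3, c3_f4]
theorem c3_cen : ∀ j < c3.K, 36 ≤ j → ∀ i ≤ j, c3.tab (c3.idx i j) = if i = j then [] else [j] := by decide +kernel
theorem c3_ab : abOK c3 [(0,2,4), (0,3,5), (0,7,9), (0,8,10), (0,13,28), (0,16,18), (0,17,19), (0,22,29), (0,25,30), (0,26,31), (0,27,32), (1,11,13), (1,20,22), (1,23,25), (2,8,11), (2,17,20), (2,24,26), (3,6,8), (3,15,17), (3,24,27), (4,7,12), (4,16,21), (4,23,33), (6,14,15), (8,14,23), (9,16,24), (14,34,35), (2,6,7), (7,14,16), (13,14,36), (10,14,37)] [] (fun kn => decide (∀ j < c3.K, 36 ≤ j → j ∈ kn)) = true := by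
  decide +kernel

end
end CA.H22E6
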