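import Cfsg.Agent.Lib.Lie.H22E6a
import Cfsg.Agent.Lib.Lie.H22E6e
import Cfsg.Agent.Lib.Lie.ChevTwE6

/-! The tables for `²E₆(2)` are compared with the commutator formula of `E₆(4)`. -/

set_option autoImplicit false
set_option linter.all false
set_option maxRecDepth 100000
set_option Elab.async false

namespace CA.H22E6
open CA.SchurPc CA.SchurLow CA.PcEx CA.CNet CA.CWord CA.Chev Cfsg.Lie
noncomputable section

/-- roots -/
def ro (n : ℕ) : Rt chevE6 := show Fin 72 from Fin.ofNat 72 n
/-- nodes -/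
def nd (i : ℕ) : Nd chevE6 := show Fin 6 from Fin.ofNat 6 i
/-- `x_r(ω^k)` as a word -/
def pw (r k : ℕ) : List ℕ := if k % 3 = 0 then [2 * (r - 36)] else if k % 3 = 1 then [2 * (r - 36) + 1] else
  [2 * (r - 36), 2 * (r - 36) + 1]
/-- sums of positive roots -/
def sm (m n : ℕ) : ℕ := (nat_lit 0x2380011a2c20000000000000000000000000000000000000000000000000011c0008c0224100000000000000000000000000000000000000000000000008e0004600021c0000000000000000000000000000000000000000000000004700000008b1003f00000000000000000000000000000000000000000000023800000045010c03e000000000000000000000000000000000000000000011c0000000044860003d0000000000000000000000000000000000000000008e0000000000008505f80000000000000000000000000000000000000000047000000000000420101f00000000000000000000000000000000000000002380000000000000418001e8000000000000000000000000000000000000011c0000000000000003f7cf400000000000000000000000000000000000000000000000000460116200000003c000000000000376cd000000000000000000000000000023008a02180000003b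00000000001b806acc0000000000000000000000000118000890c000000003a00000000001b3500c800000000000000000000000001162430000000000003900000000001a3364000000000000000000000000008c00000010a0800001e0000000006ed800000c400000b400000000000000046000000084020000001d80000003700d400000c000000b000000000000002300000000083000000001d0000000366a0000000bc00000ac000000000000000008a000420001f8000f00000001b8000d000062000005a000005200000000004500021000001f0000ec00000dc00000cc0006000000580000050000000000000880004100fc00078000000001b006800031000002d00000290001300 >>> (7 * (36 * m + n))) % 128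
/-- the unipotent group of `E₆(4)` -/
def c6 : PC := ⟨72, 2, 2, 11, 100, 4, 1, 1, 1, fun e => force (e / 72) fun i => force (e % 72) fun j =>
  if i = j then [] else force (sm (i / 2) (j / 2)) fun s => if s = 0 then [j] else j :: pw s (i % 2 + j % 2), []⟩
def wl (l : List (ℕ × ℕ)) : List ℕ := l.flatMap fun p => pw p.1 p.2
def ps (l : List (ℕ × ℕ)) : Bool := l.all fun p => decide (36 ≤ p.1 ∧ p.1 < 72)
def eqL (l l' : List (ℕ × ℕ)) : Bool := band (band (ps l) (ps l')) (eqw c6 0 (wl l) (wl l'))
/-- the generators of the Sylow subgroup of the twisted group -/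
def zl (a : ℕ) : List (ℕ × ℕ) := nth [[(36, 0), (56, 0)], [(36, 1), (56, 2)], [(37, 0), (42, 0)], [(37, 1), (42, 2)], [(38, 0), (57, 0)], [(38, 1), (57, 2)], [(39, 0)], [(40, 0), (43, 0)], [(40, 1), (43, 2)], [(41, 0), (58, 0)], [(41, 1), (58, 2)], [(44, 0)], [(45, 0), (59, 0)], [(45, 1), (59, 2)], [(46, 0)], [(47, 0)], [(48, 0), (50, 0)], [(48, 1), (50, 2)], [(49, 0), (61, 0)], [(49, 1), (61, 2)], [(51, 0)], [(52, 0), (62, 0)], [(52, 1), (62, 2)], [(53, 0)], [(54, 0), (64, 0)], [(54, 1), (64, 2)], [(55, 0), (67, 0)], [(55, 1), (67, 2)], [(60, 0)], [(63, 0)], [(65, 0)], [(66, 0), (68, 0)], [(66, 1), (68, 2)], [(69, 0)], [(70, 0)], [(71, 0)]] [] a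
def fz (u : List ℕ) : List (ℕ × ℕ) := u.flatMap zl
def mv (m p : ℕ × ℕ) : ℕ × ℕ :=
  (tabE6.rf (nd m.1) (ro p.1), p.2 + m.2 * ((-tabE6.wt (ro p.1) (nd m.1)) % 3).toNat)
def act (ms l : List (ℕ × ℕ)) : List (ℕ × ℕ) := ms.foldr (fun m l => l.map (mv m)) l
def sg (p : ℕ × ℕ) : ℕ × ℕ := (φE6 (ro p.1), 2 * p.2)
def MS (g : ℕ) : List (ℕ × ℕ) := nth [[(1, 0)], [(3, 0)], [(2, 0), (4, 0)], [(0, 0), (5, 0)], [(0, 1), (5, 2), (0, 0), (5, 0)]] [] g
def ld (a : ℕ) : ℕ := (wl (zl a)).headD 0
def wd3 (g : ℕ) : ℕ → List ℕ := nth (nth c3_w [] g) []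

theorem c6_wf : wf c6 = true := by decide +kernel
def K6 (m n : ℕ) : Prop := (sm m n = 0 ∨ 36 ≤ sm m n ∧ sm m n < 72) ∧
    (tabE6.cT (36 + m) (36 + n)).map (fun c => (c.1, c.2.1 % 2, c.2.2)) =
    if sm m n = 0 then [] else [(sm m n, 1, 1, 1)]
instance (m n : ℕ) : Decidable (K6 m n) := inferInstanceAs (Decidable (_ ∧ _))
theorem k6 : ∀ n < 36, sm n n = 0 ∧ ∀ m < n, K6 m n := by decide +kernel
theorem q2 : ∀ i < c2.K, c2.rowOK (fun u v => eqL (fz u) (fz v)) i = true := by decide +kernel
theorem q3 : ∀ i < c3.K, c3.rowOK (fun u v => eqL (fz u) (fz v)) i = true := by decide +kernel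
theorem f2 : ∀ e ∈ c2.F, eqL (act (MS e.1) (fz e.2.1)) (fz e.2.2) = true := by decide +kernel
theorem f3 : ∀ g < 5, (∀ c < c3.K, 36 ≤ c → wd3 g c = [c]) ∧ (sk g).1 + (sk g).2 ≤ 36 ∧ ∀ c < 36,
    c < (sk g).1 ∨ (sk g).1 + (sk g).2 ≤ c → eqL (act (MS g) (fz (wd3 g c))) (fz [c]) = true := by decide +kernel
theorem s1 : ∀ a < 36, eqL ((zl a).map sg) (zl a) = true := by decide +kernel
theorem s2 : ∀ j < 36, (∀ i < j, ld i < ld j) ∧ ld j < 72 ∧ wl (zl j) = ld j :: (wl (zl j)).tail ∧
    ∀ a ∈ (wl (zl j)).tail, ld j < a ∧ a < 72 := by decide +kernel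
theorem s3 : ∀ r : Rt chevE6, ηE6 r % 2 = 1 := by decide +kernel

end
end CA.H22E6
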