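import Cfsg.Agent.Lib.Grp.PcEx

/-! The Sylow 2-subgroup of the double cover of `F₄(2)`. -/

set_option autoImplicit false
set_option linter.all false
set_option maxRecDepth 100000
set_option Elab.async false

namespace CA.H22F4
open CA.SchurPc CA.SchurLow CA.PcEx CA.CNet CA.CWord

noncomputable section

def c3_t : List (List (List ℕ)) := [[[],[1,4],[2],[3],[4],[5,7,13,24],[6],[7],[8,10],[9,11,19,24],[10],[11],[12,14,21,24],[13],[14],[15,17],[16],[17],[18],[19],[20],[21],[22,23],[23],[24]],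
  [[],[],[2,5,8,24],[3],[4],[5],[6,9,15,24],[7],[8],[9],[10,13],[11],[12],[13],[14,16,23,24],[15],[16],[17,19],[18],[19],[20],[21,22],[22],[23],[24]],
  [[],[],[],[3,6],[4,7,10,24],[5],[6],[7],[8],[9,12],[10],[11,14],[12],[13],[14],[15],[16,18],[17],[18],[19,20,21,24],[20],[21],[22],[23],[24]],
  [[],[],[],[],[4],[5,9],[6],[7,11],[8,12,15,24],[9],[10,14,17,24],[11],[12],[13,16,19,24],[14],[15],[16],[17],[18,20],[19],[20],[21],[22],[23],[24]],
  [[],[],[],[],[],[5],[6,11,17,24],[7],[8,13],[9],[10],[11],[12,16,22,24],[13],[14],[15,19],[16],[17],[18],[19],[20],[21,23],[22],[23],[24]],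
  [[],[],[],[],[],[],[6,12],[7],[8],[9],[10],[11,16],[12],[13],[14,18],[15],[16],[17,20,22,24],[18],[19],[20],[21],[22],[23],[24]],
  [[],[],[],[],[],[],[],[7,14],[8],[9],[10],[11],[12],[13,18,21,24],[14],[15],[16,20],[17],[18],[19],[20],[21],[22],[23],[24]],
  [[],[],[],[],[],[],[],[],[8],[9,16],[10],[11],[12,18],[13],[14],[15,20,23,24],[16],[17],[18],[19],[20],[21],[22],[23],[24]],
  [[],[],[],[],[],[],[],[],[],[9],[10],[11,18,23,24],[12],[13],[14],[15],[16],[17,21],[18],[19,22],[20],[21],[22],[23],[24]],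
  [[],[],[],[],[],[],[],[],[],[],[10,18,22,24],[11],[12],[13],[14,20],[15],[16],[17],[18],[19],[20],[21],[22],[23],[24]],
  [[],[],[],[],[],[],[],[],[],[],[],[11],[12],[13],[14],[15,21],[16],[17],[18],[19,23],[20],[21],[22],[23],[24]],
  [[],[],[],[],[],[],[],[],[],[],[],[],[12,20],[13],[14],[15],[16],[17],[18],[19],[20],[21],[22],[23],[24]],
  [[],[],[],[],[],[],[],[],[],[],[],[],[],[13],[14],[15],[16],[17],[18],[19],[20],[21],[22],[23],[24]],
  [[],[],[],[],[],[],[],[],[],[],[],[],[],[],[14],[15,22],[16],[17,23],[18],[19],[20],[21],[22],[23],[24]],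
  [[],[],[],[],[],[],[],[],[],[],[],[],[],[],[],[15],[16],[17],[18],[19],[20],[21],[22],[23],[24]],
  [[],[],[],[],[],[],[],[],[],[],[],[],[],[],[],[],[16],[17],[18],[19],[20],[21],[22],[23],[24]],
  [[],[],[],[],[],[],[],[],[],[],[],[],[],[],[],[],[],[17],[18],[19],[20],[21],[22],[23],[24]],
  [[],[],[],[],[],[],[],[],[],[],[],[],[],[],[],[],[],[],[18],[19],[20],[21],[22],[23],[24]],
  [[],[],[],[],[],[],[],[],[],[],[],[],[],[],[],[],[],[],[],[19],[20],[21],[22],[23],[24]],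
  [[],[],[],[],[],[],[],[],[],[],[],[],[],[],[],[],[],[],[],[],[20],[21],[22],[23],[24]],
  [[],[],[],[],[],[],[],[],[],[],[],[],[],[],[],[],[],[],[],[],[],[21],[22],[23],[24]],
  [[],[],[],[],[],[],[],[],[],[],[],[],[],[],[],[],[],[],[],[],[],[],[22],[23],[24]],
  [[],[],[],[],[],[],[],[],[],[],[],[],[],[],[],[],[],[],[],[],[],[],[],[23],[24]],
  [[],[],[],[],[],[],[],[],[],[],[],[],[],[],[],[],[],[],[],[],[],[],[],[],[24]],
  [[],[],[],[],[],[],[],[],[],[],[],[],[],[],[],[],[],[],[],[],[],[],[],[],[]]]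
noncomputable def c3 : PC := ⟨25, 2, 2, 10, 60, 3, 1, 1, 1, fun e => nth (nth c3_t [] (Nat.div e 25)) [] (Nat.mod e 25), []⟩
def c3_w : List (List (List ℕ)) := [[[0],[1],[6],[],[4],[9],[2],[11],[15],[5],[17],[7],[12],[19],[14],[8],[16],[10],[20],[13],[18],[21],[22],[23],[24]],
  [[0],[8],[],[6],[10],[5],[3],[7],[1],[12],[4],[14],[9],[13],[11],[15],[18],[17],[16],[21],[20],[19],[22],[23],[24]],
  [[4],[],[5],[3],[0],[2],[9],[7],[8],[6],[13],[11],[12],[10],[16],[15],[14],[19],[18],[17],[20],[22],[21],[23],[24]],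
  [[],[4],[2],[3],[1],[7],[6],[5],[10],[11],[8],[9],[14],[13],[12],[17],[16],[15],[18],[19],[20],[21],[23],[22],[24]]]
theorem c3_wf : wf c3 = true := by decide +kernel
theorem c3_l0 : lvl c3 0 = true := by decide +kernel
theorem c3_l1 : lvl c3 1 = true := by decide +kernel
theorem c3_l2 : lvl c3 2 = true := by decide +kernel
theorem c3_l3 : lvl c3 3 = true := by decide +kernel
theorem c3_l4 : ∀ i < 21, lvl c3 (4 + i) = true := by decide +kernel
theorem c3_l : ∀ i < c3.K, lvl c3 i = true := fun i hi => by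
  match i, hi with
  | 0, _ => exact c3_l0
  | 1, _ => exact c3_l1
  | 2, _ => exact c3_l2
  | 3, _ => exact c3_l3
  | i + 4, h => exact Nat.add_comm 4 i ▸ c3_l4 i (by have : i + 4 < 25 := h; omega)
theorem c3_f0 : ∀ i < c3.K, fusR c3 3 1 (nth (nth c3_w [] 0) []) i = true := by decide +kernel
theorem c3_f1 : ∀ i < c3.K, fusR c3 2 1 (nth (nth c3_w [] 1) []) i = true := by decide +kernel
theorem c3_f2 : ∀ i < c3.K, fusR c3 1 1 (nth (nth c3_w [] 2) []) i = true := by decide +kernel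
theorem c3_f3 : ∀ i < c3.K, fusR c3 0 1 (nth (nth c3_w [] 3) []) i = true := by decide +kernel
theorem c3_f : ∀ s < 4, ∀ i < c3.K, fusR c3 (3 - s) 1 (nth (nth c3_w [] s) []) i = true := fun s hs => by
  match s, hs with
  | 0, _ => exact c3_f0
  | 1, _ => exact c3_f1
  | 2, _ => exact c3_f2
  | 3, _ => exact c3_f3
theorem c3_cen : ∀ j < c3.K, 24 ≤ j → ∀ i ≤ j, c3.tab (c3.idx i j) = if i = j then [] else [j] := by decide +kernel
theorem c3_ab : abOK c3 [(0,22,23),(6,16,20),(7,15,24)] [] (fun kn => decide (∀ j < c3.K, 24 ≤ j → j ∈ kn)) = true := by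
  decide +kernel

end
end CA.H22F4
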