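/-
Iterated cores of a maximal parabolic subgroup and its conjugate by the deleted simple reflection.
-/
import Cfsg.Agent.Lib.Lie.H22St3
import Cfsg.Agent.Lib.Lie.BNParab
import Cfsg.Agent.Lib.Lie.ChevAdj

set_option autoImplicit false

namespace CA.H23Core

open CA.Chev Equiv Cfsg.Lie

section
variable {G : Type*} [Group G]

/-- the core in `M` of `Y` -/
def cr (M Y : Subgroup G) : Subgroup G := (Y.subgroupOf M).normalCore.map M.subtype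

theorem cr_le (M Y : Subgroup G) : cr M Y ≤ Y := by
  rintro _ ⟨y, hy, rfl⟩
  exact Subgroup.normalCore_le (Y.subgroupOf M) hy

theorem cr_conj {M Y : Subgroup G} {p y : G} (hp : p ∈ M) (hy : y ∈ cr M Y) : p * y * p⁻¹ ∈ cr M Y := by
  obtain ⟨y, hy, rfl⟩ := hy
  exact ⟨_, (Subgroup.normalCore_normal _).conj_mem y hy ⟨p, hp⟩, rfl⟩

theorem le_cr {M Y N : Subgroup G} (h1 : N ≤ M) (h2 : N ≤ Y) (h : ∀ p ∈ M, ∀ y ∈ N, p * y * p⁻¹ ∈ N) :
    N ≤ cr M Y := fun y hy => ⟨⟨y, h1 hy⟩, fun b => h2 (h b b.2 y hy), rfl⟩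

/-- the two sequences of iterated cores -/
def sq (M M' : Subgroup G) : ℕ → Subgroup G × Subgroup G
  | 0 => (M, M')
  | i + 1 => (cr M ((sq M M' i).1 ⊓ (sq M M' i).2), cr M' ((sq M M' i).1 ⊓ (sq M M' i).2))
end

variable {D : ChevalleyDatum} [Good D] {K : Type*} [Field K] {Γ : Type*} [Group Γ] (a : Nd D)

/-- the nodes other than `a` -/
def Jc : Set (Nd D) := {j | j ≠ a}
/-- roots of level at least `i` -/
def Sv (i : ℤ) : Set (Rt D) := {r | i ≤ rt r a}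

variable {a}

theorem lev_WJ {w : Perm (Rt D)} (hw : w ∈ WJ (Jc a)) (r : Rt D) : rt (w r) a = rt r a :=
  rt_WJ hw r (by simp [Jc])

theorem lev_sim : rt (sim a) a = 1 := by simp [rt_sim]

theorem lev_sR (r : Rt D) : rt (sR a r) a = rt r a - wt r a := by simp [rt_sR, rt_sim]

theorem pos_of_Sv {i : ℤ} (hi : 1 ≤ i) {r : Rt D} (h : r ∈ Sv a i) : Pos r :=
  pos_of_coord (i := a) (by have : i ≤ rt r a := h; omega)

theorem Sv_mono {i j : ℤ} (h : i ≤ j) : Sv a j ⊆ Sv a i := fun _ hr => h.trans hr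

theorem ideal_Sv {i : ℤ} (hi : 1 ≤ i) :
    ∀ r ∈ Sv a 0, ∀ s ∈ Sv a i, s ≠ ng r ∧ ∀ k, Cmb r s k → k ∈ Sv a i := by
  intro r hr s hs
  have hr : 0 ≤ rt r a := hr
  have hs : i ≤ rt s a := hs
  refine ⟨fun e => ?_, fun k hk => ?_⟩
  · rw [e, rt_ng, Pi.neg_apply] at hs; omega
  · obtain ⟨u, v, hu, hv, h⟩ := hk.coord
    change i ≤ rt k a
    rw [h]; nlinarith

theorem nil_Sv {i : ℤ} (hi : 1 ≤ i) : Nil (Sv a i) :=
  nil_pos.mono (fun _ h => pos_of_Sv hi h) fun r hr s hs =>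
    (ideal_Sv hi r (Sv_mono (by omega) hr) s hs).2

theorem exists_wt_pos {r : Rt D} (h : 0 < rt r a) : ∃ w ∈ WJ (Jc a), 0 < wt (w r) a := by
  induction hn : (ht r).toNat using Nat.strong_induction_on generalizing r with
  | _ n ih =>
  have hp : Pos r := pos_of_coord h
  obtain ⟨i, hi, -⟩ := hp.exists_wt_pos
  by_cases e : i = a
  · exact ⟨1, one_mem _, e ▸ hi⟩
  · have hm : sR i ∈ WJ (Jc a) := sR_mem_WJ e
    have h' : 0 < rt (sR i r) a := by rwa [lev_WJ hm]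
    have h1 := (pos_of_coord h').ht_pos
    have h2 := ht_sR i r
    obtain ⟨w, hw, h3⟩ := ih _ (by omega) h' rfl
    exact ⟨w * sR i, mul_mem hw hm, h3⟩

theorem wt_le (hl : ∀ r s : Rt D, pr r s = pr s r) {r : Rt D} (h : r ≠ sim a) : wt r a ≤ 1 := by
  rw [← pr_sim_left]
  rcases pr_cases hl (sim a) r with e | e | e | e | e
  · exact absurd e h
  · rw [e]; simp
  all_goals omega

theorem rt_cor (hl : ∀ r s : Rt D, pr r s = pr s r) (r : Rt D) : rt r = cor r := eq_of_dot_wt fun s => by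
  change _ = pr r s
  rw [hl, ← prL_rt, ← congrArg (prL s) (Finset.univ_sum_single (rt r)), map_sum]
  refine Finset.sum_congr rfl fun i _ => ?_
  rw [show Pi.single i (rt r i) = rt r i • rt (sim i) by rw [rt_sim, ← Pi.single_smul', smul_eq_mul, mul_one],
    map_smul, prL_rt, hl, pr_sim_left, smul_eq_mul]

theorem exists_eq_sim (hl : ∀ r s : Rt D, pr r s = pr s r) {r : Rt D} (h : rt r a = 1) :
    ∃ w ∈ WJ (Jc a), w r = sim a := by
  induction hn : (ht r).toNat using Nat.strong_induction_on generalizing r with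
  | _ n ih =>
  have hp : Pos r := pos_of_coord (i := a) (by omega)
  by_cases e : r = sim a
  · exact ⟨1, one_mem _, e⟩
  obtain ⟨i, hi, hw⟩ : ∃ i, i ≠ a ∧ 0 < wt r i := by
    by_contra hc
    push Not at hc
    have h1 : pr r r = ∑ i, rt r i * wt r i := by rw [rt_cor hl]; rfl
    rw [pr_self, ← Finset.add_sum_erase _ _ (Finset.mem_univ a), h] at h1
    have h2 : ∑ i ∈ Finset.univ.erase a, rt r i * wt r i ≤ 0 := Finset.sum_nonpos fun i hi =>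
      mul_nonpos_of_nonneg_of_nonpos (hp.rt_nonneg i) (hc i (Finset.ne_of_mem_erase hi))
    have := wt_le hl e
    omega
  have hm : sR i ∈ WJ (Jc a) := sR_mem_WJ hi
  have h' : rt (sR i r) a = 1 := by rwa [lev_WJ hm]
  have h1 := (pos_of_coord (i := a) (r := sR i r) (by omega)).ht_pos
  have h2 := ht_sR i r
  obtain ⟨w, hw, h3⟩ := ih _ (by omega) h' rfl
  exact ⟨w * sR i, mul_mem hw hm, h3⟩

theorem exists_lev_one (j : Nd D) : ∃ r : Rt D, rt r a = 1 ∧ wt r j ≠ 0 := by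
  by_contra hc
  obtain ⟨i, ⟨r, h1, h2⟩, k, hk, h3⟩ := exists_bond (J := {j | ∃ r : Rt D, rt r a = 1 ∧ wt r j ≠ 0}) (i0 := a)
    (j0 := j) ⟨sim a, lev_sim, by simp⟩ hc
  have h4 : wt (sim i) k ≠ 0 := fun e => h3 (by
    rw [← pr_sim_left] at e ⊢; exact pr_zero_symm e)
  simp only [Set.mem_ofPred_eq, not_exists, not_and, not_not] at hk
  by_cases e : i = a
  · exact h4 (hk _ (e ▸ lev_sim))
  · have := hk (sR i r) (by rwa [lev_WJ (sR_mem_WJ e)])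
    rw [wt_sR, Pi.sub_apply, hk r h1, Pi.smul_apply, smul_eq_mul, zero_sub, neg_eq_zero] at this
    exact mul_ne_zero h2 h4 this

theorem eq_one_of_fix {w : Perm (Rt D)} (hw : w ∈ W D) (h : ∀ r, rt r a = 1 → w r = r) : w = 1 := by
  refine eq_one_of_pos hw fun i => ?_
  suffices w (sim i) = sim i from this.symm ▸ pos_sim i
  by_cases e : i = a
  · exact h _ (e ▸ lev_sim)
  obtain ⟨r, h1, h2⟩ := exists_lev_one (a := a) i
  have h3 := congrArg (lin w) (rt_sR i r)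
  rw [map_sub, map_smul, lin_rt (W_le_RA hw), lin_rt (W_le_RA hw), lin_rt (W_le_RA hw), h r h1,
    h _ (by rwa [lev_WJ (sR_mem_WJ e)]), rt_sR, sub_right_inj] at h3
  exact (rt_injective (smul_right_injective _ h2 h3)).symm

variable (A : Sys D K Γ)

theorem P_eq : A.PJ (Jc a) = A.H ⊔ A.X (Sv a 0) := by
  rw [A.PJ_eq]
  congr 2
  ext r
  simp only [Phi, Jc, Sv, Set.mem_ofPred_eq, not_not, forall_eq]
  refine ⟨fun h => h.elim (fun h => h.rt_nonneg a) fun h => h.ge, fun h => ?_⟩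
  exact h.lt_or_eq.imp pos_of_coord Eq.symm

theorem X_le_P {i : ℤ} (hi : 0 ≤ i) : A.X (Sv a i) ≤ A.PJ (Jc a) := by
  rw [P_eq]; exact (A.X_mono (Sv_mono hi)).trans le_sup_right

theorem P_conj {i : ℤ} (hi : 1 ≤ i) {p y : Γ} (hp : p ∈ A.PJ (Jc a)) (hy : y ∈ A.X (Sv a i)) :
    p * y * p⁻¹ ∈ A.X (Sv a i) := by
  have : A.PJ (Jc a) ≤ Subgroup.normalizer (A.X (Sv a i) : Set Γ) := by
    rw [P_eq]; exact sup_le (A.H_le_normalizer _) (A.X_le_normalizer (ideal_Sv hi))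
  exact (Subgroup.mem_normalizer_iff.1 (this hp) y).1 hy

theorem X_le_U {i : ℤ} (hi : 1 ≤ i) : A.X (Sv a i) ≤ A.U := A.X_mono fun _ h => pos_of_Sv hi h

theorem n_not_mem {g : Γ} (hg : A.Act g (sR a)) : g ∉ A.PJ (Jc a) := fun h => by
  obtain ⟨c, hc⟩ := hg.conj_x (sim a)
  have := P_conj A le_rfl h (A.x_mem (S := Sv a 1) (r := sim a) lev_sim.ge 1)
  rw [hc, sR_sim] at this
  exact (pos_ng _).1 (A.pos_of_mem_U (by simp) (X_le_U A le_rfl this)) (pos_sim a)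

theorem x_not_mem {u : K} (hu : u ≠ 0) : A.x (ng (sim a)) u ∉ A.PJ (Jc a) := fun h => by
  refine n_not_mem A (A.act_sim a (Units.mk0 (-u⁻¹) (by simpa using hu))) ?_
  have hx : ∀ t, A.x (sim a) t ∈ A.PJ (Jc a) := fun t =>
    X_le_P A zero_le_one (A.x_mem (S := Sv a 1) lev_sim.ge t)
  rw [A.n_def]
  exact mul_mem (mul_mem (hx _) (by simpa using h)) (hx _)

theorem exists_rep {w : Perm (Rt D)} (hw : w ∈ WJ (Jc a)) : ∃ m ∈ A.PJ (Jc a), A.Act m w := by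
  obtain ⟨L, hL, rfl⟩ := exists_wd_J hw
  exact ⟨_, A.nw_mem_PJ hL, A.act_nw L⟩

theorem coatom (hG : A.G = ⊤) : IsCoatom (A.PJ (Jc a)) := by
  refine ⟨fun e => n_not_mem A (A.act_sim a 1) (e ▸ Subgroup.mem_top _), fun M hM => ?_⟩
  have hB : A.B ≤ M := (A.B_le_PJ _).trans hM.le
  have hn : ∀ j, j ≠ a → A.n (sim j) 1 ∈ A.PJ (Jc a) := fun j hj =>
    Subgroup.mem_sup_right (Subgroup.subset_closure ⟨j, hj, rfl⟩)
  by_cases h : A.n (sim a) 1 ∈ M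
  · rw [eq_top_iff, ← hG]
    refine A.G_le_of (fun i => ?_) fun i t => hB (A.U_le_B (A.x_mem (pos_sim i) t))
    by_cases e : i = a
    · exact e ▸ h
    · exact hM.le (hn i e)
  · refine absurd ?_ hM.not_ge
    rw [CA.BNParab.eq_parabolic_of_le (P := A.bn hG) hB]
    refine CA.BNParab.parabolic_le (A.B_le_PJ _) ?_
    rintro _ ⟨⟨j, rfl⟩, hj⟩
    exact hn j fun e => h (e ▸ hj)

section
variable {N : Subgroup Γ} (hN : ∀ p ∈ A.PJ (Jc a), ∀ y ∈ N, p * y * p⁻¹ ∈ N)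
include hN

theorem descend {i : ℤ} (hi : 1 ≤ i) (h1 : N ≤ A.X (Sv a i)) {T : Set (Rt D)} (hT : Nil T) (hT1 : T ⊆ Sv a 1)
    (h2 : N ≤ A.X T) (h : ∀ r, rt r a = i → ∃ w ∈ WJ (Jc a), w r ∉ T) : N ≤ A.X (Sv a (i + 1)) := by
  intro y hy
  obtain ⟨L, hL, hLS⟩ := Sys0.exists_list (Sv a 1)
  obtain ⟨t, rfl⟩ := A.exists_P (nil_Sv le_rfl) hL hLS (A.X_mono (Sv_mono hi) (h1 hy))
  refine (A.P_mem_iff (nil_Sv le_rfl) (nil_Sv (by omega)) (Sv_mono (by omega)) hL hLS).2 fun r hr hr' => ?_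
  by_cases e : r ∈ Sv a i
  · obtain ⟨w, hw, h3⟩ := h r (by simp only [Sv, Set.mem_ofPred_eq] at e hr'; omega)
    obtain ⟨m, hm, hmw⟩ := exists_rep A hw
    have h4 := hmw.conj_X' (S := T) (T := w ⁻¹' T) (fun s hs => by simpa using hs) (h2 (hN m hm _ hy))
    rw [show ∀ z : Γ, m⁻¹ * (m * z * m⁻¹) * m = z from fun z => by group] at h4
    refine (A.P_mem_iff (nil_Sv le_rfl) (hT.comap hmw.ra) (fun s hs => ?_) hL hLS).1 h4 r hr h3
    have : 1 ≤ rt (w s) a := hT1 hs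
    rwa [lev_WJ hw] at this
  · exact (A.P_mem_iff (nil_Sv le_rfl) (nil_Sv hi) (Sv_mono hi) hL hLS).1 (h1 hy) r hr e

variable (hl : ∀ r s : Rt D, pr r s = pr s r) {g : Γ} (hg : A.Act g (sR a))
include hl hg

theorem step2 {i : ℤ} (hi : 2 ≤ i) (h1 : N ≤ A.X (Sv a i)) (h2 : ∀ y ∈ N, g * y * g⁻¹ ∈ A.X (Sv a i)) :
    N ≤ A.X (Sv a (i + 1)) := by
  refine descend A hN (by omega) h1 (T := sR a ⁻¹' Sv a i) ((nil_Sv (by omega)).comap hg.ra) (fun r hr => ?_)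
    (fun y hy => ?_) fun r hr => ?_
  · have hr : i ≤ rt (sR a r) a := hr
    have h3 := wt_le hl (a := a) (r := sR a r) fun e => by rw [e, lev_sim] at hr; omega
    have h4 := lev_sR (a := a) (sR a r)
    rw [sR_sR] at h4
    change 1 ≤ rt r a
    omega
  · have := hg.conj_X' (S := Sv a i) (T := sR a ⁻¹' Sv a i) (fun s hs => by simpa using hs) (h2 y hy)
    rwa [show g⁻¹ * (g * y * g⁻¹) * g = y by group] at this
  · obtain ⟨w, hw, h3⟩ := exists_wt_pos (a := a) (r := r) (by omega)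
    refine ⟨w, hw, fun h4 => ?_⟩
    have h4 : i ≤ rt (sR a (w r)) a := h4
    rw [lev_sR, lev_WJ hw] at h4
    omega

theorem step1 (h1 : N ≤ A.X (Sv a 1)) (h2 : ∀ y ∈ N, g * y * g⁻¹ ∈ A.PJ (Jc a)) : N ≤ A.X (Sv a 2) := by
  rw [show (2 : ℤ) = 1 + 1 from rfl]
  refine descend A hN (i := 1) le_rfl h1 (T := {r ∈ Sv a 1 | r ≠ sim a}) ((nil_Sv le_rfl).mono (fun _ h => h.1) ?_)
    (fun _ h => h.1) (fun y hy => ?_) fun r hr => ?_
  · rintro r ⟨hr, -⟩ s ⟨hs, -⟩ k hk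
    obtain ⟨u, v, hu, hv, h⟩ := hk.coord
    have hr : 1 ≤ rt r a := hr
    have hs : 1 ≤ rt s a := hs
    have : 2 ≤ rt k a := by rw [h]; nlinarith
    exact ⟨(by omega : 1 ≤ rt k a), fun e => by rw [e, lev_sim] at this; omega⟩
  · obtain ⟨b, hb, c, hc, rfl⟩ := A.exists_mul (nil_Sv le_rfl) (fun r => r ≠ sim a) (h1 hy)
    obtain ⟨t, rfl⟩ := A.mem_X_single.1 (A.X_mono (T := {sim a}) (fun r hr => not_not.1 hr.2) hc)
    have h3 : g * b * g⁻¹ ∈ A.PJ (Jc a) := X_le_P A le_rfl (hg.conj_X (fun s hs =>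
      ((pos_of_Sv le_rfl hs.1).sR_pos hs.2).rt_nonneg a) hb)
    have h4 := mul_mem (inv_mem h3) (h2 _ hy)
    obtain ⟨c, hc⟩ := hg.conj_x (sim a)
    rw [show (g * b * g⁻¹)⁻¹ * (g * (b * A.x (sim a) t) * g⁻¹) = g * A.x (sim a) t * g⁻¹ by group, hc,
      sR_sim] at h4
    have : t = 0 := by
      by_contra e
      exact x_not_mem A (mul_ne_zero c.ne_zero e) h4
    simpa [this] using hb
  · obtain ⟨w, hw, h3⟩ := exists_eq_sim hl hr
    exact ⟨w, hw, fun h => h.2 h3⟩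
end

theorem map_T {y b m b' : Γ} (hC : ∀ u ∈ A.X (Sv a 1), y * u * y⁻¹ * u⁻¹ ∈ A.X (Sv a 2)) (hb : b ∈ A.B)
    (hb' : b' ∈ A.B) (e : y = b * m * b') {w : Perm (Rt D)} (hm : A.Act m w) {T : Set (Rt D)}
    (h2 : Sv a 2 ⊆ T) (h1 : T ⊆ Sv a 1) (hT : ∀ r, Pos r → ∀ s ∈ T, ∀ k, Cmb r s k → k ∈ T) {r : Rt D}
    (hr : r ∈ T) : w r ∈ T := by
  have hp : T ⊆ {r | Pos r} := fun s hs => pos_of_Sv le_rfl (h1 hs)
  have hB : ∀ c ∈ A.B, ∀ u ∈ A.X T, c * u * c⁻¹ ∈ A.X T := fun c hc u hu => by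
    have : A.B ≤ Subgroup.normalizer (A.X T : Set Γ) := sup_le (A.X_le_normalizer fun r hr s hs =>
      ⟨nil_pos.ne_ng hr (hp hs), hT r hr s hs⟩) (A.H_le_normalizer _)
    exact (Subgroup.mem_normalizer_iff.1 (this hc) u).1 hu
  have h3 := hB _ (inv_mem hb') _ (A.x_mem hr 1)
  have h4 := hB _ (inv_mem hb) _ (mul_mem (A.X_mono h2 (hC _ (A.X_mono h1 h3))) h3)
  obtain ⟨c, hc⟩ := hm.conj_x r
  rw [e, show ∀ z : Γ, b⁻¹ * (b * m * b' * (b'⁻¹ * z * b'⁻¹⁻¹) * (b * m * b')⁻¹ * (b'⁻¹ * z * b'⁻¹⁻¹)⁻¹ *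
    (b'⁻¹ * z * b'⁻¹⁻¹)) * b⁻¹⁻¹ = m * z * m⁻¹ from fun z => by group, hc] at h4
  have hc0 : (c : K) * 1 ≠ 0 := by simp
  exact A.x_mem_X_iff nil_pos (nil_pos.mono hp fun r hr => hT r (hp hr)) hp
    (A.pos_of_mem_U hc0 (A.X_mono hp h4)) hc0 h4

theorem map_le {y b m b' : Γ} (hC : ∀ u ∈ A.X (Sv a 1), y * u * y⁻¹ * u⁻¹ ∈ A.X (Sv a 2)) (hb : b ∈ A.B)
    (hb' : b' ∈ A.B) (e : y = b * m * b') {w : Perm (Rt D)} (hm : A.Act m w) {r : Rt D} (hr : rt r a = 1)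
    (k : Nd D) : 2 ≤ rt (w r) a ∨ (rt (w r) a = 1 ∧ rt r k ≤ rt (w r) k) := by
  refine map_T A hC hb hb' e hm (T := {s | 2 ≤ rt s a ∨ (rt s a = 1 ∧ rt r k ≤ rt s k)}) (fun s hs => Or.inl hs)
    (fun s hs => ?_) (fun p hp s hs q hq => ?_) (Or.inr ⟨hr, le_rfl⟩)
  · change 1 ≤ rt s a
    rcases hs with h | h <;> omega
  · obtain ⟨u, v, hu, hv, h⟩ := hq.coord
    have hs1 : 1 ≤ rt s a := by rcases hs with h | h <;> omega
    have h1 := hp.rt_nonneg a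
    have h2 := hp.rt_nonneg k
    have h3 := (pos_of_coord (i := a) (r := s) (by omega)).rt_nonneg k
    have h4 : rt s a ≤ rt q a := by rw [h]; nlinarith
    have h5 : rt s k ≤ rt q k := by rw [h]; nlinarith
    change 2 ≤ rt q a ∨ (rt q a = 1 ∧ rt r k ≤ rt q k)
    rcases hs with h | h <;> omega

theorem mem_B_of (hG : A.G = ⊤) {y : Γ} (hC : ∀ u ∈ A.X (Sv a 1), y * u * y⁻¹ * u⁻¹ ∈ A.X (Sv a 2))
    (hC' : ∀ u ∈ A.X (Sv a 1), y⁻¹ * u * y⁻¹⁻¹ * u⁻¹ ∈ A.X (Sv a 2)) : y ∈ A.B := by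
  obtain ⟨b, hb, m, hm, b', hb', e⟩ := A.bruhat (g := y) (hG ▸ Subgroup.mem_top y)
  obtain ⟨w, hw⟩ := A.exists_act hm
  have e' : y⁻¹ = b'⁻¹ * m⁻¹ * b⁻¹ := by rw [e]; group
  have : w = 1 := eq_one_of_fix (a := a) hw.1 fun r hr => rt_injective (funext fun k => by
    rcases map_le A hC hb hb' e hw hr k with h | ⟨h1, h2⟩
    · have := map_T A hC' (inv_mem hb') (inv_mem hb) e' hw.inv (T := Sv a 2) subset_rfl (Sv_mono (by omega))
        (fun p hp s hs => (ideal_Sv (by omega) p (hp.rt_nonneg a) s hs).2) h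
      have : 2 ≤ rt (w⁻¹ (w r)) a := this
      rw [pinv_apply] at this; omega
    · have := map_le A hC' (inv_mem hb') (inv_mem hb) e' hw.inv h1 k
      rw [pinv_apply] at this; omega)
  rw [e]
  exact mul_mem (mul_mem hb (A.H_le_B (A.mem_H_of_act hm (this ▸ hw)))) hb'

theorem step0 (hG : A.G = ⊤) (hH : A.H = ⊥) (hl : ∀ r s : Rt D, pr r s = pr s r) {g : Γ} (hg : A.Act g (sR a))
    {N : Subgroup Γ} (hN : ∀ p ∈ A.PJ (Jc a), ∀ y ∈ N, p * y * p⁻¹ ∈ N) (h1 : N ≤ A.PJ (Jc a))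
    (h2 : ∀ y ∈ N, g * y * g⁻¹ ∈ A.PJ (Jc a)) : N ≤ A.X (Sv a 2) := by
  have h3 : N ⊓ A.X (Sv a 1) ≤ A.X (Sv a 2) := step1 A (fun p hp y hy => ⟨hN p hp y hy.1, P_conj A le_rfl hp hy.2⟩)
    hl hg inf_le_right fun y hy => h2 y hy.1
  have hC : ∀ y ∈ N, ∀ u ∈ A.X (Sv a 1), y * u * y⁻¹ * u⁻¹ ∈ A.X (Sv a 2) := fun y hy u hu => by
    refine h3 (Subgroup.mem_inf.2 ⟨?_, mul_mem (P_conj A le_rfl (h1 hy) hu) (inv_mem hu)⟩)
    have := mul_mem hy (hN u (X_le_P A zero_le_one hu) _ (inv_mem hy))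
    simpa [mul_assoc] using this
  have hU : N ≤ A.U := fun y hy => by
    have := mem_B_of A hG (hC y hy) (hC _ (inv_mem hy))
    rwa [Sys0.B, hH, sup_bot_eq] at this
  refine step1 A hN hl hg (fun y hy => ?_) h2
  obtain ⟨b, hb, c, hc, rfl⟩ := A.exists_mul nil_pos (fun r => r ∈ Sv a 1) (hU hy)
  have hb : b ∈ A.X (Sv a 1) := A.X_mono (fun _ h => h.2) hb
  obtain ⟨w, hw, h4⟩ := exists_w0_J (Jc a)
  obtain ⟨m, hm, hmw⟩ := exists_rep A hw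
  have h5 := mul_mem (inv_mem (X_le_U A le_rfl (P_conj A le_rfl hm hb))) (hU (hN m hm _ hy))
  rw [show (m * b * m⁻¹)⁻¹ * (m * (b * c) * m⁻¹) = m * c * m⁻¹ by group] at h5
  have h6 := A.U_inf_V h5 (hmw.conj_X (fun s hs => h4 s hs.1 fun i hi => by
    obtain rfl : i = a := not_not.1 hi
    have := Pos.rt_nonneg hs.1 i
    have h7 : ¬ 1 ≤ rt s i := hs.2
    omega) hc)
  have : c = 1 := by simpa using h6
  simpa [this] using hb

variable (a)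

/-- the conjugate parabolic -/
def P2 : Subgroup Γ := (A.PJ (Jc a)).map (MulAut.conj (A.n (sim a) 1)).toMonoidHom

variable {a}

theorem act_inv : A.Act (A.n (sim a) 1)⁻¹ (sR a) := by simpa using (A.act_sim a 1).inv

theorem mem_P2 {y : Γ} : y ∈ P2 a A ↔ (A.n (sim a) 1)⁻¹ * y * (A.n (sim a) 1)⁻¹⁻¹ ∈ A.PJ (Jc a) := by
  constructor
  · rintro ⟨p, hp, rfl⟩
    simpa [mul_assoc] using hp
  · exact fun h => ⟨_, h, by simp [mul_assoc]⟩

theorem upper (hG : A.G = ⊤) (hH : A.H = ⊥) (hl : ∀ r s : Rt D, pr r s = pr s r) (i : ℕ) :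
    (sq (A.PJ (Jc a)) (P2 a A) (i + 1)).1 ≤ A.X (Sv a (i + 2)) ∧
    ((sq (A.PJ (Jc a)) (P2 a A) (i + 1)).2).comap (MulAut.conj (A.n (sim a) 1)).toMonoidHom ≤
      A.X (Sv a (i + 2)) := by
  have hN : ∀ Y, ∀ p ∈ A.PJ (Jc a), ∀ y ∈ (cr (P2 a A) Y).comap (MulAut.conj (A.n (sim a) 1)).toMonoidHom,
      p * y * p⁻¹ ∈ (cr (P2 a A) Y).comap (MulAut.conj (A.n (sim a) 1)).toMonoidHom := fun Y p hp y hy => by
    rw [Subgroup.mem_comap, map_mul, map_mul, map_inv]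
    exact cr_conj ⟨p, hp, rfl⟩ hy
  induction i with
  | zero =>
    refine ⟨step0 A hG hH hl (act_inv A) (fun p hp y hy => cr_conj hp hy) (fun y hy => (cr_le _ _ hy).1)
      fun y hy => (mem_P2 A).1 (cr_le _ _ hy).2, step0 A hG hH hl (A.act_sim a 1) (hN _) (fun y hy => ?_)
      fun y hy => (cr_le _ _ hy).1⟩
    simpa [mul_assoc] using (mem_P2 A).1 (cr_le _ _ hy).2
  | succ i ih =>
    rw [show ((i + 1 : ℕ) : ℤ) + 2 = i + 2 + 1 by push_cast; ring]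
    refine ⟨step2 A (fun p hp y hy => cr_conj hp hy) hl (act_inv A) (by omega) (fun y hy => ih.1 (cr_le _ _ hy).1)
      fun y hy => ih.2 ?_, step2 A (hN _) hl (A.act_sim a 1) (by omega) (fun y hy => ih.2 (cr_le _ _ hy).2)
      fun y hy => ih.1 (cr_le _ _ hy).1⟩
    simpa [mul_assoc] using (cr_le _ _ hy).2

theorem lower (hl : ∀ r s : Rt D, pr r s = pr s r) (i : ℕ) :
    A.X (Sv a (i + 1)) ≤ (sq (A.PJ (Jc a)) (P2 a A) i).1 ∧
    (A.X (Sv a (i + 1))).map (MulAut.conj (A.n (sim a) 1)).toMonoidHom ≤ (sq (A.PJ (Jc a)) (P2 a A) i).2 := by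
  have hd : ∀ {g : Γ}, A.Act g (sR a) → ∀ i : ℕ, ∀ y ∈ A.X (Sv a ((i + 1 : ℕ) + 1)),
      g * y * g⁻¹ ∈ A.X (Sv a (i + 1)) := fun hg i y hy => hg.conj_X (fun s hs => by
    have hs : ((i + 1 : ℕ) : ℤ) + 1 ≤ rt s a := hs
    have h3 := wt_le hl (a := a) (r := s) fun e => by rw [e, lev_sim] at hs; omega
    change _ ≤ rt (sR a s) a
    rw [lev_sR]; omega) hy
  induction i with
  | zero => exact ⟨X_le_P A (by omega), Subgroup.map_mono (X_le_P A (by omega))⟩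
  | succ i ih =>
    have hm : A.X (Sv a ((i + 1 : ℕ) + 1)) ≤ A.X (Sv a (i + 1)) := A.X_mono (Sv_mono (by omega))
    refine ⟨le_cr (X_le_P A (by omega)) (le_inf (hm.trans ih.1) fun y hy => ih.2 ⟨_, hd (act_inv A) i y hy, ?_⟩)
      fun p hp y hy => P_conj A (by omega) hp hy, le_cr (Subgroup.map_mono (X_le_P A (by omega)))
      (le_inf ?_ ((Subgroup.map_mono hm).trans ih.2)) ?_⟩
    · simp [mul_assoc]
    · rintro _ ⟨y, hy, rfl⟩
      exact ih.1 (hd (A.act_sim a 1) i y hy)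
    · rintro _ ⟨p, hp, rfl⟩ _ ⟨y, hy, rfl⟩
      exact ⟨_, P_conj A (by omega) hp hy, by simp only [map_mul, map_inv]⟩

theorem P_ne : A.PJ (Jc a) ≠ P2 a A := fun e => by
  obtain ⟨c, hc⟩ := (A.act_sim a 1).conj_x (sim a)
  have : A.n (sim a) 1 * A.x (sim a) 1 * (A.n (sim a) 1)⁻¹ ∈ P2 a A :=
    ⟨_, X_le_P A zero_le_one (A.x_mem (S := Sv a 1) lev_sim.ge 1), rfl⟩
  rw [← e, hc, sR_sim] at this
  exact x_not_mem A (by simp) this

end CA.H23Core
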