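/-
The Lang–Steinberg theorem for a group with a polynomial parametrisation.
-/
import Mathlib.RingTheory.TensorProduct.Nontrivial
import Mathlib.RingTheory.Jacobson.Ring
import Mathlib.RingTheory.Ideal.GoingUp
import Mathlib.RingTheory.FiniteStability
import Mathlib.RingTheory.IntegralClosure.IsIntegralClosure.Basic
import Mathlib.FieldTheory.IsAlgClosed.Basic
import Mathlib.Algebra.MvPolynomial.Funext
import Mathlib.LinearAlgebra.Matrix.GeneralLinearGroup.Defs

set_option autoImplicit false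

namespace CA.Lang

open scoped TensorProduct

/-- an integral endomorphism of a noetherian domain is injective -/
theorem inj_of_integral {R : Type*} [CommRing R] [IsDomain R] [IsNoetherianRing R] (L : R →+* R)
    (h : L.IsIntegral) : Function.Injective L := by
  have hk : ∀ n : ℕ, (L ^ n).IsIntegral := fun n => by
    induction n with
    | zero => exact RingHom.isIntegral_of_surjective _ Function.surjective_id
    | succ n ih => rw [pow_succ']; exact RingHom.IsIntegral.trans _ _ ih h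
  let P : ℕ →o Ideal R := ⟨fun n => RingHom.ker (L ^ n), monotone_nat_of_le_succ fun n x hx => by
    rw [RingHom.mem_ker] at hx ⊢
    rw [pow_succ', RingHom.coe_mul, Function.comp_apply, hx, map_zero]⟩
  obtain ⟨n, hn⟩ := monotone_stabilizes_iff_noetherian.2 (inferInstance : IsNoetherian R R) P
  rw [injective_iff_map_eq_zero]
  intro x hx
  by_contra h0
  have : (⊥ : Ideal R).comap (L ^ n) < (RingHom.ker L).comap (L ^ n) :=
    @Ideal.comap_lt_comap_of_integral_mem_sdiff R _ R _ ⊥ (RingHom.ker L) (L ^ n).toAlgebra _ bot_le x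
      ⟨hx, by simpa using h0⟩ (hk n x)
  refine this.ne ?_
  have e := hn (n + 1) (Nat.le_succ n)
  change RingHom.ker (L ^ n) = RingHom.ker (L ^ (n + 1)) at e
  rw [RingHom.comap_ker, ← RingHom.ker_eq_comap_bot, e, pow_succ']; rfl

variable {K : Type*} [Field K]

theorem exists_algHom [IsAlgClosed K] (T : Type*) [CommRing T] [Nontrivial T] [Algebra K T]
    [Algebra.FiniteType K T] : Nonempty (T →ₐ[K] K) := by
  obtain ⟨m, hm⟩ := Ideal.exists_maximal T
  let := Ideal.Quotient.field m
  have := finite_of_finite_type_of_isJacobsonRing K (T ⧸ m)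
  exact ⟨(IsAlgClosed.lift : (T ⧸ m) →ₐ[K] K).comp (Ideal.Quotient.mkₐ K m)⟩

/-- two dominant maps to an irreducible variety have a common value -/
theorem common [IsAlgClosed K] {R A B : Type*} [CommRing R] [CommRing A] [CommRing B] [Algebra K R] [Algebra K A]
    [Algebra K B] [IsDomain A] [IsDomain B] [Algebra.FiniteType K A] [Algebra.FiniteType K B]
    (α : R →ₐ[K] A) (β : R →ₐ[K] B) (hα : Function.Injective α) (hβ : Function.Injective β) :
    ∃ (u : A →ₐ[K] K) (v : B →ₐ[K] K), ∀ f, u (α f) = v (β f) := by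
  let := α.toRingHom.toAlgebra
  let := β.toRingHom.toAlgebra
  have : IsScalarTower K R A := IsScalarTower.of_algHom α
  have : IsScalarTower K R B := IsScalarTower.of_algHom β
  have := Algebra.TensorProduct.nontrivial_of_algebraMap_injective_of_isDomain R A B hα hβ
  have : Algebra.FiniteType R B := Algebra.FiniteType.of_restrictScalars_finiteType K R B
  have : Algebra.FiniteType K (A ⊗[R] B) := Algebra.FiniteType.trans (inferInstance : Algebra.FiniteType K A)
    (inferInstance : Algebra.FiniteType A (A ⊗[R] B))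
  obtain ⟨w⟩ := exists_algHom (K := K) (A ⊗[R] B)
  refine ⟨w.comp Algebra.TensorProduct.includeLeft,
    w.comp ((Algebra.TensorProduct.includeRight : B →ₐ[R] A ⊗[R] B).restrictScalars K), fun f => ?_⟩
  exact congrArg w (Algebra.TensorProduct.tmul_one_eq_one_tmul (A := A) (B := B) f)

variable (K) in
/-- the polynomial functions on an affine space -/
noncomputable def Pol (s : Type*) : Subalgebra K ((s → K) → K) :=
  (MvPolynomial.aeval fun i t => t i : MvPolynomial s K →ₐ[K] ((s → K) → K)).range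

theorem aeval_proj {s : Type*} (p : MvPolynomial s K) (t : s → K) :
    (MvPolynomial.aeval (fun i t => t i) p : (s → K) → K) t = MvPolynomial.aeval t p := by
  have : (Pi.evalAlgHom K (fun _ : s → K => K) t).comp (MvPolynomial.aeval fun i t => t i) =
      MvPolynomial.aeval t := MvPolynomial.algHom_ext fun i => by simp
  exact DFunLike.congr_fun this p

theorem proj_mem {s : Type*} (i : s) : (fun t => t i) ∈ Pol K s := ⟨MvPolynomial.X i, by simp⟩

/-- composition of functions with a map -/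
def pre {X Y : Type*} (φ : Y → X) : (X → K) →ₐ[K] (Y → K) where
  toFun f := fun y => f (φ y)
  map_one' := rfl
  map_mul' _ _ := rfl
  map_zero' := rfl
  map_add' _ _ := rfl
  commutes' _ := rfl

theorem exists_pull {X s : Type*} [Infinite K] {R : Subalgebra K (X → K)} {φ : (s → K) → X}
    (hφ : Function.Surjective φ) (hp : ∀ f ∈ R, pre φ f ∈ Pol K s) : ∃ ψ : R →ₐ[K] MvPolynomial s K,
    Function.Injective ψ ∧ ∀ f t, MvPolynomial.aeval t (ψ f) = f.1 (φ t) := by
  have hi : Function.Injective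
      (MvPolynomial.aeval fun i t => t i : MvPolynomial s K →ₐ[K] ((s → K) → K)) := fun p q h =>
    MvPolynomial.funext fun t => by
      simpa only [aeval_proj, MvPolynomial.aeval_eq_eval] using congrFun h t
  let ψ : R →ₐ[K] MvPolynomial s K := (AlgEquiv.ofInjective _ hi).symm.toAlgHom.comp
    (((pre φ).comp R.val).codRestrict _ fun f => hp f f.2)
  have e : ∀ f t, MvPolynomial.aeval t (ψ f) = f.1 (φ t) := fun f t => by
    rw [← aeval_proj]
    exact congrFun (congrArg Subtype.val ((AlgEquiv.ofInjective _ hi).apply_symm_apply ⟨_, hp f f.2⟩)) t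
  refine ⟨ψ, fun f f' h => Subtype.ext (funext fun x => ?_), e⟩
  obtain ⟨t, rfl⟩ := hφ x
  rw [← e, ← e, h]

theorem integral_of_pow {A B ι : Type*} [CommRing A] [CommRing B] [Finite ι] (L : A →+* B) (x : ι → B) {Q : ℕ}
    (hQ : 2 ≤ Q) (h : ∀ i, x i ^ Q ∈ AddSubmonoid.closure {y | ∃ a j, y = L a * x j}) (i : ι) :
    L.IsIntegralElem (x i) := by
  classical
  have := Fintype.ofFinite ι
  let := L.toAlgebra
  let mo : (ι → ℕ) → B := fun e => ∏ j, x j ^ e j
  have add : ∀ e e', mo (e + e') = mo e * mo e' := fun e e' => by simp [mo, pow_add, Finset.prod_mul_distrib]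
  have sg : ∀ j k, mo (Pi.single j k) = x j ^ k := fun j k => by
    simp only [mo]; rw [Finset.prod_eq_single j] <;> simp +contextual
  let M := Submodule.span A (Set.range fun e : ι → Fin Q => mo fun j => e j)
  have key : ∀ d (e : ι → ℕ), ∑ j, e j < d → mo e ∈ M := fun d => by
    induction d with
    | zero => simp
    | succ d ih =>
      intro e he
      by_cases hc : ∀ j, e j < Q
      · exact Submodule.subset_span ⟨fun j => ⟨e j, hc j⟩, rfl⟩
      push Not at hc
      obtain ⟨j, hj⟩ := hc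
      obtain ⟨e, rfl⟩ : ∃ e', e = Pi.single j Q + e' := ⟨e - Pi.single j Q, funext fun k => by
        by_cases e : k = j <;> simp [*]⟩
      rw [add, sg]
      refine AddSubmonoid.closure_induction (fun y hy => ?_) (by simp) (fun y z _ _ hy hz => ?_) (h j)
      · obtain ⟨a, k, rfl⟩ := hy
        rw [mul_assoc, ← pow_one (x k), ← sg, ← add]
        refine M.smul_mem a (ih _ ?_)
        simp only [Pi.add_apply, Finset.sum_add_distrib, Finset.sum_pi_single', Finset.mem_univ, if_true] at he ⊢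
        omega
      · rw [add_mul]; exact add_mem hy hz
  have hm : ∀ e, mo e ∈ M := fun e => key _ e (Nat.lt_succ_self _)
  refine IsIntegral.of_mem_of_fg (M.toSubalgebra (by simpa [mo] using hm 0) fun a b ha hb => ?_)
    (Submodule.fg_span (Set.finite_range _)) _ (by rw [← pow_one (x i), ← sg]; exact hm _)
  refine (?_ : M * M ≤ M) (Submodule.mul_mem_mul ha hb)
  rw [Submodule.span_mul_span, Submodule.span_le]
  rintro _ ⟨_, ⟨e, rfl⟩, _, ⟨e', rfl⟩, rfl⟩
  exact (add _ _).subst (motive := (· ∈ M)) (hm _)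

variable {Γ n Y : Type*} [Group Γ] [Fintype n] [DecidableEq n] (θ : Γ →* Matrix n n K) (σ : Γ →* Γ)

/-- a family of group elements whose coordinates lie in a given algebra of functions -/
def Reg (S : Subalgebra K (Y → K)) (ψ : Y → Γ) : Prop :=
  ∀ k i j, (fun y => θ (σ^[k] (ψ y)) i j) ∈ S ∧ (fun y => θ (σ^[k] (ψ y)⁻¹) i j) ∈ S

variable {θ σ} {S : Subalgebra K (Y → K)} {ψ ψ' : Y → Γ}

theorem Reg.const (c : Γ) : Reg θ σ S fun _ => c := fun _ _ _ => ⟨S.algebraMap_mem _, S.algebraMap_mem _⟩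

theorem Reg.inv (h : Reg θ σ S ψ) : Reg θ σ S fun y => (ψ y)⁻¹ := fun k i j => by
  simpa only [inv_inv] using (h k i j).symm

theorem Reg.mul (h : Reg θ σ S ψ) (h' : Reg θ σ S ψ') : Reg θ σ S fun y => ψ y * ψ' y := fun k i j => by
  simp only [mul_inv_rev, iterate_map_mul, map_mul, Matrix.mul_apply, ← Finset.sum_fn]
  exact ⟨S.sum_mem fun l _ => S.mul_mem (h k i l).1 (h' k l j).1,
    S.sum_mem fun l _ => S.mul_mem (h' k i l).2 (h k l j).2⟩

theorem Reg.map (h : Reg θ σ S ψ) : Reg θ σ S fun y => σ (ψ y) := fun k i j => by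
  simpa only [Function.iterate_succ_apply, map_inv] using h (k + 1) i j

variable (θ σ) in
/-- the coordinate functions -/
def co (m : ℕ) (p : Fin m × Bool × n × n) (g : Γ) : K := θ (σ^[p.1] (cond p.2.1 g g⁻¹)) p.2.2.1 p.2.2.2

theorem Reg.pre_mem (h : Reg θ σ S ψ) {m : ℕ} {f : Γ → K} (hf : f ∈ Algebra.adjoin K (Set.range (co θ σ m))) :
    pre ψ f ∈ S := by
  refine (Algebra.adjoin_le ?_ : _ ≤ S.comap (pre ψ)) hf
  rintro _ ⟨⟨k, _ | _, i, j⟩, rfl⟩
  exacts [(h k i j).2, (h k i j).1]

variable {m Q : ℕ} (hm : 0 < m) (hQ : 2 ≤ Q) (hF : ∀ g i j, θ (σ^[m] g) i j = θ g i j ^ Q)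
include hm hF

theorem reg_id : Reg θ σ (Algebra.adjoin K (Set.range (co θ σ m))) id := fun k => by
  induction k using Nat.strong_induction_on with
  | _ k ih =>
    intro i j
    by_cases hk : k < m
    · exact ⟨Algebra.subset_adjoin ⟨(⟨k, hk⟩, true, i, j), rfl⟩, Algebra.subset_adjoin ⟨(⟨k, hk⟩, false, i, j), rfl⟩⟩
    · obtain ⟨k, rfl⟩ := Nat.exists_eq_add_of_le (not_lt.1 hk)
      simp only [Function.iterate_add_apply, hF]
      exact ⟨Subalgebra.pow_mem _ (ih k (by omega) i j).1 Q, Subalgebra.pow_mem _ (ih k (by omega) i j).2 Q⟩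

include hQ

theorem exists_lang (a : Γ) [IsDomain (Algebra.adjoin K (Set.range (co θ σ m)))] :
    ∃ L : Algebra.adjoin K (Set.range (co θ σ m)) →ₐ[K] Algebra.adjoin K (Set.range (co θ σ m)),
      Function.Injective L ∧ ∀ f g, (L f).1 g = f.1 (g⁻¹ * a * σ g) := by
  set R := Algebra.adjoin K (Set.range (co θ σ m))
  have h0 : Reg θ σ R id := reg_id hm hF
  let L : R →ₐ[K] R := ((pre fun g => g⁻¹ * a * σ g).comp R.val).codRestrict _ fun f =>
    ((h0.inv.mul (.const a)).mul h0.map).pre_mem f.2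
  have : Algebra.FiniteType K R := (Subalgebra.fg_iff_finiteType _).1
    (Subalgebra.fg_def.2 ⟨_, Set.finite_range _, rfl⟩)
  have : IsNoetherianRing R := Algebra.FiniteType.isNoetherianRing K R
  refine ⟨L, inj_of_integral L.toRingHom fun f => ?_, fun _ _ => rfl⟩
  have h1 : Reg θ σ (R.val.comp L).range fun g => g⁻¹ * a * σ g := fun k i j =>
    ⟨⟨⟨_, (h0 k i j).1⟩, rfl⟩, ⟨⟨_, (h0 k i j).2⟩, rfl⟩⟩
  have h2 : ∀ k, ∃ c ψ, Reg θ σ (R.val.comp L).range ψ ∧ ∀ g, σ^[k] g = c * g * ψ g := fun k => by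
    induction k with
    | zero => exact ⟨1, _, .const 1, by simp⟩
    | succ k ih =>
      obtain ⟨c, ψ, h, e⟩ := ih
      exact ⟨σ c * a⁻¹, _, h1.mul h.map, fun g => by rw [Function.iterate_succ_apply', e]; simp [mul_assoc]⟩
  have h3 : ∀ b : Bool, ∃ ψ ψ', Reg θ σ (R.val.comp L).range ψ ∧ Reg θ σ (R.val.comp L).range ψ' ∧
      ∀ g, σ^[m] (cond b g g⁻¹) = ψ g * cond b g g⁻¹ * ψ' g := by
    obtain ⟨c, ψ, h, e⟩ := h2 m
    rintro (_ | _)
    · exact ⟨_, _, h.inv, .const c⁻¹, fun g => by rw [cond_false, iterate_map_inv, e]; simp [mul_assoc]⟩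
    · exact ⟨_, _, .const c, h, e⟩
  have h4 := integral_of_pow L.toRingHom (fun p => ⟨co θ σ m p, Algebra.subset_adjoin ⟨p, rfl⟩⟩) hQ <| by
    rintro ⟨k, b, i, j⟩
    obtain ⟨ψ, ψ', h, h', e⟩ := h3 b
    choose u hu using fun i' => (h k i i').1
    choose v hv using fun j' => (h' k j' j).1
    have : ((⟨co θ σ m (k, b, i, j), Algebra.subset_adjoin ⟨_, rfl⟩⟩ : R) ^ Q) = ∑ j', ∑ i',
        L (u i' * v j') * ⟨co θ σ m (k, b, i', j'), Algebra.subset_adjoin ⟨_, rfl⟩⟩ := by
      refine Subtype.ext (funext fun g => ?_)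
      have e1 : ∀ i', (L (u i')).1 g = _ := fun i' => congrFun (hu i') g
      have e2 : ∀ j', (L (v j')).1 g = _ := fun j' => congrFun (hv j') g
      simp only [SubmonoidClass.coe_pow, Pi.pow_apply, AddSubmonoidClass.coe_finsetSum, Finset.sum_apply, map_mul,
        MulMemClass.coe_mul, Pi.mul_apply, e1, e2, co]
      rw [← hF, ← Function.iterate_add_apply, add_comm, Function.iterate_add_apply, e]
      simp only [iterate_map_mul, map_mul, Matrix.mul_apply, Finset.sum_mul]
      exact Finset.sum_congr rfl fun _ _ => Finset.sum_congr rfl fun _ _ => mul_right_comm ..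
    rw [this]
    exact sum_mem fun _ _ => sum_mem fun _ _ => AddSubmonoid.subset_closure ⟨_, _, rfl⟩
  obtain ⟨f, hf⟩ := f
  induction hf using Algebra.adjoin_induction with
  | mem f hf => obtain ⟨p, rfl⟩ := hf; exact h4 p
  | algebraMap c => exact (L.commutes c).subst (motive := L.toRingHom.IsIntegralElem) L.toRingHom.isIntegralElem_map
  | add _ _ _ _ h h' => exact h.add _ h'
  | mul _ _ _ _ h h' => exact h.mul _ h'

/-- The Lang–Steinberg theorem. -/
theorem lang [IsAlgClosed K] {s : Type*} [Finite s] {φ : (s → K) → Γ} (hφ : Function.Surjective φ)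
    (hp : Reg θ σ (Pol K s) φ) (a : Γ) : ∃ g, θ (g⁻¹ * σ g) = θ a := by
  obtain ⟨ψ, hψ, e⟩ := exists_pull hφ fun f hf => hp.pre_mem (m := m) hf
  have := hψ.isDomain ψ.toRingHom
  obtain ⟨L, hL, e1⟩ := exists_lang hm hQ hF 1
  obtain ⟨L', hL', e2⟩ := exists_lang hm hQ hF a
  obtain ⟨u, v, h⟩ := common (ψ.comp L) (ψ.comp L') (hψ.comp hL) (hψ.comp hL')
  rw [MvPolynomial.aeval_unique u, MvPolynomial.aeval_unique v] at h
  generalize u ∘ MvPolynomial.X = u, v ∘ MvPolynomial.X = v at h
  have : θ ((φ u)⁻¹ * 1 * σ (φ u)) = θ ((φ v)⁻¹ * a * σ (φ v)) := Matrix.ext fun i j => by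
    have := h ⟨_, (reg_id hm hF 0 i j).1⟩
    rwa [AlgHom.comp_apply, AlgHom.comp_apply, e, e, e1, e2] at this
  refine ⟨φ u * (φ v)⁻¹, ?_⟩
  rw [show (φ u * (φ v)⁻¹)⁻¹ * σ (φ u * (φ v)⁻¹) = φ v * ((φ u)⁻¹ * 1 * σ (φ u)) * (σ (φ v))⁻¹ by simp [mul_assoc],
    map_mul, map_mul, this, ← map_mul, ← map_mul]
  simp [mul_assoc]

end CA.Lang
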