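/-
The Lang–Steinberg theorem for a group generated by polynomial one-parameter families.
-/
import Cfsg.Agent.Lib.Lie.Lang
import Mathlib.RingTheory.Ideal.KrullsHeightTheorem

set_option autoImplicit false

namespace CA.Lang

variable {K : Type*} [Field K]

theorem exists_pull' {X s : Type*} [Infinite K] {R : Subalgebra K (X → K)} {φ : (s → K) → X}
    (hp : ∀ f ∈ R, pre φ f ∈ Pol K s) : ∃ ψ : R →ₐ[K] MvPolynomial s K,
    (∀ f, ψ f = 0 ↔ ∀ t, f.1 (φ t) = 0) ∧ ∀ f t, MvPolynomial.aeval t (ψ f) = f.1 (φ t) := by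
  have hi : Function.Injective
      (MvPolynomial.aeval fun i t => t i : MvPolynomial s K →ₐ[K] ((s → K) → K)) := fun p q h =>
    MvPolynomial.funext fun t => by
      simpa only [aeval_proj, MvPolynomial.aeval_eq_eval] using congrFun h t
  let ψ : R →ₐ[K] MvPolynomial s K := (AlgEquiv.ofInjective _ hi).symm.toAlgHom.comp
    (((pre φ).comp R.val).codRestrict _ fun f => hp f f.2)
  have e : ∀ f t, MvPolynomial.aeval t (ψ f) = f.1 (φ t) := fun f t => by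
    rw [← aeval_proj]
    exact congrFun (congrArg Subtype.val ((AlgEquiv.ofInjective _ hi).apply_symm_apply ⟨_, hp f f.2⟩)) t
  exact ⟨ψ, fun f => ⟨fun h t => by rw [← e, h, map_zero], fun h => hi (funext fun t => by
    rw [aeval_proj, e, h, map_zero]; rfl)⟩, e⟩

theorem Pol.pre {s s' : Type*} (e : s → s') {f : (s → K) → K} (h : f ∈ Pol K s) :
    (fun t : s' → K => f (t ∘ e)) ∈ Pol K s' := by
  obtain ⟨p, rfl⟩ := h
  exact ⟨MvPolynomial.rename e p, funext fun t => (aeval_proj _ t).trans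
    ((MvPolynomial.aeval_rename _ _ _).trans (aeval_proj _ _).symm)⟩

variable {Γ n : Type*} [Group Γ] [Fintype n] [DecidableEq n] {θ : Γ →* Matrix n n K} {σ : Γ →* Γ}
  {m Q : ℕ} (hm : 0 < m) (hQ : 2 ≤ Q) (hF : ∀ g i j, θ (σ^[m] g) i j = θ g i j ^ Q)
include hm hQ hF

theorem lang_dense [IsAlgClosed K] {s : Type*} [Finite s] {φ : (s → K) → Γ}
    (hφ : ∀ f ∈ Algebra.adjoin K (Set.range (co θ σ m)), (∀ t, f (φ t) = 0) → f = 0)
    (hp : Reg θ σ (Pol K s) φ) (a : Γ) : ∃ g, θ (g⁻¹ * σ g) = θ a := by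
  obtain ⟨ψ, hψ, e⟩ := exists_pull' fun f hf => hp.pre_mem (m := m) hf
  replace hψ : Function.Injective ψ := (injective_iff_map_eq_zero _).2 fun f h => Subtype.ext (hφ f f.2 ((hψ f).1 h))
  have := hψ.isDomain ψ.toRingHom
  obtain ⟨L, hL, e1⟩ := exists_lang hm hQ hF 1
  obtain ⟨L', hL', e2⟩ := exists_lang hm hQ hF a
  obtain ⟨u, v, h⟩ := common (ψ.comp L) (ψ.comp L') (hψ.comp hL) (hψ.comp hL')
  rw [MvPolynomial.aeval_unique u, MvPolynomial.aeval_unique v] at h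
  generalize u ∘ MvPolynomial.X = u, v ∘ MvPolynomial.X = v at h
  have : θ ((φ u)⁻¹ * 1 * σ (φ u)) = θ ((φ v)⁻¹ * a * σ (φ v)) := Matrix.ext fun i j => by
    have := h ⟨_, (reg_id hm hF 0 i j).1⟩
    rwa [AlgHom.comp_apply, AlgHom.comp_apply, e, e, e1, e2] at this
  refine ⟨φ u * (φ v)⁻¹, ?_⟩
  rw [show (φ u * (φ v)⁻¹)⁻¹ * σ (φ u * (φ v)⁻¹) = φ v * ((φ u)⁻¹ * 1 * σ (φ u)) * (σ (φ v))⁻¹ by simp [mul_assoc],
    map_mul, map_mul, this, ← map_mul, ← map_mul]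
  simp [mul_assoc]

/-- The Lang–Steinberg theorem for a group generated by one-parameter families. -/
theorem lang_gen [IsAlgClosed K] {I : Type*} {x : I → K → Γ} (h0 : ∀ i, x i 0 = 1)
    (hx : ∀ i, Reg θ σ (Pol K Unit) fun t => x i (t ())) (hg : ∀ g, g ∈ Submonoid.closure {g | ∃ i t, x i t = g})
    (a : Γ) : ∃ g, θ (g⁻¹ * σ g) = θ a := by
  set R := Algebra.adjoin K (Set.range (co θ σ m))
  have : Algebra.FiniteType K R := (Subalgebra.fg_iff_finiteType _).1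
    (Subalgebra.fg_def.2 ⟨_, Set.finite_range _, rfl⟩)
  have : IsNoetherianRing R := Algebra.FiniteType.isNoetherianRing K R
  let C : Set (Ideal R) := {P | ∃ (s : Type) (_ : Finite s) (φ : (s → K) → Γ), Reg θ σ (Pol K s) φ ∧ φ 0 = 1 ∧
    ∀ f, f ∈ P ↔ ∀ t, f.1 (φ t) = 0}
  have h1 : ∀ (s : Type) [Finite s] (φ : (s → K) → Γ), Reg θ σ (Pol K s) φ →
      ∃ P : Ideal R, P.IsPrime ∧ ∀ f, f ∈ P ↔ ∀ t, f.1 (φ t) = 0 := fun s _ φ h => by
    obtain ⟨ψ, hψ, -⟩ := exists_pull' fun f hf => h.pre_mem (m := m) hf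
    exact ⟨RingHom.ker ψ, RingHom.ker_isPrime _, hψ⟩
  obtain ⟨P0, -, hP0⟩ := h1 Empty _ (.const 1)
  obtain ⟨P, ⟨s, _, φ, h, hφ, hP⟩, hmin⟩ := (InvImage.wf Ideal.height wellFounded_lt).has_min C
    ⟨P0, Empty, inferInstance, _, .const 1, rfl, hP0⟩
  have h2 : ∀ g, ∃ (s : Type) (_ : Finite s) (φ : (s → K) → Γ), Reg θ σ (Pol K s) φ ∧ φ 0 = 1 ∧ ∃ t, φ t = g := fun g => by
    induction hg g using Submonoid.closure_induction_left with
    | one => exact ⟨Empty, inferInstance, _, .const 1, rfl, 0, rfl⟩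
    | mul_left y hy g _ ih =>
      obtain ⟨i, t, rfl⟩ := hy
      obtain ⟨s, _, φ, h, e, u, rfl⟩ := ih
      exact ⟨Unit ⊕ s, inferInstance, fun t => x i (t (.inl ())) * φ (t ∘ .inr), Reg.mul
        (fun k a b => ⟨Pol.pre Sum.inl (hx i k a b).1, Pol.pre Sum.inl (hx i k a b).2⟩)
        fun k a b => ⟨Pol.pre Sum.inr (h k a b).1, Pol.pre Sum.inr (h k a b).2⟩,
        (congrArg₂ (· * ·) (h0 i) e).trans (mul_one 1), Sum.elim (fun _ => t) u, rfl⟩
  refine lang_dense hm hQ hF (fun f hf e => funext fun g => ?_) h a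
  obtain ⟨s', _, φ', h', hφ', t, rfl⟩ := h2 g
  have h3 : Reg θ σ (Pol K (s ⊕ s')) fun t => φ (t ∘ .inl) * φ' (t ∘ .inr) := Reg.mul
    (fun k a b => ⟨Pol.pre Sum.inl (h k a b).1, Pol.pre Sum.inl (h k a b).2⟩)
    fun k a b => ⟨Pol.pre Sum.inr (h' k a b).1, Pol.pre Sum.inr (h' k a b).2⟩
  obtain ⟨P', _, hP'⟩ := h1 _ _ h3
  have h4 : P' ≤ P := fun f hf => (hP f).2 fun t => by
    have := (hP' f).1 hf (Sum.elim t 0)
    rwa [show Sum.elim t 0 ∘ Sum.inr = (0 : s' → K) from rfl, hφ', mul_one] at this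
  have h5 := Ideal.eq_of_le_of_height_le _ h4 (not_lt.1 (hmin P' ⟨_, inferInstance, _, h3,
    (congrArg₂ (· * ·) hφ hφ').trans (mul_one 1), hP'⟩))
  have := (hP' ⟨f, hf⟩).1 (h5 ▸ (hP _).2 e) (Sum.elim 0 t)
  rw [show Sum.elim (0 : s → K) t ∘ Sum.inl = 0 from rfl, hφ, one_mul] at this
  exact this

end CA.Lang
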