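/-
The Lang–Steinberg theorem for Chevalley groups; twisted maximal tori.
-/
import Cfsg.Agent.Lib.Lie.Lang
import Cfsg.Agent.Lib.Lie.ChevTwE6
import Cfsg.Agent.Lib.Lie.H23Fix

set_option autoImplicit false

namespace CA.Chev

open Matrix Equiv Cfsg.Lie Cfsg.Lie.ChevalleyDatum CA.Lang
open scoped Pointwise

variable {D : ChevalleyDatum} [Good D] {K : Type*} [Field K] {Γ : Type*} [Group Γ]

namespace Sys
open Sys0
variable (A : Sys D K Γ)

/-- products of root elements along a fixed list of roots -/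
def Wd (R : List (Rt D)) : Set Γ := (R.map fun r => Set.range (A.x r)).prod
/-- sets of products of boundedly many root elements -/
def Bdd (S : Set Γ) : Prop := ∃ R, S ⊆ A.Wd R

theorem Wd_cons (r : Rt D) (R : List (Rt D)) : A.Wd (r :: R) = Set.range (A.x r) * A.Wd R := by simp [Wd]
theorem Wd_append (R R' : List (Rt D)) : A.Wd (R ++ R') = A.Wd R * A.Wd R' := by simp [Wd]
theorem one_mem_Wd (R : List (Rt D)) : 1 ∈ A.Wd R := by
  induction R with
  | nil => rfl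
  | cons r R ih => exact A.Wd_cons r R ▸ ⟨1, ⟨0, A.x_zero r⟩, 1, ih, one_mul 1⟩

variable {A}
theorem Bdd.mono {S T : Set Γ} (h : A.Bdd T) (h' : S ⊆ T) : A.Bdd S := h.imp fun _ e => h'.trans e
theorem Bdd.mul {S T : Set Γ} (h : A.Bdd S) (h' : A.Bdd T) : A.Bdd (S * T) := by
  obtain ⟨R, h⟩ := h
  obtain ⟨R', h'⟩ := h'
  exact ⟨R ++ R', A.Wd_append R R' ▸ Set.mul_subset_mul h h'⟩
theorem Bdd.union {S T : Set Γ} (h : A.Bdd S) (h' : A.Bdd T) : A.Bdd (S ∪ T) := by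
  obtain ⟨R, h⟩ := h
  obtain ⟨R', h'⟩ := h'
  exact ⟨R ++ R', A.Wd_append R R' ▸ Set.union_subset (fun g hg => ⟨g, h hg, 1, A.one_mem_Wd _, mul_one g⟩)
    fun g hg => ⟨1, A.one_mem_Wd _, g, h' hg, one_mul g⟩⟩
theorem bdd_x (r : Rt D) : A.Bdd (Set.range (A.x r)) := ⟨[r], by simp [Wd]⟩
theorem bdd_list {ι : Type*} {S : ι → Set Γ} (h : ∀ i, A.Bdd (S i)) (l : List ι) :
    A.Bdd {g | ∃ f : ι → Γ, (∀ i, f i ∈ S i) ∧ g = (l.map f).prod} := by
  induction l with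
  | nil => exact ⟨[], by rintro _ ⟨f, -, rfl⟩; rfl⟩
  | cons i l ih => exact ((h i).mul ih).mono (by rintro _ ⟨f, hf, rfl⟩; exact ⟨_, hf i, _, ⟨f, hf, rfl⟩, by simp⟩)
theorem bdd_X {S : Set (Rt D)} (hS : Nil S) : A.Bdd (A.X S) := by
  obtain ⟨L, h1, h2⟩ := Sys0.exists_list S
  refine (bdd_list bdd_x L).mono fun g hg => ?_
  obtain ⟨t, rfl⟩ := A.exists_P hS h1 h2 hg
  exact ⟨_, fun r => ⟨t r, rfl⟩, rfl⟩
theorem bdd_single {g : Γ} (hg : g ∈ A.G) : A.Bdd {g} :=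
  A.X_induction (P := fun g => A.Bdd {g}) ⟨[], le_rfl⟩
    (fun r _ t _ _ ih => ((bdd_x r).mul ih).mono (by rintro _ rfl; exact ⟨_, ⟨t, rfl⟩, _, rfl, rfl⟩)) hg
theorem bdd_finite {S : Set Γ} (h : S.Finite) (hS : S ⊆ A.G) : A.Bdd S := by
  induction S, h using Set.Finite.induction_on with
  | empty => exact ⟨[], Set.empty_subset _⟩
  | insert _ _ ih => exact (bdd_single (hS (Set.mem_insert _ _))).union (ih ((Set.subset_insert _ _).trans hS))
theorem R3.bdd_H (h3 : A.R3) : A.Bdd A.H := by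
  have hn : ∀ r, A.Bdd (Set.range (A.n r)) := fun r => (((bdd_x r).mul (bdd_x (ng r))).mul (bdd_x r)).mono (by
    rintro _ ⟨t, rfl⟩; exact ⟨_, ⟨_, ⟨_, rfl⟩, _, ⟨_, rfl⟩, rfl⟩, _, ⟨_, rfl⟩, rfl⟩)
  refine (bdd_list (fun i : Nd D => (hn (sim i)).mul (hn (sim i))) Finset.univ.toList).mono fun g hg => ?_
  obtain ⟨c, rfl⟩ := h3.torH_range.ge hg
  refine ⟨fun i => A.h (sim i) (c i), fun i => ⟨_, ⟨_, rfl⟩, _, ⟨_, rfl⟩, rfl⟩, ?_⟩
  conv_lhs => rw [← Finset.univ_prod_mulSingle c, ← Finset.prod_map_toList, map_list_prod, List.map_map]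
  simp only [Function.comp_def, h3.torH_single]
theorem R3.bdd_G (h3 : A.R3) : A.Bdd A.G := by
  choose m hm hw using fun w : W D => A.exists_N w.2
  have hB : A.Bdd A.B := ((bdd_X nil_pos).mul h3.bdd_H).mono fun g hg => by
    obtain ⟨u, hu, h, hh, rfl⟩ := A.mem_B.1 hg
    exact ⟨u, hu, h, hh, rfl⟩
  refine ((hB.mul ((bdd_finite (Set.finite_range m) ?_).mul h3.bdd_H)).mul hB).mono fun g hg => ?_
  · rintro _ ⟨w, rfl⟩; exact A.N_le_G (hm w)
  obtain ⟨b, hb, n, hn, b', hb', rfl⟩ := A.bruhat hg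
  obtain ⟨w, h⟩ := A.exists_act hn
  exact ⟨_, ⟨b, hb, _, ⟨_, ⟨⟨w, h.1⟩, rfl⟩, _, A.mem_H_of_act_eq (hm _) hn (hw _) h, mul_inv_cancel_left _ _⟩, rfl⟩,
    b', hb', rfl⟩

theorem _root_.CA.Lang.Pol.comp {s s' : Type*} (e : s → s') {f : (s → K) → K} (h : f ∈ Lang.Pol K s) :
    (fun t : s' → K => f (t ∘ e)) ∈ Lang.Pol K s' := by
  obtain ⟨p, rfl⟩ := h
  exact ⟨MvPolynomial.rename e p, funext fun t => (aeval_proj _ t).trans
    ((MvPolynomial.aeval_rename _ _ _).trans (aeval_proj _ _).symm)⟩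

/-- The Lang–Steinberg theorem for an endomorphism some power of which is a Frobenius map. -/
theorem R3.lang [IsAlgClosed K] (h3 : A.R3) (hG : A.G = ⊤) {σ : Γ →* Γ}
    (h1 : ∀ r, ∃ r' c, ∃ e : ℕ, ∀ t, σ (A.x r t) = A.x r' (c * t ^ e)) {m Q : ℕ} (hm : 0 < m) (hQ : 2 ≤ Q)
    {β : K →+* K} (hβ : ∀ t, β t = t ^ Q) (h2 : ∀ r t, σ^[m] (A.x r t) = A.x r (β t)) (a : Γ) :
    ∃ g, A.θ (g⁻¹ * σ g) = A.θ a := by
  let θ := (Units.coeHom _).comp A.θ
  have e0 : ∀ r t, θ (A.x r t) = xR r t := fun r t => congrArg Units.val (A.θx r t)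
  have e1 : ∀ k r, ∃ r' c, ∃ e : ℕ, ∀ t, σ^[k] (A.x r t) = A.x r' (c * t ^ e) := fun k r => by
    induction k with
    | zero => exact ⟨r, 1, 1, by simp⟩
    | succ k ih =>
      obtain ⟨r', c, e, h⟩ := ih
      obtain ⟨r'', c', e', h'⟩ := h1 r'
      exact ⟨r'', c' * c ^ e', e * e', fun t => by
        rw [Function.iterate_succ_apply', h, h', mul_pow, ← pow_mul, mul_assoc]⟩
  have e2 : ∀ {s : Type} (r : Rt D) {p : (s → K) → K}, p ∈ Lang.Pol K s → ∀ a b, (fun t => xR r (p t) a b) ∈ Lang.Pol K s :=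
    fun r p hp a b => by
      simp only [xR_apply]
      exact add_mem (add_mem (add_mem (Subalgebra.algebraMap_mem _ _) (mul_mem hp (Subalgebra.algebraMap_mem _ _)))
        (mul_mem (pow_mem hp 2) (Subalgebra.algebraMap_mem _ _))) (mul_mem (pow_mem hp 3) (Subalgebra.algebraMap_mem _ _))
  have e3 : ∀ R, ∃ (s : Type) (_ : Finite s) (φ : (s → K) → Γ), Reg θ σ (Lang.Pol K s) φ ∧ A.Wd R ⊆ Set.range φ := by
    intro R
    induction R with
    | nil => exact ⟨Empty, inferInstance, _, .const 1, by rintro _ rfl; exact ⟨0, rfl⟩⟩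
    | cons r R ih =>
      obtain ⟨s, _, φ, h, h'⟩ := ih
      refine ⟨Option s, inferInstance, fun t => A.x r (t none) * φ (t ∘ some), Reg.mul (fun k i j => ?_)
        fun k i j => ⟨Lang.Pol.comp some (h k i j).1, Lang.Pol.comp some (h k i j).2⟩, ?_⟩
      · obtain ⟨r', c, e, h⟩ := e1 k r
        have hp : (fun t : Option s → K => c * t none ^ e) ∈ Lang.Pol K _ :=
          mul_mem (Subalgebra.algebraMap_mem _ c) (pow_mem (proj_mem none) e)
        have e4 : ∀ t, σ^[k] (A.x r t)⁻¹ = A.x r' (-(c * t ^ e)) := fun t => by rw [iterate_map_inv, h, A.x_neg]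
        simp only [h, e4, e0]
        exact ⟨e2 r' hp i j, e2 r' (p := fun t => -(c * t none ^ e)) (neg_mem hp) i j⟩
      · rw [Wd_cons]
        rintro _ ⟨_, ⟨t, rfl⟩, g, hg, rfl⟩
        obtain ⟨u, rfl⟩ := h' hg
        exact ⟨fun o => o.elim t u, rfl⟩
  obtain ⟨R, hR⟩ := h3.bdd_G
  obtain ⟨s, _, φ, h, h'⟩ := e3 R
  have hF : ∀ g, θ (σ^[m] g) = β.mapMatrix (θ g) := fun g =>
    A.X_induction (P := fun g => θ (σ^[m] g) = β.mapMatrix (θ g)) (by simp)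
      (fun r _ t g _ ih => by rw [iterate_map_mul, map_mul, map_mul, map_mul, ih, h2, e0, e0, map_xR])
      (show g ∈ A.G from hG ▸ trivial)
  obtain ⟨g, hg⟩ := Lang.lang hm hQ (fun g i j => by rw [hF]; exact hβ _) (fun g => h' (hR (hG ▸ trivial))) h a
  exact ⟨g, Units.ext hg⟩

/-! ### the action of the Weyl group on the torus -/

theorem R3.conj_sim (h3 : A.R3) (i : Nd D) (c : Nd D → Kˣ) {t : Kˣ} (ht : (t : K) = tor c (rt (sim i))) :
    A.n (sim i) 1 * h3.torH c * (A.n (sim i) 1)⁻¹ = h3.torH (c * Pi.mulSingle i t⁻¹) := by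
  have e : (h3.torH c)⁻¹ * A.n (sim i) 1 * h3.torH c = A.n (sim i) t⁻¹ := by
    have := fun r u => h3.torH_conj c⁻¹ r u
    simp only [map_inv, inv_inv, AddChar.inv_apply, ← rt_ng] at this
    rw [n_def, n_def, show ∀ a b c d : Γ, d⁻¹ * (a * b * c) * d = d⁻¹ * a * d * (d⁻¹ * b * d) * (d⁻¹ * c * d) by
      intros; group, this, this, ng_ng, rt_ng, AddChar.map_neg_eq_inv, ← ht]
    simp
  rw [map_mul, h3.torH_single, h_eq, ← e]; group

theorem R3.h_eq (h3 : A.R3) (r : Rt D) (t : Kˣ) : A.h r t = h3.torH fun i => t ^ cor r i := by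
  obtain ⟨w, hw, i, rfl⟩ := exists_W_sim r
  obtain ⟨L, rfl⟩ := exists_wd hw
  induction L with
  | nil =>
    rw [wd_nil, Perm.one_apply, ← h3.torH_single]
    congr 1; funext j
    by_cases e : j = i <;> simp [cor_sim, e]
  | cons j L ih =>
    rw [wd_cons, Perm.mul_apply, ← h3.conj_h (A.act_sim j 1), ih (wd_mem L),
      h3.conj_sim j _ (t := t ^ pr (wd L (sim i)) (sim j)) (by simp [tor_cor, prL_rt]), cor_sR]
    congr 1; funext k
    by_cases e : k = j <;> simp [cor_sim, e, _root_.zpow_sub]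

/-- the matrix of a Weyl group element on the coroot lattice -/
def _root_.CA.Chev.wM (w : Perm (Rt D)) : Matrix (Nd D) (Nd D) ℤ := Matrix.of fun i j => cor (w (sim i)) j

theorem R3.conj_torH (h3 : A.R3) {m : Γ} {w : Perm (Rt D)} (h : A.Act m w) (c : Nd D → Kˣ) :
    m * h3.torH c * m⁻¹ = h3.torH (mact (wM w) c) := by
  have : (MulAut.conj m).toMonoidHom.comp h3.torH = h3.torH.comp (mact (wM w)) := MonoidHom.pi_ext fun i t => by
    rw [MonoidHom.comp_apply, MonoidHom.comp_apply, h3.torH_single]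
    refine ((h3.conj_h h _ t).trans (h3.h_eq _ t)).trans (congrArg _ (funext fun j => ?_))
    rw [mact_apply, Finset.prod_eq_single i (fun k _ hk => by simp [hk]) (by simp), Pi.mulSingle_eq_same]; rfl
  exact DFunLike.congr_fun this c

/-- the centraliser of a regular element of the torus -/
theorem mem_H_of_comm (hH : ∀ a ∈ A.H, ∀ b ∈ A.H, a * b = b * a) {s y : Γ} (hs : s ∈ A.H) {χ : Rt D → K}
    (h : ∀ r u, s * A.x r u * s⁻¹ = A.x r (χ r * u)) (h1 : ∀ r, χ r ≠ 1)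
    (h2 : ∀ w ∈ W D, (∀ r, χ (w r) = χ r) → w = 1) (hy : y ∈ A.G) (e : s * y * s⁻¹ = y) : y ∈ A.H := by
  obtain ⟨b, hb, m, hm, w, hw, u, hu, rfl⟩ := A.bruhat_canon hy
  obtain ⟨v, hv, k, hk, rfl⟩ := A.mem_B.1 hb
  have hk' : k * (s * (m * s⁻¹ * m⁻¹)) ∈ A.H := mul_mem hk (mul_mem hs (A.conj_H hm (inv_mem hs)))
  obtain ⟨e1, e2⟩ := A.canon_unique (mul_mem (A.U_le_B (A.H_conj_X hs hv)) (A.H_le_B hk')) hb hw (A.H_conj_X hs hu) hu
    (by rw [← e, show s * (v * k * m * u) * s⁻¹ = s * v * s⁻¹ * (s * k) * m * u * s⁻¹ by group, hH s hs k hk]; group)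
  obtain ⟨e3, e4⟩ := A.UH_unique (A.H_conj_X hs hv) hv hk' hk e1
  rw [Twist.eq_one_of_fpf (nil_invs hw.ra) h (fun r _ => h1 r) hu e2,
    Twist.eq_one_of_fpf nil_pos h (fun r _ => h1 r) hv e3, one_mul, mul_one]
  refine mul_mem hk (A.mem_H_of_act hm (h2 w hw.1 (fun r => ?_) ▸ hw))
  obtain ⟨c, hc⟩ := hw.conj_x r
  have e5 : s * m = m * s := by rw [mul_eq_left] at e4; rw [← one_mul (m * s), ← e4]; group
  have := h (w r) (c * 1)
  rw [← hc, show s * (m * A.x r 1 * m⁻¹) * s⁻¹ = s * m * A.x r 1 * (s * m)⁻¹ by group, e5,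
    show m * s * A.x r 1 * (m * s)⁻¹ = m * (s * A.x r 1 * s⁻¹) * m⁻¹ by group, h, hc] at this
  have := A.x_injective _ this
  rw [mul_one, mul_one, mul_comm] at this
  exact (mul_right_cancel₀ c.ne_zero this).symm

end Sys

/-- elements of the torus whose centraliser in the adjoint group is the torus -/
def RegEl (c : Nd D → Kˣ) : Prop :=
  (∀ r, tor c (rt r) ≠ 1) ∧ ∀ w ∈ W D, (∀ r, tor c (rt (w r)) = tor c (rt r)) → w = 1

theorem Sys.R3.mem_H_of_regEl {A : Sys D K Γ} (hG : A.G = ⊤) {c : Nd D → Kˣ} (hc : RegEl c) {y : Γ}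
    (h : dgG (tor c) * A.θ y * (dgG (tor c))⁻¹ = A.θ y) : y ∈ A.H := by
  have h1 := Sys.mem_H_of_comm (A := adj D K) ((adj D K).H_comm_of_inj fun _ _ e => e) (adj_H_eq.ge ⟨c, rfl⟩)
    (dgG_conj (tor c)) hc.1 hc.2 ((A.map_X (adj D K).toSys0 A.θ A.θx _).le ⟨y, show y ∈ A.G from hG ▸ trivial, rfl⟩) h
  obtain ⟨z, hz, e⟩ := (A.map_H (adj D K).toSys0 A.θ A.θx).ge h1
  have := mul_mem (A.mem_H_of_θ (g := y * z⁻¹) (hG ▸ trivial) (by rw [map_mul, map_inv, e, mul_inv_cancel])) hz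
  rwa [inv_mul_cancel_right] at this

namespace Twist
open Sys0 Sys
variable {A : Sys D K Γ} (τ : Twist A)

/-- the twisted torus of type `w` -/
noncomputable def TW (w : Perm (Rt D)) : Subgroup (Nd D → Kˣ) :=
  ((mact (wM w)).comp τ.σT).eqLocus (MonoidHom.id _)

theorem mem_TW {w : Perm (Rt D)} {c : Nd D → Kˣ} : c ∈ τ.TW w ↔ mact (wM w) (τ.σT c) = c := Iff.rfl

theorem mem_TW' {q : ℕ} (hq : ∀ i t, τ.T.α (sim i) t = t ^ q) {w : Perm (Rt D)} {c : Nd D → Kˣ} :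
    c ∈ τ.TW w ↔ mact (Matrix.of fun i j => cor (w (sim (τ.ι i))) j) c ^ q = c := by
  rw [mem_TW]
  refine Eq.congr_left (funext fun j => ?_)
  rw [Pi.pow_apply, mact_apply, mact_apply, ← Equiv.prod_comp τ.ν, ← Finset.prod_pow]
  refine Finset.prod_congr rfl fun i _ => ?_
  rw [σT_apply, ← zpow_natCast, ← _root_.zpow_mul, mul_comm, _root_.zpow_mul, zpow_natCast]
  exact congrArg (· ^ _) (Units.ext (hq i _))

variable (h3 : A.R3) (hG : A.G = ⊤) (hi : Function.Injective h3.torH)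
include h3 hG hi

theorem exists_conj_TW (hL : ∀ a, ∃ g, A.θ (g⁻¹ * τ.σ g) = A.θ a) {w : Perm (Rt D)} (hw : w ∈ W D) :
    ∃ g : Γ, ∀ c, g * h3.torH c * g⁻¹ ∈ τ.F ↔ c ∈ τ.TW w := by
  obtain ⟨m, -, h⟩ := A.exists_N hw
  obtain ⟨g, hg⟩ := hL m
  have hz : A.θ (m⁻¹ * (g⁻¹ * τ.σ g)) = 1 := by rw [map_mul, hg, map_inv, inv_mul_cancel]
  refine ⟨g, fun c => ?_⟩
  have := A.comm_of_θ (A.mem_H_of_θ (hG ▸ trivial) hz) hz (y := h3.torH (τ.σT c)) (hG ▸ trivial)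
  rw [mem_F, map_mul, map_mul, map_inv, σ_torH, mem_TW, ← hi.eq_iff, ← h3.conj_torH h,
    show ∀ y, τ.σ g * y * (τ.σ g)⁻¹ = g * (m * (m⁻¹ * (g⁻¹ * τ.σ g) * y) * (τ.σ g)⁻¹ * g) * g⁻¹ by intro; group, this,
    mul_left_inj, mul_right_inj]
  exact Eq.congr_left (by group)

theorem TW_inf_ker {w : Perm (Rt D)} (hw : w ∈ W D) : τ.TW w ⊓ tor.ker = τ.T1 ⊓ tor.ker := by
  obtain ⟨m, -, h⟩ := A.exists_N hw
  have k : ∀ c, tor c = 1 → mact (wM w) c = c := fun c hc => hi (by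
    rw [← h3.conj_torH h, ← A.comm_of_θ (h3.torH_range.le ⟨c, rfl⟩) (by rw [h3.θ_torH, hc, map_one]) (hG ▸ trivial),
      mul_inv_cancel_right])
  ext c
  refine and_congr_left fun hc => Eq.congr_left (k _ (dgG_injective ?_))
  rw [← h3.θ_torH, ← σ_torH, map_one]
  exact τ.is.le_ker τ.ρ.surjective (hG ▸ trivial) (by rw [h3.θ_torH, show tor c = 1 from hc, map_one])

theorem exists_torus (hL : ∀ a, ∃ g, A.θ (g⁻¹ * τ.σ g) = A.θ a) {w : Perm (Rt D)} (hw : w ∈ W D) {X : Type*} [Group X]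
    {j : X →* GL D.Idx K} (hj : Function.Injective j) (hr : j.range = τ.F.map A.θ) :
    ∃ κ : τ.TW w →* X, Nat.card κ.range * Nat.card ↥(τ.T1 ⊓ tor.ker) = Nat.card (τ.TW w) ∧
      (∀ c, κ c = 1 ↔ tor c.1 = 1) ∧ ∀ c : τ.TW w, RegEl c.1 → Subgroup.centralizer {κ c} ≤ κ.range := by
  obtain ⟨g, hg⟩ := τ.exists_conj_TW h3 hG hi hL hw
  let κ0 : τ.TW w →* GL D.Idx K := (A.θ.comp ((MulAut.conj g).toMonoidHom.comp h3.torH)).comp (τ.TW w).subtype
  let κ : τ.TW w →* X := (MonoidHom.ofInjective hj).symm.toMonoidHom.comp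
    (κ0.codRestrict _ fun c => hr.ge ⟨_, (hg c).2 c.2, rfl⟩)
  have e : ∀ c, j (κ c) = A.θ (g * h3.torH c * g⁻¹) := fun c => MonoidHom.apply_ofInjective_symm hj _
  have e1 : ∀ c, κ c = 1 ↔ tor c.1 = 1 := fun c => by
    rw [← hj.eq_iff, e, map_one, map_mul, map_mul, map_inv, conj_eq_one_iff, h3.θ_torH, ← dgG.map_one,
      dgG_injective.eq_iff]
  refine ⟨κ, ?_, e1, fun c hc x hx => ?_⟩
  · have : κ.ker = (τ.TW w ⊓ tor.ker).subgroupOf _ := by
      ext c; rw [Subgroup.inf_subgroupOf_left]; exact e1 c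
    rw [← τ.TW_inf_ker h3 hG hi hw, ← Nat.card_congr (Subgroup.subgroupOfEquivOfLe inf_le_left).toEquiv, ← this,
      ← Subgroup.index_ker, Subgroup.index_mul_card]
  · obtain ⟨y, hy, e2⟩ := hr.le ⟨x, rfl⟩
    have e3 := congrArg j (Subgroup.mem_centralizer_singleton_iff.1 hx)
    rw [map_mul, map_mul, e, ← e2, map_mul, map_mul, map_inv, h3.θ_torH] at e3
    obtain ⟨c', e4⟩ := h3.torH_range.ge (R3.mem_H_of_regEl hG hc (y := g⁻¹ * y * g) (by
      rw [map_mul, map_mul, map_inv]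
      calc _ = (A.θ g)⁻¹ * (A.θ g * dgG (tor c.1) * (A.θ g)⁻¹ * A.θ y) * A.θ g * (dgG (tor c.1))⁻¹ := by group
        _ = _ := by rw [← e3]; group))
    have e5 : g * h3.torH c' * g⁻¹ = y := by rw [e4]; group
    exact ⟨⟨c', (hg c').1 (e5 ▸ hy)⟩, hj (by rw [e, e5, e2])⟩

theorem exists_cyclic (hL : ∀ a, ∃ g, A.θ (g⁻¹ * τ.σ g) = A.θ a) {w : Perm (Rt D)} (hw : w ∈ W D) {X : Type*}
    [Group X] {j : X →* GL D.Idx K} (hj : Function.Injective j) (hr : j.range = τ.F.map A.θ) {c : Nd D → Kˣ}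
    (hc : Subgroup.zpowers c = τ.TW w) (h : RegEl c) : ∃ H : Subgroup X, IsCyclic H ∧
      Nat.card H * Nat.card ↥(τ.T1 ⊓ tor.ker) = orderOf c ∧ Subgroup.centralizer (H : Set X) = H := by
  obtain ⟨κ, h1, -, h2⟩ := τ.exists_torus h3 hG hi hL hw hj hr
  have : IsCyclic (τ.TW w) := hc ▸ inferInstance
  refine ⟨κ.range, isCyclic_of_surjective _ κ.rangeRestrict_surjective, by rw [h1, ← hc, Nat.card_zpowers],
    le_antisymm ((Subgroup.centralizer_le (by simp)).trans (h2 ⟨c, hc.le (Subgroup.mem_zpowers c)⟩ h)) ?_⟩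
  rintro _ ⟨a, rfl⟩ _ ⟨b, rfl⟩
  rw [← map_mul, mul_comm, map_mul]

theorem F_eq_G1 (hn : ∀ i, τ.NodeOK i) : τ.F = τ.G1 := le_antisymm (fun g hF => by
  obtain ⟨u, hu, m, hm, w, hw, hact, u', hu', rfl⟩ := τ.bruhat_fix (hG ▸ trivial) hF
  obtain ⟨m1, hm1, hact1⟩ := (ok_of_node hn).exists_N1 hw
  obtain ⟨c, hc⟩ := h3.torH_range.ge (A.mem_H_of_act_eq hm1.1 hm.1 hact1 hact)
  have h1 := mul_mem hm1.2 (torH_mem_of_node hn h3 c (hi ((τ.σ_torH h3 c).symm.trans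
    (hc ▸ (mul_mem (inv_mem (τ.G1_le_F hm1.2)) hm.2 : _ ∈ τ.F)))))
  rw [hc, mul_inv_cancel_left] at h1
  exact mul_mem (mul_mem (τ.mem_G1_of_U hu.1 hu.2) h1) (τ.X1_invs_le w hu').2) τ.G1_le_F

end Twist

/-- the twist of the Steinberg group given by a substitution -/
noncomputable def stTw (T : Tw D D K K) (pos : ∀ r, Pos (T.φ r) ↔ Pos r) (ι : Nd D → Nd D)
    (h : ∀ i, T.φ (sim i) = sim (ι i)) : Twist (stG D K) :=
  ⟨T, (T.exists_liftG stG_R3).choose, (T.exists_liftG stG_R3).choose_spec, pos, ι, h⟩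

/-- descent of the fixed point group to a finite field -/
theorem descent (hD : D ∈ [chevG2, chevB2, chevD4, chevF4, chevE6, chevE7, chevE8]) {K₀ : Type*} [Field K₀]
    (i : K₀ →+* K) {β : K →+* K} (hβ : ∀ x, (∃ y, i y = x) ↔ β x = x) (τ : Twist (stG D K)) {m : ℕ}
    (h : ∀ r t, τ.σ^[m] ((stG D K).x r t) = (stG D K).x r (β t)) (τ₀ : Twist (adjG D K₀))
    (h1 : ∀ r, τ.T.φ r = τ₀.T.φ r) (h2 : ∀ r t, τ.T.f r (i t) = i (τ₀.T.f r t))
    (hn : ∀ j, (stTw τ₀.T τ₀.pos τ₀.ι τ₀.φ_sim).NodeOK j) :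
    (τ₀.G1.map (D.group K₀).subtype).map (GeneralLinearGroup.map i) = τ.F.map (stG D K).θ := by
  set τ' := stTw τ₀.T τ₀.pos τ₀.ι τ₀.φ_sim
  obtain ⟨ψ, hψ⟩ := (Tw.field D i).exists_liftG (stG_R3 (D := D) (K := K))
  obtain ⟨φ, hφ⟩ := (Tw.field D β).exists_liftG (stG_R3 (D := D) (K := K))
  let π := (stG D K₀).θG stG_G
  have hπ := (stG D K₀).θG_x stG_G
  have hψ' : ∀ r t, ψ ((stG D K₀).x r t) = (stG D K).x r (i t) := fun r t => by rw [hψ, Tw.field_f, Tw.field_φ]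
  have hφ' : ∀ r t, φ ((stG D K).x r t) = (stG D K).x r (β t) := fun r t => by rw [hφ, Tw.field_f, Tw.field_φ]
  have ea : (GeneralLinearGroup.map i).comp ((D.group K₀).subtype.comp π) = (stG D K).θ.comp ψ :=
    (stG D K₀).hom_ext stG_G fun r t => by
      simp only [MonoidHom.comp_apply]
      rw [hπ, hψ', Sys0.θx]; exact Units.ext (map_xR i r t)
  have eb : ∀ g, ψ (τ'.σ g) = τ.σ (ψ g) := DFunLike.congr_fun (show ψ.comp τ'.σ = τ.σ.comp ψ from
    (stG D K₀).hom_ext stG_G fun r t => by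
      simp only [MonoidHom.comp_apply]; rw [τ'.is, hψ', hψ', τ.is, h1, h2]; rfl)
  have ec : ∀ g, π (τ'.σ g) = τ₀.σ (π g) := DFunLike.congr_fun (show π.comp τ'.σ = τ₀.σ.comp π from
    (stG D K₀).hom_ext stG_G fun r t => by simp only [MonoidHom.comp_apply]; rw [τ'.is, hπ, hπ, τ₀.is]; rfl)
  have ed : Function.Injective ψ := (injective_iff_map_eq_one _).2 fun g hg => by
    obtain ⟨c, rfl⟩ := stG_R3.torH_range.ge ((stG D K₀).mem_H_of_θ (g := g) (stG_G (D := D) (K := K₀) ▸ trivial)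
      (hψ.ker_le (fun _ => Iff.rfl) (stG_G (D := D) (K := K₀) ▸ trivial) (by rw [hg, map_one])))
    have : ψ.comp stG_R3.torH = stG_R3.torH.comp ((Units.map (i : K₀ →* K)).compLeft _) := MonoidHom.pi_ext fun j t => by
      rw [MonoidHom.comp_apply, Sys.R3.torH_single, hψ.h' stG_R3, Tw.field_φ, ← Sys.R3.torH_single stG_R3]
      rw [MonoidHom.comp_apply]
      exact congrArg (stG_R3 (D := D) (K := K)).torH (funext fun k => by by_cases e : k = j <;> simp [e, Tw.field])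
    have e := (injective_iff_map_eq_one _).1 (torH_injective (K := K) hD) ((Units.map (i : K₀ →* K)).compLeft _ c)
      ((DFunLike.congr_fun this c).symm.trans hg)
    rw [show c = 1 from funext fun j => Units.map_injective i.injective ((congrFun e j).trans (map_one _).symm), map_one]
  have ee : τ'.F.map π = τ₀.G1 := by
    refine le_antisymm ?_ (sup_le ?_ ?_)
    · rw [τ'.F_eq_G1 stG_R3 stG_G (torH_injective hD) hn, Twist.G1, Subgroup.map_sup]
      refine sup_le_sup ?_ ?_ <;> rintro _ ⟨g, hg, rfl⟩ <;>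
        exact ⟨((stG D K₀).map_X _ π hπ _).le ⟨g, hg.1, rfl⟩, (ec g).symm.trans (congrArg π hg.2)⟩
    all_goals intro g hg; obtain ⟨y, hy, rfl⟩ := ((stG D K₀).map_X _ π hπ _).ge hg.1
    · exact ⟨y, (stG D K₀).θ_inj nil_pos (τ'.is.mem_U τ'.pos hy) hy (congrArg Subtype.val ((ec y).trans hg.2)), rfl⟩
    · exact ⟨y, (stG D K₀).θ_inj nil_neg (τ'.is.mem_V τ'.pos hy) hy (congrArg Subtype.val ((ec y).trans hg.2)), rfl⟩
  have ef : τ'.F.map ψ = τ.F := by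
    refine le_antisymm (by rintro _ ⟨g, hg, rfl⟩; exact (eb g).symm.trans (congrArg ψ hg)) fun g hg => ?_
    have hc : ∀ j, (fieldTwist β φ hφ').T.c (sim j) = 1 := fun _ => rfl
    have hn' : ∀ j, (fieldTwist β φ hφ').NodeOK j := fun j => Twist.nodeOK1 hc rfl
    have e1 : φ g = τ.σ^[m] g := (stG D K).X_induction (P := fun g => φ g = τ.σ^[m] g) (by simp)
      (fun r _ t g _ ih => by rw [map_mul, iterate_map_mul, ih, h, hφ'])
      (show g ∈ (stG D K).G from stG_G (D := D) (K := K) ▸ trivial)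
    have e2 := ((fieldTwist β φ hφ').F_eq_G1 stG_R3 stG_G (torH_injective hD) hn').le
      (show φ g = g from e1.trans (Function.iterate_fixed hg m))
    obtain ⟨y, rfl⟩ : g ∈ ψ.range := by
      refine (Twist.ok_of_node hn').G1_le (fun j g hg => ?_) (fun j g hg => ?_) e2
      · obtain ⟨t, ht, rfl⟩ := (Twist.mem_Op1 hc (i := j) rfl).1 hg
        obtain ⟨y, rfl⟩ := (hβ t).2 ht
        exact ⟨_, hψ' _ _⟩
      · obtain ⟨t, ht, rfl⟩ := (Twist.mem_On1 hc (i := j) rfl).1 hg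
        obtain ⟨y, rfl⟩ := (hβ t).2 ht
        exact ⟨_, hψ' _ _⟩
    exact ⟨y, ed ((eb y).trans hg), rfl⟩
  rw [← ee, ← ef, Subgroup.map_map, Subgroup.map_map, Subgroup.map_map, MonoidHom.comp_assoc, ea]

end CA.Chev
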