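/-
Cyclic maximal tori from certificates.
-/
import Cfsg.Agent.Lib.Lie.LangChev

set_option autoImplicit false

namespace CA.Chev

open Matrix Equiv Cfsg.Lie Cfsg.Lie.ChevalleyDatum

/-- value of a polynomial of degree less than `n` -/
noncomputable def ev (n : ℕ) (a : ℕ → ℤ) (q : ℤ) : ℤ := sumLt n fun k => a k * q ^ k

theorem ev_eq (n : ℕ) (a : ℕ → ℤ) (q : ℤ) : ev n a q = ∑ k ∈ Finset.range n, a k * q ^ k := by
  rw [ev, sumLt_eq, Fin.sum_univ_eq_sum_range fun k => a k * q ^ k]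

theorem ev_succ (n : ℕ) (a : ℕ → ℤ) (q : ℤ) : ev (n + 1) a q = ev n a q + a n * q ^ n := by
  rw [ev_eq, ev_eq, Finset.sum_range_succ]

theorem ev_succ' (n : ℕ) (a : ℕ → ℤ) (q : ℤ) : ev (n + 1) a q = q * ev n (fun k => a (k + 1)) q + a 0 := by
  rw [ev_eq, ev_eq, Finset.sum_range_succ', Finset.mul_sum, pow_zero, mul_one]
  exact congrArg (· + _) (Finset.sum_congr rfl fun k _ => by ring)

theorem ev_eq_zero {n : ℕ} {a : ℕ → ℤ} {q : ℤ} (h : ∀ k < n, |a k| < q) (e : ev n a q = 0) : ∀ k < n, a k = 0 := by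
  induction n generalizing a with
  | zero => simp
  | succ n ih =>
    rw [ev_succ'] at e
    have h0 : a 0 = 0 := Int.eq_zero_of_abs_lt_dvd ⟨-_, by rw [mul_neg, eq_neg_iff_add_eq_zero, add_comm, e]⟩ (h 0 n.succ_pos)
    rw [h0, add_zero, mul_eq_zero] at e
    rintro (_ | k) hk
    exacts [h0, ih (fun k hk => h _ (by omega)) (e.resolve_left ((abs_nonneg _).trans_lt (h 0 n.succ_pos)).ne') k (by omega)]

theorem abs_ev_lt {n : ℕ} {a : ℕ → ℤ} {q b : ℤ} (hq : 6 ≤ q) (hb : 0 < b) (h : ∀ k < n, |a k| ≤ b) :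
    5 * |ev n a q| < b * q ^ n := by
  induction n with
  | zero => simpa [ev_eq]
  | succ n ih =>
    have h0 : 0 < q ^ n := by positivity
    have h1 := abs_add_le (ev n a q) (a n * q ^ n)
    rw [abs_mul, abs_of_pos h0] at h1
    rw [ev_succ, pow_succ]
    nlinarith [ih fun k hk => h k (by omega), mul_le_mul_of_nonneg_right (h n n.lt_succ_self) h0.le, mul_pos hb h0]

theorem ev_large {n : ℕ} {f : ℕ → ℤ} {q : ℤ} (hq : 6 ≤ q) (hf : ∀ k < n, |f k| ≤ 1) (hn : f n = 1) :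
    0 < ev (n + 1) f q ∧ ∀ a : ℕ → ℤ, (∀ k < n, |a k| ≤ 4) → ev (n + 1) f q ∣ ev n a q → ∀ k < n, a k = 0 := by
  have h1 := abs_ev_lt hq one_pos hf
  have h2 := neg_abs_le (ev n f q)
  have h3 := abs_nonneg (ev n f q)
  rw [ev_succ, hn]
  refine ⟨by omega, fun a ha h => ev_eq_zero (fun k hk => (ha k hk).trans_lt (by omega))
    (Int.eq_zero_of_abs_lt_dvd h ?_)⟩
  have := abs_ev_lt hq four_pos ha
  omega

theorem exists_of_fix {M : Type*} [CommGroup M] {l q : ℕ} {N : Matrix (Fin l) (Fin l) ℤ} {Y : ℕ → Fin l → ℤ}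
    {B : ℕ → ℕ → ℤ} {f : ℕ → ℤ} (hA : ∀ k < l, N *ᵥ Y (k + 1) = Y k)
    (hB : ∀ j : Fin l, ∑ k ∈ Finset.range l, B j k • Y k = Pi.single j 1)
    (hC : ∑ k ∈ Finset.range (l + 1), f k • Y k = 0) {c : Fin l → M} (hc : mact N c ^ q = c) :
    ∃ t : M, t ^ ev (l + 1) f q = 1 ∧ c = fun j : Fin l => t ^ ev l (B j) q := by
  let L := Fintype.linearCombination ℤ fun j => Additive.ofMul (c j)
  have h1 : ∀ y, L y = (q : ℤ) • L (N *ᵥ y) := fun y => by
    have : ∀ j, Additive.ofMul (c j) = (q : ℤ) • ∑ i, N i j • Additive.ofMul (c i) := fun j => by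
      conv_lhs => rw [← hc]
      simp [mact_apply]
    simp only [L, Fintype.linearCombination_apply, mulVec, dotProduct, Finset.sum_smul]
    rw [Finset.sum_comm, Finset.smul_sum]
    exact Finset.sum_congr rfl fun j _ => by
      rw [this j, smul_comm, Finset.smul_sum]; simp only [smul_smul, mul_comm]
  have h2 : ∀ k ≤ l, L (Y k) = (q : ℤ) ^ k • L (Y 0) := fun k hk => by
    induction k with
    | zero => simp
    | succ k ih => rw [h1, hA k hk, ih (by omega), smul_smul, pow_succ']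
  have h3 : ∀ n ≤ l + 1, ∀ a : ℕ → ℤ, L (∑ k ∈ Finset.range n, a k • Y k) = ev n a q • L (Y 0) := fun n hn a => by
    rw [map_sum, ev_eq, Finset.sum_smul]
    exact Finset.sum_congr rfl fun k hk => by rw [map_smul, h2 k (by simp at hk; omega), smul_smul]
  refine ⟨(L (Y 0)).toMul, ?_, funext fun j => ?_⟩
  · rw [← toMul_zsmul, ← h3 _ le_rfl, hC, map_zero]; rfl
  · rw [← toMul_zsmul, ← h3 _ l.le_succ, hB]; simp [L]

variable {D : ChevalleyDatum} [Good D] {K : Type*} [Field K] {Γ : Type*} [Group Γ]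

/-- coefficients of the exponent of a root -/
noncomputable def cf (T : Tab) (B : ℕ → ℕ → ℤ) (r k : ℕ) : ℤ := sumLt T.l fun j => T.wt r j * B j k

/-- certificate for a cyclic torus -/
noncomputable def torChk (T : Tab) (L : List ℕ) (ι S : ℕ → ℕ) (Y B : ℕ → ℕ → ℤ) (f : ℕ → ℤ) : Bool :=
  decide (f 0 * f 0 = 1) && decide (f T.l = 1) && decide (0 < T.l) &&
  (allLt T.n fun r => allLt T.l fun k => decide (|cf T B r k| ≤ 2)) &&
  allLt T.l fun i => decide (S i = apW T L (T.simple (ι i))) && decide (|f i| ≤ 1) && decide (B i T.l = 0) &&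
    decide (sumLt (T.l + 1) (fun k => f k * Y k i) = 0) &&
    decide (sumLt T.l (fun k => Y 0 k * B k i) = if i = 0 then 1 else 0) && allLt T.l fun j =>
      decide (sumLt T.l (fun k => T.co (S i) k * Y (j + 1) k) = Y j i) &&
      decide (sumLt T.l (fun k => B i k * Y k j) = if i = j then 1 else 0) &&
      decide (sumLt T.l (fun k => T.co (S k) i * B k j) - B i (j + 1) = -f 0 * B i 0 * f (j + 1))

noncomputable def prTb (T : Tab) (r s : ℕ) : ℤ := sumLt T.l fun j => T.co r j * T.wt s j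

/-- search through the possible images of the simple roots -/
noncomputable def dfs (T : Tab) (e : ℕ → ℤ) (k : ℕ) : List (ℕ × ℕ) → Bool :=
  Nat.rec (fun ch => ch.all fun x => x.1 == x.2) (fun k ih ch => allLt T.n fun s =>
    !(decide (e s = e (T.simple k)) && ch.all fun x => decide (prTb T s x.2 = prTb T (T.simple k) x.1)) ||
      ih ((T.simple k, s) :: ch)) k

theorem dfs_spec {e : ℕ → ℤ} {w : Perm (Rt D)} (hw : w ∈ RA D) (he : ∀ r : Rt D, e (w r) = e r) {k : ℕ}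
    (hk : k ≤ D.rank) {ch : List (ℕ × ℕ)} (h : dfs (tab D) e k ch = true) (hc : ∀ x ∈ ch, ∃ r : Rt D, x = (r.1, (w r).1)) :
    (∀ x ∈ ch, x.1 = x.2) ∧ ∀ i : Nd D, i.1 < k → w (sim i) = sim i := by
  induction k generalizing ch with
  | zero => exact ⟨by simpa [dfs] using h, by simp⟩
  | succ k ih =>
    have h1 := allLt_iff.1 h _ (w (sim ⟨k, hk⟩)).2
    simp only [Bool.or_eq_true, Bool.not_eq_true', Bool.and_eq_false_iff, decide_eq_false_iff_not,
      List.all_eq_false, decide_eq_true_eq] at h1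
    rcases h1 with (h1 | ⟨x, hx, h1⟩) | h1
    · exact (h1 (he (sim ⟨k, hk⟩))).elim
    · obtain ⟨r, rfl⟩ := hc x hx
      exact (h1 ((pr_eq_tab rfl _ _).symm.trans ((pr_map hw (sim ⟨k, hk⟩) r).trans (pr_eq_tab rfl _ _)))).elim
    obtain ⟨h2, h3⟩ := ih (by omega) h1 (List.forall_mem_cons.2 ⟨⟨sim ⟨k, hk⟩, rfl⟩, hc⟩)
    rw [List.forall_mem_cons] at h2
    refine ⟨h2.2, fun i hi => ?_⟩
    rcases Nat.lt_succ_iff_lt_or_eq.1 hi with e | e
    exacts [h3 i e, by obtain rfl : i = ⟨k, hk⟩ := Fin.ext e; exact Fin.ext h2.1.symm]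

/-- exponent of a root -/
noncomputable def ex (T : Tab) (B : ℕ → ℕ → ℤ) (f : ℕ → ℤ) (q : ℤ) (r : ℕ) : ℤ :=
  sumLt T.l (fun j => T.wt r j * ev T.l (B j) q) % ev (T.l + 1) f q

/-- regularity for small fields -/
noncomputable def regChk (T : Tab) (B : ℕ → ℕ → ℤ) (f : ℕ → ℤ) (q : ℤ) : Bool :=
  decide (0 < ev (T.l + 1) f q) && (allLt T.n fun r => !decide (ex T B f q r = 0)) && dfs T (ex T B f q) T.l []

theorem reg_of {T : Tab} {B : ℕ → ℕ → ℤ} {f : ℕ → ℤ} (h : allLt 4 (fun k => regChk T B f (k + 2 : ℕ)) = true) {q : ℕ}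
    (hq : 2 ≤ q) : 6 ≤ q ∨ regChk T B f q = true := by
  obtain ⟨k, rfl⟩ := Nat.exists_eq_add_of_le' hq
  exact (le_or_gt 6 (k + 2)).imp_right fun e => allLt_iff.1 h k (by omega)

theorem Twist.exists_gen [IsAlgClosed K] {A : Sys D K Γ} (τ : Twist A) {q : ℕ} (hq : ∀ i t, τ.T.α (sim i) t = t ^ q)
    (hq0 : (q : K) = 0) {T : Tab} (hT : tab D = T) (L : List (Nd D)) {ι S : ℕ → ℕ} (hι : ∀ i, (τ.ι i).1 = ι i)
    {Y B : ℕ → ℕ → ℤ} {f : ℕ → ℤ} (h : torChk T (L.map Fin.val) ι S Y B f = true)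
    (hr : 6 ≤ q ∨ regChk T B f q = true) :
    ∃ c, Subgroup.zpowers c = τ.TW (wd L) ∧ RegEl c ∧ (orderOf c : ℤ) = ev (T.l + 1) f q := by
  subst hT
  simp only [torChk, allLt_iff, Bool.and_eq_true, decide_eq_true_eq, sumLt_eq] at h
  obtain ⟨⟨⟨⟨h0, hl⟩, hl0⟩, hcf⟩, h⟩ := h
  rw [tab_l] at hl hl0 ⊢
  set F := ev (D.rank + 1) f q with hF
  let m : Nd D → ℤ := fun j => ev D.rank (B j) q
  let N : Matrix (Nd D) (Nd D) ℤ := Matrix.of fun i j => cor (wd L (sim (τ.ι i))) j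
  have hN : ∀ i j : Nd D, (tab D).co (S i) j = N i j := fun i j => by
    rw [(h i i.2).1.1.1.1.1, ← hι]; exact congrArg (coN D · j) (apW_eq L (sim (τ.ι i)))
  have hB : ∀ j : Nd D, ∑ k ∈ Finset.range D.rank, B j k • (fun i : Nd D => Y k i) = Pi.single j 1 := fun j => by
    funext i
    rw [Finset.sum_apply, ← Fin.sum_univ_eq_sum_range fun k => (B j k • fun i : Nd D => Y k i) i]
    exact ((h j j.2).2 i i.2).1.2.trans (by simp [Pi.single_apply, Fin.ext_iff, eq_comm])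
  have hm : ∀ v : Nd D → ℤ, v ⬝ᵥ m = ev D.rank (fun k => ∑ j, v j * B j k) q := fun r => by
    simp only [dotProduct, m, ev_eq, Finset.mul_sum, Finset.sum_mul, mul_assoc]
    exact Finset.sum_comm
  have hε : ∀ r : Rt D, wt r ⬝ᵥ m = ev D.rank (cf (tab D) B r) q := fun r =>
    (hm _).trans (congrArg (ev _ · _) (funext fun k => (sumLt_eq D.rank fun j => (tab D).wt r j * B j k).symm))
  have hwt : ∀ r : Rt D, wt r = ∑ k ∈ Finset.range D.rank, cf (tab D) B r k • fun i : Nd D => Y k i := fun r => by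
    simp only [cf, sumLt_eq, Finset.sum_smul, mul_smul]
    rw [Finset.sum_comm]
    simp only [← Finset.smul_sum, tab_l, hB]
    exact (pi_eq_sum_univ' _).trans (Finset.sum_congr rfl fun _ _ => rfl)
  have hreg : 0 < F ∧ (∀ r, ¬ F ∣ wt r ⬝ᵥ m) ∧
      ∀ w ∈ W D, (∀ r, F ∣ wt (w r) ⬝ᵥ m - wt r ⬝ᵥ m) → w = 1 := by
    rcases hr with hr | hr
    · obtain ⟨h1, h2⟩ := ev_large (n := D.rank) (q := q) (by exact_mod_cast hr) (fun k hk => (h k hk).1.1.1.1.2) hl
      refine ⟨h1, fun r e => wt_ne_zero r ?_, fun w hw e => eq_one_of_fix (W_le_RA hw) fun i => wt_injective ?_⟩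
      · rw [hwt]
        exact Finset.sum_eq_zero fun k hk => by
          rw [h2 _ (fun k hk => (hcf r r.2 k hk).trans (by norm_num)) (hε r ▸ e) k (Finset.mem_range.1 hk), zero_smul]
      · rw [hwt, hwt]
        refine Finset.sum_congr rfl fun k hk => congrArg (· • _) (sub_eq_zero.1 (h2 (fun k => _ - _) (fun k hk =>
          (abs_sub _ _).trans (add_le_add (hcf _ (w (sim i)).2 k hk) (hcf _ (sim i).2 k hk))) ?_ k (Finset.mem_range.1 hk)))
        simpa only [hF, hε, ev_eq, sub_mul, Finset.sum_sub_distrib] using e (sim i)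
    · simp only [regChk, allLt_iff, Bool.and_eq_true, decide_eq_true_eq, Bool.not_eq_true', decide_eq_false_iff_not] at hr
      have e0 : ∀ r : Rt D, ex (tab D) B f q r = wt r ⬝ᵥ m % F := fun r => by rw [ex, sumLt_eq]; rfl
      refine ⟨hr.1.1, fun r e => hr.1.2 r r.2 ((e0 r).trans (Int.emod_eq_zero_of_dvd e)), fun w hw e =>
        eq_one_of_fix (W_le_RA hw) fun i => (dfs_spec (W_le_RA hw) (fun r => ?_) le_rfl hr.2 (by simp)).2 i i.2⟩
      rw [e0, e0]; exact (Int.modEq_iff_dvd.2 (e r)).symm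
  obtain ⟨n, hn⟩ := Int.eq_ofNat_of_zero_le hreg.1.le
  have : NeZero (n : K) := ⟨fun e => by
    have e1 : ((F : ℤ) : K) = f 0 := by rw [hF, ev_succ']; simp [hq0]
    have e2 := congrArg (Int.cast : ℤ → K) h0
    rw [Int.cast_mul, ← e1, hn, Int.cast_natCast, e] at e2
    simp at e2⟩
  have : NeZero n := .of_neZero_natCast K
  obtain ⟨t', ht'⟩ := HasEnoughRootsOfUnity.exists_primitiveRoot K n
  let t := (ht'.isUnit (NeZero.ne n)).unit
  have ht : IsPrimitiveRoot t n := ht'.isUnit_unit (NeZero.ne n)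
  have hz : ∀ k : ℤ, t ^ k = 1 ↔ F ∣ k := fun k => hn ▸ ht.zpow_eq_one_iff_dvd k
  have hv : ∀ v : Nd D → ℤ, ∏ j, (t ^ m j) ^ v j = t ^ (v ⬝ᵥ m) := fun v => by
    simp only [dotProduct, zpow_sum', ← _root_.zpow_mul, mul_comm]
  have hx : ∀ r, tor (fun j => t ^ m j) (rt r) = (t ^ (wt r ⬝ᵥ m) : Kˣ) := fun r => by simp [tor_rt, ← hv]
  refine ⟨fun j => t ^ m j, le_antisymm (Subgroup.zpowers_le.2 ((τ.mem_TW' hq).2 (funext fun j => ?_))) fun c hc => ?_,
    ⟨fun r e => hreg.2.1 r ((hz _).1 (Units.ext ((hx r).symm.trans e))), fun w hw e => hreg.2.2 w hw fun r => ?_⟩, ?_⟩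
  · have e1 : ∀ k ∈ Finset.range D.rank, (∑ i : Nd D, N i j * B i k) * q ^ k =
        (B j (k + 1) - f 0 * B j 0 * f (k + 1)) * q ^ k := fun k hk => by
      have : ∑ i : Nd D, (tab D).co (S i) j * B i k - _ = _ := ((h j j.2).2 k (Finset.mem_range.1 hk)).2
      simp only [hN] at this
      linear_combination this * q ^ k
    have e2 := ev_succ D.rank (B j) q
    rw [ev_succ', show B j D.rank = 0 from (h j j.2).1.1.1.2, ev_eq] at e2
    rw [Pi.pow_apply, mact_apply, hv fun i => N i j, ← mul_inv_eq_one, ← zpow_natCast, ← _root_.zpow_mul,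
      ← _root_.zpow_sub, hz, hm, ev_eq, Finset.sum_congr rfl e1, hF, ev_succ', ev_eq]
    simp only [sub_mul, Finset.sum_sub_distrib, mul_assoc, ← Finset.mul_sum]
    exact ⟨-f 0 * B j 0, by linear_combination e2 + B j 0 * h0⟩
  · obtain ⟨u, hu, rfl⟩ := exists_of_fix (Y := fun k i => Y k i) (f := f) (fun k hk => funext fun i =>
      (Finset.sum_congr rfl fun j _ => congrArg (· * _) (hN i j).symm).trans ((h i i.2).2 k hk).1.1) hB (funext fun i => by
      rw [Finset.sum_apply, ← Fin.sum_univ_eq_sum_range fun k => (f k • fun i : Nd D => Y k i) i]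
      exact (h i i.2).1.1.2) ((τ.mem_TW' hq).1 hc)
    obtain ⟨k, -, rfl⟩ := ht.eq_pow_of_mem_rootsOfUnity (ξ := u) (by rwa [mem_rootsOfUnity, ← zpow_natCast, ← hn])
    exact ⟨k, funext fun j => by simp [m, ← zpow_natCast, ← _root_.zpow_mul, mul_comm]⟩
  · have := e r
    rw [hx, hx, Units.val_inj] at this
    rw [← hz, _root_.zpow_sub, this, mul_inv_cancel]
  · have e1 : (fun j : Nd D => Y 0 j) ⬝ᵥ m = 1 := by
      rw [hm, ev_eq]
      exact (Finset.sum_congr rfl fun k hk => congrArg (· * (q : ℤ) ^ k) (h k (Finset.mem_range.1 hk)).1.2).trans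
        (by simp [hl0])
    rw [hn, ht.eq_orderOf, Nat.cast_inj, orderOf_eq_orderOf_iff]
    refine fun k => ⟨fun e => ?_, fun e => funext fun j => ?_⟩
    · rw [← zpow_one t, ← e1, ← hv, ← Finset.prod_pow]
      exact Finset.prod_eq_one fun j _ => by
        rw [← zpow_natCast, zpow_comm, zpow_natCast, show (t ^ m j) ^ k = 1 from congrFun e j, _root_.one_zpow]
    · rw [Pi.pow_apply, ← zpow_natCast, zpow_comm, zpow_natCast, e, _root_.one_zpow]; rfl

theorem exists_clo (F : Type*) [Field F] [Fintype F] {q d : ℕ} (hq : IsPrimePow q) (hF : Fintype.card F = q ^ d) :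
    ∃ β : AlgebraicClosure F →+* AlgebraicClosure F, (∀ t, β t = t ^ q) ∧ (q : AlgebraicClosure F) = 0 ∧
      ∀ x, (∃ y, algebraMap F (AlgebraicClosure F) y = x) ↔ x ^ q ^ d = x := by
  obtain ⟨p, k, hp, hk, rfl⟩ := (isPrimePow_nat_iff q).1 hq
  have h0 : (p : AlgebraicClosure F) = 0 := by
    have := congrArg (algebraMap F (AlgebraicClosure F)) (FiniteField.cast_card_eq_zero F)
    rw [map_natCast, map_zero, hF, ← pow_mul, Nat.cast_pow] at this
    exact eq_zero_of_pow_eq_zero this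
  have := Fact.mk hp
  have := (CharP.charP_iff_prime_eq_zero hp).2 h0
  refine ⟨iterateFrobenius _ p k, fun _ => rfl, by simp [hk.ne'], fun x => ⟨?_, fun h => ?_⟩⟩
  · rintro ⟨y, rfl⟩; rw [← map_pow, ← hF, FiniteField.pow_card]
  · refine Polynomial.Splits.mem_range_of_isRoot ?_ (FiniteField.X_pow_card_sub_X_ne_zero F
      (Fintype.one_lt_card (α := F))) (by simp [hF, h])
    simpa using (FiniteField.isSplittingField_sub F F).splits'

theorem GL_map_injective {F n : Type*} [Field F] [Fintype n] [DecidableEq n] (i : F →+* K) :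
    Function.Injective (GeneralLinearGroup.map (n := n) i) := fun _ _ e =>
  GeneralLinearGroup.ext fun a b => i.injective (congrArg (fun g : GL n K => g.1 a b) e)

theorem exists_untw (hD : D ∈ [chevG2, chevB2, chevD4, chevF4, chevE6, chevE7, chevE8]) (F : Type*) [Field F]
    [Fintype F] : ∃ τ : Twist (stG D (AlgebraicClosure F)), (∀ i t, τ.T.α (sim i) t = t ^ Fintype.card F) ∧
      (∀ i, τ.ι i = i) ∧ (Fintype.card F : AlgebraicClosure F) = 0 ∧
      (∀ a, ∃ g, (stG D _).θ (g⁻¹ * τ.σ g) = (stG D _).θ a) ∧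
      ((GeneralLinearGroup.map (algebraMap F _)).comp (D.group F).subtype).range = τ.F.map (stG D _).θ ∧
      Nat.card ↥(τ.T1 ⊓ tor.ker) = Nat.card (tor (D := D) (K := F)).ker := by
  obtain ⟨β, h1, h2, h3⟩ := exists_clo F Fintype.isPrimePow_card_of_field (pow_one _).symm
  let τ := stTw (Tw.field D β) (fun _ => Iff.rfl) id fun _ => rfl
  let τ₀ : Twist (adjG D F) := fieldTwist (RingHom.id F) (MonoidHom.id _) fun _ _ => rfl
  have h4 : ∀ r t, τ.σ^[1] ((stG D _).x r t) = (stG D _).x r (β t) := fun r t => (τ.is r t).trans (by simp [τ, stTw])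
  have h5 : ∀ x, (∃ y, algebraMap F (AlgebraicClosure F) y = x) ↔ β x = x := by simpa [h1] using h3
  have h6 : τ₀.G1 = ⊤ := eq_top_iff.2 (adjG_G.ge.trans ((adjG D F).X_le.2 fun r _ t => by
    by_cases h : Pos r
    exacts [τ₀.mem_G1_of_U ((adjG D F).x_mem h t) rfl, τ₀.mem_G1_of_V ((adjG D F).x_mem h t) rfl]))
  refine ⟨τ, fun _ => h1, fun _ => rfl, h2, stG_R3.lang stG_G (fun r => ⟨r, 1, _, fun t => (h4 r t).trans (by
    rw [h1, one_mul])⟩) one_pos Fintype.one_lt_card h1 h4, ?_, ?_⟩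
  · rw [← descent hD _ h5 τ h4 τ₀ (fun _ => rfl) (fun r t => by
      simpa [τ, τ₀, stTw, fieldTwist] using (h5 _).1 ⟨t, rfl⟩) fun j => Twist.nodeOK1 (fun _ => rfl) rfl, h6,
      ← MonoidHom.range_eq_map, MonoidHom.range_comp]
  · let u := (Units.map (algebraMap F (AlgebraicClosure F) : F →* AlgebraicClosure F)).compLeft (Nd D)
    have hu : Function.Injective u := fun a b e => funext fun j =>
      Units.map_injective (algebraMap F (AlgebraicClosure F)).injective (congrFun e j)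
    have e : ∀ c, u c ∈ tor.ker ↔ c ∈ tor.ker := fun c => by
      rw [tor_ker, tor_ker, MonoidHom.mem_ker, MonoidHom.mem_ker, ← map_eq_one_iff u hu]
      exact Eq.congr_left (funext fun j => by simp [u, mact_apply])
    rw [← Subgroup.card_map_of_injective hu]
    refine congrArg (fun H : Subgroup _ => Nat.card H) (le_antisymm (fun c hc => ?_) ?_)
    · choose y hy using fun j => (h5 _).2 (τ.mem_T1.1 hc.1 j).symm
      have k : u (fun j => Units.mk0 (y j) fun e => (c j).ne_zero (by rw [← hy, e, map_zero])) = c :=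
        funext fun j => Units.ext (hy j)
      exact ⟨_, (e _).1 (k.symm ▸ hc.2), k⟩
    · rintro _ ⟨c, hc, rfl⟩
      exact ⟨τ.mem_T1.2 fun j => ((h5 _).1 ⟨c j, rfl⟩).symm, (e c).2 hc⟩

theorem cyc_untw (hD : D ∈ [chevG2, chevB2, chevD4, chevF4, chevE6, chevE7, chevE8]) (F : Type*) [Field F]
    [Fintype F] {T : Tab} (hT : tab D = T) (L : List (Nd D)) {S : ℕ → ℕ} {Y B : ℕ → ℕ → ℤ} {f : ℕ → ℤ}
    (h : torChk T (L.map Fin.val) id S Y B f = true)
    (hr : 6 ≤ Fintype.card F ∨ regChk T B f (Fintype.card F) = true) : ∃ H : Subgroup (D.group F), IsCyclic H ∧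
      ((Nat.card H * Nat.card (tor (D := D) (K := F)).ker : ℕ) : ℤ) = ev (T.l + 1) f (Fintype.card F) ∧
      Subgroup.centralizer (H : Set (D.group F)) = H := by
  obtain ⟨τ, h1, h2, h3, h4, h5, h6⟩ := exists_untw hD F
  obtain ⟨c, h7, h8, h9⟩ := τ.exists_gen h1 h3 hT L (fun i => congrArg Fin.val (h2 i)) h hr
  obtain ⟨H, a, b, d⟩ := τ.exists_cyclic stG_R3 stG_G (torH_injective hD) h4 (wd_mem L)
    (j := (GeneralLinearGroup.map (algebraMap F _)).comp (D.group F).subtype)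
    ((GL_map_injective _).comp Subtype.val_injective) h5 h7 h8
  exact ⟨H, a, by rw [← h6, b, h9], d⟩

theorem cyc_3D4 (F : Type*) [Field F] [Fintype F] {q : ℕ} (hq : IsPrimePow q) (hF : Fintype.card F = q ^ 3)
    (L : List (Nd chevD4)) {S : ℕ → ℕ} {Y B : ℕ → ℕ → ℤ} {f : ℕ → ℤ}
    (h : torChk tabD4 (L.map Fin.val) ([2, 1, 3, 0].getD · 0) S Y B f = true)
    (hr : 6 ≤ q ∨ regChk tabD4 B f q = true) : ∃ H : Subgroup (twistedD4 F q), IsCyclic H ∧
      (Nat.card H : ℤ) = ev 5 f q ∧ Subgroup.centralizer (H : Set (twistedD4 F q)) = H := by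
  obtain ⟨β, h1, h2, h3⟩ := exists_clo F hq hF
  obtain ⟨α, ha, ha', -⟩ := exists_frob' hq hF
  have hα : ∀ t, α (α (α t)) = t := fun t => by rw [ha, ha, ha, ← pow_mul, ← pow_mul, ← pow_three, ha']
  have hb : ∀ t, (β.comp (β.comp β)) t = t ^ q ^ 3 := fun t => by simp only [RingHom.comp_apply, h1, ← pow_mul, pow_three']
  let τ := stTw (tD4 β).T (tD4 β).pos ιD4a (tD4 β).φ_sim
  have h4 : ∀ r t, τ.σ^[3] ((stG chevD4 _).x r t) = (stG chevD4 _).x r (β.comp (β.comp β) t) := fun r t => by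
    obtain ⟨e1, e2⟩ := (by decide +kernel : ∀ r : Rt chevD4, φD4a (φD4a (φD4a r)) = r ∧
      ηD4a (φD4a (φD4a r)) * ηD4a (φD4a r) * ηD4a r = 1) r
    change τ.σ (τ.σ (τ.σ _)) = _
    rw [τ.σ_x, τ.σ_x, τ.σ_x, show τ.ρ (τ.ρ (τ.ρ r)) = r from Fin.ext e1]
    refine congrArg _ (((TD4.f_eq _ _).trans (by rw [show τ.T.f = (tD4 β).T.f from rfl, TD4.f_eq, TD4.f_eq])).trans ?_)
    simp only [map_mul, map_intCast, ← mul_assoc, ← Int.cast_mul]
    rw [show ηD4a (τ.ρ (τ.ρ r)) * ηD4a (τ.ρ r) * ηD4a r = 1 from e2]; simp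
  have hn : ∀ j, (stTw (tD4 α).T (tD4 α).pos (tD4 α).ι (tD4 α).φ_sim).NodeOK j := fun i => by
    rcases TD4.nodes i with h | ⟨a, b, c, d, e, f, g, k⟩
    · exact Twist.nodeOK1 (τ := stTw ..) (TD4.hc (α := α)) h
    simp only [← wt_eq_tab tab_D4] at e
    exact Twist.Ty3.nodeOK (τ := stTw ..) (TD4.hc (α := α)) ⟨a, b, c, rfl, rfl, d, e, Sys0.orth_of_chk _ tab_D4 (by simp) f,
      Sys0.orth_of_chk _ tab_D4 (by simp) g, Sys0.orth_of_chk _ tab_D4 (by simp) k, hα⟩
  have h5 := descent (by simp) _ (fun x => hb x ▸ h3 x) τ h4 (tD4 α) (fun _ => rfl) (fun r t => by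
    rw [show τ.T.f = (tD4 β).T.f from rfl, TD4.f_eq, TD4.f_eq, h1, ha]; simp) hn
  rw [(TD4.real ha hα).eq] at h5
  obtain ⟨c, h7, h8, h9⟩ := τ.exists_gen (fun _ => h1) h2 tab_D4 L (fun _ => rfl) h hr
  obtain ⟨H, a, b, d⟩ := τ.exists_cyclic stG_R3 stG_G (torH_injective (by simp)) (stG_R3.lang stG_G
    (fun r => ⟨_, _, q, fun t => (τ.σ_x r t).trans (by rw [show τ.T.f = (tD4 β).T.f from rfl, TD4.f_eq, h1])⟩)
    three_pos (hF ▸ Fintype.one_lt_card) hb h4) (wd_mem L)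
    (j := (GeneralLinearGroup.map (algebraMap F _)).comp (twistedD4 F q).subtype)
    ((GL_map_injective _).comp Subtype.val_injective) (by rw [← h5, MonoidHom.range_comp, Subgroup.range_subtype]) h7 h8
  rw [show τ.T1 ⊓ tor.ker = ⊥ from TD4.Z_eq (α := β), Subgroup.card_bot, mul_one] at b
  exact ⟨H, a, b ▸ h9, d⟩

end CA.Chev
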