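/-
Stabilisers in the Weyl group of points of the torus are reflection groups (Steinberg).
-/
import Cfsg.Agent.Lib.Lie.ChevOrd

set_option autoImplicit false

namespace CA.Chev

open Matrix Equiv Cfsg.Lie Cfsg.Lie.ChevalleyDatum

variable {D : ChevalleyDatum} [Good D]

theorem clin_dot {w : Perm (Rt D)} (hw : w ∈ RA D) (v : Nd D → ℤ) (r : Rt D) : clin w v ⬝ᵥ wt (w r) = v ⬝ᵥ wt r := by
  rw [clin, Fintype.linearCombination_apply, sum_dotProduct]
  exact Finset.sum_congr rfl fun i _ => by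
    rw [smul_dotProduct, ← pr_sim_left, ← pr_map hw]; rfl

theorem clin_dot' {w : Perm (Rt D)} (hw : w ∈ RA D) (v : Nd D → ℤ) (r : Rt D) :
    clin w v ⬝ᵥ wt r = v ⬝ᵥ wt (w⁻¹ r) := by rw [← clin_dot hw v (w⁻¹ r), papply_inv]

theorem clin_mul {w u : Perm (Rt D)} (hw : w ∈ RA D) (hu : u ∈ RA D) (v : Nd D → ℤ) :
    clin (w * u) v = clin w (clin u v) := eq_of_dot_wt fun s => by
  rw [clin_dot' (mul_mem hw hu), clin_dot' hw, clin_dot' hu, _root_.mul_inv_rev, Perm.mul_apply]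

theorem clin_one (v : Nd D → ℤ) : clin (1 : Perm (Rt D)) v = v := eq_of_dot_wt fun s => clin_dot (one_mem _) v s

theorem clin_refl (r : Rt D) (v : Nd D → ℤ) : clin (refl r) v = v - (v ⬝ᵥ wt r) • cor r := eq_of_dot_wt fun s => by
  rw [clin_dot' (refl_mem_RA r), refl_inv, wt_refl, dotProduct_sub, sub_dotProduct, dotProduct_smul, smul_dotProduct]
  simp [pr, mul_comm]

/-- the invariant bilinear form on the coroot lattice -/
def cf2 (u v : Nd D → ℤ) : ℤ := ∑ r : Rt D, (u ⬝ᵥ wt r) * (v ⬝ᵥ wt r)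

theorem cf2_pos {v : Nd D → ℤ} (h : v ≠ 0) : 0 < cf2 v v :=
  (Finset.sum_nonneg fun _ _ => mul_self_nonneg _).lt_of_ne' fun e => h (eq_of_dot_wt fun s => by
    simpa using (Finset.sum_eq_zero_iff_of_nonneg fun _ _ => mul_self_nonneg _).1 e s (Finset.mem_univ s))

theorem cf2_cor (v : Nd D → ℤ) (s : Rt D) : 2 * cf2 v (cor s) = v ⬝ᵥ wt s * cf2 (cor s) (cor s) := by
  have : cf2 v (cor s) = ∑ r, (v ⬝ᵥ wt s * (pr s r * pr s r) - v ⬝ᵥ wt r * pr s r) :=
    (Equiv.sum_comp (refl s) _).symm.trans (Finset.sum_congr rfl fun r _ => by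
      rw [show cor s ⬝ᵥ wt (refl s r) = -pr s r from pr_refl_right s r, wt_refl, dotProduct_sub, dotProduct_smul,
        smul_eq_mul]; ring)
  rw [Finset.sum_sub_distrib, ← Finset.mul_sum] at this
  change cf2 v (cor s) = v ⬝ᵥ wt s * cf2 (cor s) (cor s) - cf2 v (cor s) at this
  omega

theorem cf2_sub (v : Nd D → ℤ) (s : Rt D) (k : ℤ) :
    cf2 (v - k • cor s) (v - k • cor s) = cf2 v v - k * (v ⬝ᵥ wt s - k) * cf2 (cor s) (cor s) := by
  have : cf2 (v - k • cor s) (v - k • cor s) = cf2 v v - k * (2 * cf2 v (cor s)) + k * k * cf2 (cor s) (cor s) := by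
    simp only [cf2, sub_dotProduct, smul_dotProduct, smul_eq_mul, Finset.mul_sum, ← Finset.sum_sub_distrib,
      ← Finset.sum_add_distrib]
    exact Finset.sum_congr rfl fun _ _ => by ring
  rw [this, cf2_cor]; ring

theorem eq_zero_of_minuscule {y : Nd D → ℤ} (h : ∀ r, y ⬝ᵥ wt r ≤ 1) : y = 0 := by
  induction hn : ∑ i, (y i).natAbs using Nat.strong_induction_on generalizing y with
  | _ n ih =>
    by_contra h0
    obtain ⟨i, hi⟩ : ∃ i, 0 < y i * (y ⬝ᵥ wt (sim i)) := by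
      by_contra! hc
      have : 2 * cf2 y y = ∑ i, y i * (y ⬝ᵥ wt (sim i)) * cf2 (cor (sim i)) (cor (sim i)) := by
        simp only [mul_assoc, ← cf2_cor]
        simp only [cf2, cor_sim, single_one_dotProduct, Finset.mul_sum]
        rw [Finset.sum_comm]
        exact Finset.sum_congr rfl fun r _ => by
          rw [mul_left_comm, mul_left_comm]; nth_rw 2 [dotProduct]; simp [Finset.mul_sum, mul_left_comm]
      have h1 := Finset.sum_nonpos fun i (_ : i ∈ Finset.univ) =>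
        mul_nonpos_of_nonpos_of_nonneg (hc i) (cf2_pos (cor_ne_zero (sim i))).le
      have := cf2_pos h0
      omega
    have h1 := h (sim i)
    have h2 := h (ng (sim i))
    rw [wt_ng, dotProduct_neg] at h2
    have h3 := ih _ ?_ (y := clin (refl (sim i)) y) (fun r => clin_dot' (refl_mem_RA _) y r ▸ h _) rfl
    · exact h0 (by rw [← clin_one y, ← refl_mul_self (sim i), clin_mul (refl_mem_RA _) (refl_mem_RA _), h3, map_zero])
    rw [← hn, clin_refl, cor_sim]
    refine Finset.sum_lt_sum (fun j _ => ?_) ⟨i, Finset.mem_univ i, ?_⟩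
    · by_cases e : j = i
      · subst e; simp; generalize y ⬝ᵥ wt (sim j) = a at *
        rcases (by omega : a = -1 ∨ a = 0 ∨ a = 1) with rfl | rfl | rfl <;> omega
      · simp [e]
    · simp; generalize y ⬝ᵥ wt (sim i) = a at *
      rcases (by omega : a = -1 ∨ a = 0 ∨ a = 1) with rfl | rfl | rfl <;> omega

/-- the reflection subgroup of a set of roots -/
def WS (S : Set (Rt D)) : Subgroup (Perm (Rt D)) := Subgroup.closure (refl '' S)

theorem WS_le (S : Set (Rt D)) : WS S ≤ W D := (Subgroup.closure_le _).2 (by rintro _ ⟨r, -, rfl⟩; exact refl_mem r)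
theorem refl_mem_WS {S : Set (Rt D)} {r : Rt D} (h : r ∈ S) : refl r ∈ WS S := Subgroup.subset_closure ⟨r, h, rfl⟩
theorem WS_mono {S T : Set (Rt D)} (h : S ⊆ T) : WS S ≤ WS T := Subgroup.closure_mono (Set.image_mono h)

theorem dot_wt (v : Nd D → ℤ) (r : Rt D) : v ⬝ᵥ wt r = ∑ i, rt r i * (v ⬝ᵥ wt (sim i)) := by
  rw [wt_eq, dotProduct_mulVec, dotProduct_comm]; rfl

theorem exists_dominant (v : Nd D → ℤ) : ∃ u ∈ W D, ∀ r, Pos r → 0 ≤ clin u v ⬝ᵥ wt r := by
  obtain ⟨u, hu⟩ := Finite.exists_max fun u : W D => ∑ i, clin u.1 v i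
  refine ⟨u, u.2, fun r hr => dot_wt _ r ▸ Finset.sum_nonneg fun i _ => mul_nonneg (hr.rt_nonneg i) ?_⟩
  have := hu (⟨_, refl_mem (sim i)⟩ * u)
  rw [Subgroup.coe_mul, clin_mul (refl_mem_RA _) (W_le_RA u.2), clin_refl, cor_sim] at this
  simpa [Finset.sum_sub_distrib, Pi.single_apply] using this

theorem mem_WS_of_fix {v : Nd D → ℤ} {w : Perm (Rt D)} (hw : w ∈ W D) (h : clin w v = v) :
    w ∈ WS {r | v ⬝ᵥ wt r = 0} := by
  obtain ⟨u, hu, hv⟩ := exists_dominant v
  have hu' := W_le_RA hu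
  have key : ∀ w ∈ W D, clin w (clin u v) = clin u v → w ∈ WS {r | clin u v ⬝ᵥ wt r = 0} := fun w hw =>
    W_induction (P := fun w => clin w (clin u v) = clin u v → w ∈ WS {r | clin u v ⬝ᵥ wt r = 0}) (fun _ => one_mem _)
      (fun w hw i hi ih e => by
        have h1 := clin_dot (W_le_RA (mul_mem hw (sR_mem i))) (clin u v) (sim i)
        rw [e, Perm.mul_apply, sR_sim, map_ng (W_le_RA hw), wt_ng, dotProduct_neg] at h1
        have h2 : clin u v ⬝ᵥ wt (sim i) = 0 := by have := hv _ hi; have := hv _ (pos_sim i); omega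
        rw [clin_mul (W_le_RA hw) (sR_mem_RA i), ← refl_sim, clin_refl, h2, zero_smul, sub_zero] at e
        exact mul_mem (ih e) (refl_sim i ▸ refl_mem_WS h2)) hw
  have h1 := key (u * w * u⁻¹) (mul_mem (mul_mem hu hw) (inv_mem hu)) (by
    rw [← clin_mul (W_le_RA (mul_mem (mul_mem hu hw) (inv_mem hu))) hu', inv_mul_cancel_right, clin_mul hu' (W_le_RA hw), h])
  refine (Subgroup.closure_le ((WS _).comap (MulAut.conj u⁻¹).toMonoidHom)).2 ?_ h1 |> (by simpa [mul_assoc] using ·)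
  rintro _ ⟨r, hr, rfl⟩
  exact (conj_refl (inv_mem hu') r).symm.subst (motive := (· ∈ WS _))
    (refl_mem_WS ((clin_dot' hu' v r).symm.trans hr))

theorem mem_WS_of_dvd {v y : Nd D → ℤ} {m : ℤ} (hm : 0 < m) {w : Perm (Rt D)} (hw : w ∈ W D)
    (h : clin w v = v + m • y) : w ∈ WS {r | m ∣ v ⬝ᵥ wt r} := by
  wlog hv : ∀ r, v ⬝ᵥ wt r ≤ m generalizing v y
  · obtain ⟨z, hz⟩ := exists_minimalFor_of_wellFoundedLT (fun _ => True)
      (fun z : Nd D → ℤ => (cf2 (v + m • z) (v + m • z)).toNat) ⟨0, trivial⟩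
    have := this (v := v + m • z) (y := y + clin w z - z) (by rw [map_add, map_smul, h]; module) fun r => by
      by_contra! hc
      have h1 := cf2_sub (v + m • z) r m
      have h2 := mul_pos (mul_pos hm (sub_pos.2 hc)) (cf2_pos (cor_ne_zero r))
      have h3 : 0 ≤ cf2 (v + m • z - m • cor r) (v + m • z - m • cor r) := Finset.sum_nonneg fun _ _ => mul_self_nonneg _
      have h4 := hz.not_lt (j := z - cor r) trivial
      rw [smul_sub, ← add_sub_assoc] at h4
      omega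
    simpa only [add_dotProduct, smul_dotProduct, smul_eq_mul, Int.dvd_add_left (Int.dvd_mul_right _ _)] using this
  induction hn : (cf2 y y).toNat using Nat.strong_induction_on generalizing y w with
  | _ n ih =>
    by_cases hy : ∀ r, y ⬝ᵥ wt r ≤ 1
    · rw [eq_zero_of_minuscule hy, smul_zero, add_zero] at h
      exact WS_mono (fun r (hr : _ = _) => show m ∣ _ from hr ▸ dvd_zero m) (mem_WS_of_fix hw h)
    push Not at hy
    obtain ⟨r, hr⟩ := hy
    have h1 := clin_dot' (W_le_RA hw) v r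
    have h2 := hv (w⁻¹ r)
    have h3 := hv (ng r)
    rw [h, add_dotProduct, smul_dotProduct, smul_eq_mul] at h1
    rw [wt_ng, dotProduct_neg] at h3
    have h4 : y ⬝ᵥ wt r = 2 := by nlinarith
    have h5 : v ⬝ᵥ wt r = -m := by rw [h4] at h1; omega
    have h6 : refl r ∈ WS {r | m ∣ v ⬝ᵥ wt r} := refl_mem_WS (show m ∣ _ by rw [h5]; simp)
    have h7 := cf2_sub y r 1
    have h8 := cf2_pos (cor_ne_zero r)
    have h9 : 0 ≤ cf2 (y - (1 : ℤ) • cor r) (y - (1 : ℤ) • cor r) := Finset.sum_nonneg fun _ _ => mul_self_nonneg _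
    refine (Subgroup.mul_mem_cancel_left _ h6).1 (ih _ ?_ (mul_mem (refl_mem r) hw) (y := y - (1 : ℤ) • cor r) ?_ rfl)
    · rw [h4] at h7; omega
    · rw [clin_mul (refl_mem_RA r) (W_le_RA hw), clin_refl, h, add_dotProduct, smul_dotProduct, h4, h5]; module

theorem exists_regular : ∃ ρ : Nd D → ℤ, ∀ r, Pos r → 0 < ρ ⬝ᵥ wt r := by
  refine ⟨∑ s ∈ Finset.univ.filter Pos, cor s, fun r hr => ?_⟩
  have : ∀ i : Nd D, (∑ s ∈ Finset.univ.filter Pos, cor s) ⬝ᵥ wt (sim i) = 2 := fun i => by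
    rw [sum_dotProduct, ← Finset.add_sum_erase _ _ (a := sim i) (by simp [pos_sim]),
      Finset.sum_involution (fun s _ => sR i s) (fun s _ => ?_) (fun s _ h e => h ?_) (fun s hs => ?_) fun s _ => sR_sR i s]
    · exact (add_zero _).trans (pr_self _)
    · rw [cor_sR, sub_dotProduct, smul_dotProduct]
      change pr _ _ + (pr _ _ - _ * pr _ _) = 0
      rw [pr_self]; ring
    · have := congrFun (cor_sR i s) i
      exact show pr s (sim i) = 0 by simpa [e, cor_sim, eq_sub_iff_add_eq] using this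
    · simp only [Finset.mem_erase, Finset.mem_filter, Finset.mem_univ, true_and] at hs ⊢
      refine ⟨fun e => ?_, hs.2.sR_pos hs.1⟩
      rw [← sR_sR i s, e, sR_sim, pos_ng] at hs
      exact hs.2 (pos_sim i)
  rw [dot_wt]
  simpa [this, ← Finset.sum_mul, ht] using hr.ht_pos

theorem eq_one_of_dvd {v y : Nd D → ℤ} {m : ℤ} (hm : 0 < m) {w : Perm (Rt D)} (hw : w ∈ W D)
    (h : clin w v = v + m • y) (hp : ∀ r, m ∣ v ⬝ᵥ wt r → Pos r → Pos (w r)) : w = 1 := by
  obtain ⟨ρ, hρ⟩ := exists_regular (D := D)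
  have hz : ∀ g : Subgroup.zpowers w, g.1 ∈ RA D := fun g => Subgroup.zpowers_le.2 (W_le_RA hw) g.2
  have := Fintype.ofFinite (Subgroup.zpowers w)
  let ρ' := ∑ g : Subgroup.zpowers w, clin (g⁻¹).1 ρ
  have h1 : clin w ρ' = ρ' := by
    rw [map_sum, ← Equiv.sum_comp (Equiv.mulRight ⟨w, Subgroup.mem_zpowers w⟩)]
    exact Finset.sum_congr rfl fun g _ => by rw [← clin_mul (W_le_RA hw) (hz _)]; simp
  have h2 : ∀ r, m ∣ v ⬝ᵥ wt r → Pos r → 0 < ρ' ⬝ᵥ wt r := fun r h1 h2 => by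
    rw [sum_dotProduct]
    refine Finset.sum_pos (fun g _ => ?_) Finset.univ_nonempty
    obtain ⟨g, k, rfl⟩ := g
    obtain ⟨n, e⟩ := mem_powers_iff_mem_zpowers.2 (⟨k, rfl⟩ : w ^ k ∈ Subgroup.zpowers w)
    rw [clin_dot' (hz _)]
    refine hρ _ (show Pos ((w ^ k)⁻¹⁻¹ r) from inv_inv (w ^ k) ▸ (show w ^ n = _ from e) ▸ (?_ : m ∣ v ⬝ᵥ wt ((w ^ n) r) ∧ _).2)
    clear e
    induction n with
    | zero => exact ⟨h1, h2⟩
    | succ n ih =>
      rw [pow_succ', Perm.mul_apply]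
      refine ⟨?_, hp _ ih.1 ih.2⟩
      have := clin_dot (W_le_RA hw) v ((w ^ n) r)
      rw [h, add_dotProduct, smul_dotProduct] at this
      exact (Int.dvd_add_left (Int.dvd_mul_right _ _)).1 (this ▸ ih.1)
  let M := ∑ r, |ρ' ⬝ᵥ wt r| + 1
  have hM : ∀ r, |ρ' ⬝ᵥ wt r| < M := fun r => Int.lt_add_one_iff.2
    (Finset.single_le_sum (f := fun r => |ρ' ⬝ᵥ wt r|) (fun _ _ => abs_nonneg _) (Finset.mem_univ r))
  have h0 : 0 < M := Int.lt_add_one_iff.2 (Finset.sum_nonneg fun _ _ => abs_nonneg _)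
  have h3 := mem_WS_of_dvd (v := M • v + ρ') (y := y) (mul_pos h0 hm) hw (by rw [map_add, map_smul, h, h1]; module)
  rw [Set.eq_empty_of_forall_notMem (s := {r | _}) fun r hr => ?_] at h3
  · simpa [WS] using h3
  rw [Set.mem_ofPred_eq, add_dotProduct, smul_dotProduct, smul_eq_mul] at hr
  have h4 := Int.eq_zero_of_abs_lt_dvd ((Int.dvd_add_right (Int.dvd_mul_right _ _)).1 (dvd_of_mul_right_dvd hr)) (hM r)
  rw [h4, add_zero, mul_dvd_mul_iff_left h0.ne'] at hr
  by_cases hr' : Pos r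
  · exact (h2 r hr hr').ne' h4
  · exact (h2 (ng r) (by simpa using hr) ((pos_ng r).2 hr')).ne' (by simp [h4])

end CA.Chev
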