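/-
Semisimple elements of Chevalley groups over the algebraic closure of a finite field.
-/
import Cfsg.Agent.Lib.Lie.LangTor
import Cfsg.Agent.Lib.Lie.Lang2
import Cfsg.Agent.Lib.Lie.SSW

set_option autoImplicit false

namespace CA.Chev

open Matrix Equiv Cfsg.Lie Cfsg.Lie.ChevalleyDatum CA.Lang

theorem exists_fixed_perm {Y : Type*} [Finite Y] {a b : Perm Y} (hc : Commute a b) {r k N : ℕ} (hr : r.Prime) (ha : a ^ r = 1)
    (hb : b ^ r ^ (k + 1) = 1) (h1 : Nat.card Y ≡ N [MOD r ^ (k + 2)])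
    (h2 : ∀ i, Nat.card {y // (a ^ i * b ^ r ^ k) y = y} ≡ N [MOD r ^ (k + 2)]) (hN : ¬ r ^ (k + 2) ∣ N * (r - 1)) :
    ∃ y, a y = y := by
  classical
  by_contra! h
  have := Fact.mk hr
  have h0 : ∀ (i : ℕ) y, (a ^ i) y = y → (i : ZMod r) = 0 := fun i y e => by
    by_contra hi
    rw [ZMod.natCast_eq_zero_iff, ← hr.coprime_iff_not_dvd] at hi
    obtain ⟨m, hm⟩ := Nat.exists_mul_mod_eq_one_of_coprime hi.symm hr.one_lt
    exact h y (by rw [← pow_one a, ← hm.2, ← pow_eq_pow_mod _ ha, pow_mul]; exact Perm.pow_apply_eq_self_of_apply_eq_self e m)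
  let M := Multiplicative (ZMod r × ZMod (r ^ (k + 1)))
  let φ : M →* Perm Y := MonoidHom.mk' (fun z => a ^ z.toAdd.1.val * b ^ z.toAdd.2.val) fun z z' => by
    rw [toAdd_mul, Prod.fst_add, Prod.snd_add, ZMod.val_add, ZMod.val_add, ← pow_eq_pow_mod _ ha,
      ← pow_eq_pow_mod _ hb, pow_add a, pow_add b]
    exact (hc.pow_pow _ _).mul_mul_mul_comm _ _
  let := MulAction.compHom Y φ
  let S : SubMulAction M Y := ⟨{y | MulAction.stabilizer M y = ⊥}, fun g y (hy : _ = _) => by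
    change _ = _
    rw [MulAction.stabilizer_smul_eq_stabilizer_map_conj, hy, Subgroup.map_bot]⟩
  have h3 := Nat.card_congr (MulAction.selfEquivOrbitsQuotientProd (G := M) (X := S) fun y =>
    (SubMulAction.stabilizer_of_subMul y).trans y.2)
  have hS : ∀ y, y ∉ S ↔ ∃ i : ZMod r, (a ^ i.val * b ^ r ^ k) y = y := fun y => by
    refine ⟨fun hy => ?_, fun ⟨i, hi⟩ (e : _ = _) => ?_⟩
    · obtain ⟨⟨z, hz0⟩, hz⟩ := Subgroup.ne_bot_iff_exists_ne_one.1 hy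
      have hj : z.toAdd.2 ≠ 0 := fun e => hz (Subtype.ext (Prod.ext (by
        have : (a ^ _ * b ^ ZMod.val _) _ = _ := hz0
        rw [e, ZMod.val_zero, pow_zero, mul_one] at this
        exact (ZMod.natCast_zmod_val _).symm.trans (h0 _ _ this)) e))
      obtain ⟨u, hu⟩ : ∃ u : ℕ, u • z.toAdd.2 = (r ^ k : ℕ) := by
        obtain ⟨v, hv, e⟩ := (Nat.dvd_prime_pow hr).1 (Nat.gcd_dvd_right z.toAdd.2.val (r ^ (k + 1)))
        have hv' : v ≤ k := by
          by_contra hv'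
          exact hj ((ZMod.natCast_zmod_val _).symm.trans ((ZMod.natCast_eq_zero_iff _ _).2
            ((pow_dvd_pow r (by omega)).trans (e.symm.dvd.trans (Nat.gcd_dvd_left _ _)))))
        have e2 := congrArg (Int.cast : ℤ → ZMod (r ^ (k + 1))) (Nat.gcd_eq_gcd_ab z.toAdd.2.val (r ^ (k + 1)))
        rw [e, Int.cast_add, Int.cast_mul, Int.cast_mul, Int.cast_natCast, Int.cast_natCast, Int.cast_natCast,
          ZMod.natCast_zmod_val, ZMod.natCast_self, zero_mul, add_zero] at e2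
        exact ⟨((r ^ (k - v) : ℕ) * (Nat.gcdA z.toAdd.2.val (r ^ (k + 1)) : ZMod (r ^ (k + 1)))).val, by
          rw [nsmul_eq_mul, ZMod.natCast_zmod_val, mul_assoc, mul_comm _ z.toAdd.2, ← e2, ← Nat.cast_mul, ← pow_add,
            Nat.sub_add_cancel hv']⟩
      have : (a ^ _ * b ^ ZMod.val _) _ = _ := pow_mem hz0 u
      rw [toAdd_pow, Prod.smul_snd, hu, ZMod.val_natCast, ← pow_eq_pow_mod _ hb] at this
      exact ⟨_, this⟩
    · have : (Multiplicative.ofAdd (i, (r ^ k : ℕ)) : M) ∈ MulAction.stabilizer M y := by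
        change (a ^ _ * b ^ ZMod.val _) _ = _
        rw [toAdd_ofAdd, ZMod.val_natCast, ← pow_eq_pow_mod _ hb]; exact hi
      rw [e, Subgroup.mem_bot] at this
      have := (ZMod.natCast_eq_zero_iff _ _).1 (congrArg (fun z : M => z.toAdd.2) this)
      exact (Nat.le_of_dvd (pow_pos hr.pos k) this).not_gt (Nat.pow_lt_pow_right hr.one_lt k.lt_succ_self)
  have h4 : Nat.card (Σ i : ZMod r, {y // (a ^ i.val * b ^ r ^ k) y = y}) = Nat.card {y // y ∉ S} := by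
    refine Nat.card_congr (Equiv.ofBijective (fun p => ⟨p.2.1, (hS _).2 ⟨p.1, p.2.2⟩⟩)
      ⟨?_, fun y => let ⟨i, hi⟩ := (hS _).1 y.2; ⟨⟨i, y, hi⟩, rfl⟩⟩)
    rintro ⟨i, y, hy⟩ ⟨j, y', hy'⟩ e
    obtain rfl : y = y' := congrArg Subtype.val e
    obtain rfl : i = j := by
      have := h0 (i.val + (r - 1) * j.val) ((b ^ r ^ k) y) (by
        apply (a ^ j.val).injective
        rw [← Perm.mul_apply, ← pow_add, show j.val + (i.val + (r - 1) * j.val) = i.val + r * j.val by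
          zify [hr.one_lt.le]; ring, pow_add, pow_mul, ha, one_pow, mul_one]
        exact hy.trans hy'.symm)
      simpa [hr.one_lt.le, ← sub_eq_add_neg, sub_eq_zero] using this
    rfl
  have h5 : Nat.card S + Nat.card {y // y ∉ S} = Nat.card Y := by
    rw [← Nat.card_sum]; exact Nat.card_congr (Equiv.sumCompl (· ∈ S))
  rw [← h4, h3, Nat.card_sigma, Nat.card_prod, Nat.card_congr (Multiplicative.toAdd : M ≃ _), Nat.card_prod, Nat.card_zmod,
    Nat.card_zmod, ← pow_succ'] at h5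
  have h6 : ∑ i : ZMod r, Nat.card {y // (a ^ i.val * b ^ r ^ k) y = y} ≡ ∑ i : ZMod r, N [MOD r ^ (k + 2)] :=
    Nat.ModEq.sum fun i _ => h2 _
  rw [Finset.sum_const, Finset.card_univ, ZMod.card, smul_eq_mul] at h6
  have h7 := (h5 ▸ h1 : _ + _ ≡ _ [MOD _])
  rw [Nat.ModEq, Nat.mul_add_mod_self_right] at h7
  refine hN ?_
  rw [Nat.mul_sub_one, mul_comm]
  exact (Nat.modEq_iff_dvd' (Nat.le_mul_of_pos_left _ hr.pos)).1 (h7.symm.trans h6)

theorem exists_fixed_fun {X : Type*} {a b : X → X} (hc : Function.Commute a b) {r k N : ℕ} (hr : r.Prime)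
    (ha : ∀ x, a^[r] x = x) [Finite {x // b^[r ^ (k + 1)] x = x}]
    (h1 : Nat.card {x // b^[r ^ (k + 1)] x = x} ≡ N [MOD r ^ (k + 2)])
    (h2 : ∀ i, Nat.card {x // a^[i] (b^[r ^ k] x) = x} ≡ N [MOD r ^ (k + 2)]) (hN : ¬ r ^ (k + 2) ∣ N * (r - 1)) :
    ∃ x, a x = x := by
  have key : ∀ (f : X → X) (n : ℕ), 0 < n → Function.Commute f b → (∀ x, b^[r ^ (k + 1)] x = x → f^[n] x = x) →
      ∃ e : Perm {x // b^[r ^ (k + 1)] x = x}, e ^ n = 1 ∧ ∀ i x, ((e ^ i) x).1 = f^[i] x := fun f n hn hf h => by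
    let g : {x // b^[r ^ (k + 1)] x = x} → {x // b^[r ^ (k + 1)] x = x} := fun x =>
      ⟨f x, (hf.iterate_right _ _).symm.trans (congrArg f x.2)⟩
    have e : ∀ i x, (g^[i] x).1 = f^[i] x := fun i => (show Function.Semiconj Subtype.val g f from fun _ => rfl).iterate_right i
    have e1 : ∀ x, g^[n] x = x := fun x => Subtype.ext ((e n x).trans (h _ x.2))
    obtain ⟨n, rfl⟩ := Nat.exists_eq_succ_of_ne_zero hn.ne'
    refine ⟨Equiv.ofBijective g (Finite.injective_iff_bijective.1 (Function.LeftInverse.injective e1)), Equiv.ext fun x => ?_, fun i x => ?_⟩ <;> rw [Perm.coe_pow]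
    exacts [e1 x, e i x]
  obtain ⟨a', ha1, ha2⟩ := key a r hr.pos hc fun x _ => ha x
  obtain ⟨b', hb1, hb2⟩ := key b _ (pow_pos hr.pos _) (fun _ => rfl) fun x h => h
  have ha3 : ∀ x, (a' x).1 = a x := by simpa using ha2 1
  have hb3 : ∀ x, (b' x).1 = b x := by simpa using hb2 1
  have h4 : ∀ i x, a^[i] (b^[r ^ k] x) = x → b^[r ^ (k + 1)] x = x := fun i x h => by
    have := Function.iterate_fixed (f := a^[i] ∘ b^[r ^ k]) h r
    rwa [(hc.iterate_iterate _ _).comp_iterate, Function.comp_apply, ← Function.iterate_mul, ← Function.iterate_mul,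
      mul_comm i, Function.iterate_mul, Function.iterate_fixed (ha _), ← pow_succ] at this
  obtain ⟨y, hy⟩ := exists_fixed_perm (a := a') (b := b') (Equiv.ext fun x => Subtype.ext (by
    simp only [Perm.mul_apply, ha3, hb3, hc.eq])) hr ha1 hb1 h1 (fun i => (congrArg (· % _) (Nat.card_congr
      ((Equiv.subtypeEquivRight fun y => by rw [Subtype.ext_iff, Perm.mul_apply, ha2, hb2]).trans
      (Equiv.subtypeSubtypeEquivSubtype (h4 i _))))).trans (h2 i)) hN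
  exact ⟨y, (ha3 y).symm.trans (congrArg _ hy)⟩

variable {D : ChevalleyDatum} [Good D] {K : Type*} [Field K] {Γ : Type*} [Group Γ]

/-- the roots vanishing on an element of the torus -/
def Psi (c : Nd D → Kˣ) : Set (Rt D) := {r | tor c (rt r) = 1}

theorem Nil.psi {S : Set (Rt D)} (hS : Nil S) (c : Nd D → Kˣ) : Nil (S ∩ Psi c) :=
  hS.mono Set.inter_subset_left fun r hr s hs k h => ⟨hS.2 r hr.1 s hs.1 k h, by
    obtain ⟨i, j, -, -, e⟩ := h
    change tor c (rt k) = 1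
    rw [e, AddChar.map_add_eq_mul, natCast_zsmul, natCast_zsmul, AddChar.map_nsmul_eq_pow, AddChar.map_nsmul_eq_pow,
      hr.2, hs.2]; simp⟩

theorem ng_mem_Psi {c : Nd D → Kˣ} {r : Rt D} (h : r ∈ Psi c) : ng r ∈ Psi c := by
  change tor c (rt _) = 1
  rw [rt_ng, AddChar.map_neg_eq_inv, show tor c (rt r) = 1 from h, inv_one]

theorem tor_zpow (ζ : Kˣ) (v : Nd D → ℤ) (r : Rt D) : tor (fun j => ζ ^ v j) (rt r) = (ζ ^ (v ⬝ᵥ wt r) : Kˣ) := by
  simp [tor_rt, dotProduct, zpow_sum', _root_.zpow_mul]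

theorem mact_zpow (ζ : Kˣ) (v : Nd D → ℤ) (w : Perm (Rt D)) : mact (wM w) (fun j => ζ ^ v j) = fun j => ζ ^ clin w v j := by
  funext j
  simp [mact_apply, wM, clin, Fintype.linearCombination_apply, zpow_sum', _root_.zpow_mul]

omit [Good D] in
theorem exists_zpow {c : Nd D → Kˣ} (hc : IsOfFinOrder c) : ∃ ζ : Kˣ, ∃ v : Nd D → ℤ, IsOfFinOrder ζ ∧ c = fun j => ζ ^ v j := by
  have : NeZero (orderOf c) := ⟨hc.orderOf_pos.ne'⟩
  obtain ⟨g, hg⟩ := IsCyclic.exists_generator (α := rootsOfUnity (orderOf c) K)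
  choose v hv using fun j => hg ⟨c j, congrFun (pow_orderOf_eq_one c) j⟩
  exact ⟨g, v, isOfFinOrder_iff_pow_eq_one.2 ⟨_, hc.orderOf_pos, g.2⟩, funext fun j => (congrArg Subtype.val (hv j)).symm⟩

theorem stab_Psi {c : Nd D → Kˣ} (hc : IsOfFinOrder c) {w : Perm (Rt D)} (hw : w ∈ W D) (h : mact (wM w) c = c) :
    w ∈ WS (Psi c) ∧ ((∀ r ∈ Psi c, Pos r → Pos (w r)) → w = 1) := by
  obtain ⟨ζ, v, hζ, rfl⟩ := exists_zpow hc
  rw [mact_zpow] at h
  choose y hy using fun j => zpow_eq_zpow_iff_modEq.1 (congrFun h j).symm |>.dvd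
  have e : Psi (fun j => ζ ^ v j) = {r | (orderOf ζ : ℤ) ∣ v ⬝ᵥ wt r} := Set.ext fun r => by
    rw [Psi, Set.mem_ofPred_eq, tor_zpow, Units.val_eq_one]; exact orderOf_dvd_iff_zpow_eq_one.symm
  have e1 : clin w v = v + (orderOf ζ : ℤ) • y := funext fun j => eq_add_of_sub_eq' (hy j)
  rw [e]
  exact ⟨mem_WS_of_dvd (by exact_mod_cast hζ.orderOf_pos) hw e1, eq_one_of_dvd (by exact_mod_cast hζ.orderOf_pos) hw e1⟩

namespace Sys
open Sys0
variable {A : Sys D K Γ} (h3 : A.R3)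

theorem R3.comm_iff {S : Set (Rt D)} (hS : Nil S) (c : Nd D → Kˣ) {y : Γ} :
    y ∈ A.X (S ∩ Psi c) ↔ y ∈ A.X S ∧ h3.torH c * y * (h3.torH c)⁻¹ = y := by
  refine ⟨fun h => ⟨A.X_mono Set.inter_subset_left h, A.X_induction (P := fun y => _ * y * _ = y) (by simp)
    (fun r hr t g _ ih => by rw [← conj_mul, ih, h3.torH_conj, hr.2, one_mul]) h⟩, fun ⟨hy, e⟩ => ?_⟩
  obtain ⟨L, h1, h2⟩ := Sys0.exists_list S
  obtain ⟨t, rfl⟩ := A.exists_P hS h1 h2 hy
  rw [A.H_conj_P (h3.torH_conj c)] at e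
  exact A.P_mem fun r hr h => (mul_left_eq_self₀.1 (A.P_unique hS h1 (fun r => (h2 r).1) e r hr)).resolve_left
    fun e => h ⟨(h2 r).1 hr, e⟩

theorem R3.torH_mem (c : Nd D → Kˣ) : h3.torH c ∈ A.H := h3.torH_range.le ⟨c, rfl⟩

theorem R3.cent_decomp (hi : Function.Injective h3.torH) {c : Nd D → Kˣ} {y : Γ} (hy : y ∈ A.G)
    (e : h3.torH c * y * (h3.torH c)⁻¹ = y) : ∃ v ∈ A.X ({r | Pos r} ∩ Psi c), ∃ m ∈ A.N, ∃ w, A.Act m w ∧
      mact (wM w) c = c ∧ ∃ u ∈ A.X (invs w ∩ Psi c), y = v * m * u := by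
  have hs := h3.torH_mem c
  obtain ⟨b, hb, m, hm, w, hw, u, hu, rfl⟩ := A.bruhat_canon hy
  obtain ⟨v, hv, k, hk, rfl⟩ := A.mem_B.1 hb
  set s := h3.torH c
  have hk' : k * (s * (m * s⁻¹ * m⁻¹)) ∈ A.H := mul_mem hk (mul_mem hs (A.conj_H hm (inv_mem hs)))
  obtain ⟨e1, e2⟩ := A.canon_unique (mul_mem (A.U_le_B (A.H_conj_X hs hv)) (A.H_le_B hk')) hb hw (A.H_conj_X hs hu) hu
    (by rw [← e, show s * (v * k * m * u) * s⁻¹ = s * v * s⁻¹ * (s * k) * m * u * s⁻¹ by group, h3.H_comm s hs k hk]; group)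
  obtain ⟨e3, e4⟩ := A.UH_unique (A.H_conj_X hs hv) hv hk' hk e1
  refine ⟨v, (h3.comm_iff nil_pos c).2 ⟨hv, e3⟩, k * m, mul_mem (A.H_le_N hk) hm, w, by simpa using (A.act_H hk).mul hw,
    hi ?_, u, (h3.comm_iff (nil_invs hw.ra) c).2 ⟨hu, e2⟩, by group⟩
  rw [← h3.conj_torH hw, mul_eq_left] at *
  exact (show m * s * m⁻¹ = s * (m * s⁻¹ * m⁻¹) * (m * s * m⁻¹) by rw [e4, one_mul]).trans (show _ = s by group)

theorem exists_N_X {S : Set (Rt D)} (hS : ∀ r ∈ S, ng r ∈ S) {w : Perm (Rt D)} (hw : w ∈ WS S) :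
    ∃ m ∈ A.N, m ∈ A.X S ∧ A.Act m w := by
  induction hw using Subgroup.closure_induction with
  | mem w hw => obtain ⟨r, hr, rfl⟩ := hw; exact ⟨_, A.n_mem r 1, A.n_mem_X hr (hS r hr) 1, A.act_n r 1⟩
  | one => exact ⟨1, one_mem _, one_mem _, .one⟩
  | mul _ _ _ _ h h' =>
    obtain ⟨m, a, b, c⟩ := h
    obtain ⟨m', a', b', c'⟩ := h'
    exact ⟨_, mul_mem a a', mul_mem b b', c.mul c'⟩
  | inv _ _ h => obtain ⟨m, a, b, c⟩ := h; exact ⟨_, inv_mem a, inv_mem b, c.inv⟩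

theorem R3.cent_eq (hG : A.G = ⊤) (hi : Function.Injective h3.torH) {c : Nd D → Kˣ} (hc : IsOfFinOrder c) :
    Subgroup.centralizer {h3.torH c} = A.X (Psi c) ⊔ A.H := by
  refine le_antisymm (fun y hy => ?_) (sup_le (A.X_le.2 fun r hr t => ?_) fun y hy => ?_)
  · obtain ⟨v, hv, m, hm, w, hw, e, u, hu, rfl⟩ := h3.cent_decomp hi (hG ▸ trivial)
      (mul_inv_eq_iff_eq_mul.2 (Subgroup.mem_centralizer_singleton_iff.1 hy).symm)
    obtain ⟨m', h1, h2, h4⟩ := exists_N_X (A := A) (fun _ => ng_mem_Psi) (stab_Psi hc hw.1 e).1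
    refine mul_mem (mul_mem ?_ ?_) ?_
    exacts [Subgroup.mem_sup_left (A.X_mono Set.inter_subset_right hv), mul_inv_cancel_left m' m ▸ mul_mem
      (Subgroup.mem_sup_left h2) (Subgroup.mem_sup_right (A.mem_H_of_act_eq h1 hm h4 hw)),
      Subgroup.mem_sup_left (A.X_mono Set.inter_subset_right hu)]
  · rw [Subgroup.mem_centralizer_singleton_iff, eq_comm, ← mul_inv_eq_iff_eq_mul, h3.torH_conj, hr, one_mul]
  · exact Subgroup.mem_centralizer_singleton_iff.2 (h3.H_comm _ hy _ (h3.torH_mem c))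

theorem card_fixX {β : K →+* K} {ψ : Γ →* Γ} (hψ : ∀ r t, ψ (A.x r t) = A.x r (β t)) {S : Set (Rt D)} (hS : Nil S) :
    Nat.card {u // u ∈ A.X S ∧ ψ u = u} = Nat.card {t // β t = t} ^ S.ncard := by
  classical
  obtain ⟨L, h1, h2⟩ := exists_list S
  have k : ∀ t, ψ (A.P L t) = A.P L fun r => β (t r) := fun t => by
    simp only [Sys0.P, map_list_prod, List.map_map, Function.comp_def, hψ]
  let e : (S → {t // β t = t}) → {u // u ∈ A.X S ∧ ψ u = u} := fun t =>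
    ⟨A.P L fun r => if h : r ∈ S then t ⟨r, h⟩ else 0, A.P_mem fun r _ hn => dif_neg hn, by
      rw [k]; exact A.P_congr fun r hr => by simp [(h2 r).1 hr, (t _).2]⟩
  have he : Function.Bijective e := by
    refine ⟨fun t t' h => funext fun r => ?_, fun g => ?_⟩
    · have := A.P_unique hS h1 (fun r hr => (h2 r).1 hr) (congrArg Subtype.val h) r ((h2 r).2 r.2)
      simpa [Subtype.ext_iff] using this
    · obtain ⟨t, ht⟩ := A.exists_P hS h1 h2 g.2.1
      have := A.P_unique hS h1 (fun r hr => (h2 r).1 hr) ((k t).symm.trans (ht ▸ g.2.2))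
      exact ⟨fun r => ⟨t r, this r ((h2 r).2 r.2)⟩, Subtype.ext (by
        rw [ht]; exact A.P_congr fun r hr => by simp [(h2 r).1 hr])⟩
  rw [← Nat.card_congr (Equiv.ofBijective e he), Nat.card_fun, Nat.card_coe_set_eq]

theorem map_nw {β : K →+* K} {ψ : Γ →* Γ} (hψ : ∀ r t, ψ (A.x r t) = A.x r (β t)) (L : List (Nd D)) :
    ψ (A.nw L) = A.nw L := by
  induction L with
  | nil => simp
  | cons i L ih => simp [ih, n_def, hψ]

/-- the number of fixed points on the flag variety of a centraliser -/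
theorem R3.card_cells (hG : A.G = ⊤) (hi : Function.Injective h3.torH) (c : Nd D → Kˣ) {β : K →+* K} {ψ : Γ →* Γ}
    (hψ : ∀ r t, ψ (A.x r t) = A.x r (β t)) [Finite {t // β t = t}] {C : Subgroup Γ}
    (hC : C = Subgroup.centralizer {h3.torH c}) {f : C ⧸ A.B.subgroupOf C → C ⧸ A.B.subgroupOf C}
    (hf : ∀ y : C, ∃ y' : C, y'.1 = ψ y ∧ f y = y') : Nat.card {x // f x = x} =
      ∑ᶠ w : {w // w ∈ W D ∧ mact (wM w) c = c}, Nat.card {t // β t = t} ^ (↑(invs w.1) ∩ Psi c).ncard := by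
  classical
  have := Fintype.ofFinite {w // w ∈ W D ∧ mact (wM w) c = c}
  choose L hL using fun w : {w // w ∈ W D ∧ mact (wM w) c = c} => exists_wd w.2.1
  have hw : ∀ w, A.Act (A.nw (L w)) w.1 := fun w => hL w ▸ A.act_nw _
  have hn : ∀ w : {w // w ∈ W D ∧ mact (wM w) c = c}, Nil (invs w.1 : Set (Rt D)) := fun w => nil_invs (W_le_RA w.2.1)
  have hc := fun w => card_fixX hψ ((hn w).psi c)
  have : ∀ w : {w // w ∈ W D ∧ mact (wM w) c = c}, Finite {u // u ∈ A.X (invs w.1 ∩ Psi c) ∧ ψ u = u} := fun w =>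
    Nat.finite_of_card_ne_zero (by rw [hc]; exact pow_ne_zero _ (Nat.card_ne_zero.2 ⟨⟨⟨0, map_zero β⟩⟩, inferInstance⟩))
  have hm : ∀ w u, u ∈ A.X (invs w.1 ∩ Psi c) → (A.nw (L w) * u)⁻¹ ∈ C := fun w u hu => by
    rw [hC, inv_mem_iff, Subgroup.mem_centralizer_singleton_iff, mul_assoc,
      ← mul_inv_eq_iff_eq_mul.1 ((h3.comm_iff (hn w) c).1 hu).2, ← mul_assoc, ← mul_assoc,
      mul_inv_eq_iff_eq_mul.1 (h3.conj_torH (hw w) c), w.2.2]
  have hU : ∀ w : Perm (Rt D), A.X (invs w ∩ Psi c) ≤ A.B := fun w =>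
    (A.X_mono fun r hr => (mem_invs.1 hr.1).1).trans A.U_le_B
  have key : ∀ w w' u u' hu hu', (((⟨_, hm w u hu⟩ : C) : C ⧸ A.B.subgroupOf C) = (⟨_, hm w' u' hu'⟩ : C)) →
      w = w' ∧ u = u' := fun w w' u u' hu hu' e => by
    have e : A.nw (L w) * u * (A.nw (L w') * u')⁻¹ ∈ A.B := by simpa [Subgroup.mem_subgroupOf] using QuotientGroup.eq.1 e
    obtain rfl : w = w' := Subtype.ext (A.bruhat_unique (inv_mem e) (mul_mem (hU _ hu) (inv_mem (hU _ hu')))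
      (A.nw_mem _) (hw w) (hw w') (by group))
    exact ⟨rfl, (A.canon_unique (one_mem _) e (hw w) (A.X_mono Set.inter_subset_left hu)
      (A.X_mono Set.inter_subset_left hu') (by group)).2⟩
  have hτ := (fieldTwist β ψ hψ).is
  have hf' : ∀ w u hu, f (⟨_, hm w u hu⟩ : C) = (⟨_, hm w (ψ u) (hτ.mem_X (fun _ h => h) hu)⟩ : C) := fun w u hu => by
    obtain ⟨y', h1, h2⟩ := hf ⟨_, hm w u hu⟩
    rw [h2]; congr 1; exact Subtype.ext (by rw [h1, map_inv, map_mul, map_nw hψ])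
  rw [finsum_eq_sum_of_fintype, ← Finset.sum_congr rfl fun w _ => hc w, ← Nat.card_sigma]
  refine (Nat.card_congr (Equiv.ofBijective (fun p => ⟨(⟨_, hm p.1 p.2.1 p.2.2.1⟩ : C), by
    rw [hf' _ _ p.2.2.1]; congr 4; exact p.2.2.2⟩) ⟨?_, ?_⟩)).symm
  · rintro ⟨w, u⟩ ⟨w', u'⟩ e
    obtain ⟨rfl, h⟩ := key w w' u u' u.2.1 u'.2.1 (congrArg Subtype.val e)
    exact congrArg (Sigma.mk _) (Subtype.ext h)
  · rintro ⟨x, hx⟩
    obtain ⟨⟨y, hy⟩, rfl⟩ := QuotientGroup.mk_surjective x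
    obtain ⟨v, hv, m, hm', w, hw', e, u, hu, e1⟩ := h3.cent_decomp hi (y := y⁻¹) (hG ▸ trivial)
      (mul_inv_eq_iff_eq_mul.2 (Subgroup.mem_centralizer_singleton_iff.1 (hC ▸ inv_mem hy)).symm)
    have e2 : ((⟨_, hm ⟨w, hw'.1, e⟩ u hu⟩ : C) : C ⧸ A.B.subgroupOf C) = (⟨y, hy⟩ : C) := by
      refine (QuotientGroup.eq.2 (Subgroup.mem_subgroupOf.2 ?_)).symm
      have := A.mem_H_of_act_eq (inv_mem hm') (inv_mem (A.nw_mem _)) hw'.inv (hw ⟨w, hw'.1, e⟩).inv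
      change y⁻¹ * (A.nw _ * u)⁻¹ ∈ A.B
      rw [e1]
      convert mul_mem (A.U_le_B (A.X_mono Set.inter_subset_left hv)) (A.H_le_B this) using 1
      group
    have hx' : f (⟨y, hy⟩ : C) = (⟨y, hy⟩ : C) := hx
    rw [← e2, hf' ⟨w, hw'.1, e⟩ u hu] at hx'
    have e3 : ψ u = u := (key ⟨w, hw'.1, e⟩ ⟨w, hw'.1, e⟩ (ψ u) u (hτ.mem_X (fun _ h => h) hu) hu hx').2
    exact ⟨⟨⟨w, hw'.1, e⟩, u, hu, e3⟩, Subtype.ext e2⟩

omit [Good D] [Field K] in
theorem End_mul (f g : Monoid.End Γ) (x : Γ) : (f * g) x = f (g x) := rfl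

variable (A) in
/-- Frobenius maps -/
def IsFr (ψ : Monoid.End Γ) (Q : ℕ) : Prop := ∀ r t, ψ (A.x r t) = A.x r (t ^ Q)

theorem IsFr.pow {ψ : Monoid.End Γ} {Q : ℕ} (h : A.IsFr ψ Q) (j : ℕ) : A.IsFr (ψ ^ j) (Q ^ j) := fun r t => by
  induction j with
  | zero => simp
  | succ j ih => rw [pow_succ', Monoid.End.coe_mul, Function.comp_apply, ih, h, ← pow_mul, pow_succ]

variable (A) in
/-- Steinberg endomorphisms -/
structure Frob (p : ℕ) (σ : Monoid.End Γ) : Prop where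
  x : ∀ r, ∃ r' c, ∃ e : ℕ, ∀ t, σ (A.x r t) = A.x r' (c * t ^ e)
  H : ∀ g ∈ A.H, σ g ∈ A.H
  N : ∀ g ∈ A.N, σ g ∈ A.N
  pow : ∃ m k, 0 < m ∧ 0 < k ∧ A.IsFr (σ ^ m) (p ^ k)

variable (A) in
/-- simply connected groups over the algebraic closure of a finite field -/
structure SC (p : ℕ) : Prop where
  h3 : A.R3
  G : A.G = ⊤
  inj : Function.Injective h3.torH
  fin : ∀ t : K, ∃ n, 0 < n ∧ t ^ p ^ n = t

variable {p : ℕ} [Fact p.Prime] [CharP K p]

theorem IsFr.frob {ψ : Monoid.End Γ} {k : ℕ} (h : A.IsFr ψ (p ^ k)) (hk : 0 < k) : A.Frob p ψ :=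
  ⟨fun r => ⟨r, 1, _, fun t => by rw [h, one_mul]⟩, fun _ => (fieldTwist (iterateFrobenius K p k) ψ h).is.mem_H,
    fun _ => (fieldTwist (iterateFrobenius K p k) ψ h).is.mem_N, 1, k, one_pos, hk, (pow_one ψ).symm ▸ h⟩

theorem IsFr.torH {ψ : Monoid.End Γ} {k : ℕ} (h : A.IsFr ψ (p ^ k)) (c : Nd D → Kˣ) :
    ψ (h3.torH c) = h3.torH c ^ p ^ k :=
  ((fieldTwist (iterateFrobenius K p k) ψ h).σ_torH h3 c).trans ((congrArg _ (funext fun i =>
    ((fieldTwist (iterateFrobenius K p k) ψ h).σT_apply c i).trans (Units.ext rfl))).trans (map_pow _ c _))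

namespace SC
variable (S : A.SC p)
include S

omit [CharP K p] in
theorem finOrd (c : Nd D → Kˣ) : IsOfFinOrder c := IsOfFinOrder.pi fun i => by
  obtain ⟨n, hn, e⟩ := S.fin (c i)
  have := Nat.one_lt_pow hn.ne' (Fact.out : p.Prime).one_lt
  refine isOfFinOrder_iff_pow_eq_one.2 ⟨p ^ n - 1, by omega, mul_right_cancel (b := c i) (Units.ext ?_)⟩
  rw [← pow_succ, Nat.sub_add_cancel this.le]; simpa

omit [CharP K p] [Fact p.Prime] in
theorem exists_fix {ψ : Monoid.End Γ} {k : ℕ} (h : A.IsFr ψ (p ^ k)) (g : Γ) : ∃ j, 0 < j ∧ (ψ ^ j) g = g := by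
  refine A.X_induction (P := fun g => ∃ j, 0 < j ∧ (ψ ^ j) g = g) ⟨1, one_pos, map_one _⟩ (fun r _ t g _ ⟨j, hj, e⟩ => ?_)
    (show g ∈ A.G from S.G ▸ trivial)
  obtain ⟨n, hn, e'⟩ := S.fin t
  refine ⟨j * n, by positivity, ?_⟩
  rw [map_mul, h.pow, pow_mul ψ, Monoid.End.coe_pow, Function.iterate_fixed e, ← pow_mul, ← mul_assoc, mul_comm _ n,
    pow_mul, show t ^ _ = t from (congrFun (pow_iterate _ _) t).symm.trans
      (Function.iterate_fixed (f := fun x => x ^ p ^ n) e' _)]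

omit [CharP K p] in
theorem frob_conj {σ : Monoid.End Γ} (h : A.Frob p σ) {n : Γ} (hn : n ∈ A.N) :
    A.Frob p ((MulAut.conj n).toMonoidHom.comp σ) := by
  obtain ⟨w, hw⟩ := A.exists_act hn
  refine ⟨fun r => ?_, fun g hg => A.conj_H hn (h.H g hg), fun g hg => mul_mem (mul_mem hn (h.N g hg)) (inv_mem hn), ?_⟩
  · obtain ⟨r', c, e, h1⟩ := h.x r
    obtain ⟨c', h2⟩ := hw.conj_x r'
    exact ⟨_, c' * c, e, fun t => (congrArg (fun g => n * g * n⁻¹) (h1 t)).trans ((h2 _).trans (by rw [mul_assoc]))⟩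
  obtain ⟨m, k, hm, hk, h1⟩ := h.pow
  obtain ⟨j, hj, e⟩ := S.exists_fix h1 n
  set σ' : Monoid.End Γ := (MulAut.conj n).toMonoidHom.comp σ
  have h2 : ∀ i, ∃ a ∈ A.N, ((σ ^ m) ^ j) a = a ∧ ∀ g, (σ' ^ i) g = a * (σ ^ i) g * a⁻¹ := fun i => by
    induction i with
    | zero => exact ⟨1, one_mem _, map_one _, by simp⟩
    | succ i ih =>
      obtain ⟨a, h1, h2, h3⟩ := ih
      refine ⟨n * σ a, mul_mem hn (h.N a h1), ?_, fun g => ?_⟩
      · rw [map_mul, e, ← End_mul, (((Commute.refl σ).pow_left m).pow_left j).eq, End_mul, h2]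
      · rw [pow_succ', pow_succ', End_mul, End_mul, h3]
        exact show n * σ _ * n⁻¹ = _ by simp [mul_assoc]
  obtain ⟨a, ha, h3, h4⟩ := h2 (m * j)
  obtain ⟨u, hu⟩ := A.exists_act ha
  have h5 : ∀ i, A.Act (a ^ i) (u ^ i) := fun i => by
    induction i with
    | zero => simpa using Act.one
    | succ i ih => rw [pow_succ, pow_succ]; exact ih.mul hu
  obtain ⟨c, hc⟩ := S.h3.torH_range.ge (A.mem_H_of_act (pow_mem ha _) (pow_orderOf_eq_one u ▸ h5 (orderOf u)))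
  have h6 : ∀ i g, ((σ' ^ (m * j)) ^ i) g = a ^ i * (((σ ^ m) ^ j) ^ i) g * (a ^ i)⁻¹ := fun i g => by
    induction i with
    | zero => simp
    | succ i ih =>
      rw [pow_succ', pow_succ' ((σ ^ m) ^ j), End_mul, End_mul, ih, h4, pow_mul σ, map_mul, map_mul, map_inv,
        map_pow, h3]
      simp [pow_succ', mul_assoc]
  have := orderOf_pos u
  have := (S.finOrd c).orderOf_pos
  refine ⟨m * j * (orderOf u * orderOf c), k * j * (orderOf u * orderOf c), by positivity, by positivity, fun r t => ?_⟩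
  rw [pow_mul σ', h6, pow_mul a, ← hc, ← map_pow, pow_orderOf_eq_one, map_one, (h1.pow j).pow, pow_mul p, pow_mul p]
  simp

variable [IsAlgClosed K]

theorem lang_H {σ : Monoid.End Γ} (h : A.Frob p σ) {a : Γ} (ha : a ∈ A.H) : ∃ z ∈ A.H, σ z = a * z := by
  obtain ⟨m, k, hm, hk, h1⟩ := h.pow
  obtain ⟨c, rfl⟩ := S.h3.torH_range.ge ha
  have := Nat.one_lt_pow hk.ne' (Fact.out : p.Prime).one_lt
  choose d hd using fun i => IsAlgClosed.exists_pow_nat_eq (c i : K) (n := p ^ k - 1) (by omega)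
  let d' : Nd D → Kˣ := fun i => Units.mk0 (d i) fun e => (c i).ne_zero (by rw [← hd, e, zero_pow (by omega)])
  have e : d' ^ p ^ k = c * d' := funext fun i => Units.ext (by simp [d', ← hd, ← pow_succ, Nat.sub_add_cancel this.le])
  have hd := S.h3.torH_mem d'
  have key : ∀ j, (σ ^ j) (S.h3.torH d') ∈ A.H ∧ ∃ z ∈ A.H, σ z * S.h3.torH d' = (σ ^ j) (S.h3.torH d') * z := fun j => by
    induction j with
    | zero => exact ⟨hd, 1, one_mem _, by simp⟩
    | succ j ih =>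
      obtain ⟨h0, z, hz, e⟩ := ih
      rw [pow_succ', End_mul]
      exact ⟨h.H _ h0, _, mul_mem h0 hz, by rw [map_mul, mul_assoc, e]⟩
  obtain ⟨-, z, hz, e'⟩ := key m
  rw [h1.torH S.h3, ← map_pow, e, map_mul, mul_assoc, S.h3.H_comm _ hd z hz, ← mul_assoc, mul_left_inj] at e'
  exact ⟨z, hz, e'⟩

theorem lang_cent {σ : Monoid.End Γ} (h : A.Frob p σ) {c : Nd D → Kˣ} (hc : σ (S.h3.torH c) = S.h3.torH c) {a : Γ}
    (ha : a ∈ Subgroup.centralizer {S.h3.torH c}) :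
    ∃ g ∈ Subgroup.centralizer {S.h3.torH c}, A.θ (g⁻¹ * σ g) = A.θ a := by
  obtain ⟨m, k, hm, hk, h1⟩ := h.pow
  have h2 : ∀ r ∈ Psi c, ∃ r' ∈ Psi c, ∃ c', ∃ e : ℕ, ∀ t, σ (A.x r t) = A.x r' (c' * t ^ e) := fun r hr => by
    obtain ⟨r', c', e, h2⟩ := h.x r
    by_cases h0 : c' = 0
    · exact ⟨r, hr, 0, e, by simpa [h0] using h2⟩
    have := congrArg σ (S.h3.torH_conj c r 1)
    rw [hr, one_mul, map_mul, map_mul, map_inv, hc, h2, S.h3.torH_conj] at this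
    exact ⟨r', show tor c _ = 1 by simpa [h0] using A.x_injective _ this, c', e, h2⟩
  let σ' : A.X (Psi c) →* A.X (Psi c) := ((σ : Γ →* Γ).comp (A.X _).subtype).codRestrict _ fun g =>
    (A.X_le (M := (A.X (Psi c)).comap σ)).2 (fun r hr t => by
      obtain ⟨r', h', c', e, h⟩ := h2 r hr
      exact (h t).symm.subst (motive := (· ∈ A.X (Psi c))) (A.x_mem h' _)) g.2
  have h3 : ∀ j g, (σ'^[j] g).1 = σ^[j] g := fun j =>
    (show Function.Semiconj Subtype.val σ' σ from fun _ => rfl).iterate_right j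
  let θ := (Units.coeHom _).comp A.θ
  have e0 : ∀ r t, θ (A.x r t) = xR r t := fun r t => congrArg Units.val (A.θx r t)
  have e1 : ∀ k r, ∃ r' c, ∃ e : ℕ, ∀ t, σ^[k] (A.x r t) = A.x r' (c * t ^ e) := fun k r => by
    induction k with
    | zero => exact ⟨r, 1, 1, by simp⟩
    | succ k ih =>
      obtain ⟨r', c, e, h1⟩ := ih
      obtain ⟨r'', c', e', h'⟩ := h.x r'
      exact ⟨r'', c' * c ^ e', e * e', fun t => by
        rw [Function.iterate_succ_apply', h1, h', mul_pow, ← pow_mul, mul_assoc]⟩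
  have e2 : ∀ (r : Rt D) {p : (Unit → K) → K}, p ∈ Lang.Pol K Unit → ∀ a b, (fun t => xR r (p t) a b) ∈ Lang.Pol K Unit :=
    fun r p hp a b => by
      simp only [xR_apply]
      exact add_mem (add_mem (add_mem (Subalgebra.algebraMap_mem _ _) (mul_mem hp (Subalgebra.algebraMap_mem _ _)))
        (mul_mem (pow_mem hp 2) (Subalgebra.algebraMap_mem _ _))) (mul_mem (pow_mem hp 3) (Subalgebra.algebraMap_mem _ _))
  have hF : ∀ g, θ ((σ ^ m) g) = (iterateFrobenius K p k).mapMatrix (θ g) := fun g =>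
    A.X_induction (P := fun g => θ ((σ ^ m) g) = (iterateFrobenius K p k).mapMatrix (θ g)) (by simp)
      (fun r _ t g _ ih => by rw [map_mul, map_mul, map_mul, map_mul, ih, h1, e0, e0, map_xR]; rfl)
      (show g ∈ A.G from S.G ▸ trivial)
  rw [S.h3.cent_eq S.G S.inj (S.finOrd c)] at ha ⊢
  replace ha := A.mem_sup_H.1 ha
  obtain ⟨a, ha, b, hb, rfl⟩ := ha
  obtain ⟨z, hz, e⟩ := S.lang_H h hb
  obtain ⟨y, hy⟩ := lang_gen (θ := θ.comp (A.X (Psi c)).subtype) (σ := σ') (x := fun (i : Psi c) t => ⟨A.x i t, A.x_mem i.2 t⟩)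
    hm (Nat.one_lt_pow hk.ne' (Fact.out : p.Prime).one_lt) (fun g i j => by
      rw [MonoidHom.comp_apply, Subgroup.subtype_apply, h3, ← Monoid.End.coe_pow, hF]; rfl)
    (fun i => Subtype.ext (A.x_zero _)) (fun r k i j => by
      obtain ⟨r', c, e, h⟩ := e1 k r
      have hp : (fun t : Unit → K => c * t () ^ e) ∈ Lang.Pol K _ :=
        mul_mem (Subalgebra.algebraMap_mem _ c) (pow_mem (proj_mem ()) e)
      have e4 : ∀ t, σ^[k] (A.x r t)⁻¹ = A.x r' (-(c * t ^ e)) := fun t => by rw [iterate_map_inv, h, A.x_neg]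
      simp only [MonoidHom.comp_apply, Subgroup.subtype_apply, h3, InvMemClass.coe_inv, h, e4, e0]
      exact ⟨e2 r' hp i j, e2 r' (p := fun t => -(c * t () ^ e)) (neg_mem hp) i j⟩)
    (fun g => A.X_induction (P := fun g => ∀ hg, (⟨g, hg⟩ : A.X (Psi c)) ∈ Submonoid.closure
      {g | ∃ (i : Psi c) (t : K), (⟨A.x i t, A.x_mem i.2 t⟩ : A.X (Psi c)) = g}) (fun _ => one_mem _)
      (fun r hr t g hg ih _ => mul_mem (a := ⟨_, A.x_mem hr t⟩) (Submonoid.subset_closure (by exact ⟨⟨r, hr⟩, t, rfl⟩))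
      (ih hg)) g.2 g.2)
    ⟨_, A.H_conj_X hz ha⟩
  refine ⟨y * z, mul_mem (Subgroup.mem_sup_left y.2) (Subgroup.mem_sup_right hz), ?_⟩
  rw [show (y * z)⁻¹ * σ (y * z) = z⁻¹ * (y⁻¹ * σ y) * σ z by simp [mul_assoc], map_mul, map_mul,
    show A.θ (y⁻¹ * σ y) = A.θ (z * a * z⁻¹) from Units.ext hy, ← map_mul, ← map_mul, e, S.h3.H_comm b hb z hz]
  simp [mul_assoc]

end SC
end Sys

end CA.Chev
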