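/-
Conjugacy of semisimple elements into the torus; Jordan decomposition; standard forms of fixed points.
-/
import Cfsg.Agent.Lib.Lie.SS

set_option autoImplicit false

namespace CA.Chev

open Matrix Equiv Cfsg.Lie Cfsg.Lie.ChevalleyDatum CA.Lang

theorem exists_fixed_of_pow {X : Type*} {a : X → X} {P : X → Prop} (hP : ∀ x, P x → P (a x)) [Finite {x // P x}] {r n : ℕ}
    (hr : r.Prime) (ha : ∀ x, P x → a^[r ^ n] x = x) (h : ¬ r ∣ Nat.card {x // P x}) : ∃ x, P x ∧ a x = x := by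
  classical
  have := Fact.mk hr
  have := Fintype.ofFinite {x // P x}
  let g : {x // P x} → {x // P x} := fun x => ⟨a x, hP _ x.2⟩
  have e : ∀ x, g^[r ^ n] x = x := fun x => Subtype.ext
    (((show Function.Semiconj Subtype.val g a from fun _ => rfl).iterate_right _ x).trans (ha _ x.2))
  obtain ⟨m, hm⟩ := Nat.exists_eq_succ_of_ne_zero (pow_pos hr.pos n).ne'
  obtain ⟨x, hx⟩ := Perm.exists_fixed_point_of_prime (n := n) (Nat.card_eq_fintype_card (α := {x // P x}) ▸ h)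
    (σ := Equiv.ofBijective g (Finite.injective_iff_bijective.1 (Function.LeftInverse.injective (hm ▸ e))))
    (Equiv.ext fun x => by rw [Perm.coe_pow]; exact e x)
  exact ⟨x, x.2, congrArg Subtype.val hx⟩

variable {D : ChevalleyDatum} [Good D] {K : Type*} [Field K] {Γ : Type*} [Group Γ] {p : ℕ} [Fact p.Prime] [CharP K p]

open Polynomial in
theorem card_frob_fix [IsAlgClosed K] {k : ℕ} (hk : 0 < k) : Nat.card {t // iterateFrobenius K p k t = t} = p ^ k := by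
  have hp : 1 < p := (Fact.out : p.Prime).one_lt
  rw [← FiniteField.X_pow_card_pow_sub_X_natDegree_eq K hk.ne' hp, ← card_rootSet_eq_natDegree
    (galois_poly_separable p _ (dvd_pow_self p hk.ne')) (IsAlgClosed.splits ((X ^ p ^ k - X : K[X]).map (algebraMap K K))),
    ← Nat.card_eq_fintype_card]
  exact Nat.card_congr (Equiv.subtypeEquivRight fun t => by
    simp [mem_rootSet_of_ne (FiniteField.X_pow_card_pow_sub_X_ne_zero K hk.ne' hp), iterateFrobenius_def, sub_eq_zero])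

theorem finite_frob_fix [IsAlgClosed K] {k : ℕ} (hk : 0 < k) : Finite {t // iterateFrobenius K p k t = t} :=
  Nat.finite_of_card_ne_zero (card_frob_fix (K := K) hk ▸ pow_ne_zero _ (Fact.out : p.Prime).ne_zero)

namespace Sys
open Sys0
variable {A : Sys D K Γ}

variable (A) in
/-- the map induced on a flag variety -/
def Ind (C : Subgroup Γ) (ψ : Monoid.End Γ) (f : C ⧸ A.B.subgroupOf C → C ⧸ A.B.subgroupOf C) : Prop :=
  ∀ y : C, ∃ y' : C, y'.1 = ψ y ∧ f y = y'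

theorem IsFr.x {ψ : Monoid.End Γ} {k : ℕ} (h : A.IsFr ψ (p ^ k)) (r : Rt D) (t : K) :
    (ψ : Γ →* Γ) (A.x r t) = A.x r (iterateFrobenius K p k t) := h r t

theorem conj_pow' (y g : Γ) (n : ℕ) : (y⁻¹ * g * y) ^ n = y⁻¹ * g ^ n * y := by
  simpa using conj_pow (i := n) (a := y⁻¹) (b := g)

theorem map_mul_inv (ψ : Monoid.End Γ) (a b : Γ) : ψ (a⁻¹ * b) = (ψ a)⁻¹ * ψ b := by simp

theorem smul_mk {C : Subgroup Γ} {B : Subgroup C} (a y : C) : a • (y : C ⧸ B) = (a * y : C) := rfl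

theorem Ind.iter {C : Subgroup Γ} {ψ : Monoid.End Γ} {f} (h : A.Ind C ψ f) (j : ℕ) : A.Ind C (ψ ^ j) f^[j] := fun y => by
  induction j with
  | zero => exact ⟨y, rfl, rfl⟩
  | succ j ih =>
    obtain ⟨y', h1, h2⟩ := ih
    obtain ⟨y'', h3, h4⟩ := h y'
    exact ⟨y'', by rw [h3, h1, pow_succ', End_mul], by rw [Function.iterate_succ_apply', h2, h4]⟩

theorem Ind.smul {C : Subgroup Γ} {ψ : Monoid.End Γ} {f} (h : A.Ind C ψ f) {a a' : C} (e : a'.1 = ψ a) (x) :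
    f (a • x) = a' • f x := by
  obtain ⟨y, rfl⟩ := QuotientGroup.mk_surjective x
  obtain ⟨y', h1, h2⟩ := h y
  obtain ⟨y'', h3, h4⟩ := h (a * y)
  rw [smul_mk, h4, h2, smul_mk, show y'' = a' * y' from Subtype.ext (by simp [h3, h1, e])]

theorem IsFr.exists_ind {ψ : Monoid.End Γ} {k : ℕ} (h : A.IsFr ψ (p ^ k)) {s : Γ} (hs : ψ s = s) :
    ∃ f, A.Ind (Subgroup.centralizer {s}) ψ f := by
  let φ : Subgroup.centralizer {s} → Subgroup.centralizer {s} := fun y => ⟨ψ y, Subgroup.mem_centralizer_singleton_iff.2 (by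
    simpa [hs] using congrArg ψ (Subgroup.mem_centralizer_singleton_iff.1 y.2))⟩
  refine ⟨Quotient.map' φ fun a b e => ?_, fun y => ⟨φ y, rfl, rfl⟩⟩
  rw [QuotientGroup.leftRel_apply, Subgroup.mem_subgroupOf] at *
  exact (map_mul_inv ψ a.1 b.1).subst (motive := (· ∈ A.B))
    ((fieldTwist (iterateFrobenius K p k) ψ h).is.mem_B (fun _ => Iff.rfl) e)

theorem smul_eq_of {C : Subgroup Γ} {z : C} (hz : z.1 ∈ A.B) (h : ∀ y : C, z.1 * y = y * z) (x : C ⧸ A.B.subgroupOf C) :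
    z • x = x := by
  obtain ⟨y, rfl⟩ := QuotientGroup.mk_surjective x
  exact (QuotientGroup.eq.2 (Subgroup.mem_subgroupOf.2 (by simpa [h] using hz))).symm

theorem exists_conj_B {C : Subgroup Γ} {g : C} {x : C ⧸ A.B.subgroupOf C} (h : g • x = x) :
    ∃ y ∈ C, y⁻¹ * g * y ∈ A.B := by
  obtain ⟨y, rfl⟩ := QuotientGroup.mk_surjective x
  exact ⟨y, y.2, by simpa [mul_assoc] using Subgroup.mem_subgroupOf.1 (QuotientGroup.eq.1 h.symm)⟩

theorem pow_UH {v h : Γ} (hv : v ∈ A.U) (hh : h ∈ A.H) (n : ℕ) : ∃ v' ∈ A.U, (v * h) ^ n = v' * h ^ n := by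
  induction n with
  | zero => exact ⟨1, one_mem _, by simp⟩
  | succ n ih =>
    obtain ⟨v', h1, e⟩ := ih
    exact ⟨_, mul_mem h1 (A.H_conj_X (pow_mem hh n) hv), by rw [pow_succ, e]; group⟩

namespace SC
variable (S : A.SC p) [IsAlgClosed K]
include S

omit [IsAlgClosed K] [CharP K p] [Fact p.Prime] in
theorem mem_G (g : Γ) : g ∈ A.G := S.G ▸ trivial

theorem card_fl {ψ : Monoid.End Γ} {k : ℕ} (h : A.IsFr ψ (p ^ k)) (hk : 0 < k) {c : Nd D → Kˣ}
    (hc : ψ (S.h3.torH c) = S.h3.torH c) {f} (hf : A.Ind (Subgroup.centralizer {S.h3.torH c}) ψ f)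
    (a : Subgroup.centralizer {S.h3.torH c}) : Nat.card {x // a • f x = x} =
      ∑ᶠ w : {w // w ∈ W D ∧ mact (wM w) c = c}, (p ^ k) ^ (↑(invs w.1) ∩ Psi c).ncard := by
  have := finite_frob_fix (K := K) (p := p) hk
  rw [← card_frob_fix (K := K) hk, ← S.h3.card_cells S.G S.inj c h.x rfl hf]
  obtain ⟨g, hg, e⟩ := S.lang_cent (h.frob hk) hc a.2
  lift g to Subgroup.centralizer {S.h3.torH c} using hg
  obtain ⟨g', h1, -⟩ := hf g
  have hz : A.θ (g' * a⁻¹ * g⁻¹) = 1 := by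
    rw [h1, map_mul, map_mul, InvMemClass.coe_inv, map_inv, ← e]; simp
  have hH := A.mem_H_of_θ (S.mem_G _) hz
  refine Nat.card_congr (Equiv.subtypeEquiv (MulAction.toPerm g) fun x => ?_)
  rw [MulAction.toPerm_apply, hf.smul h1, show g' = g' * a⁻¹ * g⁻¹ * (g * a) by group, mul_smul,
    smul_eq_of (z := g' * a⁻¹ * g⁻¹) (A.H_le_B hH) fun y => A.comm_of_θ hH hz (S.mem_G _), mul_smul, smul_left_cancel_iff]

omit [IsAlgClosed K] [CharP K p] [Fact p.Prime] in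
theorem exists_fix' {ψ : Monoid.End Γ} {k : ℕ} (h : A.IsFr ψ (p ^ k)) (hk : 0 < k) (g g' : Γ) (m : ℕ) (hm : 0 < m) :
    ∃ (ψ' : Monoid.End Γ) (k' : ℕ), 0 < k' ∧ m ∣ k' ∧ A.IsFr ψ' (p ^ k') ∧ ψ' g = g ∧ ψ' g' = g' := by
  obtain ⟨j, hj, e⟩ := S.exists_fix h g
  obtain ⟨j', hj', e'⟩ := S.exists_fix h g'
  refine ⟨ψ ^ (j * j' * m), k * (j * j' * m), by positivity, ⟨k * j * j', by ring⟩, pow_mul p _ _ ▸ h.pow _, ?_, ?_⟩
  · rw [mul_assoc, pow_mul]; exact Function.iterate_fixed e _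
  · rw [mul_comm j, mul_assoc, pow_mul]; exact Function.iterate_fixed e' _

variable {ψ : Monoid.End Γ} {k : ℕ} (h : A.IsFr ψ (p ^ k)) (hk : 0 < k)
include h hk

theorem conj_step {r : ℕ} (hr : r.Prime) (hp : r.Coprime p) {g : Γ} {c : Nd D → Kˣ} (e : g ^ r = S.h3.torH c) :
    ∃ y, y⁻¹ * g * y ∈ A.H := by
  classical
  have := Fintype.ofFinite {w // w ∈ W D ∧ mact (wM w) c = c}
  set N := Fintype.card {w // w ∈ W D ∧ mact (wM w) c = c}
  have hs := S.h3.torH_mem c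
  have hg : g ∈ Subgroup.centralizer {S.h3.torH c} := Subgroup.mem_centralizer_singleton_iff.2 (e ▸ Commute.self_pow g r)
  obtain ⟨y, hy, hB⟩ : ∃ y ∈ Subgroup.centralizer {S.h3.torH c}, y⁻¹ * g * y ∈ A.B := by
    obtain ⟨ψ, k, hk, ⟨m, hm⟩, h, hψ, -⟩ := S.exists_fix' h hk g g _ (Nat.totient_pos.2 (pow_pos hr.pos (N + 2)))
    have hc : ∀ j, (ψ ^ j) (S.h3.torH c) = S.h3.torH c := fun j => Function.iterate_fixed (by rw [← e, map_pow, hψ]) j
    obtain ⟨f, hf⟩ := h.exists_ind (pow_one ψ ▸ hc 1)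
    have h1 : ∀ j, 0 < j → ∀ a : Subgroup.centralizer {S.h3.torH c}, Finite {x // a • f^[j] x = x} ∧
        Nat.card {x // a • f^[j] x = x} ≡ N [MOD r ^ (N + 2)] := fun j hj a => by
      have e := S.card_fl (pow_mul p k j ▸ h.pow j) (by positivity) (hc j) (hf.iter j) a
      rw [finsum_eq_sum_of_fintype] at e
      have : Nonempty {w // w ∈ W D ∧ mact (wM w) c = c} := ⟨⟨1, one_mem _, S.inj (by
        simpa using (S.h3.conj_torH Act.one c).symm)⟩⟩
      refine ⟨Nat.finite_of_card_ne_zero (e ▸ (Finset.sum_pos (fun _ _ => pow_pos (pow_pos (Fact.out : p.Prime).pos _) _)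
        Finset.univ_nonempty).ne'), e ▸ (Nat.ModEq.sum (g := fun _ => 1) fun w _ => ?_).trans (by simp [N, Nat.ModEq])⟩
      rw [hm, mul_assoc, pow_mul, ← pow_mul]
      simpa using (Nat.ModEq.pow_totient (hp.symm.pow_right _)).pow _
    have : Finite {x // f^[r ^ (N + 1)] x = x} := by simpa using (h1 _ (pow_pos hr.pos (N + 1)) 1).1
    obtain ⟨x, hx⟩ := exists_fixed_fun (a := ((⟨g, hg⟩ : Subgroup.centralizer _) • ·)) (b := f) (k := N) (N := N)
      (fun x => (hf.smul (by exact hψ.symm) x).symm) hr (fun x => by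
        rw [smul_iterate]
        exact smul_eq_of (A.H_le_B (e ▸ hs : g ^ r ∈ _)) (fun y => show g ^ r * _ = _ * g ^ r by
          rw [e]; exact (Subgroup.mem_centralizer_singleton_iff.1 y.2).symm) x)
      (by simpa using (h1 _ (pow_pos hr.pos (N + 1)) 1).2) (fun i => by
        simpa [smul_iterate] using (h1 _ (pow_pos hr.pos N) (⟨g, hg⟩ ^ i)).2) fun hd => by
        have h0 : 0 < N := Fintype.card_pos_iff.2 ⟨⟨1, one_mem _, S.inj (by simpa using (S.h3.conj_torH Act.one c).symm)⟩⟩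
        have := Nat.le_of_dvd h0 (((Nat.coprime_self_sub_right hr.one_le).2 (by simp)).pow_left _ |>.dvd_of_dvd_mul_right hd)
        exact this.not_gt ((Nat.lt_pow_self hr.one_lt).trans_le (Nat.pow_le_pow_right hr.pos (by omega)))
    exact exists_conj_B hx
  obtain ⟨v, hv, b, hb, e1⟩ := A.mem_B.1 hB
  have e2 : (v * b) ^ r = S.h3.torH c := by
    rw [← e1, conj_pow', e, mul_assoc, ← Subgroup.mem_centralizer_singleton_iff.1 hy,
      inv_mul_cancel_left]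
  obtain ⟨v', hv', e3⟩ := pow_UH hv hb r
  have e4 := (A.UH_unique hv' (one_mem _) (pow_mem hb r) hs (by rw [← e3, e2, one_mul])).2
  obtain ⟨ψ, k, hk, -, h, hψ, hψ'⟩ := S.exists_fix' h hk v b 1 one_pos
  have := finite_frob_fix (K := K) (p := p) hk
  have e5 : Nat.card {u // _ ∧ ψ u = u} = _ := card_fixX h.x (nil_pos.psi c)
  rw [card_frob_fix hk] at e5
  have := Nat.finite_of_card_ne_zero (e5 ▸ pow_ne_zero _ (pow_ne_zero _ (Fact.out : p.Prime).ne_zero))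
  have hv2 : v ∈ A.X ({r | Pos r} ∩ Psi c) := (S.h3.comm_iff nil_pos c).2 ⟨hv, by
    rw [← e2, mul_inv_eq_iff_eq_mul, ← mul_left_inj b, mul_assoc, mul_assoc, ← pow_succ, e2, S.h3.H_comm _ hs b hb, ← e2,
      ← mul_assoc, pow_succ']⟩
  obtain ⟨x, -, hx⟩ := exists_fixed_of_pow (a := fun x => v * b * x * b⁻¹) (n := 1)
    (P := fun u => u ∈ A.X ({r | Pos r} ∩ Psi c) ∧ ψ u = u)
    (fun x hx => ⟨by simpa [mul_assoc] using mul_mem hv2 (A.H_conj_X hb hx.1), by simp [hψ, hψ', hx.2]⟩) hr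
    (fun x hx => by
      have : ∀ n, (fun x => v * b * x * b⁻¹)^[n] x = (v * b) ^ n * x * (b ^ n)⁻¹ := fun n => by
        induction n with
        | zero => simp
        | succ n ih => rw [Function.iterate_succ_apply', ih, pow_succ', pow_succ']; group
      rw [this, pow_one, e2, e4]
      exact ((S.h3.comm_iff nil_pos c).1 hx.1).2)
    (by rw [e5, ← pow_mul]; exact hr.coprime_iff_not_dvd.1 (hp.pow_right _))
  exact ⟨y * x, by
    rwa [show (y * x)⁻¹ * g * (y * x) = x⁻¹ * (y⁻¹ * g * y * x * b⁻¹) * b by group, e1, hx, inv_mul_cancel, one_mul]⟩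

/-- semisimple elements are conjugate into the torus -/
theorem exists_conj_torH {g : Γ} (hg : (orderOf g).Coprime p) : ∃ y c, y⁻¹ * g * y = S.h3.torH c := by
  induction hn : orderOf g using Nat.strong_induction_on generalizing g with
  | _ n ih =>
  subst hn
  by_cases h1 : orderOf g = 1
  · exact ⟨1, 1, by simp [orderOf_eq_one_iff.1 h1]⟩
  have hr := Nat.minFac_prime h1
  have hd := Nat.minFac_dvd (orderOf g)
  have h0 : 0 < orderOf g := Nat.pos_of_ne_zero fun e => (Fact.out : p.Prime).ne_one (by simpa [e] using hg)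
  have e := orderOf_pow_of_dvd hr.ne_zero hd
  obtain ⟨y, c, e1⟩ := ih _ (e ▸ Nat.div_lt_self h0 hr.one_lt) (hg.coprime_dvd_left (orderOf_pow_dvd _)) rfl
  obtain ⟨z, hz⟩ := S.conj_step h hk hr (hg.coprime_dvd_left hd) (g := y⁻¹ * g * y) (c := c)
    (by rw [← e1, conj_pow'])
  obtain ⟨c, hc⟩ := S.h3.torH_range.ge hz
  exact ⟨y * z, c, by rw [hc]; group⟩

/-- unipotent elements of a centraliser -/
theorem exists_conj_U {c : Nd D → Kˣ} {u : Γ} (hu : u ∈ Subgroup.centralizer {S.h3.torH c}) {n : ℕ} (e : u ^ p ^ n = 1) :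
    ∃ y ∈ Subgroup.centralizer {S.h3.torH c}, y⁻¹ * u * y ∈ A.X ({r | Pos r} ∩ Psi c) := by
  classical
  have hp : p.Prime := Fact.out
  have := Fintype.ofFinite {w // w ∈ W D ∧ mact (wM w) c = c}
  obtain ⟨ψ, k, hk, -, h, hψ, hc⟩ := S.exists_fix' h hk u (S.h3.torH c) 1 one_pos
  obtain ⟨f, hf⟩ := h.exists_ind hc
  have e1 := S.card_fl h hk hc hf 1
  let w0 : {w // w ∈ W D ∧ mact (wM w) c = c} := ⟨1, one_mem _, S.inj (by simpa using (S.h3.conj_torH Act.one c).symm)⟩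
  rw [finsum_eq_sum_of_fintype, ← Finset.add_sum_erase _ _ (Finset.mem_univ w0), show (↑(invs w0.1) ∩ Psi c) = ∅ from
    Set.eq_empty_of_forall_notMem fun r hr => (mem_invs.1 hr.1).2 (mem_invs.1 hr.1).1, Set.ncard_empty, pow_zero] at e1
  simp only [one_smul] at e1
  have := Nat.finite_of_card_ne_zero (e1 ▸ by omega : Nat.card {x // f x = x} ≠ 0)
  obtain ⟨x, -, hx⟩ := exists_fixed_of_pow (a := ((⟨u, hu⟩ : Subgroup.centralizer _) • ·)) (P := fun x => f x = x) (n := n)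
    (fun x hx => (hf.smul (a' := ⟨u, hu⟩) (by exact hψ.symm) x).trans (by rw [hx])) hp
    (fun x _ => by rw [smul_iterate, show (⟨u, hu⟩ : Subgroup.centralizer _) ^ p ^ n = 1 from Subtype.ext e]; exact one_smul _ _)
    (by
      rw [e1, Nat.dvd_add_left (Finset.dvd_sum fun w hw => ?_)]
      · exact hp.not_dvd_one
      refine dvd_pow (dvd_pow_self p hk.ne') fun h0 => Finset.ne_of_mem_erase hw (Subtype.ext ?_)
      rw [Set.ncard_eq_zero] at h0
      exact (stab_Psi (S.finOrd c) w.2.1 w.2.2).2 fun r h1 h2 => by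
        by_contra h3
        exact Set.eq_empty_iff_forall_notMem.1 h0 r ⟨mem_invs.2 ⟨h2, h3⟩, h1⟩)
  obtain ⟨y, hy, hB⟩ := exists_conj_B hx
  obtain ⟨v, hv, b, hb, e2⟩ := A.mem_B.1 hB
  obtain ⟨v', hv', e3⟩ := pow_UH hv hb (p ^ n)
  rw [← e2, conj_pow'] at e3
  have e4 := (A.UH_unique (one_mem _) hv' (one_mem _) (pow_mem hb _) (by rw [← e3]; simp [e])).2
  obtain ⟨d, rfl⟩ := S.h3.torH_range.ge hb
  obtain rfl : d = 1 := funext fun i => Units.ext (iterateFrobenius_inj K p n (by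
    rw [← map_pow, ← map_one S.h3.torH] at e4
    simpa [iterateFrobenius_def] using (congrArg Units.val (congrFun (S.inj e4) i)).symm))
  rw [map_one, mul_one] at e2
  refine ⟨y, hy, (S.h3.comm_iff nil_pos c).2 ⟨e2 ▸ hv, mul_inv_eq_iff_eq_mul.2
    (Subgroup.mem_centralizer_singleton_iff.1 (mul_mem (mul_mem (inv_mem hy) hu) hy)).symm⟩⟩

end SC

theorem θ_pow_eq_one (h3 : A.R3) {c : Nd D → Kˣ} {v : Γ} (hv : v ∈ A.X ({r | Pos r} ∩ Psi c)) (n : ℕ) :
    A.θ ((h3.torH c * v) ^ n) = 1 ↔ tor (c ^ n) = 1 ∧ v ^ n = 1 := by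
  obtain ⟨h1, h2⟩ := (h3.comm_iff nil_pos c).1 hv
  rw [(show Commute _ _ from mul_inv_eq_iff_eq_mul.1 h2).mul_pow, ← map_pow]
  refine ⟨fun h => ?_, fun h => by rw [h.2, mul_one, h3.θ_torH, h.1, map_one]⟩
  have hH := h3.torH_mem (c ^ n)
  have := A.mem_H_of_θ (mul_mem (A.H_le_G hH) (A.X_mono (Set.subset_univ _) (pow_mem h1 n))) h
  have e := (A.UH_unique (pow_mem h1 n) (one_mem _) (one_mem _) ((mul_mem_cancel_left hH).1 this) (by simp)).1
  rw [e, mul_one, h3.θ_torH, ← map_one dgG] at h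
  exact ⟨dgG_injective h, e⟩

/-- the exponent of a unipotent subgroup -/
theorem pow_eq_one_of_ht {S : Set (Rt D)} (hS : Nil S) {f : (Nd D → ℤ) →ₗ[ℤ] ℤ} {a : ℤ} {k : ℕ} (ha : 0 < a)
    (hf : ∀ r ∈ S, a ≤ f (rt r) ∧ f (rt r) < a * p ^ k) {u : Γ} (hu : u ∈ A.X S) : u ^ p ^ k = 1 := by
  have hf' : ∀ r ∈ S, 0 < f (rt r) := fun r hr => ha.trans_le (hf r hr).1
  set M := (A.θ u : Matrix D.Idx D.Idx K) - 1 with hM
  have h1 : ∀ x y, M x y ≠ 0 → f (wI y) + a ≤ f (wI x) := fun x y h => by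
    have h2 := A.θ_str hf' hu x y h
    let C : AddSubmonoid (Nd D → ℤ) := ⟨⟨{v | v = 0 ∨ a ≤ f v}, by
      rintro v w (rfl | h1) (rfl | h2) <;> simp_all; omega⟩, Or.inl rfl⟩
    rcases A.θ_supp (C := C) (fun s hs => Or.inr (hf s hs).1) hu x y (fun e => h (by
      rw [hM, Matrix.sub_apply, e, Matrix.one_apply_ne (by rintro rfl; omega), sub_zero])) with h3 | h3
    · rw [sub_eq_zero.1 h3] at h2; omega
    · rw [map_sub] at h3; omega
  have h2 : ∀ (n : ℕ) x y, (M ^ n) x y ≠ 0 → f (wI y) + a * n ≤ f (wI x) := fun n => by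
    induction n with
    | zero => exact fun x y h => by simp [show x = y by by_contra e; exact h (by rw [pow_zero, Matrix.one_apply_ne e])]
    | succ n ih =>
      intro x y h
      rw [pow_succ, Matrix.mul_apply] at h
      obtain ⟨c, -, hc⟩ := Finset.exists_ne_zero_of_sum_ne_zero h
      have := ih x c (left_ne_zero_of_mul hc)
      have := h1 c y (right_ne_zero_of_mul hc)
      push_cast; linarith
  have key : ∀ m, u ^ p ^ k ∈ A.X {s ∈ S | m ≤ kap f s} := fun m => by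
    induction m with
    | zero => simpa using pow_mem hu _
    | succ m ih =>
      by_cases e : ∃ r ∈ S, kap f r = m
      swap
      · refine A.X_mono (fun s hs => ?_) ih
        exact ⟨hs.1, lt_of_le_of_ne hs.2 fun h => e ⟨s, hs.1, h.symm⟩⟩
      obtain ⟨r, hr, rfl⟩ := e
      obtain ⟨c, hc⟩ := A.layer_step hS hf' hr ih
      have h0 := hf' r hr
      let C : AddSubmonoid (Nd D → ℤ) := ⟨⟨{v | v = 0 ∨ (f (rt r) ≤ f v ∧ v ≠ rt r)}, by
        rintro v w (rfl | ⟨h1, h2⟩) hw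
        · simpa using hw
        rcases hw with rfl | ⟨h3, h4⟩
        · exact Or.inr ⟨by simpa using h1, by simpa using h2⟩
        refine Or.inr ⟨by rw [map_add]; omega, fun e => ?_⟩
        have := congrArg f e
        rw [map_add] at this; omega⟩, Or.inl rfl⟩
      have h3 := A.θ_supp (C := C) (fun s hs => Or.inr ⟨by
        by_contra hlt
        have := kap_lt (hf' s hs.1) (not_le.1 hlt)
        have := hs.2
        omega, fun e => by have := hs.2; rw [rt_injective e] at this; omega⟩) (inv_mem hc)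
      have h4 : Supp C (A.θ (u ^ p ^ k) : Matrix D.Idx D.Idx K) := fun x y h => by
        by_cases e : x = y
        · exact Or.inl (by rw [e, sub_self])
        have : Nonempty D.Idx := ⟨x⟩
        have := h2 (p ^ k) x y (by
          rwa [hM, sub_pow_char_pow_of_commute _ _ (Commute.one_right _), one_pow, Matrix.sub_apply, Matrix.one_apply_ne e,
            sub_zero, ← Units.val_pow_eq_pow_val, ← map_pow])
        have h5 := (hf r hr).2
        push_cast at this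
        exact Or.inr ⟨by rw [map_sub]; omega, fun e => by rw [← e, map_sub] at h5; omega⟩
      have h5 := h4.mul h3
      rw [← Units.val_mul, ← map_mul, _root_.mul_inv_rev, mul_inv_cancel_left, inv_inv, A.θx] at h5
      rw [eq_zero_of_supp (C := C) (by rintro (h | h); exacts [rt_ne_zero r h, h.2 rfl]) h5] at hc
      simpa using hc
  obtain ⟨m, hm⟩ := exists_kap_bound f
  have := key m
  rwa [show {s ∈ S | m ≤ kap f s} = ∅ from Set.eq_empty_of_forall_notMem fun s hs => absurd hs.2 (not_le.2 (hm s)),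
    X_empty, Subgroup.mem_bot] at this

end Sys

namespace Twist
open Sys0 Sys
variable {A : Sys D K Γ} (τ : Twist A) (S : A.SC p)
include S

omit [CharP K p] [Fact p.Prime] in
theorem exists_TW {s y : Γ} (hs : s ∈ τ.F) {c : Nd D → Kˣ} (e : y⁻¹ * s * y = S.h3.torH c) : ∃ w ∈ W D, c ∈ τ.TW w := by
  obtain ⟨m, hm, e1⟩ := A.conj_H_of_conj (S.h3.torH_mem (τ.σT c)) (S.h3.torH_mem c) (S.mem_G (y⁻¹ * τ.σ y)) (by
    rw [← τ.σ_torH, ← e, map_mul, map_mul, map_inv, τ.mem_F.1 hs]; group)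
  obtain ⟨w, hw⟩ := A.exists_act hm
  exact ⟨w, hw.1, S.inj ((S.h3.conj_torH hw _).symm.trans e1)⟩

variable [IsAlgClosed K] (hσ : A.Frob p τ.σ)
include hσ

/-- standard form of a semisimple fixed point -/
theorem std {s y n : Γ} (hs : s ∈ τ.F) {c : Nd D → Kˣ} (e : y⁻¹ * s * y = S.h3.torH c) (hn : n ∈ A.N) {w : Perm (Rt D)}
    (hw : A.Act n w) (hc : c ∈ τ.TW w) : ∃ y', y'⁻¹ * s * y' = S.h3.torH c ∧ τ.σ y' = y' * n := by
  have h := S.frob_conj hσ hn
  have h1 : n * τ.σ (S.h3.torH c) * n⁻¹ = S.h3.torH c := by rw [τ.σ_torH, S.h3.conj_torH hw, τ.mem_TW.1 hc]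
  obtain ⟨g, hg, e1⟩ := S.lang_cent h h1 (a := y⁻¹ * τ.σ y * n⁻¹) (Subgroup.mem_centralizer_singleton_iff.2 (by
    conv_lhs => rw [← h1, ← e, map_mul, map_mul, map_inv, τ.mem_F.1 hs]
    rw [← e]; group))
  have hz : A.θ (n * τ.σ g * n⁻¹ * (y⁻¹ * τ.σ y * n⁻¹)⁻¹ * g⁻¹) = 1 := by
    rw [map_mul, map_mul, map_inv, ← e1, ← map_inv, ← map_mul, ← map_mul, ← map_one A.θ]
    exact congrArg _ (show _ * (g⁻¹ * (n * τ.σ g * n⁻¹))⁻¹ * _ = _ by group)
  have hH := A.mem_H_of_θ (S.mem_G _) hz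
  obtain ⟨z, h2, e2⟩ := S.lang_H h hH
  refine ⟨y * g⁻¹ * z, ?_, ?_⟩
  · rw [show (y * g⁻¹ * z)⁻¹ * s * (y * g⁻¹ * z) = z⁻¹ * (g * (y⁻¹ * s * y) * g⁻¹ * z) by group, e,
      Subgroup.mem_centralizer_singleton_iff.1 hg, mul_inv_cancel_right, S.h3.H_comm _ (S.h3.torH_mem c) z h2,
      inv_mul_cancel_left]
  · rw [map_mul, map_mul, map_inv, show τ.σ z = n⁻¹ * (n * τ.σ z * n⁻¹) * n by group, show n * τ.σ z * n⁻¹ = _ from e2]
    group

theorem exists_lang {n : Γ} (hn : n ∈ A.N) : ∃ y, τ.σ y = y * n := by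
  obtain ⟨w, hw⟩ := A.exists_act hn
  obtain ⟨y, -, h⟩ := τ.std S hσ (one_mem _) (y := 1) (c := 1) (by simp) hn hw (one_mem _)
  exact ⟨y, h⟩

/-- semisimple classes do not split -/
theorem isConj_F {s s' : τ.F} (ho : (orderOf s).Coprime p) (h : IsConj s.1 s'.1) : IsConj s s' := by
  obtain ⟨m, k, -, hk, h1⟩ := hσ.pow
  obtain ⟨y, c, e⟩ := S.exists_conj_torH h1 hk (g := s) (by simpa using ho)
  obtain ⟨x, hx⟩ := isConj_iff.1 h
  obtain ⟨w, hw, hc⟩ := τ.exists_TW S s.2 e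
  obtain ⟨n, hn, ha⟩ := A.exists_N hw
  obtain ⟨y₁, e1, e2⟩ := τ.std S hσ s.2 e hn ha hc
  obtain ⟨y₂, e3, e4⟩ := τ.std S hσ s'.2 (y := x * y) (by rw [← e, ← hx]; group) hn ha hc
  refine isConj_iff.2 ⟨⟨y₂ * y₁⁻¹, by rw [mem_F, map_mul, map_inv, e2, e4]; group⟩, Subtype.ext ?_⟩
  change y₂ * y₁⁻¹ * s * (y₂ * y₁⁻¹)⁻¹ = s'
  rw [show y₂ * y₁⁻¹ * s * (y₂ * y₁⁻¹)⁻¹ = y₂ * (y₁⁻¹ * s * y₁) * y₂⁻¹ by group, e1, ← e3]; group

theorem jordan {g : Γ} (hg : g ∈ τ.F) (ho : IsOfFinOrder g) : ∃ w ∈ W D, ∃ c ∈ τ.TW w,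
    ∃ v ∈ A.X ({r | Pos r} ∩ Psi c), ∃ y, y⁻¹ * g * y = S.h3.torH c * v := by
  have hp : p.Prime := Fact.out
  obtain ⟨m, k, -, hk, h1⟩ := hσ.pow
  obtain ⟨a, b, hb, e⟩ := Nat.exists_eq_pow_mul_and_not_dvd ho.orderOf_pos.ne' p hp.ne_one
  have hc := (hp.coprime_iff_not_dvd.2 hb).pow_left a
  obtain ⟨j, j1, j2⟩ := Nat.chineseRemainder hc 0 1
  obtain ⟨y, c, e1⟩ := S.exists_conj_torH h1 hk (g := g ^ j) ((hp.coprime_iff_not_dvd.2 hb).symm.coprime_dvd_left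
    (orderOf_dvd_of_pow_eq_one (by
      rw [← pow_mul]; exact orderOf_dvd_iff_pow_eq_one.1 (e ▸ mul_dvd_mul_right (Nat.modEq_zero_iff_dvd.1 j1) b))))
  obtain ⟨w, hw, h2⟩ := τ.exists_TW S (pow_mem hg j) e1
  have h3 : Commute g (g ^ j)⁻¹ := (Commute.self_pow g j).inv_right
  obtain ⟨z, hz, h4⟩ := S.exists_conj_U h1 hk (c := c) (u := y⁻¹ * (g * (g ^ j)⁻¹) * y) (n := a)
    (Subgroup.mem_centralizer_singleton_iff.2 (by rw [← e1]; group)) (by
      rw [conj_pow', h3.mul_pow, inv_pow, ← pow_mul, pow_eq_pow_iff_modEq.2 (show j * p ^ a ≡ p ^ a [MOD orderOf g] by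
        simpa [e, mul_comm] using j2.mul_right' (p ^ a))]; simp)
  refine ⟨w, hw, c, h2, _, h4, y * z, ?_⟩
  rw [← mul_assoc, ← mul_assoc (S.h3.torH c), ← mul_assoc (S.h3.torH c), ← Subgroup.mem_centralizer_singleton_iff.1 (inv_mem hz),
    ← e1]; group

end Twist

/-- a finite group of Lie type as the image of the fixed points of a Steinberg endomorphism -/
structure Form {A : Sys D K Γ} (τ : Twist A) (p : ℕ) (X : Type*) [Group X] where
  S : A.SC p
  fr : A.Frob p τ.σ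
  π : τ.F →* X
  surj : Function.Surjective π
  ker : ∀ g, π g = 1 ↔ A.θ g = 1

variable {A : Sys D K Γ} {τ : Twist A} {X : Type*} [Group X]

omit [CharP K p] [Fact p.Prime] in
theorem exists_form (S : A.SC p) (fr : A.Frob p τ.σ) {j : X →* GL D.Idx K} (hj : Function.Injective j)
    (hr : j.range = τ.F.map A.θ) : ∃ Φ : Form τ p X, ∀ g, j (Φ.π g) = A.θ g := by
  let π : τ.F →* X := (MonoidHom.ofInjective hj).symm.toMonoidHom.comp
    ((A.θ.comp τ.F.subtype).codRestrict _ fun g => hr.ge ⟨_, g.2, rfl⟩)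
  have e : ∀ g, j (π g) = A.θ g := fun g => MonoidHom.apply_ofInjective_symm hj _
  refine ⟨⟨S, fr, π, fun x => ?_, fun g => by rw [← hj.eq_iff, e, map_one]⟩, e⟩
  obtain ⟨g, hg, h⟩ := hr.le ⟨x, rfl⟩
  exact ⟨⟨g, hg⟩, hj ((e _).trans h)⟩

namespace Form
open Sys0 Sys
variable (Φ : Form τ p X) [IsAlgClosed K]
include Φ

omit [IsAlgClosed K] [CharP K p] in
theorem finOrd [Finite X] (g : τ.F) : IsOfFinOrder g.1 := by
  obtain ⟨c, hc⟩ := Φ.S.h3.torH_range.ge (A.mem_H_of_θ (Φ.S.mem_G _)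
    ((Φ.ker (g ^ orderOf (Φ.π g))).1 (by rw [map_pow, pow_orderOf_eq_one])))
  exact (hc ▸ Φ.S.h3.torH.isOfFinOrder (Φ.S.finOrd c) : IsOfFinOrder (g.1 ^ _)).of_pow (orderOf_pos _).ne'

/-- every element has a Jordan type -/
theorem exists_typ [Finite X] (x : X) : ∃ w ∈ W D, ∃ c ∈ τ.TW w, ∃ v ∈ A.X ({r | Pos r} ∩ Psi c),
    ∀ n : ℕ, x ^ n = 1 ↔ tor (c ^ n) = 1 ∧ v ^ n = 1 := by
  obtain ⟨g, rfl⟩ := Φ.surj x
  obtain ⟨w, hw, c, hc, v, hv, y, e⟩ := τ.jordan Φ.S Φ.fr g.2 (Φ.finOrd g)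
  refine ⟨w, hw, c, hc, v, hv, fun n => ?_⟩
  rw [← θ_pow_eq_one Φ.S.h3 hv, ← e, conj_pow', ← map_pow, Φ.ker, map_mul, map_mul, map_inv, ← inv_inv (A.θ y),
    inv_inv (A.θ y)⁻¹, conj_eq_one_iff]; rfl

theorem exists_of_typ {n : Γ} (hn : n ∈ A.N) {w : Perm (Rt D)} (hw : A.Act n w) {c : Nd D → Kˣ} (hc : c ∈ τ.TW w) {v : Γ}
    (hv : v ∈ A.X ({r | Pos r} ∩ Psi c)) (e : n * τ.σ v * n⁻¹ = v) :
    ∃ x : X, ∀ n : ℕ, x ^ n = 1 ↔ tor (c ^ n) = 1 ∧ v ^ n = 1 := by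
  obtain ⟨y, hy⟩ := τ.exists_lang Φ.S Φ.fr hn
  refine ⟨Φ.π ⟨y * (Φ.S.h3.torH c * v) * y⁻¹, ?_⟩, fun k => ?_⟩
  · rw [τ.mem_F, map_mul, map_mul, map_mul, map_inv, hy, τ.σ_torH]
    conv_rhs => rw [← e, ← τ.mem_TW.1 hc, ← Φ.S.h3.conj_torH hw]
    group
  · rw [← θ_pow_eq_one Φ.S.h3 hv, ← map_pow, Φ.ker, SubmonoidClass.coe_pow, Subgroup.coe_mk, conj_pow, map_mul, map_mul,
      map_inv, conj_eq_one_iff]

theorem exists_ss {w : Perm (Rt D)} (hw : w ∈ W D) {c : Nd D → Kˣ} (hc : c ∈ τ.TW w) :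
    ∃ x : X, ∀ n : ℕ, x ^ n = 1 ↔ tor (c ^ n) = 1 := by
  obtain ⟨n, hn, h⟩ := A.exists_N hw
  simpa using Φ.exists_of_typ hn h hc (one_mem _) (by simp)

theorem exists_mixed {w : Perm (Rt D)} (hw : w ∈ W D) {c : Nd D → Kˣ} (hc : c ∈ τ.TW w) {r : Rt D} (h1 : Pos r)
    (h2 : r ∈ Psi c) (h3 : w (τ.ρ r) = r) {e : ℕ} (he : 2 ≤ e) (h4 : ∀ t, τ.T.α r t = t ^ e) :
    ∃ x : X, ∀ n : ℕ, x ^ n = 1 ↔ tor (c ^ n) = 1 ∧ p ∣ n := by
  obtain ⟨n, hn, h⟩ := A.exists_N hw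
  obtain ⟨a, ha⟩ := h.conj_x (τ.ρ r)
  obtain ⟨t, ht⟩ := IsAlgClosed.exists_pow_nat_eq ((a * τ.T.c r)⁻¹ : Kˣ).1 (n := e - 1) (by omega)
  have h0 : t ≠ 0 := fun h => Units.ne_zero _ (by rw [← ht, h, zero_pow (by omega)])
  obtain ⟨x, hx⟩ := Φ.exists_of_typ hn h hc (A.x_mem (r := r) (by exact ⟨h1, h2⟩) t) (by
    rw [τ.σ_x, ha, h3, Tw.f, h4, ← Nat.sub_add_cancel (show 1 ≤ e by omega), pow_succ, ht, ← mul_assoc, ← mul_assoc,
      ← Units.val_mul, ← Units.val_mul, mul_inv_cancel, Units.val_one, one_mul])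
  refine ⟨x, fun k => (hx k).trans (and_congr_right' ?_)⟩
  have : ∀ k : ℕ, A.x r t ^ k = A.x r (k * t) := fun k => by
    induction k with
    | zero => simp
    | succ k ih => rw [pow_succ, ih, ← A.add]; congr 1; push_cast; ring
  rw [this, ← A.x_zero r, (A.x_injective r).eq_iff, mul_eq_zero, or_iff_left h0, CharP.cast_eq_zero_iff K p]

end Form

omit [Fact p.Prime] in
theorem sc_clo (hD : D ∈ [chevG2, chevB2, chevD4, chevF4, chevE6, chevE7, chevE8]) (F : Type*) [Field F] [Finite F]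
    [CharP F p] : (stG D (AlgebraicClosure F)).SC p := ⟨stG_R3, stG_G, torH_injective hD, fun t => by
  let E := IntermediateField.adjoin F {t}
  have : FiniteDimensional F E := IntermediateField.adjoin.finiteDimensional (Algebra.IsIntegral.isIntegral t)
  have : Finite E := Module.finite_of_finite F
  have := Fintype.ofFinite E
  obtain ⟨n, -, hn⟩ := FiniteField.card E p
  exact ⟨n, n.2, hn ▸ congrArg Subtype.val (FiniteField.pow_card
    (⟨t, IntermediateField.mem_adjoin_simple_self F t⟩ : E))⟩⟩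

/-- the untwisted groups -/
theorem form_untw (hD : D ∈ [chevG2, chevB2, chevD4, chevF4, chevE6, chevE7, chevE8]) (F : Type*) [Field F]
    [Fintype F] [CharP F p] : ∃ (τ : Twist (stG D (AlgebraicClosure F))) (Φ : Form τ p (D.group F)),
      (∀ r t, τ.T.α r t = t ^ Fintype.card F) ∧ τ.ρ = 1 ∧
      (∀ w c, c ∈ τ.TW w ↔ mact (wM w) c ^ Fintype.card F = c) ∧
      (∀ r t, τ.σ ((stG D _).x r t) = (stG D _).x r (t ^ Fintype.card F)) ∧
      ∀ g, GeneralLinearGroup.map (algebraMap F _) (Φ.π g).1 = (stG D _).θ g.1 := by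
  obtain ⟨β, h1, h2, h3⟩ := exists_clo F Fintype.isPrimePow_card_of_field (pow_one _).symm
  let τ := stTw (Tw.field D β) (fun _ => Iff.rfl) id fun _ => rfl
  let τ₀ : Twist (adjG D F) := fieldTwist (RingHom.id F) (MonoidHom.id _) fun _ _ => rfl
  have h4 : ∀ r t, τ.σ^[1] ((stG D _).x r t) = (stG D _).x r (β t) := fun r t => (τ.is r t).trans (by simp [τ, stTw])
  have h5 : ∀ x, (∃ y, algebraMap F (AlgebraicClosure F) y = x) ↔ β x = x := by simpa [h1] using h3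
  have h6 : τ₀.G1 = ⊤ := eq_top_iff.2 (adjG_G.ge.trans ((adjG D F).X_le.2 fun r _ t => by
    by_cases h : Pos r
    exacts [τ₀.mem_G1_of_U ((adjG D F).x_mem h t) rfl, τ₀.mem_G1_of_V ((adjG D F).x_mem h t) rfl]))
  obtain ⟨n, -, hn⟩ := FiniteField.card F p
  obtain ⟨Φ, h7⟩ := exists_form (τ := τ) (sc_clo (p := p) hD F) (Sys.IsFr.frob (k := n) (fun r t => (h4 r t).trans (by
    rw [h1, hn])) n.2) (j := (GeneralLinearGroup.map (algebraMap F _)).comp (D.group F).subtype)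
    ((GL_map_injective _).comp Subtype.val_injective) (by
      rw [← descent hD _ h5 τ h4 τ₀ (fun _ => rfl) (fun r t => by
        simpa [τ, τ₀, stTw, fieldTwist] using (h5 _).1 ⟨t, rfl⟩) fun j => Twist.nodeOK1 (fun _ => rfl) rfl, h6,
        ← MonoidHom.range_eq_map, MonoidHom.range_comp])
  exact ⟨τ, Φ, fun _ => h1, Equiv.ext fun _ => rfl, fun w c => τ.mem_TW' fun _ => h1, fun r t => (h4 r t).trans (by rw [h1]), h7⟩

end CA.Chev
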