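/-
Tools for twisted tori: exponents, homocyclic subgroups, enumeration of small Weyl groups.
-/
import Cfsg.Agent.Lib.Lie.SSJ

set_option autoImplicit false

namespace CA.Chev

open Matrix Equiv Cfsg.Lie Cfsg.Lie.ChevalleyDatum

section
variable {M : Type*} [CommGroup M] {ι : Type*} [Fintype ι] [DecidableEq ι]

omit [DecidableEq ι] in
theorem mact_zpow' (N : Matrix ι ι ℤ) (ζ : M) (v : ι → ℤ) : mact N (fun j => ζ ^ v j) = fun j => ζ ^ (v ᵥ* N) j := by
  funext j; simp [mact_apply, vecMul, dotProduct, zpow_sum', _root_.zpow_mul]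

theorem mact_pow_fix {N : Matrix ι ι ℤ} {q : ℕ} {c : ι → M} (hc : mact N c ^ q = c) (k : ℕ) :
    mact (N ^ k) c ^ q ^ k = c := by
  induction k with
  | zero => simp [mact_one]
  | succ k ih => rw [pow_succ N, mact_mul, pow_succ, pow_mul, ← map_pow, ih, hc]

theorem zpow_ev_eq_one {N : Matrix ι ι ℤ} {q m : ℕ} {c : ι → M} (hc : mact N c ^ q = c) {f : ℕ → ℤ}
    (h : ∑ k ∈ Finset.range (m + 1), f k • N ^ (m - k) = 0) : c ^ ev (m + 1) f q = 1 := by
  have h1 : ∏ k ∈ Finset.range (m + 1), mact (N ^ (m - k)) c ^ f k = 1 := funext fun j => by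
    simp only [Finset.prod_apply, Pi.pow_apply, mact_apply, ← Finset.prod_zpow, ← _root_.zpow_mul]
    rw [Finset.prod_comm]
    refine Finset.prod_eq_one fun i _ => ?_
    rw [← zpow_sum', show ∑ k ∈ Finset.range (m + 1), (N ^ (m - k)) i j * f k = 0 by
      simpa [Matrix.sum_apply, mul_comm, -zsmul_eq_mul] using congrFun (congrFun h i) j, zpow_zero]
  rw [ev_eq, zpow_sum', ← one_pow (M := ι → M) (q ^ m), ← h1, ← Finset.prod_pow]
  refine Finset.prod_congr rfl fun k hk => ?_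
  obtain ⟨j, rfl⟩ := Nat.exists_eq_add_of_le (Finset.mem_range_succ_iff.1 hk)
  rw [Nat.add_sub_cancel_left, ← zpow_natCast, ← _root_.zpow_mul, mul_comm (f k), mul_comm (f k), _root_.zpow_mul,
    _root_.zpow_mul, zpow_natCast, pow_add, mul_comm, pow_mul, mact_pow_fix hc, ← Nat.cast_pow, zpow_natCast]
end

noncomputable def getG {α : Type} (d : α) (L : List α) : ℕ → α :=
  List.rec (fun _ => d) (fun x _ ih i => Nat.rec x (fun j _ => ih j) i) L

theorem getG_eq {α : Type} (d : α) (L : List α) (i : ℕ) : getG d L i = L.getD i d := by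
  induction L generalizing i with
  | nil => rfl
  | cons x L ih => cases i; exacts [rfl, ih _]

noncomputable def gM (A : List (List ℤ)) (i j : ℕ) : ℤ := getG 0 (getG [] A i) j
noncomputable def mkM (l : ℕ) (f : ℕ → ℕ → ℤ) : List (List ℤ) := (List.range l).map fun i => (List.range l).map (f i)
/-- the matrix of a list of rows -/
noncomputable def toMat (l : ℕ) (A : List (List ℤ)) : Matrix (Fin l) (Fin l) ℤ := Matrix.of fun i j => gM A i j

theorem toMat_mkM (l : ℕ) (f : ℕ → ℕ → ℤ) : toMat l (mkM l f) = Matrix.of fun i j : Fin l => f i j := by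
  ext i j; simp [toMat, gM, mkM, getG_eq]

noncomputable def mmL (l : ℕ) (A B : List (List ℤ)) : List (List ℤ) :=
  mkM l fun i j => sumLt l fun k => Int.mul (gM A i k) (gM B k j)

theorem toMat_mmL (l : ℕ) (A B : List (List ℤ)) : toMat l (mmL l A B) = toMat l A * toMat l B := by
  rw [mmL, toMat_mkM]; ext i j; simp [sumLt_eq, Matrix.mul_apply, toMat]

/-- the descending list of powers -/
noncomputable def mps (l : ℕ) (A : List (List ℤ)) (m : ℕ) : List (List (List ℤ)) :=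
  Nat.rec [mkM l fun i j => if i = j then 1 else 0] (fun _ ih => mmL l (getG [] ih 0) A :: ih) m

theorem toMat_mps (l : ℕ) (A : List (List ℤ)) (m : ℕ) : ∀ k ≤ m, toMat l (getG [] (mps l A m) k) = toMat l A ^ (m - k) := by
  induction m with
  | zero =>
    intro k hk
    rw [Nat.le_zero.1 hk]
    exact (toMat_mkM _ _).trans (by ext i j; simp [Matrix.one_apply, Fin.ext_iff])
  | succ m ih =>
    rintro (_ | k) hk
    · exact (toMat_mmL _ _ _).trans ((congrArg (· * _) (ih 0 m.zero_le)).trans (by simp [pow_succ]))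
    · exact (ih k (by omega)).trans (by simp)

noncomputable def kill (l m : ℕ) (P : List (List (List ℤ))) (f : ℕ → ℤ) : Bool :=
  allLt l fun i => allLt l fun j => decide (sumLt (m + 1) (fun k => Int.mul (f k) (gM (getG [] P k) i j)) = 0)

theorem kill_spec {l m : ℕ} {A : List (List ℤ)} {f : ℕ → ℤ} (h : kill l m (mps l A m) f = true) :
    ∑ k ∈ Finset.range (m + 1), f k • toMat l A ^ (m - k) = 0 := by
  simp only [kill, allLt_iff, decide_eq_true_eq, sumLt_eq] at h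
  ext i j
  rw [Matrix.sum_apply, Finset.sum_range]
  refine (Finset.sum_congr rfl fun k _ => ?_).trans (h i i.2 j j.2)
  rw [← toMat_mps l A m k (Nat.lt_succ_iff.1 k.2)]; rfl

def det4 (a : ℕ → ℕ → ℤ) : ℤ :=
  a 0 0 * (a 1 1 * (a 2 2 * a 3 3 - a 2 3 * a 3 2) - a 1 2 * (a 2 1 * a 3 3 - a 2 3 * a 3 1) +
    a 1 3 * (a 2 1 * a 3 2 - a 2 2 * a 3 1)) -
  a 0 1 * (a 1 0 * (a 2 2 * a 3 3 - a 2 3 * a 3 2) - a 1 2 * (a 2 0 * a 3 3 - a 2 3 * a 3 0) +
    a 1 3 * (a 2 0 * a 3 2 - a 2 2 * a 3 0)) +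
  a 0 2 * (a 1 0 * (a 2 1 * a 3 3 - a 2 3 * a 3 1) - a 1 1 * (a 2 0 * a 3 3 - a 2 3 * a 3 0) +
    a 1 3 * (a 2 0 * a 3 1 - a 2 1 * a 3 0)) -
  a 0 3 * (a 1 0 * (a 2 1 * a 3 2 - a 2 2 * a 3 1) - a 1 1 * (a 2 0 * a 3 2 - a 2 2 * a 3 0) +
    a 1 2 * (a 2 0 * a 3 1 - a 2 1 * a 3 0))

theorem det4_eq (A : List (List ℤ)) : (toMat 4 A).det = det4 (gM A) := by
  simp [Matrix.det_succ_row_zero, Fin.sum_univ_succ, toMat, det4, Fin.succAbove]; ring

variable {D : ChevalleyDatum} [Good D] {K : Type*} [Field K] {Γ : Type*} [Group Γ]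

/-- run through the possible images of the simple roots -/
noncomputable def wAll (T : Tab) (p : ℕ → ℕ) (P : List ℕ → Bool) (k : ℕ) : List ℕ → Bool :=
  Nat.rec P (fun k ih ch => allLt T.n fun s =>
    !(allLt ch.length fun j => Nat.beq (p (T.n * s + getN ch j)) (p (T.n * T.simple k + T.simple (k + 1 + j)))) ||
      ih (s :: ch)) k

noncomputable def prChk (T : Tab) (p : ℕ → ℕ) : Bool := allLt T.n fun r => allLt T.n fun s =>
  decide ((p (T.n * r + s) : ℤ) = (prTb T r s + 3) * 8 + prTb T s r + 3)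

theorem wAll_spec {T : Tab} (hT : tab D = T) {p : ℕ → ℕ} (hp : prChk T p = true) {P : List ℕ → Bool}
    (h : wAll T p P T.l [] = true) {w : Perm (Rt D)} (hw : w ∈ RA D) :
    ∃ S, P S = true ∧ ∀ i : Nd D, getN S i = (w (sim i)).1 := by
  subst hT
  simp only [prChk, allLt_iff, decide_eq_true_eq] at hp
  have h1 : ∀ r s : Rt D, p (D.nroots * (w r).1 + (w s).1) = p (D.nroots * r.1 + s.1) := fun r s => by
    zify
    erw [hp _ (w r).2 _ (w s).2, hp _ r.2 _ s.2]
    simp only [prTb, ← pr_eq_tab rfl, pr_map hw]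
  suffices ∀ k ≤ D.rank, ∀ ch : List ℕ, wAll (tab D) p P k ch = true → k + ch.length = D.rank →
      (∀ i : Nd D, k ≤ i → getN ch (i - k) = (w (sim i)).1) → ∃ S, P S = true ∧ ∀ i : Nd D, getN S i = (w (sim i)).1 from
    this _ le_rfl [] h rfl fun i hi => absurd i.2 hi.not_gt
  intro k
  induction k with
  | zero => exact fun _ ch h _ h2 => ⟨ch, h, fun i => h2 i i.1.zero_le⟩
  | succ k ih =>
    intro hk ch h h2 h3
    have h4 := allLt_iff.1 h _ (w (sim ⟨k, hk⟩)).2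
    rw [allLt_iff.2 fun j hj => Nat.beq_eq.mpr (by
      have := h3 ⟨k + 1 + j, by omega⟩ (by simp)
      rw [Nat.add_sub_cancel_left] at this
      rw [this]; exact h1 (sim ⟨k, hk⟩) (sim ⟨k + 1 + j, by omega⟩))] at h4
    refine ih (by omega) _ h4 (by simp; omega) fun i hi => ?_
    rcases hi.eq_or_lt with e | e
    · obtain rfl : i = ⟨k, hk⟩ := Fin.ext e.symm
      simp [getN_eq]
    · rw [show i - k = i - (k + 1) + 1 by omega]; exact h3 i e

theorem toMat_co {S : List ℕ} {w : Perm (Rt D)} (h : ∀ i : Nd D, getN S i = (w (sim i)).1) (ι : Nd D → Nd D)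
    {ι' : ℕ → ℕ} (hι : ∀ i, (ι i).1 = ι' i) (e : ℕ → ℤ) :
    toMat D.rank (mkM D.rank fun i j => e i * (tab D).co (getN S (ι' i)) j) =
      Matrix.of fun i j : Nd D => e i * cor (w (sim (ι i))) j := by
  rw [toMat_mkM]; ext i j; simp only [of_apply, ← hι, h]; rfl

theorem wM_mul {w : Perm (Rt D)} (hw : w ∈ RA D) (u : Perm (Rt D)) : wM (w * u) = wM u * wM w := by
  ext i j
  rw [wM, of_apply, Perm.mul_apply, ← clin_cor hw]
  simp [Matrix.mul_apply, wM, clin, Fintype.linearCombination_apply]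

theorem wM_one : wM (1 : Perm (Rt D)) = 1 := by
  ext i j; simp [wM, cor_sim, Matrix.one_apply, Pi.single_apply, eq_comm]

theorem wM_refl (r : Rt D) : wM (refl r) = 1 - vecMulVec (wt r) (cor r) := by
  ext i j; simp [wM, cor_refl, cor_sim, pr_sim_left, Matrix.one_apply, Pi.single_apply, eq_comm, vecMulVec_apply]

theorem det_wM_refl (r : Rt D) : (wM (refl r)).det = -1 := by
  rw [wM_refl, sub_eq_add_neg, ← neg_vecMulVec, vecMulVec_eq Unit, det_one_add_replicateCol_mul_replicateRow,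
    dotProduct_neg, show cor r ⬝ᵥ wt r = 2 from pr_self r]; rfl

theorem mact_refl {c : Nd D → Kˣ} {r : Rt D} (h : r ∈ Psi c) : mact (wM (refl r)) c = c := funext fun j => by
  have h1 : ∏ i, c i ^ wt r i = 1 := Units.ext (by simpa [tor_rt] using (show tor c (rt r) = 1 from h))
  simp only [wM_refl, mact_apply, Matrix.sub_apply, vecMulVec_apply, _root_.zpow_sub, _root_.zpow_mul,
    Finset.prod_mul_distrib, Finset.prod_inv_distrib, Finset.prod_zpow, h1]
  simpa [mact_apply] using congrFun (mact_one c) j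

theorem tor_mact {w : Perm (Rt D)} (hw : w ∈ RA D) (c : Nd D → Kˣ) (r : Rt D) :
    tor (mact (wM w) c) (rt (w r)) = tor c (rt r) := by
  simp only [tor_rt, mact_apply, Units.coe_prod, Units.val_zpow_eq_zpow_val, ← Finset.prod_zpow, ← _root_.zpow_mul]
  rw [Finset.prod_comm]
  refine Finset.prod_congr rfl fun i _ => ?_
  rw [← pr_sim_left, ← pr_map hw, ← Units.val_zpow_eq_zpow_val, pr, dotProduct, zpow_sum']
  simp [wM]

theorem Twist.TW_mul {A : Sys D K Γ} (τ : Twist A) {u w : Perm (Rt D)} (hu : u ∈ RA D) {c : Nd D → Kˣ}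
    (h : mact (wM u) c = c) (hc : c ∈ τ.TW w) : c ∈ τ.TW (u * w) := by
  rw [τ.mem_TW, wM_mul hu, mact_mul, τ.mem_TW.1 hc, h]

/-- certificate for a homocyclic subgroup of a torus -/
noncomputable def subChk (T : Tab) (L : List ℕ) (ι S : ℕ → ℕ) (e a : ℕ) (f : ℕ → ℤ) (V : ℕ → ℕ → ℕ → ℤ) (μ : ℕ → ℕ → ℤ)
    (z : ℤ) : Bool :=
  (allLt T.l fun i => decide (S i = apW T L (T.simple (ι i)))) && decide (0 < e) && allLt a fun j =>
    (allLt T.l fun i => decide (V j e i = 0) && decide (-V j 0 i = f 0 * V j (e + 1) i) && allLt e fun k =>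
      decide (sumLt T.l (fun i' => V j k i' * T.co (S i') i) - V j (k + 1) i = f (k + 1) * V j (e + 1) i)) &&
    allLt a fun j' => allLt e fun k => decide (sumLt T.l (fun i => μ j' i * sumLt T.l fun i' =>
      V j k i' * T.wt (T.simple i) i') = if j = j' ∧ k = 0 then z else 0)

theorem sub_spec {T : Tab} (hT : tab D = T) (L : List (Nd D)) {ι : Nd D → Nd D} {ι' S : ℕ → ℕ} (hι : ∀ i, (ι i).1 = ι' i)
    {e a : ℕ} {f : ℕ → ℤ} {V : ℕ → ℕ → ℕ → ℤ} {μ : ℕ → ℕ → ℤ} {z : ℤ}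
    (h : subChk T (L.map Fin.val) ι' S e a f V μ z = true) (q : ℕ) {ζ : Kˣ} (hζ : ζ ^ ev (e + 1) f q = 1) :
    (∀ j < a, mact (Matrix.of fun i j => cor (wd L (sim (ι i))) j) (fun i : Nd D => ζ ^ ev e (V j · i) q) ^ q =
      fun i : Nd D => ζ ^ ev e (V j · i) q) ∧
    ∀ t : Fin a → ℤ, tor (fun i : Nd D => ζ ^ ∑ j, t j * ev e (V j · i) q) = 1 → ∀ j, ζ ^ (z * t j) = 1 := by
  subst hT
  simp only [subChk, allLt_iff, Bool.and_eq_true, decide_eq_true_eq, sumLt_eq] at h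
  obtain ⟨⟨hS, he⟩, h⟩ := h
  have hN : ∀ i j : Nd D, (tab D).co (S i) j = cor (wd L (sim (ι i))) j := fun i j => by
    rw [hS i i.2, ← hι]; exact congrArg (coN D · j) (apW_eq L (sim (ι i)))
  refine ⟨fun j hj => funext fun i => ?_, fun t ht j => ?_⟩
  · obtain ⟨⟨h1, h2⟩, h3⟩ := (h j hj).1 i i.2
    rw [mact_zpow', Pi.pow_apply, ← zpow_natCast, ← _root_.zpow_mul, ← mul_inv_eq_one, ← _root_.zpow_sub,
      ← _root_.one_zpow (V j (e + 1) i), ← hζ, ← _root_.zpow_mul]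
    congr 1
    have : ev e (V j · i) q = ev (e + 1) (V j · i) q := by rw [ev_succ, h1]; simp
    rw [this, ev_succ', ev_succ', add_mul, mul_comm (f 0), mul_comm (V j (e + 1) i) (f 0), ← h2, mul_assoc]
    have : ev e (fun k => f (k + 1)) q * V j (e + 1) i = (((fun i : Nd D => ev e (V j · i) q) ᵥ*
        Matrix.of fun i j => cor (wd L (sim (ι i))) j) i) - ev e (fun k => V j (k + 1) i) q := by
      simp only [ev_eq, vecMul, dotProduct, of_apply, Finset.sum_mul, ← hN]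
      rw [Finset.sum_comm, ← Finset.sum_sub_distrib]
      refine Finset.sum_congr rfl fun k hk => ?_
      rw [mul_right_comm, ← h3 k (Finset.mem_range.1 hk), sub_mul, Finset.sum_mul]
      simp only [mul_right_comm]; rfl
    rw [this]; ring
  · have h1 : ∀ i, ζ ^ ((fun i : Nd D => ∑ j, t j * ev e (V j · i) q) ⬝ᵥ wt (sim i)) = 1 := fun i => Units.ext (by
      rw [← tor_zpow, ht]; rfl)
    have h2 : z * t j = ∑ i : Nd D, ((fun i : Nd D => ∑ j, t j * ev e (V j · i) q) ⬝ᵥ wt (sim i)) * μ j i := by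
      have : ∀ j' : Fin a, ∑ i : Nd D, (∑ i' : Nd D, ev e (V j' · i') q * wt (sim i) i') * μ j i =
          if j' = j then z else 0 := fun j' => by
        simp only [ev_eq, Finset.sum_mul]
        rw [Finset.sum_congr rfl fun i _ => Finset.sum_comm, Finset.sum_comm, Finset.sum_eq_single_of_mem 0
          (Finset.mem_range.2 he) fun k hk h0 => ?_]
        · have := (h j' j'.2).2 j j.2 0 he
          simp only [and_true, Fin.val_inj] at this
          rw [← this]; simp only [pow_zero, mul_one, Finset.mul_sum]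
          exact Finset.sum_congr rfl fun _ _ => Finset.sum_congr rfl fun _ _ => mul_comm _ _
        · have := congrArg (· * (q : ℤ) ^ k) ((h j' j'.2).2 j j.2 k (Finset.mem_range.1 hk))
          simp only [h0, and_false, if_false, zero_mul, Finset.sum_mul, Finset.mul_sum] at this
          rw [← this]
          exact Finset.sum_congr rfl fun _ _ => Finset.sum_congr rfl fun _ _ => by
            change _ * wt (sim _) _ * _ = _ * (_ * wt (sim _) _) * _; ring
      rw [show z * t j = ∑ j', t j' * if j' = j then z else 0 by simp [mul_comm]]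
      simp only [← this, dotProduct, Finset.sum_mul, Finset.mul_sum, mul_assoc]
      rw [Finset.sum_comm]
      exact Finset.sum_congr rfl fun i _ => Finset.sum_comm
    rw [h2, zpow_sum']
    exact Finset.prod_eq_one fun i _ => by rw [_root_.zpow_mul, h1, _root_.one_zpow]

theorem exists_unit_order [IsAlgClosed K] {n : ℕ} (h : (n : K) ≠ 0) : ∃ ζ : Kˣ, orderOf ζ = n := by
  have : NeZero (n : K) := ⟨h⟩
  obtain ⟨ζ, hζ⟩ := HasEnoughRootsOfUnity.exists_primitiveRoot K n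
  exact ⟨_, (hζ.isUnit_unit (by rintro rfl; simp at h)).eq_orderOf.symm⟩

theorem exists_elt [IsAlgClosed K] {T : Tab} (hT : tab D = T) (L : List (Nd D)) {ι : Nd D → Nd D} {ι' S : ℕ → ℕ}
    (hι : ∀ i, (ι i).1 = ι' i) {e : ℕ} {f : ℕ → ℤ} {V : ℕ → ℕ → ℤ} {μ : ℕ → ℤ}
    (h : subChk T (L.map Fin.val) ι' S e 1 f (fun _ => V) (fun _ => μ) 1 = true) (q : ℕ) {m : ℕ} (hm : (m : K) ≠ 0)
    (hd : (m : ℤ) ∣ ev (e + 1) f q) : ∃ c : Nd D → Kˣ, mact (Matrix.of fun i j => cor (wd L (sim (ι i))) j) c ^ q = c ∧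
      orderOf (tor c) = m ∧ ∀ r : Rt D,
        (allLt e fun k => decide (sumLt T.l (fun i => V k i * T.wt r i) = 0)) = true → r ∈ Psi c := by
  obtain ⟨ζ, rfl⟩ := exists_unit_order hm
  obtain ⟨h1, h2⟩ := sub_spec hT L hι h q (orderOf_dvd_iff_zpow_eq_one.1 hd)
  refine ⟨_, h1 0 one_pos, orderOf_eq_orderOf_iff.2 fun n => ⟨fun e => ?_, fun e => ?_⟩, fun r hr => ?_⟩
  · simpa using h2 (fun _ => n) (by
      rw [← e, ← map_pow]; congr 1; funext i; simp [mul_comm (n : ℤ), _root_.zpow_mul]) 0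
  · rw [← map_pow, ← map_one tor]; congr 1; funext i
    rw [Pi.pow_apply, ← zpow_natCast, ← _root_.zpow_mul, mul_comm, _root_.zpow_mul, zpow_natCast, e]; simp
  · subst hT
    simp only [allLt_iff, decide_eq_true_eq, sumLt_eq] at hr
    rw [Psi, Set.mem_ofPred_eq, tor_zpow, show _ ⬝ᵥ wt r = 0 from ?_]; · simp
    simp only [dotProduct, ev_eq, Finset.sum_mul]
    rw [Finset.sum_comm]
    refine Finset.sum_eq_zero fun k hk => ?_
    rw [← zero_mul ((q : ℤ) ^ k), ← hr k (Finset.mem_range.1 hk), Finset.sum_mul]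
    exact Finset.sum_congr rfl fun _ _ => mul_right_comm _ _ _

theorem Twist.ord_typ {A : Sys D K Γ} (τ : Twist A) {p : ℕ} [Fact p.Prime] [CharP K p] [IsAlgClosed K] (S : A.SC p)
    (hσ : A.Frob p τ.σ) {g : Γ} (hg : g ∈ τ.F) (ho : IsOfFinOrder g) : ∃ w ∈ W D, ∃ c ∈ τ.TW w,
    ∃ v ∈ A.X ({r | Pos r} ∩ Psi c), orderOf (A.θ g) = (orderOf (tor c)).lcm (orderOf v) ∧ (orderOf (tor c)).Coprime p ∧
    (∃ k, orderOf v = p ^ k) ∧ (v ≠ 1 → ∃ r, Pos r ∧ r ∈ Psi c) := by
  have hp : p.Prime := Fact.out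
  obtain ⟨w, hw, c, hc, v, hv, y, e⟩ := τ.jordan S hσ hg ho
  refine ⟨w, hw, c, hc, v, hv, Nat.dvd_right_iff_eq.1 fun n => ?_, ?_, ?_, fun h => ?_⟩
  · rw [Nat.lcm_dvd_iff, orderOf_dvd_iff_pow_eq_one, orderOf_dvd_iff_pow_eq_one, orderOf_dvd_iff_pow_eq_one, ← map_pow tor,
      ← Sys.θ_pow_eq_one S.h3 hv, ← e, Sys.conj_pow', map_mul, map_mul, map_inv, ← inv_inv (A.θ y), inv_inv (A.θ y)⁻¹,
      conj_eq_one_iff, map_pow]
  · refine Nat.Coprime.coprime_dvd_left (orderOf_map_dvd _ _) (hp.coprime_iff_not_dvd.2 fun ⟨k, hk⟩ => ?_).symm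
    have h0 := (S.finOrd c).orderOf_pos
    refine pow_ne_one_of_lt_orderOf (n := k) (x := c) (by rintro rfl; omega) (hk ▸ lt_mul_left (by
      rcases k with _ | k <;> omega) hp.one_lt) (funext fun i => Units.ext (frobenius_inj K p ?_))
    have := congrArg Units.val (congrFun (pow_orderOf_eq_one c) i)
    rw [hk, mul_comm, pow_mul] at this
    simpa [frobenius_def] using this
  · obtain ⟨f, hf⟩ := (nil_pos.psi c).1
    obtain ⟨m, hm⟩ := (Set.finite_range fun r : Rt D => f (rt r)).bddAbove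
    refine ((Nat.dvd_prime_pow hp).1 (orderOf_dvd_of_pow_eq_one (Sys.pow_eq_one_of_ht (p := p) (k := m.toNat)
      (nil_pos.psi c) one_pos (fun r hr => ⟨hf r hr, ?_⟩) hv))).imp fun _ h => h.2
    have : f (rt r) ≤ m := hm ⟨r, rfl⟩
    have := Nat.lt_pow_self (n := m.toNat) hp.one_lt
    zify at this; omega
  · by_contra! h'
    exact h (Subgroup.mem_bot.1 (A.X_empty ▸ A.X_mono (fun r hr => h' r hr.1 hr.2) hv))

namespace Form
variable {A : Sys D K Γ} {τ : Twist A} {X : Type*} [Group X] {p : ℕ} [Fact p.Prime] [CharP K p] (Φ : Form τ p X)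
  [IsAlgClosed K]
include Φ

theorem ord_ss {w : Perm (Rt D)} (hw : w ∈ W D) {c : Nd D → Kˣ} (hc : c ∈ τ.TW w) : ∃ x : X, orderOf x = orderOf (tor c) :=
  (Φ.exists_ss hw hc).imp fun x h => orderOf_eq_orderOf_iff.2 fun n => by rw [h, map_pow]

theorem ord_mixed {w : Perm (Rt D)} (hw : w ∈ W D) {c : Nd D → Kˣ} (hc : c ∈ τ.TW w) {r : Rt D} (h1 : Pos r)
    (h2 : r ∈ Psi c) (h3 : w (τ.ρ r) = r) {e : ℕ} (he : 2 ≤ e) (h4 : ∀ t, τ.T.α r t = t ^ e) :
    ∃ x : X, orderOf x = (orderOf (tor c)).lcm p :=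
  (Φ.exists_mixed hw hc h1 h2 h3 he h4).imp fun x h => Nat.dvd_right_iff_eq.1 fun n => by
    rw [orderOf_dvd_iff_pow_eq_one, h, map_pow, Nat.lcm_dvd_iff, orderOf_dvd_iff_pow_eq_one]

theorem ord_typ [Finite X] (x : X) : ∃ w ∈ W D, ∃ c ∈ τ.TW w, ∃ v ∈ A.X ({r | Pos r} ∩ Psi c),
    orderOf x = (orderOf (tor c)).lcm (orderOf v) ∧ (orderOf (tor c)).Coprime p ∧ (∃ k, orderOf v = p ^ k) ∧
    (v ≠ 1 → ∃ r, Pos r ∧ r ∈ Psi c) := by
  obtain ⟨g, rfl⟩ := Φ.surj x
  rw [show orderOf (Φ.π g) = orderOf (A.θ g) from orderOf_eq_orderOf_iff.2 fun n => by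
    rw [← map_pow, Φ.ker, ← map_pow]; rfl]
  exact τ.ord_typ Φ.S Φ.fr g.2 (Φ.finOrd g)

end Form

theorem sc_adj {p : ℕ} (hD : D ∈ [chevG2, chevB2, chevD4, chevF4, chevE6, chevE7, chevE8]) (F : Type*) [Field F] [Finite F]
    [CharP F p] (h : Function.Injective (tor (D := D) (K := AlgebraicClosure F))) : (adjG D (AlgebraicClosure F)).SC p :=
  ⟨Twist.adjG_R3, adjG_G, fun a b e => h (dgG_injective (by rw [← Twist.adjG_R3.θ_torH, e, Twist.adjG_R3.θ_torH])), (sc_clo hD F).fin⟩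

end CA.Chev
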