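/-
`A₈` from Steinberg relations, the form of ²E₆(q), fixed points in centralisers of semisimple elements.
-/
import Cfsg.Agent.Lib.Lie.SST
import Cfsg.Agent.Lib.Lie.H12Inv2
import Cfsg.Agent.Lib.Lie.H22ModA
import Cfsg.Agent.Lib.Lin.A8GL4

set_option autoImplicit false

namespace CA.Chev

open Matrix Equiv Cfsg.Lie Cfsg.Lie.ChevalleyDatum

theorem rA_facts : ∀ a b c d : Fin 4, a ≠ b → c ≠ d → rA a b + rA c d ≠ 0 →
    (rA a b + (rA a b + rA c d)) ⬝ᵥ (rA a b + (rA a b + rA c d)) ≠ 2 ∧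
    (rA c d + (rA c d + rA a b)) ⬝ᵥ (rA c d + (rA c d + rA a b)) ≠ 2 ∧
    ((b = c ∧ a ≠ d ∧ rA a b + rA c d = rA a d ∧ rA a b ⬝ᵥ rA c d < 0) ∨
      (b ≠ c ∧ a = d ∧ c ≠ b ∧ rA a b + rA c d = rA c b ∧ rA a b ⬝ᵥ rA c d < 0) ∨
      (b ≠ c ∧ a ≠ d ∧ (rA a b + rA c d) ⬝ᵥ (rA a b + rA c d) ≠ 2)) := by decide +kernel

theorem exists_A8 {M : Type*} [Group M] (y : Fin 4 → Fin 4 → M) (sq : ∀ a b, y a b * y a b = 1)
    (rel : ∀ a b c d, a ≠ b → c ≠ d → (b = c → a ≠ d) →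
      y c d * y a b = y a b * y c d * (if b = c then y a d else if a = d then y c b else 1)) :
    ∃ f : alternatingGroup (Fin 8) →* M, (∀ a b, a ≠ b → y a b ∈ f.range) ∧
      ∀ H : Subgroup M, (∀ a b, a ≠ b → y a b ∈ H) → f.range ≤ H := by
  let Mo := modA 3 (by norm_num)
  choose a d h e using fun r : Rt Mo.D => mem_modA.1 (Mo.R_mem r.2)
  let x : Rt Mo.D → ZMod 2 → M := fun r t => if t = 0 then 1 else y (a r) (d r)
  have hx : ∀ i j, i ≠ j → ∀ t, x (Mo.ι (rA i j)) t = if t = 0 then 1 else y i j := fun i j hij t => by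
    obtain ⟨e1, e2⟩ := (rA_inj hij).1 ((e (Mo.ι (rA i j))).symm.trans (Mo.R_ι (rA_mem hij)))
    simp only [x, e1, e2]
  have h01 : ∀ t : ZMod 2, t = 0 ∨ t = 1 := by decide
  have h0 : ∀ r, x r 0 = 1 := fun r => if_pos rfl
  have hN : ∀ n : ℤ, n * n = 1 → (n : ZMod 2) = 1 := fun n hn => by
    rcases Int.eq_one_or_neg_one_of_mul_eq_one hn with rfl | rfl <;> decide
  obtain ⟨φ, hφ⟩ := exists_liftC (D := Mo.D) (K := ZMod 2) (x := x) (fun r t u => by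
      rcases h01 t with rfl | rfl <;> rcases h01 u with rfl | rfl <;> simp [x, sq, show (1 + 1 : ZMod 2) = 0 from rfl])
    (by
      intro r s
      induction r using Mo.all_ι with | _ v hv => ?_
      induction s using Mo.all_ι with | _ v' hv' => ?_
      intro e1 e2 t u
      obtain ⟨i, j, hij, rfl⟩ := mem_modA.1 hv
      obtain ⟨k, l, hkl, rfl⟩ := mem_modA.1 hv'
      have e3 := (Mo.ne_ng hv hv').1 e2
      obtain ⟨f1, f2, f3⟩ := rA_facts i j k l hij hkl e3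
      rw [Mo.cw_ι h0 hv hv' e3, Mo.N2_zero fun c => f1 (norm_A _ c), Mo.N2_zero fun c => f2 (norm_A _ c), hx i j hij,
        hx k l hkl]
      simp only [Int.cast_zero, zero_mul, h0, mul_one]
      rcases f3 with ⟨rfl, g1, g2, g3⟩ | ⟨g0, rfl, g1, g2, g3⟩ | ⟨g0, g1, g2⟩
      · rw [hN _ (Mo.N_unit hv hv' g3 e3), g2, hx _ _ g1]
        rcases h01 t with rfl | rfl <;> rcases h01 u with rfl | rfl <;> simp [rel i j j l hij hkl fun _ => g1]
      · rw [hN _ (Mo.N_unit hv hv' g3 e3), g2, hx _ _ g1]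
        rcases h01 t with rfl | rfl <;> rcases h01 u with rfl | rfl <;> simp [rel i j k i hij hkl (absurd · g0), g0]
      · rw [Mo.N_zero fun c => g2 (norm_A _ c)]
        rcases h01 t with rfl | rfl <;> rcases h01 u with rfl | rfl <;> simp [rel i j k l hij hkl (absurd · g0), g0, g1, h0])
  obtain ⟨e1, -⟩ := exists_slA (K := ZMod 2) (l := 3) (hl := by norm_num)
  obtain ⟨e2, -⟩ := CA.A8GL4.exists_equiv
  have hr : (φ.comp (e2.trans e1.symm).toMonoidHom).range = φ.range :=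
    MonoidHom.range_comp _ _ |>.trans (by rw [MonoidHom.range_eq_top.2 (e2.trans e1.symm).surjective, MonoidHom.range_eq_map])
  refine ⟨φ.comp (e2.trans e1.symm).toMonoidHom, fun i j hij => hr ▸ ⟨_, (hφ _ 1).trans ((hx i j hij 1).trans (by simp))⟩,
    fun H hH => hr ▸ ?_⟩
  rw [MonoidHom.range_eq_map, Subgroup.map_le_iff_le_comap, ← stC_G (D := Mo.D) (K := ZMod 2)]
  refine (stC Mo.D (ZMod 2)).X_le.2 fun r _ t => ?_
  rw [Subgroup.mem_comap, hφ]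
  by_cases ht : t = 0
  exacts [by simp [x, ht], by simpa [x, ht] using hH _ _ (h r)]

variable {D : ChevalleyDatum} [Good D] {K : Type*} [Field K] {Γ : Type*} [Group Γ]

/-- the groups ²E₆(q) -/
theorem form_2E6 (F : Type*) [Field F] [Fintype F] {p q : ℕ} [Fact p.Prime] [CharP F p] (hq : IsPrimePow q)
    (hF : Fintype.card F = q ^ 2) : ∃ (τ : Twist (stG chevE6 (AlgebraicClosure F))) (_ : Form τ p (twistedE6 F q)),
      (∀ r t, τ.T.α r t = t ^ q) ∧ (∀ r, (τ.ρ r).val = φE6 r) ∧ τ.ι = ιE6 ∧ ∀ r t, τ.T.f r t = ηE6 r * t ^ q := by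
  obtain ⟨β, h1, h2, h3⟩ := exists_clo F hq hF
  obtain ⟨α, ha, ha', -⟩ := exists_frob' hq hF
  have hα : ∀ t, α (α t) = t := fun t => by rw [ha, ha, ← pow_mul, ← sq, ha']
  have hb : ∀ t, (β.comp β) t = t ^ q ^ 2 := fun t => by simp only [RingHom.comp_apply, h1, ← pow_mul, sq]
  let τ := stTw (tE6 β).T (tE6 β).pos ιE6 (tE6 β).φ_sim
  have h4 : ∀ r t, τ.σ^[2] ((stG chevE6 _).x r t) = (stG chevE6 _).x r (β.comp β t) := fun r t => by
    obtain ⟨e1, e2⟩ := (by decide +kernel : ∀ r : Rt chevE6, φE6 (φE6 r) = r ∧ ηE6 (φE6 r) * ηE6 r = 1) r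
    change τ.σ (τ.σ _) = _
    rw [τ.σ_x, τ.σ_x, show τ.ρ (τ.ρ r) = r from Fin.ext e1]
    refine congrArg _ (((TE6.f_eq _ _).trans (by rw [show τ.T.f = (tE6 β).T.f from rfl, TE6.f_eq])).trans ?_)
    simp only [map_mul, map_intCast, ← mul_assoc, ← Int.cast_mul]
    rw [show ηE6 (τ.ρ r) * ηE6 r = 1 from e2]; simp
  have hn : ∀ j, (stTw (tE6 α).T (tE6 α).pos (tE6 α).ι (tE6 α).φ_sim).NodeOK j := fun i => by
    rcases TE6.nodes i with h | ⟨a, b, c, d⟩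
    · exact Twist.nodeOK1 (τ := stTw ..) (TE6.hc (α := α)) h
    exact Twist.Ty2.nodeOK (τ := stTw ..) (TE6.hc (α := α))
      ⟨a, b, (wt_eq_tab tab_E6 _ _).trans c, Sys0.orth_of_chk _ tab_E6 (by simp) d, hα⟩
  have h5 := descent (by simp) _ (fun x => hb x ▸ h3 x) τ h4 (tE6 α) (fun _ => rfl) (fun r t => by
    rw [show τ.T.f = (tE6 β).T.f from rfl, TE6.f_eq, TE6.f_eq, h1, ha]; simp) hn
  rw [(TE6.real ha hα).eq] at h5
  obtain ⟨n, -, hn⟩ := FiniteField.card F p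
  obtain ⟨Φ, -⟩ := exists_form (τ := τ) (sc_clo (p := p) (by simp) F) ⟨fun r => ⟨_, _, q, fun t => (τ.σ_x r t).trans (by
      rw [show τ.T.f = (tE6 β).T.f from rfl, TE6.f_eq, h1])⟩, fun g hg => τ.is.mem_H hg, fun g hg => τ.is.mem_N hg,
      2, n, two_pos, n.2, fun r t => (h4 r t).trans (by rw [hb, ← hF, hn])⟩
    (j := (GeneralLinearGroup.map (algebraMap F _)).comp (twistedE6 F q).subtype)
    ((GL_map_injective _).comp Subtype.val_injective) (by rw [← h5, MonoidHom.range_comp, Subgroup.range_subtype])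
  exact ⟨τ, Φ, fun _ => h1, fun _ => rfl, rfl, fun r t => (TE6.f_eq r t).trans (by rw [h1])⟩

namespace Sys
open Sys0
variable {A : Sys D K Γ} {ψ : Γ →* Γ} {β : K →+* K}

theorem map_mem_X {S : Set (Rt D)} (hψ : ∀ r ∈ S, ∀ t, ψ (A.x r t) = A.x r (β t)) {u : Γ} (hu : u ∈ A.X S) :
    ψ u ∈ A.X S :=
  (A.X_le (M := (A.X S).comap ψ)).2 (fun r hr t => by rw [Subgroup.mem_comap, hψ r hr]; exact A.x_mem hr _) hu

theorem fix_mem {S : Set (Rt D)} (hS : Nil S) (hψ : ∀ r ∈ S, ∀ t, ψ (A.x r t) = A.x r (β t)) {L : Subgroup Γ}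
    (hL : ∀ r ∈ S, ∀ t, β t = t → A.x r t ∈ L) {u : Γ} (hu : u ∈ A.X S) (e : ψ u = u) : u ∈ L := by
  obtain ⟨M, h1, h2⟩ := exists_list S
  obtain ⟨t, rfl⟩ := A.exists_P hS h1 h2 hu
  have k : ψ (A.P M t) = A.P M fun r => β (t r) := by
    simp only [Sys0.P, map_list_prod, List.map_map, Function.comp_def]
    exact congrArg _ (List.map_congr_left fun r hr => hψ r ((h2 r).1 hr) _)
  have := A.P_unique hS h1 (fun r hr => (h2 r).1 hr) (k.symm.trans e)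
  refine list_prod_mem fun y hy => ?_
  obtain ⟨r, hr, rfl⟩ := List.mem_map.1 hy
  exact hL r ((h2 r).1 hr) _ (this r hr)

theorem R3.cent_fix (h3 : A.R3) (hi : Function.Injective h3.torH) {c : Nd D → Kˣ} (hc : IsOfFinOrder c)
    (hψ : ∀ r ∈ Psi c, ∀ t, ψ (A.x r t) = A.x r (β t)) (hH : ∀ g ∈ A.H, ψ g ∈ A.H) {L : Subgroup Γ}
    (hL : ∀ r ∈ Psi c, ∀ t, β t = t → A.x r t ∈ L) {g : Γ} (hg : g ∈ A.G) (e1 : h3.torH c * g * (h3.torH c)⁻¹ = g)
    (e2 : ψ g = g) : ∃ v ∈ L, ∃ k ∈ A.H, ψ k = k ∧ ∃ l ∈ L, g = v * k * l := by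
  obtain ⟨v, hv, m, hm, w, hw, e, u, hu, rfl⟩ := h3.cent_decomp hi hg e1
  let L' := L ⊓ ψ.eqLocus (MonoidHom.id Γ)
  have hL' : ∀ r ∈ Psi c, ∀ t, β t = t → A.x r t ∈ L' := fun r hr t ht => ⟨hL r hr t ht, (hψ r hr t).trans (by rw [ht]; rfl)⟩
  obtain ⟨m₀, h1, h2, h4⟩ : ∃ m₀ ∈ A.N, m₀ ∈ L' ∧ A.Act m₀ w := by
    have hw' := (stab_Psi hc hw.1 e).1
    clear hu hw e1 e2 hg e
    induction hw' using Subgroup.closure_induction with
    | mem w hw =>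
      obtain ⟨r, hr, rfl⟩ := hw
      exact ⟨_, A.n_mem r 1, mul_mem (mul_mem (hL' r hr _ (by simp)) (hL' _ (ng_mem_Psi hr) _ (by simp)))
        (hL' r hr _ (by simp)), A.act_n r 1⟩
    | one => exact ⟨1, one_mem _, one_mem _, .one⟩
    | mul _ _ _ _ h h' =>
      obtain ⟨m, a, b, c⟩ := h
      obtain ⟨m', a', b', c'⟩ := h'
      exact ⟨_, mul_mem a a', mul_mem b b', c.mul c'⟩
    | inv _ _ h => obtain ⟨m, a, b, c⟩ := h; exact ⟨_, inv_mem a, inv_mem b, c.inv⟩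
  have hk : m * m₀⁻¹ ∈ A.H := by simpa [mul_assoc] using A.conj_H h1 (A.mem_H_of_act_eq h1 hm h4 hw)
  have hv' := map_mem_X (fun r hr => hψ r hr.2) hv
  have hu' := map_mem_X (fun r hr => hψ r hr.2) hu
  have hU := fun {y} (h : y ∈ A.X ({r | Pos r} ∩ Psi c)) => A.X_mono Set.inter_subset_left h
  obtain ⟨e3, e4⟩ := A.canon_unique (mul_mem (A.U_le_B (hU hv')) (A.H_le_B (hH _ hk)))
    (mul_mem (A.U_le_B (hU hv)) (A.H_le_B hk)) h4 (A.X_mono Set.inter_subset_left hu') (A.X_mono Set.inter_subset_left hu)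
    (by rw [map_mul, map_mul] at e2; rw [map_mul, map_inv, show ψ m₀ = m₀ from h2.2]; simpa [mul_assoc] using e2)
  obtain ⟨e5, e6⟩ := A.UH_unique (hU hv') (hU hv) (hH _ hk) hk e3
  exact ⟨v, fix_mem (nil_pos.psi c) (fun r hr => hψ r hr.2) (fun r hr => hL r hr.2) hv e5, _, hk, e6, m₀ * u,
    mul_mem h2.1 (fix_mem ((nil_invs hw.ra).psi c) (fun r hr => hψ r hr.2) (fun r hr => hL r hr.2) hu e4), by group⟩

end Sys

theorem Twist.conj_mem_F {A : Sys D K Γ} (τ : Twist A) {y n g : Γ} (hy : τ.σ y = y * n) :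
    y * g * y⁻¹ ∈ τ.F ↔ n * τ.σ g * n⁻¹ = g := by
  rw [τ.mem_F, map_mul, map_mul, map_inv, hy, show y * n * τ.σ g * (y * n)⁻¹ = y * (n * τ.σ g * n⁻¹) * y⁻¹ by group,
    mul_left_inj, mul_right_inj]

theorem Twist.fix_torH {A : Sys D K Γ} (τ : Twist A) (h3 : A.R3) (hi : Function.Injective h3.torH) {n : Γ}
    {w : Perm (Rt D)} (hw : A.Act n w) {c : Nd D → Kˣ} : n * τ.σ (h3.torH c) * n⁻¹ = h3.torH c ↔ c ∈ τ.TW w := by
  rw [τ.σ_torH, h3.conj_torH hw, hi.eq_iff, τ.mem_TW]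

theorem cube_of_tor {c : Nd chevE6 → Kˣ} (h : tor c = 1) : c ^ 3 = 1 := by
  have w : ∀ j i : Fin 6, wt (sim (nE6 j)) (nE6 i) = ![![2, 0, -1, 0, 0, 0], ![0, 2, 0, -1, 0, 0], ![-1, 0, 2, -1, 0, 0],
    ![0, -1, -1, 2, -1, 0], ![0, 0, 0, -1, 2, -1], ![0, 0, 0, 0, -1, 2]] j i := by decide +kernel
  have h' : ∀ j : Fin 6, ∏ i : Fin 6, c (nE6 i) ^ wt (sim (nE6 j)) (nE6 i) = 1 := mem_ker_tor.1 h
  simp only [Fin.forall_fin_succ, Fin.prod_univ_six, w] at h'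
  simp at h'
  obtain ⟨h1, h2, h3, h4, h5, h6⟩ := h'
  obtain ⟨e1, e2, e3, e4, e5, e6⟩ := ker_E6 h1 h2 h3 h4 h5 h6
  funext i
  change c (nE6 i) ^ 3 = 1
  have e7 : (c (nE6 0) ^ 2) ^ 3 = 1 := by rw [← pow_mul, mul_comm, pow_mul, e6, one_pow]
  fin_cases i
  exacts [e6, (congrArg (· ^ 3) e1).trans (one_pow 3), (congrArg (· ^ 3) e2).trans e7, (congrArg (· ^ 3) e3).trans (one_pow 3),
    (congrArg (· ^ 3) e4).trans e6, (congrArg (· ^ 3) e5).trans e7]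

end CA.Chev
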