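/-
Elements of order five of ²E₆(2): certificates.
-/
import Cfsg.Agent.Lib.Lie.H23E6a

set_option autoImplicit false

namespace CA.Chev

open Matrix Equiv Cfsg.Lie Cfsg.Lie.ChevalleyDatum

theorem cent_iso {G S : Type*} [Group G] [Group S] [IsSimpleGroup S] (hS : Subgroup.center S = ⊥) {x : G}
    (hx : orderOf x = 5) (f : S →* G) (hf : ∃ a, f a ≠ 1) (hc : ∀ a, Commute x (f a))
    (h : ∀ g, Commute g x → ∃ k : ℕ, ∃ a, g = x ^ k * f a) :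
    Nonempty (Subgroup.centralizer ({x} : Set G) ≃* Multiplicative (ZMod 5) × S) := by
  have h5 : x ^ 5 = 1 := hx ▸ pow_orderOf_eq_one x
  have hi : Function.Injective f := (MonoidHom.ker_eq_bot_iff f).1 ((Subgroup.Normal.eq_bot_or_eq_top f.normal_ker).resolve_right
    fun e => hf.elim fun a ha => ha (e.ge (Subgroup.mem_top a)))
  let e : Multiplicative (ZMod 5) →* G := MonoidHom.mk' (fun a => x ^ a.toAdd.val) fun a b => by
    rw [toAdd_mul, ZMod.val_add, ← pow_eq_pow_mod _ h5, pow_add]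
  have he : ∀ a, e a = x ^ a.toAdd.val := fun _ => rfl
  let φ := e.noncommCoprod f fun a b => (hc b).pow_left _
  have h1 : Function.Injective φ := (injective_iff_map_eq_one φ).2 fun ⟨a, b⟩ h => by
    have h : x ^ a.toAdd.val * f b = 1 := h
    have hb : b = 1 := Subgroup.mem_bot.1 (hS ▸ Subgroup.mem_center_iff.2 fun c => hi (by
      rw [map_mul, map_mul, eq_inv_of_mul_eq_one_right h]; exact (((hc c).pow_left _).inv_left).symm))
    rw [hb, map_one, mul_one, ← orderOf_dvd_iff_pow_eq_one, hx] at h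
    exact Prod.ext ((ZMod.val_eq_zero _).1 (Nat.eq_zero_of_dvd_of_lt h a.toAdd.val_lt)) hb
  have h2 : Subgroup.centralizer ({x} : Set G) = φ.range := le_antisymm (fun g hg => by
    obtain ⟨k, a, rfl⟩ := h g (Subgroup.mem_centralizer_singleton_iff.1 hg)
    exact ⟨(Multiplicative.ofAdd (k : ZMod 5), a), by
      change x ^ (k : ZMod 5).val * f a = _
      rw [ZMod.val_natCast, ← pow_eq_pow_mod _ h5]⟩) (by
    rintro _ ⟨⟨a, b⟩, rfl⟩
    exact Subgroup.mem_centralizer_singleton_iff.2 (((Commute.refl x).pow_left _).mul_left (hc b).symm))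
  exact ⟨(MulEquiv.subgroupCongr h2).trans (MonoidHom.ofInjective h1).symm⟩

variable {D : ChevalleyDatum} [Good D] {K : Type*} [Field K]

/-- the action of a Weyl group element on a cocharacter modulo `n` -/
noncomputable def actChk (T : Tab) (L : List ℕ) (ι : ℕ → ℕ) (m : ℕ) (v v' : ℕ → ℤ) (n : ℤ) : Bool :=
  allLt T.l fun j => decide ((sumLt T.l (fun i => v i * T.co (apW T L (T.simple (ι i))) j) * m - v' j) % n = 0)

theorem act_spec {T : Tab} (hT : tab D = T) (L : List (Nd D)) {ι : Nd D → Nd D} {ι' : ℕ → ℕ} (hι : ∀ i, (ι i).1 = ι' i)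
    {m : ℕ} {v v' : ℕ → ℤ} {n : ℤ} (h : actChk T (L.map Fin.val) ι' m v v' n = true) {ζ : Kˣ} (hζ : ζ ^ n = 1) :
    mact (Matrix.of fun i j => cor (wd L (sim (ι i))) j) (fun i : Nd D => ζ ^ v i) ^ m = fun j : Nd D => ζ ^ v' j := by
  subst hT
  simp only [actChk, allLt_iff, decide_eq_true_eq, sumLt_eq] at h
  funext j
  obtain ⟨k, hk⟩ := Int.dvd_of_emod_eq_zero (h j j.2)
  have e : ((fun i : Nd D => v i) ᵥ* Matrix.of fun i j => cor (wd L (sim (ι i))) j) j =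
      ∑ i : Fin (tab D).l, v i * (tab D).co (apW (tab D) (L.map Fin.val) ((tab D).simple (ι' i))) j := by
    rw [vecMul, dotProduct]
    exact Finset.sum_congr rfl fun (i : Nd D) _ => congrArg (v i * ·) (by
      rw [← hι]; exact congrArg (coN D · j) (apW_eq L (sim (ι i))).symm)
  rw [mact_zpow', Pi.pow_apply, ← zpow_natCast, ← _root_.zpow_mul, e, eq_add_of_sub_eq hk, _root_.zpow_add, _root_.zpow_mul,
    hζ, _root_.one_zpow, one_mul]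

/-- collection check for words with coefficients one -/
def col2 (T : Tab) (k : ℕ) (L L' : List ℕ) : Bool :=
  colChk T 2 (fun x => if x = k then 1000 else x) 50 (L.map fun r => (r, .c 1)) (L'.map fun r => (r, .c 1))

theorem ev_of_col2 {Γ : Type*} [Group Γ] (A : Sys D K Γ) [CharP K 2] {T : Tab} (hT : tab D = T) {k : ℕ} {L L' : List ℕ}
    (h : col2 T k L L' = true) : H12Inv2.ev A L = H12Inv2.ev A L' := by
  have := wN_eq_of_colChk A.toSys0 H12Inv2.two_eq [] hT h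
  simp only [List.map_map, Function.comp_def, Ex.ev, Int.cast_one] at this
  exact this

namespace E6five

def v0 (i : ℕ) : ℤ := ([1, 3, 0, 4, 0, 1] : List ℤ).getD i 0
def v1 (i : ℕ) : ℤ := ([0, 0, 3, 4, 1, 0] : List ℤ).getD i 0
def av (i : ℕ) : ℤ := ([1, 3, 5, 9, 10, 11] : List ℤ).getD i 0
def io (i : ℕ) : ℕ := [5, 1, 4, 3, 2, 0].getD i 0
def L1 : List (Fin 6) := [0, 2, 3, 4, 5, 4, 3, 0, 2, 1, 3, 4, 0, 2, 1, 3, 2, 1]
def L2 : List (Fin 6) := [0, 2, 3, 4, 5, 4, 3, 2, 1, 3, 4, 0, 2, 3, 1]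
def LL (a b : ℕ) : List (Fin 6) := (([[[], [0, 1, 2, 3, 2, 0, 4, 5, 4, 3, 1, 2, 0, 3, 2, 4, 3],
  [0, 1, 2, 3, 2, 0, 4, 3, 5, 4, 3, 1, 2, 0, 3, 2], [0, 1, 2, 3, 2, 4, 5, 4, 3, 1, 2, 0, 3, 4],
  [0, 1, 2, 3, 2, 0, 4, 5, 4, 3, 1, 2, 0]], [[], [0, 1, 2, 3, 2, 0, 4, 3, 1, 2, 5, 4, 3, 1, 2, 0, 3, 4, 5],
  [0, 1, 2, 3, 2, 0, 4, 3, 1, 2, 5, 4, 3, 1, 2, 0, 3, 2, 4, 3, 5, 4],
  [0, 1, 3, 2, 0, 4, 3, 1, 2, 3, 5, 4, 3, 1, 2, 0, 3, 2, 4, 5],
  [0, 1, 2, 3, 2, 0, 4, 3, 1, 2, 3, 4, 5, 4, 3, 1, 2, 0, 3, 2, 4, 3, 5]], [[0, 2, 3, 4, 5, 4, 3, 1, 2, 0, 3, 2, 4, 3, 1],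
  [1, 3, 2, 0, 4, 5, 4], [0, 1, 3, 2, 0, 4, 3, 5, 4, 3], [1, 3, 2, 0, 4, 3, 2, 5], [1, 3, 2, 0, 4, 3, 2, 5, 4, 3, 2]],
  [[1, 3, 2, 0, 4, 3, 1, 2, 3, 4, 5, 4, 3, 2, 0], [0, 1, 2, 3, 1, 4, 5, 4, 3, 1, 2, 0, 3, 2, 4, 3, 1, 5, 4],
  [0, 1, 2, 3, 1, 4, 3, 2, 5, 4, 3, 1, 2, 0, 3, 2, 4, 3, 1, 5, 4, 3],
  [0, 1, 2, 3, 1, 2, 4, 3, 5, 4, 3, 1, 2, 0, 3, 2, 4, 3, 1, 5],
  [0, 1, 2, 3, 1, 2, 4, 3, 5, 4, 3, 1, 2, 0, 3, 2, 4, 3, 1, 5, 4, 3, 2]],
  [[0, 1, 2, 3, 1, 2, 0, 4, 3, 1, 2, 0, 3, 4, 5, 4, 3, 1, 2, 0, 3, 2, 4, 3, 1, 5, 4, 3, 2, 0], [0, 2, 3, 5, 4, 3, 1],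
  [0, 2, 3, 5, 4, 3, 1, 2, 3, 4], [0, 1, 2, 5, 4, 3, 1, 2], [0, 1, 2, 3, 1, 5, 4, 3, 1, 2, 3]]] :
    List (List (List (Fin 6)))).getD a []).getD b []
def em (a b : Fin 4) : ℕ := ![![0, 42, 43, 44], ![29, 0, 39, 40], ![28, 32, 0, 37], ![27, 31, 34, 0]] a b
/-- a word -/
def nw (L : List (Fin 6)) : List (Nd chevE6) := L

theorem c10 : actChk tabE6 (L1.map Fin.val) io 2 v0 v0 5 = true := by decide +kernel
theorem c11 : actChk tabE6 (L1.map Fin.val) io 2 v1 v1 5 = true := by decide +kernel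
theorem c20 : actChk tabE6 (L2.map Fin.val) io 2 v0 v0 5 = true := by decide +kernel
theorem cLL : ∀ a b : Fin 5, a ≠ 0 ∨ b ≠ 0 →
    actChk tabE6 ((LL a b).map Fin.val) id 1 (fun i => v0 i * a.val + v1 i * b.val) v0 5 = true := by decide +kernel
theorem em_lt : ∀ a b, em a b < 72 := by decide
theorem cPsi : ∀ r : Fin 72, sumLt 6 (fun i => v0 i * tabE6.wt r i) % 5 = 0 →
    apW tabE6 (L2.map Fin.val) (φE6 r) = r ∧ ∃ a b, a ≠ b ∧ em a b = r := by decide +kernel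
theorem cEm : ∀ a b, a ≠ b → sumLt 6 (fun i => v0 i * tabE6.wt (em a b) i) % 5 = 0 := by decide +kernel
theorem cRel : ∀ a b c d, a ≠ b → c ≠ d → (b = c → a ≠ d) → col2 tabE6 (if b = c then em a d else em c b) [em c d, em a b]
    ([em a b, em c d] ++ if b = c then [em a d] else if a = d then [em c b] else []) = true := by decide +kernel
theorem cη : ∀ r : Fin 72, ηE6 r % 2 = 1 := by decide +kernel
theorem cN : ∀ i j : Fin 6, tabE6.co (apW tabE6 (L2.map Fin.val) (tabE6.simple (io i))) j =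
    ![![0, 1, 0, 1, 1, 1], ![-1, -1, -2, -3, -2, -1], ![0, 0, 1, 0, 0, 0], ![0, 0, 0, 1, 0, 0], ![0, 0, 0, 0, 1, 0],
      ![1, 1, 1, 1, 0, 0]] i j := by decide +kernel
theorem cav : ∀ j : Fin 6, sumLt 6 (fun i => av i * tabE6.wt (tabE6.simple j) i) % 3 = 0 := by decide +kernel

theorem solve {M : Type*} [CommGroup M] {a b c d e f : M} (h0 : (b⁻¹ * f) ^ 2 = a) (h1 : (a * b⁻¹ * f) ^ 2 = b)
    (h2 : ((b ^ 2)⁻¹ * c * f) ^ 2 = c) (h3 : (a * (b ^ 3)⁻¹ * d * f) ^ 2 = d) (h4 : (a * (b ^ 2)⁻¹ * e) ^ 2 = e)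
    (h5 : (a * b⁻¹) ^ 2 = f) : a ^ 15 = 1 ∧ b = a ^ 3 ∧ c = a ^ 5 ∧ d = a ^ 9 ∧ e = a ^ 10 ∧ f = a ^ 11 := by
  have : ∀ a b c d e f : Additive M, 2 • (-b + f) = a → 2 • (a + -b + f) = b → 2 • (-(2 • b) + c + f) = c →
      2 • (a + -(3 • b) + d + f) = d → 2 • (a + -(2 • b) + e) = e → 2 • (a + -b) = f →
      15 • a = 0 ∧ b = 3 • a ∧ c = 5 • a ∧ d = 9 • a ∧ e = 10 • a ∧ f = 11 • a := by
    intro a b c d e f h0 h1 h2 h3 h4 h5
    have e1 : b = 3 • a := by linear_combination (norm := module) h0 - h1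
    have e2 : 15 • a = 0 := by subst e1; linear_combination (norm := module) -h0 - 2 • h5
    subst e1
    refine ⟨e2, rfl, ?_, ?_, ?_, ?_⟩
    · linear_combination (norm := module) h2 + 2 • h5 + e2
    · linear_combination (norm := module) h3 + 2 • h5 + e2
    · linear_combination (norm := module) h4
    · linear_combination (norm := module) -h5 - e2
  exact this a b c d e f h0 h1 h2 h3 h4 h5

end E6five

end CA.Chev
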