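/-
Elements of order five of ²E₆(2).
-/
import Cfsg.Agent.Lib.Lie.H23E6b

set_option autoImplicit false

namespace CA.Chev.E6five

open Matrix Equiv Cfsg.Lie Cfsg.Lie.ChevalleyDatum

variable {K : Type*} [Field K] {Γ : Type*} [Group Γ] {A : Sys chevE6 K Γ} {τ : Twist A} {X : Type*} [Group X]
  {ζ : Kˣ} (hζ : orderOf ζ = 5)

/-- the standard element -/
def c0 (ζ : Kˣ) : Nd chevE6 → Kˣ := fun i => ζ ^ v0 i
/-- a second element -/
def c1 (ζ : Kˣ) : Nd chevE6 → Kˣ := fun i => ζ ^ v1 i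

theorem dot_eq (v : ℕ → ℤ) (r : Rt chevE6) : (fun i : Nd chevE6 => v i) ⬝ᵥ wt r = sumLt 6 fun i => v i * tabE6.wt r i := by
  rw [sumLt_eq, dotProduct]
  exact Finset.sum_congr rfl fun (i : Nd chevE6) _ => congrArg (v i * ·) (wt_eq_tab tab_E6 r i)

include hζ

theorem z5 : ζ ^ (5 : ℤ) = 1 := by exact_mod_cast hζ ▸ pow_orderOf_eq_one ζ
theorem pow5 (v : ℕ → ℤ) : (fun i : Nd chevE6 => ζ ^ v i) ^ 5 = 1 := funext fun i => by
  rw [Pi.pow_apply, ← zpow_natCast, zpow_comm, Nat.cast_ofNat, z5 hζ, _root_.one_zpow]; rfl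

theorem mem_psi {r : Rt chevE6} : r ∈ Psi (c0 ζ) ↔ sumLt 6 (fun i => v0 i * tabE6.wt r i) % 5 = 0 := by
  unfold c0
  rw [Psi, Set.mem_ofPred_eq, tor_zpow, Units.val_eq_one, ← orderOf_dvd_iff_zpow_eq_one, hζ, dot_eq,
    Int.dvd_iff_emod_eq_zero]; rfl

theorem tor_ne : tor (c0 ζ) ≠ 1 := fun h =>
  absurd ((mem_psi hζ (r := ⟨56, by decide⟩)).1 (by rw [Psi, Set.mem_ofPred_eq, h]; rfl)) (by decide +kernel)

theorem exLL (h3 : A.R3) {a b : ZMod 5} (h : a ≠ 0 ∨ b ≠ 0) :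
    ∃ m, m * h3.torH (c0 ζ ^ a.val * c1 ζ ^ b.val) * m⁻¹ = h3.torH (c0 ζ) := by
  have h0 := cLL a b h
  have h1 := act_spec tab_E6 (nw (LL a.val b.val)) (ι := id) (fun _ => rfl) h0 (z5 hζ)
  have h2 := h3.conj_torH (A.act_nw (nw (LL a.val b.val))) (c0 ζ ^ a.val * c1 ζ ^ b.val)
  refine ⟨_, h2.trans (congrArg _ ?_)⟩
  generalize wd (nw (LL a.val b.val)) = w at h1
  rw [pow_one] at h1
  refine Eq.trans (congrArg _ (funext fun i => ?_)) h1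
  simp [c0, c1, _root_.zpow_add, _root_.zpow_mul]
  rfl

variable (hα : ∀ r t, τ.T.α r t = t ^ 2) (hι : τ.ι = ιE6)
include hα hι

theorem tw_mem {L : List (Fin 6)} {v : ℕ → ℤ} (h : actChk tabE6 (L.map Fin.val) io 2 v v 5 = true) :
    (fun i : Nd chevE6 => ζ ^ v i) ∈ τ.TW (wd (nw L)) :=
  (τ.mem_TW' fun _ => hα _).2 (act_spec tab_E6 (nw L) (fun i => by rw [hι]; rfl) h (z5 hζ))

theorem ex1 : ∃ n ∈ A.N, ∃ w, A.Act n w ∧ c0 ζ ∈ τ.TW w ∧ c1 ζ ∈ τ.TW w := by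
  have h0 := tw_mem hζ hα hι c10
  have h1 := tw_mem hζ hα hι c11
  have h2 := A.act_nw (nw L1)
  generalize wd (nw L1) = w at h0 h1 h2
  exact ⟨_, A.nw_mem _, w, h2, h0, h1⟩

theorem tw2 {c : Nd chevE6 → Kˣ} (hc : c ∈ τ.TW (wd (nw L2))) : ∃ (j : ℕ) (z : _), tor z = 1 ∧ c = c0 ζ ^ j * z := by
  have h := (τ.mem_TW' fun _ => hα _).1 hc
  have e : ∀ i j : Fin 6, cor (wd (nw L2) (sim (τ.ι (nE6 i)))) (nE6 j) = _ := fun i j =>
    Eq.trans (by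
      have h := apW_eq (nw L2) (sim (ιE6 (nE6 i)))
      rw [tab_E6, show (sim (ιE6 (nE6 i))).val = tabE6.simple (io i) from tab_E6 ▸ rfl,
        show (nw L2).map Fin.val = L2.map Fin.val from rfl] at h
      rw [h, ← tab_E6, hι]
      generalize wd (nw L2) (sim (ιE6 (nE6 i))) = r
      rfl) (cN i j)
  generalize wd (nw L2) = w at h e hc
  have h' : ∀ j : Fin 6, (∏ i : Fin 6, c (nE6 i) ^ cor (w (sim (τ.ι (nE6 i)))) (nE6 j)) ^ 2 = c (nE6 j) :=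
    fun j => congrFun h (nE6 j)
  simp only [Fin.forall_fin_succ, Fin.prod_univ_six, e] at h'
  simp at h'
  obtain ⟨h0, h1, h2, h3, h4, h5⟩ := h'
  obtain ⟨e0, e1, e2, e3, e4, e5⟩ := solve h0 h1 h2 h3 h4 h5
  generalize hx : c (nE6 0) = x at e0 e1 e2 e3 e4 e5
  have hc : c = fun i : Nd chevE6 => x ^ av i := funext fun i : Fin 6 => by
    fin_cases i
    exacts [hx.trans (zpow_one x).symm, e1.trans (zpow_natCast x 3).symm, e2.trans (zpow_natCast x 5).symm,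
      e3.trans (zpow_natCast x 9).symm, e4.trans (zpow_natCast x 10).symm, e5.trans (zpow_natCast x 11).symm]
  have hp : IsPrimitiveRoot ζ 5 := hζ ▸ IsPrimitiveRoot.orderOf ζ
  obtain ⟨j, -, hj⟩ := hp.eq_pow_of_mem_rootsOfUnity (ξ := x ^ 6) (by
    rw [mem_rootsOfUnity, ← pow_mul, show 6 * 5 = 15 * 2 from rfl, pow_mul, e0, one_pow])
  refine ⟨j, fun i => (x ^ 10) ^ av i, ch_ext fun k => ?_, hc.trans (funext fun i => ?_)⟩
  · obtain ⟨m, hm⟩ := Int.dvd_of_emod_eq_zero (cav k)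
    rw [tor_zpow, dot_eq, show (sim k).val = tabE6.simple k from tab_E6 ▸ rfl, hm, _root_.zpow_mul, zpow_ofNat,
      ← pow_mul, show 10 * 3 = 15 * 2 from rfl, pow_mul, e0]; simp
  · obtain ⟨m, hm⟩ : (5 : ℤ) ∣ av i - v0 i := (by decide : ∀ i : Fin 6, (5 : ℤ) ∣ av i - v0 i) i
    have : ζ ^ v0 i = ζ ^ av i := by rw [eq_add_of_sub_eq hm, _root_.zpow_add, _root_.zpow_mul, z5 hζ]; simp
    rw [Pi.mul_apply, Pi.pow_apply, c0, this, ← zpow_natCast, zpow_comm, zpow_natCast, hj, ← mul_zpow, ← pow_add,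
      show 6 + 10 = 15 + 1 from rfl, pow_succ, e0, one_mul]

variable [CharP K 2] [IsAlgClosed K] (Φ : Form τ 2 X)

theorem typ [Finite X] (hX : ¬ 5 ^ 3 ∣ Nat.card X) {x : X} (hx : orderOf x = 5) :
    ∃ s : τ.F, Φ.π s = x ∧ ∃ y, y⁻¹ * s * y = Φ.S.h3.torH (c0 ζ) := by
  have : Fact (Nat.Prime 5) := ⟨by norm_num⟩
  obtain ⟨n₁, hn₁, w, hw, t0, t1⟩ := ex1 hζ hα hι
  obtain ⟨y, hy⟩ := τ.exists_lang Φ.S Φ.fr hn₁
  let κ : Multiplicative (ZMod 5 × ZMod 5) →* τ.F := MonoidHom.mk' (fun a =>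
    ⟨y * Φ.S.h3.torH (c0 ζ ^ a.toAdd.1.val * c1 ζ ^ a.toAdd.2.val) * y⁻¹, (τ.conj_mem_F hy).2
      ((τ.fix_torH _ Φ.S.inj hw).2 (mul_mem (pow_mem t0 _) (pow_mem t1 _)))⟩)
    fun a b => Subtype.ext (by
      simp only [toAdd_mul, Prod.fst_add, Prod.snd_add, ZMod.val_add, Subgroup.coe_mul]
      rw [← pow_eq_pow_mod _ (show c0 ζ ^ 5 = 1 from pow5 hζ v0), ← pow_eq_pow_mod _ (show c1 ζ ^ 5 = 1 from pow5 hζ v1),
        pow_add, pow_add, mul_mul_mul_comm, map_mul]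
      group)
  have key : ∀ a, a ≠ 1 → ∃ g, g⁻¹ * (κ a).1 * g = Φ.S.h3.torH (c0 ζ) := fun a ha => by
    obtain ⟨m, hm⟩ := exLL hζ Φ.S.h3 (a := a.toAdd.1) (b := a.toAdd.2) (by
      by_contra h; push Not at h; exact ha (Prod.ext h.1 h.2))
    refine ⟨y * m⁻¹, ?_⟩
    change _ * (y * Φ.S.h3.torH _ * y⁻¹) * _ = _
    rw [← hm]; group
  have hi : Function.Injective (Φ.π.comp κ) := (injective_iff_map_eq_one _).2 fun a ha => by
    by_contra h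
    obtain ⟨g, hg⟩ := key a h
    have := congrArg A.θ hg
    rw [map_mul, map_mul, (Φ.ker _).1 ha, Φ.S.h3.θ_torH] at this
    exact tor_ne hζ (dgG_injective (by rw [← this, map_one]; simp))
  have hc : Nat.card (Φ.π.comp κ).range = 5 ^ 2 := by
    rw [← Nat.card_congr (MonoidHom.ofInjective hi).toEquiv]; simp
  obtain ⟨Q, hQ⟩ := (IsPGroup.of_card (n := 1) ((Nat.card_zpowers x).trans (hx.trans (pow_one 5).symm))).exists_le_sylow
  obtain ⟨P, hP⟩ := (IsPGroup.of_card hc).exists_le_sylow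
  obtain ⟨n, hn⟩ := P.isPGroup'.exists_card_eq
  have h2 : (Φ.π.comp κ).range = P := Subgroup.eq_of_le_of_card_ge hP (by
    rw [hc, hn]
    refine Nat.pow_le_pow_right (by norm_num) (not_lt.1 fun h => hX ((pow_dvd_pow 5 h).trans ?_))
    rw [← hn]; exact Subgroup.card_subgroup_dvd_card _)
  obtain ⟨g, hg⟩ := MulAction.exists_smul_eq X Q P
  obtain ⟨a, ha⟩ : g * x * g⁻¹ ∈ (Φ.π.comp κ).range := by
    rw [h2, ← hg]; exact Subgroup.smul_mem_pointwise_smul _ (MulAut.conj g) _ (hQ (Subgroup.mem_zpowers x))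
  obtain ⟨g, rfl⟩ := Φ.surj g
  obtain ⟨z, hz⟩ := key a (by
    rintro rfl
    rw [map_one, eq_comm, conj_eq_one_iff] at ha
    rw [ha, orderOf_one] at hx; omega)
  refine ⟨g⁻¹ * κ a * g, by rw [map_mul, map_mul, map_inv, show Φ.π (κ a) = _ from ha]; group, g.1⁻¹ * z, ?_⟩
  rw [← hz, Subgroup.coe_mul, Subgroup.coe_mul, Subgroup.coe_inv]; group

variable (hρ : ∀ r, (τ.ρ r).val = φE6 r) (hf : ∀ r t, τ.T.f r t = ηE6 r * t ^ 2)
include hρ hf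

omit [IsAlgClosed K] in
theorem ex2 : ∃ n ∈ A.N, ∃ w, A.Act n w ∧ c0 ζ ∈ τ.TW w ∧ (∀ c ∈ τ.TW w, ∃ (j : ℕ) (z : _), tor z = 1 ∧ c = c0 ζ ^ j * z) ∧
    ∀ r ∈ Psi (c0 ζ), ∀ t, n * τ.σ (A.x r t) * n⁻¹ = A.x r (t ^ 2) := by
  have h0 := tw_mem hζ hα hι c20
  have h1 := fun c => tw2 hζ hα hι (c := c)
  have h2 := A.act_nw (nw L2)
  have h3 := H12Inv2.nw_conj A (nw L2)
  have h4 : ∀ r ∈ Psi (c0 ζ), wd (nw L2) (τ.ρ r) = r := fun r hr => Fin.ext (by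
    rw [← apW_eq, tab_E6, hρ, show (nw L2).map Fin.val = L2.map Fin.val from rfl]
    exact (cPsi r ((mem_psi hζ).1 hr)).1)
  generalize wd (nw L2) = w at h0 h1 h2 h3 h4
  refine ⟨_, A.nw_mem _, w, h2, h0, h1, fun r hr t => ?_⟩
  rw [τ.σ_x, h3, h4 r hr, hf, ← Int.mul_ediv_add_emod (ηE6 r) 2, cη r, Int.cast_add, Int.cast_mul, H12Inv2.two_eq]
  simp

omit hα hι hρ hf [IsAlgClosed K] in
theorem exA : ∃ f : alternatingGroup (Fin 8) →* Γ, (∀ r ∈ Psi (c0 ζ), A.x r 1 ∈ f.range) ∧ (∃ r, r ∈ Psi (c0 ζ)) ∧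
    ∀ H : Subgroup Γ, (∀ r ∈ Psi (c0 ζ), A.x r 1 ∈ H) → f.range ≤ H := by
  let e : Fin 4 → Fin 4 → Rt chevE6 := fun a b => ⟨em a b, em_lt a b⟩
  have he : ∀ a b L, H12Inv2.ev A (em a b :: L) = A.x (e a b) 1 * H12Inv2.ev A L := fun a b => H12Inv2.ev_cons' A (e a b)
  have hp : ∀ a b, a ≠ b → e a b ∈ Psi (c0 ζ) := fun a b h => (mem_psi hζ).2 (cEm a b h)
  obtain ⟨f, h1, h2⟩ := exists_A8 (fun a b => A.x (e a b) 1) (fun a b => H12Inv2.x_sq A _ _) fun a b c d h1 h2 h3 => by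
    have := ev_of_col2 A tab_E6 (cRel a b c d h1 h2 h3)
    rw [H12Inv2.ev_append] at this
    split_ifs at this ⊢ <;> simpa only [he, H12Inv2.ev_nil, mul_one] using this
  refine ⟨f, fun r hr => ?_, ⟨_, hp 0 1 (by decide)⟩, fun H hH => h2 H fun a b h => hH _ (hp a b h)⟩
  obtain ⟨a, b, h, e1⟩ := (cPsi r ((mem_psi hζ).1 hr)).2
  rw [← show e a b = r from Fin.ext e1]; exact h1 a b h

theorem cent {s : τ.F} {y : Γ} (hy : y⁻¹ * s * y = Φ.S.h3.torH (c0 ζ)) :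
    Nonempty (Subgroup.centralizer ({Φ.π s} : Set X) ≃* Multiplicative (ZMod 5) × alternatingGroup (Fin 8)) := by
  have : Fact (Nat.Prime 5) := ⟨by norm_num⟩
  obtain ⟨n, hn, w, hw, t0, t1, t2⟩ := ex2 hζ hα hι hρ hf
  obtain ⟨f, f1, ⟨r, hr⟩, f2⟩ := exA (A := A) hζ
  obtain ⟨y, e1, e2⟩ := τ.std Φ.S Φ.fr s.2 hy hn hw t0
  clear hy
  set h := Φ.S.h3.torH (c0 ζ) with hh
  have hs : s.1 = y * h * y⁻¹ := by rw [← e1]; group
  let ψ := (MulAut.conj n).toMonoidHom.comp τ.σ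
  have g1 : ∀ a, ψ (f a) = f a := fun a => f2 (ψ.eqLocus (MonoidHom.id Γ)) (fun r hr => (t2 r hr 1).trans (by simp)) ⟨a, rfl⟩
  have g2 : ∀ a, Commute h (f a) := fun a => (Subgroup.mem_centralizer_singleton_iff.1 (f2 (Subgroup.centralizer {h})
    (fun r hr => by rw [Subgroup.mem_centralizer_singleton_iff, eq_comm, ← mul_inv_eq_iff_eq_mul, Φ.S.h3.torH_conj, hr,
      one_mul]) ⟨a, rfl⟩)).symm
  let F : alternatingGroup (Fin 8) →* τ.F := ((MulAut.conj y).toMonoidHom.comp f).codRestrict _ fun a =>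
    (τ.conj_mem_F e2).2 (g1 a)
  have hF : ∀ a, (F a).1 = y * f a * y⁻¹ := fun _ => rfl
  have h5 : h ^ 5 = 1 := by rw [hh, ← map_pow, show c0 ζ ^ 5 = 1 from pow5 hζ v0, map_one]
  have s5 : s.1 ^ 5 = 1 := by rw [hs, conj_pow, h5]; simp
  have hZ : ∀ z : Γ, A.θ z = 1 → ∀ g, g * z = z * g := fun z hz =>
    Subgroup.mem_center_iff.1 ((A.center_eq Φ.S.G).ge hz)
  have := alternatingGroup.isSimpleGroup (α := Fin 8) (by simp)
  refine cent_iso (alternatingGroup.center_eq_bot (by simp)) (orderOf_eq_prime (by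
      rw [← map_pow, show s ^ 5 = 1 from Subtype.ext s5, map_one]) fun e => ?_) (Φ.π.comp F) ?_ (fun a => ?_) fun g hg => ?_
  · have := (Φ.ker _).1 e
    rw [hs, map_mul, map_mul, map_inv, conj_eq_one_iff, hh, Φ.S.h3.θ_torH] at this
    exact tor_ne hζ (dgG_injective (by rw [this, map_one]))
  · obtain ⟨a, ha⟩ := f1 r hr
    refine ⟨a, fun e => ?_⟩
    have := (Φ.ker _).1 e
    rw [hF, map_mul, map_mul, map_inv, conj_eq_one_iff, ha] at this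
    exact one_ne_zero (A.x_eq_one (A.θ_eq_one (nil_single r) (A.x_mem (Set.mem_singleton r) 1) this))
  · refine Commute.map (f := Φ.π) (Subtype.ext ?_ : s * F a = F a * s)
    rw [Subgroup.coe_mul, Subgroup.coe_mul, hF, hs, conj_mul, conj_mul, g2 a]
  obtain ⟨g, rfl⟩ := Φ.surj g
  have z1 : A.θ (g.1 * s * g.1⁻¹ * s.1⁻¹) = 1 := (Φ.ker (g * s * g⁻¹ * s⁻¹)).1 (by
    rw [map_mul, map_mul, map_mul, map_inv, map_inv, hg.eq]; group)
  generalize hz : g.1 * s * g.1⁻¹ * s.1⁻¹ = z at z1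
  have z3 : z ^ 3 = 1 := by
    obtain ⟨c, hc, rfl⟩ := (Φ.S.h3.ker_eq Φ.S.G).le z1
    rw [← map_pow, cube_of_tor hc, map_one]
  have z5 : z ^ 5 = 1 := by
    have : (z * s) ^ 5 = 1 := by rw [← hz, inv_mul_cancel_right, conj_pow, s5]; simp
    rwa [Commute.mul_pow (hZ z z1 s).symm, s5, mul_one] at this
  have z0 : z = 1 := by
    rw [← pow_one z, ← show Nat.gcd 3 5 = 1 from rfl, pow_gcd_eq_one]; exact ⟨z3, z5⟩
  obtain ⟨v, ⟨a, rfl⟩, k, hk, e3, l, ⟨b, rfl⟩, e4⟩ := Φ.S.h3.cent_fix Φ.S.inj (Φ.S.finOrd (c0 ζ)) (ψ := ψ)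
    (β := frobenius K 2) t2 (fun g hg => A.conj_H hn (τ.is.mem_H hg)) (L := f.range) (fun r hr t ht => by
      rcases (show t = 0 ∨ t = 1 from by
        have : t * (t - 1) = 0 := by rw [mul_sub, mul_one, ← sq, sub_eq_zero]; exact ht
        simpa [sub_eq_zero] using this) with rfl | rfl
      exacts [A.x_zero r ▸ one_mem _, f1 r hr]) (g := y⁻¹ * g * y) (Φ.S.mem_G _) (by
      rw [← hh, ← e1, show y⁻¹ * s * y * (y⁻¹ * g * y) * (y⁻¹ * s * y)⁻¹ = y⁻¹ * ((g * s * g.1⁻¹ * s.1⁻¹)⁻¹ * g) * y by group,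
        hz, z0]; simp) ((τ.conj_mem_F e2).1 (by simp [mul_assoc]))
  obtain ⟨c, rfl⟩ := Φ.S.h3.torH_range.ge hk
  obtain ⟨j, z', z2, rfl⟩ := t1 c ((τ.fix_torH _ Φ.S.inj hw).1 e3)
  have z4 : A.θ (Φ.S.h3.torH z') = 1 := by rw [Φ.S.h3.θ_torH, z2, map_one]
  refine ⟨j, a * b, ?_⟩
  rw [MonoidHom.comp_apply, ← map_pow, ← map_mul, ← mul_inv_eq_one, ← map_inv, ← map_mul, Φ.ker]
  rw [Subgroup.coe_mul, Subgroup.coe_inv, Subgroup.coe_mul, Subgroup.coe_pow, hF, hs, conj_pow,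
    show g.1 = y * (y⁻¹ * g * y) * y⁻¹ by group, e4, map_mul Φ.S.h3.torH, map_pow, ← hh, map_mul f, ← mul_assoc (f a),
    ← ((g2 a).pow_left j).eq, mul_assoc _ _ (f b), ← hZ _ z4 (f b)]
  simp [z4, mul_assoc]

end CA.Chev.E6five
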