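/-
Lang's theorem in centralisers of elements fixed modulo the centre.
-/
import Cfsg.Agent.Lib.Lie.H23E6c
import Cfsg.Agent.Lib.Grp.H23Sec

set_option autoImplicit false

namespace CA.Chev

open Matrix Equiv Cfsg.Lie Cfsg.Lie.ChevalleyDatum CA.Lang

variable {D : ChevalleyDatum} [Good D] {K : Type*} [Field K] {Γ : Type*} [Group Γ] {A : Sys D K Γ} {p : ℕ} [Fact p.Prime]
  [CharP K p] [IsAlgClosed K]

namespace Sys.SC
open Sys0
variable (S : A.SC p)
include S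

theorem lang_cent' {σ : Monoid.End Γ} (h : A.Frob p σ) {c d : Nd D → Kˣ} (hc : σ (S.h3.torH c) = S.h3.torH d)
    (hd : Psi d ⊆ Psi c) {a : Γ}
    (ha : a ∈ Subgroup.centralizer {S.h3.torH c}) :
    ∃ g ∈ Subgroup.centralizer {S.h3.torH c}, A.θ (g⁻¹ * σ g) = A.θ a := by
  obtain ⟨m, k, hm, hk, h1⟩ := h.pow
  have h2 : ∀ r ∈ Psi c, ∃ r' ∈ Psi c, ∃ c', ∃ e : ℕ, ∀ t, σ (A.x r t) = A.x r' (c' * t ^ e) := fun r hr => by
    obtain ⟨r', c', e, h2⟩ := h.x r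
    by_cases h0 : c' = 0
    · exact ⟨r, hr, 0, e, by simpa [h0] using h2⟩
    have := congrArg σ (S.h3.torH_conj c r 1)
    rw [hr, one_mul, map_mul, map_mul, map_inv, hc, h2, S.h3.torH_conj] at this
    exact ⟨r', hd (show tor d _ = 1 by simpa [h0] using A.x_injective _ this), c', e, h2⟩
  let σ' : A.X (Psi c) →* A.X (Psi c) := ((σ : Γ →* Γ).comp (A.X _).subtype).codRestrict _ fun g =>
    (A.X_le (M := (A.X (Psi c)).comap σ)).2 (fun r hr t => by
      obtain ⟨r', h', c', e, h⟩ := h2 r hr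
      exact (h t).symm.subst (motive := (· ∈ A.X (Psi c))) (A.x_mem h' _)) g.2
  have h3 : ∀ j g, (σ'^[j] g).1 = σ^[j] g := fun j =>
    (show Function.Semiconj Subtype.val σ' σ from fun _ => rfl).iterate_right j
  let θ := (Units.coeHom _).comp A.θ
  have e0 : ∀ r t, θ (A.x r t) = xR r t := fun r t => congrArg Units.val (A.θx r t)
  have e1 : ∀ k r, ∃ r' c, ∃ e : ℕ, ∀ t, σ^[k] (A.x r t) = A.x r' (c * t ^ e) := fun k r => by
    induction k with
    | zero => exact ⟨r, 1, 1, by simp⟩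
    | succ k ih =>
      obtain ⟨r', c, e, h1⟩ := ih
      obtain ⟨r'', c', e', h'⟩ := h.x r'
      exact ⟨r'', c' * c ^ e', e * e', fun t => by
        rw [Function.iterate_succ_apply', h1, h', mul_pow, ← pow_mul, mul_assoc]⟩
  have e2 : ∀ (r : Rt D) {p : (Unit → K) → K}, p ∈ Lang.Pol K Unit → ∀ a b, (fun t => xR r (p t) a b) ∈ Lang.Pol K Unit :=
    fun r p hp a b => by
      simp only [xR_apply]
      exact add_mem (add_mem (add_mem (Subalgebra.algebraMap_mem _ _) (mul_mem hp (Subalgebra.algebraMap_mem _ _)))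
        (mul_mem (pow_mem hp 2) (Subalgebra.algebraMap_mem _ _))) (mul_mem (pow_mem hp 3) (Subalgebra.algebraMap_mem _ _))
  have hF : ∀ g, θ ((σ ^ m) g) = (iterateFrobenius K p k).mapMatrix (θ g) := fun g =>
    A.X_induction (P := fun g => θ ((σ ^ m) g) = (iterateFrobenius K p k).mapMatrix (θ g)) (by simp)
      (fun r _ t g _ ih => by rw [map_mul, map_mul, map_mul, map_mul, ih, h1, e0, e0, map_xR]; rfl)
      (show g ∈ A.G from S.G ▸ trivial)
  rw [S.h3.cent_eq S.G S.inj (S.finOrd c)] at ha ⊢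
  replace ha := A.mem_sup_H.1 ha
  obtain ⟨a, ha, b, hb, rfl⟩ := ha
  obtain ⟨z, hz, e⟩ := S.lang_H h hb
  obtain ⟨y, hy⟩ := lang_gen (θ := θ.comp (A.X (Psi c)).subtype) (σ := σ') (x := fun (i : Psi c) t => ⟨A.x i t, A.x_mem i.2 t⟩)
    hm (Nat.one_lt_pow hk.ne' (Fact.out : p.Prime).one_lt) (fun g i j => by
      rw [MonoidHom.comp_apply, Subgroup.subtype_apply, h3, ← Monoid.End.coe_pow, hF]; rfl)
    (fun i => Subtype.ext (A.x_zero _)) (fun r k i j => by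
      obtain ⟨r', c, e, h⟩ := e1 k r
      have hp : (fun t : Unit → K => c * t () ^ e) ∈ Lang.Pol K _ :=
        mul_mem (Subalgebra.algebraMap_mem _ c) (pow_mem (proj_mem ()) e)
      have e4 : ∀ t, σ^[k] (A.x r t)⁻¹ = A.x r' (-(c * t ^ e)) := fun t => by rw [iterate_map_inv, h, A.x_neg]
      simp only [MonoidHom.comp_apply, Subgroup.subtype_apply, h3, InvMemClass.coe_inv, h, e4, e0]
      exact ⟨e2 r' hp i j, e2 r' (p := fun t => -(c * t () ^ e)) (neg_mem hp) i j⟩)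
    (fun g => A.X_induction (P := fun g => ∀ hg, (⟨g, hg⟩ : A.X (Psi c)) ∈ Submonoid.closure
      {g | ∃ (i : Psi c) (t : K), (⟨A.x i t, A.x_mem i.2 t⟩ : A.X (Psi c)) = g}) (fun _ => one_mem _)
      (fun r hr t g hg ih _ => mul_mem (a := ⟨_, A.x_mem hr t⟩) (Submonoid.subset_closure (by exact ⟨⟨r, hr⟩, t, rfl⟩))
      (ih hg)) g.2 g.2)
    ⟨_, A.H_conj_X hz ha⟩
  refine ⟨y * z, mul_mem (Subgroup.mem_sup_left y.2) (Subgroup.mem_sup_right hz), ?_⟩
  rw [show (y * z)⁻¹ * σ (y * z) = z⁻¹ * (y⁻¹ * σ y) * σ z by simp [mul_assoc], map_mul, map_mul,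
    show A.θ (y⁻¹ * σ y) = A.θ (z * a * z⁻¹) from Units.ext hy, ← map_mul, ← map_mul, e, S.h3.H_comm b hb z hz]
  simp [mul_assoc]

end Sys.SC

theorem Twist.std' (τ : Twist A) (S : A.SC p) (hσ : A.Frob p τ.σ) {y n m : Γ} (hy : τ.σ y = y * n) (hn : n ∈ A.N)
    (hm : m ∈ A.N) {c d : Nd D → Kˣ} (hc : n * τ.σ (S.h3.torH c) * n⁻¹ = S.h3.torH d) (hd : Psi d ⊆ Psi c)
    (hm' : m ∈ Subgroup.centralizer {S.h3.torH c}) :
    ∃ k ∈ Subgroup.centralizer {S.h3.torH c}, τ.σ (y * k) = y * k * (m * n) := by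
  obtain ⟨g, hg, e1⟩ := S.lang_cent' (S.frob_conj hσ hn) hc hd hm'
  have hz : A.θ (g⁻¹ * (n * τ.σ g * n⁻¹) * m⁻¹) = 1 := by
    rw [map_mul, map_inv, ← e1]; exact mul_inv_cancel _
  obtain ⟨z, h2, e2⟩ := S.lang_H (S.frob_conj hσ (mul_mem hm hn)) (inv_mem (A.mem_H_of_θ (S.mem_G _) hz))
  refine ⟨g * z, mul_mem hg (Subgroup.mem_centralizer_singleton_iff.2 (S.h3.H_comm _ h2 _ (S.h3.torH_mem c))), ?_⟩
  rw [map_mul, map_mul, hy, show τ.σ z = (m * n)⁻¹ * (m * n * τ.σ z * (m * n)⁻¹) * (m * n) by group,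
    show m * n * τ.σ z * (m * n)⁻¹ = _ from e2]
  group

theorem sylow_conj {X : Type*} [Group X] [Finite X] {r k : ℕ} [Fact r.Prime] {P R : Subgroup X} (hP : IsPGroup r P)
    (hc : Nat.card R = r ^ k) (hX : ¬ r ^ (k + 1) ∣ Nat.card X) : ∃ g, ∀ x ∈ P, g * x * g⁻¹ ∈ R := by
  obtain ⟨Q, hQ⟩ := hP.exists_le_sylow
  obtain ⟨T, hT⟩ := (IsPGroup.of_card hc).exists_le_sylow
  obtain ⟨n, hn⟩ := T.isPGroup'.exists_card_eq
  have h2 : R = T := Subgroup.eq_of_le_of_card_ge hT (by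
    rw [hc, hn]
    refine Nat.pow_le_pow_right (Fact.out : r.Prime).pos (not_lt.1 fun h => hX ((pow_dvd_pow r h).trans ?_))
    rw [← hn]; exact Subgroup.card_subgroup_dvd_card _)
  obtain ⟨g, hg⟩ := MulAction.exists_smul_eq X Q T
  exact ⟨g, fun x hx => by rw [h2, ← hg]; exact Subgroup.smul_mem_pointwise_smul _ (MulAut.conj g) _ (hQ hx)⟩

theorem comm_cent {G : Type*} [Group G] {s a b : G} (ha : a * s * a⁻¹ ∈ Subgroup.zpowers s)
    (hb : b * s * b⁻¹ ∈ Subgroup.zpowers s) : Commute (a⁻¹ * b⁻¹ * a * b) s := by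
  obtain ⟨i, hi⟩ := ha
  obtain ⟨j, hj⟩ := hb
  have h1 : a * b * s * (a * b)⁻¹ = s ^ (i * j) := by
    rw [show a * b * s * (a * b)⁻¹ = a * (b * s * b⁻¹) * a⁻¹ by group, ← hj, ← conj_zpow, ← hi, ← _root_.zpow_mul]
  have h2 : b * a * s * (b * a)⁻¹ = s ^ (i * j) := by
    rw [show b * a * s * (b * a)⁻¹ = b * (a * s * a⁻¹) * b⁻¹ by group, ← hi, ← conj_zpow, ← hj, ← _root_.zpow_mul, mul_comm]
  rw [Commute, SemiconjBy, show a⁻¹ * b⁻¹ * a * b * s = (b * a)⁻¹ * (a * b * s * (a * b)⁻¹) * (a * b) by group, h1, ← h2]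
  group

/-- an element of prime order `r` normalising a set of `n` elements fixes `n mod r` many -/
theorem cent_of_card {G : Type*} [Group G] {P : Subgroup G} [Finite P] {t : G} {r : ℕ} [Fact r.Prime] (ht : t ^ r = 1)
    (hn : t ∈ Subgroup.normalizer (P : Set G)) (h : ∀ d, d ∣ Nat.card P → Nat.card P ≡ d [MOD r] → d = Nat.card P) :
    ∀ x ∈ P, Commute t x := by
  let φ : Subgroup.zpowers t →* MulAut P := P.normalizerMonoidHom.comp (Subgroup.inclusion (Subgroup.zpowers_le.2 hn))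
  letI := MulDistribMulAction.compHom P φ
  have hp : IsPGroup r (Subgroup.zpowers t) := H23Sec.isP_zpowers ht
  have h1 := hp.card_modEq_card_fixedPoints P
  have h2 := h _ (Subgroup.card_subgroup_dvd_card (FixedPoints.subgroup (Subgroup.zpowers t) P)) h1
  intro x hx
  have h3 : (⟨x, hx⟩ : P) ∈ FixedPoints.subgroup (Subgroup.zpowers t) P := by
    rw [Subgroup.eq_top_of_card_eq _ h2]; trivial
  have := congrArg Subtype.val (h3 ⟨t, Subgroup.mem_zpowers t⟩)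
  exact mul_inv_eq_iff_eq_mul.1 this

end CA.Chev
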