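/-
Elements of order three of the adjoint torus normalised by local subgroups of ²E₆(2).
-/
import Cfsg.Agent.Lib.Lie.H23E6d

set_option autoImplicit false

namespace CA.Chev.E6loc

open Matrix Equiv Cfsg.Lie Cfsg.Lie.ChevalleyDatum E6five Subgroup

variable {K : Type*} [Field K] {Γ : Type*} [Group Γ] {A : Sys chevE6 K Γ} {τ : Twist A} {X : Type*} [Group X]

noncomputable def ex (u : ℕ → ℤ) (r : ℕ) : ℤ := sumLt 6 fun i => u i * tabE6.wt r i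
def gl (L : List ℤ) (i : ℕ) : ℤ := L.getD i 0
noncomputable def φw (L : List (Fin 6)) (r : ℕ) : ℕ := apW tabE6 (L.map Fin.val) (φE6 r)
def cz (ζ : Kˣ) (v : ℕ → ℤ) : Nd chevE6 → Kˣ := fun i => ζ ^ v i
noncomputable def dm (r : ℕ) (k : Fin 6 → ZMod 3) : ZMod 3 := ∑ j : Fin 6, (tabE6.co r j : ZMod 3) * k j
noncomputable def cnt (u : List ℤ) : ℕ := (Finset.univ.filter fun r : Fin 72 => ex (gl u) r % 9 = 0).card
/-- a set of roots -/
def rs (Ψ : List ℕ) : Set (Rt chevE6) := {r | r.val ∈ Ψ}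

def DChk (L : List (Fin 6)) (ε : ℤ) (Ψ S : List ℕ) (u k0 : List ℤ) : Prop :=
  (∀ i : Fin 6, φw L (tabE6.simple i) = S.getD i 0 ∧ ex (gl u) (tabE6.simple i) = 3 * gl k0 i) ∧ (∀ r ∈ Ψ, r < 72) ∧
  ∀ a b c d e f : ZMod 3, (∀ r ∈ Ψ, dm r ![a, b, c, d, e, f] = 0) →
    (∀ i : Fin 6, ε * dm (S.getD i 0) ![a, b, c, d, e, f] = 2 * ![a, b, c, d, e, f] i) →
      ∃ j : Fin 3, ∀ i : Fin 6, ![a, b, c, d, e, f] i = (j.val : ZMod 3) * gl k0 i
noncomputable instance (L ε Ψ S u k0) : Decidable (DChk L ε Ψ S u k0) := by unfold DChk; infer_instance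

def EChk (L : List (Fin 6)) (ε : ℤ) (Ψ : List ℕ) (u : List ℤ) : Prop := ∀ r : Fin 72,
  (ε * ex (gl u) (φw L r) - 2 * ex (gl u) r) % 9 = 0 ∧ (r.val ∈ Ψ → ex (gl u) r % 9 = 0) ∧ ex (gl u) r % 3 = 0
noncomputable instance (L ε Ψ u) : Decidable (EChk L ε Ψ u) := by unfold EChk; infer_instance

theorem lin : ∀ r : Fin 72, ∀ i : Fin 6, tabE6.wt r i = sumLt 6 fun j => tabE6.co r j * tabE6.wt (tabE6.simple j) i := by
  decide +kernel

theorem reg19 : ∀ r : Fin 72, ex (gl [10, 8, 3, 12, 6, 1]) r % 19 ≠ 0 := by decide +kernel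

theorem ex_lin (u : ℕ → ℤ) (r : Fin 72) : ex u r = ∑ j : Fin 6, tabE6.co r j * ex u (tabE6.simple j) := by
  simp only [ex, sumLt_eq, Finset.mul_sum]
  rw [Finset.sum_comm]
  exact Finset.sum_congr rfl fun i _ => by
    rw [lin r i, sumLt_eq, Finset.mul_sum]; exact Finset.sum_congr rfl fun j _ => by ring

theorem tor_cz (ζ : Kˣ) (v : ℕ → ℤ) (r : Rt chevE6) : tor (cz ζ v) (rt r) = (ζ ^ ex v r : Kˣ) := by
  unfold cz; rw [tor_zpow, dot_eq]; rfl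

theorem cz_zpow (ζ : Kˣ) (v : ℕ → ℤ) (k : ℤ) : cz ζ v ^ k = cz (ζ ^ k) v := funext fun _ => zpow_comm _ _ _
theorem cz_pow (ζ : Kˣ) (v : ℕ → ℤ) (k : ℕ) : cz ζ v ^ k = cz (ζ ^ k) v := by
  rw [← zpow_natCast, cz_zpow, zpow_natCast]
theorem cz_one (v : ℕ → ℤ) : cz (1 : Kˣ) v = 1 := funext fun _ => _root_.one_zpow _

theorem mem_psi {ζ : Kˣ} {n : ℕ} (hζ : orderOf ζ = n) {v : ℕ → ℤ} {r : Rt chevE6} : r ∈ Psi (cz ζ v) ↔ ex v r % n = 0 := by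
  rw [Psi, Set.mem_ofPred_eq, tor_cz, Units.val_eq_one, ← orderOf_dvd_iff_zpow_eq_one, hζ, Int.dvd_iff_emod_eq_zero]

theorem ncard_psi {ξ : Kˣ} (hξ : orderOf ξ = 9) (u : List ℤ) : (Psi (cz ξ (gl u))).ncard = cnt u := by
  rw [cnt, ← Set.ncard_coe_finset]
  exact congrArg Set.ncard (Set.ext fun r : Fin 72 => (mem_psi hξ).trans (by simp [Set.mem_ofPred_eq]; rfl))

theorem wd_val (hρ : ∀ r, (τ.ρ r).val = φE6 r) (L : List (Fin 6)) (r : Rt chevE6) : (wd (nw L) (τ.ρ r)).val = φw L r := by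
  rw [← apW_eq, tab_E6, hρ, show (nw L).map Fin.val = L.map Fin.val from rfl]; rfl

/-- the defining property of the elements of order three -/
def Q (τ : Twist A) (ε : ℤ) (d : Γ) : Prop := A.θ (d ^ 3) = 1 ∧ A.θ (τ.σ d) = A.θ (d ^ ε)

theorem Q.conj {ε : ℤ} {d g : Γ} (h : Q τ ε d) (hg : g ∈ τ.F) : Q τ ε (g * d * g⁻¹) :=
  ⟨by rw [conj_pow, map_mul, map_mul, h.1]; simp, by
    rw [conj_zpow, map_mul τ.σ, map_mul τ.σ, map_inv, τ.mem_F.1 hg, map_mul, map_mul, h.2, ← map_mul, ← map_mul]⟩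

/-- the overgroup -/
def J (A : Sys chevE6 K Γ) (d : Γ) : Subgroup Γ := (normalizer (zpowers (A.θ d) : Set _)).comap A.θ

theorem mem_norm_zpowers {G : Type*} [Group G] {g x : G} (h1 : g * x * g⁻¹ ∈ zpowers x) (h2 : g⁻¹ * x * g⁻¹⁻¹ ∈ zpowers x) :
    g ∈ normalizer (zpowers x : Set G) := by
  have k : ∀ g : G, g * x * g⁻¹ ∈ zpowers x → ∀ y ∈ zpowers x, g * y * g⁻¹ ∈ zpowers x := by
    rintro g h _ ⟨i, rfl⟩; rw [← conj_zpow]; exact zpow_mem h i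
  exact mem_normalizer_iff.2 fun y => ⟨k g h1 y, fun h => by simpa [mul_assoc] using k _ h2 _ h⟩

variable [CharP K 2] (hρ : ∀ r, (τ.ρ r).val = φE6 r) (hf : ∀ r t, τ.T.f r t = ηE6 r * t ^ 2)
include hf

theorem psi_x (L : List (Fin 6)) (r : Rt chevE6) (t : K) :
    A.nw (nw L) * τ.σ (A.x r t) * (A.nw (nw L))⁻¹ = A.x (wd (nw L) (τ.ρ r)) (t ^ 2) := by
  rw [τ.σ_x, H12Inv2.nw_conj, hf, ← Int.mul_ediv_add_emod (ηE6 r) 2, cη r, Int.cast_add, Int.cast_mul, H12Inv2.two_eq]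
  simp

theorem chi (h3 : A.R3) (L : List (Fin 6)) (e : Nd chevE6 → Kˣ) : ∃ e', A.nw (nw L) * τ.σ (h3.torH e) * (A.nw (nw L))⁻¹ =
    h3.torH e' ∧ ∀ r, tor e' (rt (wd (nw L) (τ.ρ r))) = tor e (rt r) ^ 2 := by
  obtain ⟨e', he⟩ := h3.torH_range.ge (A.conj_H (A.nw_mem (nw L)) (τ.is.mem_H (h3.torH_mem e)))
  refine ⟨e', he.symm, fun r => ?_⟩
  have h1 := psi_x hf L r (tor e (rt r) * 1)
  rw [← h3.torH_conj, map_mul, map_mul, map_inv, ← conj_mul, ← conj_mul, psi_x hf, ← conj_inv, ← he, h3.torH_conj] at h1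
  simpa using A.x_injective _ h1

include hρ

theorem Q_iff (h3 : A.R3) {L : List (Fin 6)} {y : Γ} (hy : τ.σ y = y * A.nw (nw L)) {ε : ℤ} {e : Nd chevE6 → Kˣ} :
    Q τ ε (y * h3.torH e * y⁻¹) ↔ tor (e ^ 3) = 1 ∧ ∀ r r' : Rt chevE6, r'.val = φw L r → tor (e ^ ε) (rt r') = tor e (rt r) ^ 2 := by
  obtain ⟨e', h1, h2⟩ := chi hf h3 L e
  refine and_congr ?_ ?_
  · rw [conj_pow, ← map_pow, map_mul, map_mul, map_inv, conj_eq_one_iff, h3.θ_torH, ← map_one dgG, dgG_injective.eq_iff]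
  rw [conj_zpow, ← map_zpow, map_mul τ.σ, map_mul τ.σ, map_inv, hy, show y * A.nw (nw L) * τ.σ (h3.torH e) * (y * A.nw (nw L))⁻¹ =
    y * (A.nw (nw L) * τ.σ (h3.torH e) * (A.nw (nw L))⁻¹) * y⁻¹ by group, h1, map_mul, map_mul, map_mul, map_mul, mul_left_inj,
    mul_right_inj, h3.θ_torH, h3.θ_torH, dgG_injective.eq_iff]
  refine ⟨fun h r r' hr => by rw [← h, ← h2, show r' = _ from Fin.ext (hr.trans (wd_val hρ L r).symm)],
    fun h => ch_ext fun i => ?_⟩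
  obtain ⟨r, hr⟩ := (wd (nw L) * τ.ρ).surjective (sim i)
  rw [← hr, Perm.mul_apply, h2, h r _ (wd_val hρ L r)]

variable {ξ : Kˣ} (hξ : orderOf ξ = 9)
include hξ

omit hρ hf [CharP K 2] in
theorem z9 {a b : ℤ} : ((ξ ^ a : Kˣ) : K) = (ξ ^ b : Kˣ) ↔ (a - b) % 9 = 0 := by
  rw [Units.val_inj, zpow_eq_zpow_iff_modEq, hξ, Int.modEq_comm, Int.modEq_iff_dvd, Int.dvd_iff_emod_eq_zero]; rfl

theorem Q_of (h3 : A.R3) {L : List (Fin 6)} {y : Γ} (hy : τ.σ y = y * A.nw (nw L)) {ε : ℤ} {Ψ : List ℕ} {u : List ℤ}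
    (h : EChk L ε Ψ u) : Q τ ε (y * h3.torH (cz ξ (gl u)) * y⁻¹) := by
  refine (Q_iff hρ hf h3 hy).2 ⟨ch_ext fun i => ?_, fun r r' hr => ?_⟩
  · have := (h (sim i)).2.2
    rw [cz_pow, tor_cz, ← zpow_natCast, ← _root_.zpow_mul]
    exact ((z9 hξ (a := (3 : ℕ) * ex (gl u) (sim i).val) (b := 0)).2 (by
      change ex (gl u) (sim i).val % 3 = 0 at this; omega)).trans (by simp)
  · rw [cz_zpow, tor_cz, tor_cz, ← _root_.zpow_mul, ← Units.val_pow_eq_pow_val, ← zpow_natCast, ← _root_.zpow_mul, z9 hξ, hr]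
    have := (h r).1
    push_cast; rwa [mul_comm _ 2]

theorem dlem (h3 : A.R3) {L : List (Fin 6)} {y : Γ} (hy : τ.σ y = y * A.nw (nw L)) {ε : ℤ} {Ψ S : List ℕ} {u k0 : List ℤ}
    (h : DChk L ε Ψ S u k0) {e : Nd chevE6 → Kˣ} (hQ : Q τ ε (y * h3.torH e * y⁻¹)) (hΨ : rs Ψ ⊆ Psi e) :
    ∃ j < 3, tor e = tor (cz ξ (gl u) ^ j) := by
  obtain ⟨h1, h2⟩ := (Q_iff hρ hf h3 hy).1 hQ
  have hp : IsPrimitiveRoot ξ 9 := hξ ▸ IsPrimitiveRoot.orderOf ξ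
  choose v _ hv using fun i => hp.eq_pow_of_mem_rootsOfUnity (ξ := e i) (by
    rw [mem_rootsOfUnity, show 9 = 3 * 3 from rfl, pow_mul]; exact congrFun (cube_of_tor h1) i)
  let w : ℕ → ℤ := fun i => if h : i < 6 then v ⟨i, h⟩ else 0
  obtain rfl : e = cz ξ w := funext fun i => by rw [← hv, cz, show w i = v i from dif_pos i.2, zpow_natCast]
  have hs : ∀ i : Fin 6, (sim (nE6 i)).val = tabE6.simple i := fun i => tab_E6 ▸ rfl
  choose m hm using fun i : Fin 6 => show (3 : ℤ) ∣ ex w (tabE6.simple i) from by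
    have := DFunLike.congr_fun h1 (rt (sim (nE6 i)))
    rw [cz_pow, tor_cz, ← zpow_natCast, ← _root_.zpow_mul, hs] at this
    have := (z9 hξ (b := 0)).1 (this.trans (by simp))
    omega
  have e1 : ∀ r < 72, ex w r = 3 * ∑ j : Fin 6, tabE6.co r j * m j := fun r hr => by
    rw [show ex w r = _ from ex_lin w ⟨r, hr⟩, Finset.mul_sum]; exact Finset.sum_congr rfl fun j _ => by rw [hm]; ring
  have e2 : ∀ r, dm r (fun j => m j) = (∑ j : Fin 6, tabE6.co r j * m j : ℤ) := fun r => by simp [dm]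
  have e3 : (![m 0, m 1, m 2, m 3, m 4, m 5] : Fin 6 → ZMod 3) = fun j => (m j : ZMod 3) := funext fun j => by fin_cases j <;> rfl
  have e4 : ∀ a b : ℤ, (a : ZMod 3) = b ↔ (a - b) % 3 = 0 := fun a b => by
    rw [ZMod.intCast_eq_intCast_iff_dvd_sub, ← Int.dvd_iff_emod_eq_zero, dvd_sub_comm]; rfl
  obtain ⟨j, hj⟩ := h.2.2 (m 0) (m 1) (m 2) (m 3) (m 4) (m 5) (fun r hr => by
      have := (mem_psi hξ).1 (hΨ (a := ⟨r, h.2.1 r hr⟩) hr)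
      change ex w r % 9 = 0 at this
      rw [e1 r (h.2.1 r hr)] at this
      rw [e3, e2, ← Int.cast_zero, e4]; omega) fun i => by
    have := h2 (sim (nE6 i)) _ (wd_val hρ L _)
    rw [cz_zpow, tor_cz, tor_cz, ← _root_.zpow_mul, ← Units.val_pow_eq_pow_val, ← zpow_natCast, ← _root_.zpow_mul, z9 hξ,
      e1 _ (wd (nw L) (τ.ρ (sim (nE6 i)))).2, wd_val hρ, hs, hm, (h.1 i).1, mul_left_comm] at this
    rw [e3, e2, ← Int.cast_mul, ← Int.cast_ofNat, ← Int.cast_mul, e4]; omega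
  refine ⟨j, j.2, ch_ext fun i : Fin 6 => ?_⟩
  have := hj i
  rw [e3, ← Int.cast_natCast, ← Int.cast_mul, e4] at this
  change tor _ (rt (sim (nE6 i))) = tor _ (rt (sim (nE6 i)))
  rw [cz_pow, tor_cz, tor_cz, ← zpow_natCast, ← _root_.zpow_mul, z9 hξ, hs, hm, (h.1 i).2, mul_left_comm]; omega

omit hρ hf hξ [CharP K 2] in
theorem comm_of_θ (h3 : A.R3) (hG : A.G = ⊤) {s g : Γ} {r : ℕ} (hr : r.Coprime 3) (hs : s ^ r = 1)
    (h : Commute (A.θ g) (A.θ s)) : Commute g s := by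
  have z1 : A.θ (g * s * g⁻¹ * s⁻¹) = 1 := by rw [map_mul, map_mul, map_mul, map_inv, map_inv, h.eq]; group
  have hz : g * s * g⁻¹ = g * s * g⁻¹ * s⁻¹ * s := by group
  generalize g * s * g⁻¹ * s⁻¹ = z at z1 hz
  have z3 : z ^ 3 = 1 := by
    obtain ⟨c, hc, rfl⟩ := (h3.ker_eq hG).le z1
    rw [← map_pow, cube_of_tor hc, map_one]
  have z5 : z ^ r = 1 := by
    have : (z * s) ^ r = 1 := by rw [← hz, conj_pow, hs]; simp
    rwa [Commute.mul_pow (mem_center_iff.1 ((A.center_eq hG).ge z1) s).symm, hs, mul_one] at this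
  have z0 : z = 1 := by rw [← pow_one z, ← hr, pow_gcd_eq_one]; exact ⟨z5, z3⟩
  rw [z0, one_mul] at hz
  exact mul_inv_eq_iff_eq_mul.1 hz

omit hρ hf hξ [CharP K 2] in
theorem eq_of_θ (h3 : A.R3) (hG : A.G = ⊤) {s t : Γ} {r : ℕ} (hr : r.Coprime 3) (hs : s ^ r = 1) (ht : t ^ r = 1)
    (h : A.θ t = A.θ s) : t = s := by
  have z1 : A.θ (t * s⁻¹) = 1 := by rw [map_mul, map_inv, h, mul_inv_cancel]
  have hz : t = t * s⁻¹ * s := by group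
  generalize t * s⁻¹ = z at z1 hz
  have z3 : z ^ 3 = 1 := by
    obtain ⟨c, hc, rfl⟩ := (h3.ker_eq hG).le z1
    rw [← map_pow, cube_of_tor hc, map_one]
  rw [hz, Commute.mul_pow (mem_center_iff.1 ((A.center_eq hG).ge z1) s).symm, hs, mul_one] at ht
  rw [hz, show z = 1 by rw [← pow_one z, ← hr, pow_gcd_eq_one]; exact ⟨ht, z3⟩, one_mul]

variable [IsAlgClosed K] (S : A.SC 2)
include S

omit hρ hf hξ [IsAlgClosed K] [CharP K 2] in
theorem cent_reg {c : Nd chevE6 → Kˣ} (h : ∀ r, r ∉ Psi c) : centralizer {S.h3.torH c} = A.H := by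
  rw [S.h3.cent_eq S.G S.inj (S.finOrd c), Set.eq_empty_of_forall_notMem h, A.X_empty, bot_sup_eq]

omit hρ hf hξ in
theorem cent_H {d : Γ} (h : ∀ g ∈ A.H, Commute g d) : d ∈ A.H := by
  obtain ⟨ζ, hζ⟩ := exists_unit_order (K := K) (n := 19) (by rw [Ne, CharP.cast_eq_zero_iff _ 2]; norm_num)
  rw [← cent_reg S (c := cz ζ (gl [10, 8, 3, 12, 6, 1])) fun r hr => reg19 r ((mem_psi hζ).1 hr)]
  exact mem_centralizer_singleton_iff.2 (h _ (S.h3.torH_mem _)).symm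

theorem dkey {L : List (Fin 6)} {y : Γ} (hy : τ.σ y = y * A.nw (nw L)) {ε : ℤ} {Ψ T : List ℕ} {u k0 : List ℤ}
    (h : DChk L ε Ψ T u k0) {d : Γ} (hQ : Q τ ε d) (hd : ∀ g ∈ A.X (rs Ψ) ⊔ A.H, Commute g (y⁻¹ * d * y)) :
    ∃ e, d = y * S.h3.torH e * y⁻¹ ∧ ∃ j < 3, tor e = tor (cz ξ (gl u) ^ j) := by
  obtain ⟨e, he⟩ := S.h3.torH_range.ge (cent_H S fun g hg => hd g (mem_sup_right hg))
  obtain rfl : d = y * S.h3.torH e * y⁻¹ := by rw [he]; group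
  refine ⟨e, rfl, dlem hρ hf hξ S.h3 hy h hQ fun r hr => ?_⟩
  have := (hd _ (mem_sup_left (A.x_mem hr 1))).eq
  rw [← he, eq_comm, ← mul_inv_eq_iff_eq_mul, S.h3.torH_conj] at this
  exact (mul_one _).symm.trans (A.x_injective _ this)

theorem cond1 {L : List (Fin 6)} {y : Γ} (hy : τ.σ y = y * A.nw (nw L)) {ε : ℤ} {Ψ T : List ℕ} {u k0 : List ℤ}
    (h : DChk L ε Ψ T u k0) (hE : EChk L ε Ψ u) {V : Set Γ} (hV : ∀ g, g ∈ centralizer V ↔ y⁻¹ * g * y ∈ A.X (rs Ψ) ⊔ A.H)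
    {g : Γ} (hg : g ∈ τ.F) (h1 : ∀ s ∈ V, g * s * g⁻¹ ∈ V) (h2 : ∀ s ∈ V, g⁻¹ * s * g⁻¹⁻¹ ∈ V) :
    g ∈ J A (y * S.h3.torH (cz ξ (gl u)) * y⁻¹) := by
  have k : ∀ g ∈ τ.F, (∀ s ∈ V, g * s * g⁻¹ ∈ V) → A.θ g * A.θ (y * S.h3.torH (cz ξ (gl u)) * y⁻¹) * (A.θ g)⁻¹ ∈
      zpowers (A.θ (y * S.h3.torH (cz ξ (gl u)) * y⁻¹)) := fun g hg h1 => by
    obtain ⟨e, h3, j, -, h4⟩ := dkey hρ hf hξ S hy h ((Q_of hρ hf hξ S.h3 hy hE).conj hg) fun t ht => by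
      have h5 : y * t * y⁻¹ ∈ centralizer V := (hV _).2 (by simpa [mul_assoc] using ht)
      have h6 : g⁻¹ * (y * t * y⁻¹) * g ∈ centralizer V := fun s hs => by
        rw [show s * (g⁻¹ * (y * t * y⁻¹) * g) = g⁻¹ * (g * s * g⁻¹ * (y * t * y⁻¹)) * g by group, h5 _ (h1 s hs)]; group
      have h7 := mem_centralizer_singleton_iff.1 ((S.h3.cent_eq S.G S.inj (S.finOrd (cz ξ (gl u)))).ge (sup_le_sup_right
        (A.X_mono fun r hr => (mem_psi hξ).2 ((hE r).2.1 hr)) _ ((hV _).1 h6)))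
      rw [Commute, SemiconjBy, show t * (y⁻¹ * (g * (y * S.h3.torH (cz ξ (gl u)) * y⁻¹) * g⁻¹) * y) = y⁻¹ * g * y *
        (y⁻¹ * (g⁻¹ * (y * t * y⁻¹) * g) * y * S.h3.torH (cz ξ (gl u))) * (y⁻¹ * g * y)⁻¹ by group, h7]
      group
    rw [← map_inv, ← map_mul, ← map_mul, h3]
    exact ⟨j, by
      simp only [zpow_natCast]
      rw [← map_pow, conj_pow, ← map_pow, map_mul, map_mul, map_mul, map_mul, S.h3.θ_torH, S.h3.θ_torH, h4]⟩
  exact mem_norm_zpowers (k g hg h1) (by simpa only [map_inv] using k _ (inv_mem hg) h2)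

omit hρ hf [IsAlgClosed K] [CharP K 2] S in
theorem psi_pow {u : List ℤ} (h : ∀ r : Fin 72, ex (gl u) r % 3 = 0) {e : Nd chevE6 → Kˣ} {j : ℕ} (hj : j < 3)
    (he : tor e = tor (cz ξ (gl u) ^ j)) : (Psi e).ncard = 72 ∨ (Psi e).ncard = cnt u := by
  have k : ∀ r : Rt chevE6, r ∈ Psi e ↔ (j * ex (gl u) r.val - 0) % 9 = 0 := fun r => by
    rw [Psi, Set.mem_ofPred_eq, he, cz_pow, tor_cz, ← zpow_natCast, ← _root_.zpow_mul, ← z9 hξ]; simp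
  rcases Nat.eq_zero_or_pos j with rfl | h0
  · exact .inl (by rw [Set.eq_univ_of_forall fun r => (k r).2 (by simp), Set.ncard_univ, Nat.card_fin]; rfl)
  refine .inr (by
    rw [← ncard_psi hξ]
    refine congrArg _ (Set.ext fun r => (k r).trans ((mem_psi hξ).trans ?_).symm)
    have : ex (gl u) r.val % 3 = 0 := h r
    interval_cases j <;> omega)

variable (hσ : A.Frob 2 τ.σ) (hα : ∀ r t, τ.T.α r t = t ^ 2) (hι : τ.ι = ιE6)
include hα hι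

omit hρ hf hξ [IsAlgClosed K] [CharP K 2] in
theorem tw_mem {L : List (Fin 6)} {v : ℕ → ℤ} {n : ℕ} (h : actChk tabE6 (L.map Fin.val) io 2 v v n = true) {ζ : Kˣ}
    (hζ : ζ ^ n = 1) {y m : Γ} (hy : τ.σ y = y * m) (hm : A.Act m (wd (nw L))) : y * S.h3.torH (cz ζ v) * y⁻¹ ∈ τ.F :=
  (τ.conj_mem_F hy).2 ((τ.fix_torH _ S.inj hm).2 ((τ.mem_TW' fun _ => hα _).2
    (act_spec tab_E6 (nw L) (fun i => by rw [hι]; rfl) h (by exact_mod_cast hζ))))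

include hσ
theorem cond2 {L : List (Fin 6)} {v : List ℤ} {r : ℕ} [hr : Fact r.Prime] (h5 : 3 < r)
    (h1 : actChk tabE6 (L.map Fin.val) io 2 (gl v) (gl v) r = true) (h2 : ∀ s : Fin 72, ex (gl v) s % r ≠ 0)
    {ε : ℤ} {T : List ℕ} {u k0 : List ℤ} (h : DChk L ε [] T u k0) (h3 : ∀ s : Fin 72, ex (gl u) s % 3 = 0)
    {y : Γ} {u' : List ℤ} (hQ : Q τ ε (y * S.h3.torH (cz ξ (gl u')) * y⁻¹)) (h4 : cnt u' ≠ 72 ∧ cnt u' ≠ cnt u) :
    ∃ g ∈ τ.F, g ∉ J A (y * S.h3.torH (cz ξ (gl u')) * y⁻¹) := by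
  obtain ⟨ζ, hζ⟩ := exists_unit_order (K := K) (n := r) (by
    rw [Ne, CharP.cast_eq_zero_iff _ 2, Nat.prime_dvd_prime_iff_eq Nat.prime_two hr.out]; omega)
  have hζ' : ζ ^ r = 1 := hζ ▸ pow_orderOf_eq_one ζ
  obtain ⟨z, hz⟩ := τ.exists_lang S hσ (A.nw_mem (nw L))
  refine ⟨_, tw_mem S hα hι h1 hζ' hz (A.act_nw _), fun hJ => ?_⟩
  set d := y * S.h3.torH (cz ξ (gl u')) * y⁻¹ with hd
  have hs : (z * S.h3.torH (cz ζ (gl v)) * z⁻¹) ^ r = 1 := by rw [conj_pow, ← map_pow, cz_pow, hζ', cz_one]; simp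
  have h6 : orderOf (A.θ d) ∣ 3 := orderOf_dvd_of_pow_eq_one (by rw [← map_pow, hQ.1])
  have : Finite (zpowers (A.θ d)) := Nat.finite_of_card_ne_zero (by rw [Nat.card_zpowers]; rintro e; simp [e] at h6)
  have h7 := cent_of_card (r := r) (by rw [← map_pow, hs, map_one]) hJ (fun k hk e => by
    rw [Nat.card_zpowers] at hk e ⊢
    have := Nat.le_of_dvd three_pos h6
    have := Nat.le_of_dvd three_pos (hk.trans h6)
    exact (Nat.ModEq.eq_of_lt_of_lt e (by omega) (by omega)).symm) _ (mem_zpowers _)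
  have h8 := comm_of_θ S.h3 S.G ((Nat.coprime_primes hr.out Nat.prime_three).2 (by omega)) hs h7.symm
  have h9 : z⁻¹ * d * z ∈ A.H := by
    rw [← cent_reg S (c := cz ζ (gl v)) fun s hs => h2 s ((mem_psi hζ).1 hs), mem_centralizer_singleton_iff,
      show z⁻¹ * d * z * S.h3.torH (cz ζ (gl v)) = z⁻¹ * (d * (z * S.h3.torH (cz ζ (gl v)) * z⁻¹)) * z by group, h8.eq]
    group
  obtain ⟨e, e1, j, hj, e2⟩ := dkey hρ hf hξ S hz h hQ fun g hg => by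
    rw [show rs [] = ∅ from Set.eq_empty_of_forall_notMem fun _ => List.not_mem_nil, A.X_empty, bot_sup_eq] at hg
    exact S.h3.H_comm _ hg _ h9
  obtain ⟨m, hm, e3⟩ := A.conj_H_of_conj (S.h3.torH_mem (cz ξ (gl u'))) (S.h3.torH_mem e) (S.mem_G (z⁻¹ * y)) (by
    rw [show S.h3.torH e = z⁻¹ * d * z by rw [e1]; group, hd]; group)
  obtain ⟨w, hw⟩ := A.exists_act hm
  rw [S.h3.conj_torH hw, S.inj.eq_iff] at e3
  have e4 : Psi e = w '' Psi (cz ξ (gl u')) := Set.ext fun s => by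
    obtain ⟨s, rfl⟩ := w.surjective s
    rw [w.injective.mem_set_image, Psi, Psi, Set.mem_ofPred_eq, Set.mem_ofPred_eq, ← e3, tor_mact hw.ra]
  have e5 := psi_pow hξ h3 hj e2
  rw [e4, Set.ncard_image_of_injective _ w.injective, ncard_psi hξ] at e5
  exact e5.elim h4.1 h4.2

end CA.Chev.E6loc
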