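/-
Local subgroups of ²E₆(2) are not maximal: the general arguments.
-/
import Cfsg.Agent.Lib.Lie.H23E6e

set_option autoImplicit false

namespace CA.Chev.E6loc

open Matrix Equiv Cfsg.Lie Cfsg.Lie.ChevalleyDatum E6five Subgroup H12Inv2

variable {K : Type*} [Field K] {Γ : Type*} [Group Γ] {A : Sys chevE6 K Γ} {τ : Twist A} {X : Type*} [Group X]

/-- a word -/
def rw' (a : List (Fin 72)) : List ℕ := a.map Fin.val

def UChk (L L0 : List (Fin 6)) (Ψ T : List ℕ) (u : List ℤ) (a b w : List (Fin 72)) : Prop :=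
  actChk tabE6 (L0.map Fin.val) id 1 (gl u) (gl u) 9 = true ∧
  (col1 tabE6 ((rw' a).map (φw (L0 ++ L))) (rw' a) = true ∧ col1 tabE6 ((rw' b).map (φw (L0 ++ L))) (rw' b) = true ∧
    col1 tabE6 (rw' a ++ rw' b) (rw' b ++ rw' a ++ rw' w) = true ∧ col1 tabE6 (rw' w ++ rw' w) [] = true) ∧
  ((∀ r ∈ a ++ b, ex (gl u) r % 9 = 0) ∧ w.Nodup ∧ w ≠ [] ∧ ∀ r ∈ w, 36 ≤ r.val ∧ ex (gl u) r % 9 = 0 ∧ r.val ∉ Ψ) ∧
  (∀ r : Fin 72, ex (gl u) r % 9 = 0 → r.val ∈ Ψ ∨ ∀ s ∈ Ψ, orthChk tabE6 0 r s = true) ∧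
  (∀ t ∈ T, t < 72 ∧ t ∈ Ψ ∧ 71 - t ∈ Ψ) ∧ ∀ r ∈ Ψ, ex (fun i => (T.map (tabE6.co · i)).sum) r % 9 ≠ 0
noncomputable instance (L L0 Ψ T u a b w) : Decidable (UChk L L0 Ψ T u a b w) := by unfold UChk; infer_instance

theorem not_coatom {p : ℕ} [Fact p.Prime] (Φ : Form τ p X) {N : Subgroup X} {d : Γ} (h1 : ∀ g : τ.F, Φ.π g ∈ N → g.1 ∈ J A d)
    (h2 : ∃ g ∈ τ.F, g ∉ J A d) (h3 : ∃ g : τ.F, g.1 ∈ J A d ∧ Φ.π g ∉ N) : ¬ IsCoatom N := fun h => by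
  have k : ∀ g : τ.F, Φ.π g ∈ ((J A d).comap τ.F.subtype).map Φ.π ↔ g.1 ∈ J A d := fun g => ⟨fun ⟨g', h1, h2⟩ => by
    have := (Φ.ker (g'⁻¹ * g)).1 (by rw [map_mul, map_inv, h2, inv_mul_cancel])
    rw [coe_mul, coe_inv, map_mul, map_inv, inv_mul_eq_one] at this
    exact mem_comap.2 (this ▸ mem_comap.1 h1), fun h => ⟨g, h, rfl⟩⟩
  obtain ⟨g, hg, h2⟩ := h2
  obtain ⟨g', h3, h4⟩ := h3
  refine h2 ((k ⟨g, hg⟩).1 ((h.2 _ (lt_of_le_of_ne (fun x hx => ?_) fun e => h4 (e.ge ((k g').2 h3)))).ge (mem_top _)))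
  obtain ⟨x, rfl⟩ := Φ.surj x
  exact (k x).2 (h1 x hx)

theorem norm_lift {p : ℕ} [Fact p.Prime] (Φ : Form τ p X) {V : Subgroup Γ} {r : ℕ} (hr : r.Coprime 3) (hF : V ≤ τ.F)
    (hV : ∀ s ∈ V, s ^ r = 1) {g : τ.F} (hg : Φ.π g ∈ normalizer ((V.subgroupOf τ.F).map Φ.π : Set X)) :
    g.1 ∈ normalizer (V : Set Γ) := by
  have k : ∀ g : τ.F, Φ.π g ∈ normalizer ((V.subgroupOf τ.F).map Φ.π : Set X) → ∀ s ∈ V, g.1 * s * g.1⁻¹ ∈ V := fun g hg s hs => by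
    obtain ⟨t, ht, e⟩ := (mem_normalizer_iff.1 hg (Φ.π ⟨s, hF hs⟩)).1 ⟨_, hs, rfl⟩
    have := (Φ.ker (t⁻¹ * (g * ⟨s, hF hs⟩ * g⁻¹))).1 (by rw [map_mul, map_inv, e, map_mul, map_mul, map_inv, inv_mul_cancel])
    rw [coe_mul, coe_inv, map_mul, map_inv, inv_mul_eq_one] at this
    exact eq_of_θ Φ.S.h3 Φ.S.G hr (s := g.1 * s * g.1⁻¹) (by rw [conj_pow, hV s hs]; simp) (hV _ ht) this ▸ ht
  exact mem_normalizer_iff.2 fun s => ⟨k g hg s, fun h => by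
    simpa [mul_assoc] using k g⁻¹ (by rw [map_inv]; exact inv_mem hg) _ h⟩

theorem conj_cent {G : Type*} [Group G] {Y : Subgroup G} {g c : G} (hg : g ∈ normalizer (Y : Set G))
    (hc : c ∈ centralizer (Y : Set G)) : g * c * g⁻¹ ∈ centralizer (Y : Set G) := fun y hy => by
  have := hc _ ((mem_normalizer_iff.1 (inv_mem hg) y).1 hy)
  rw [show y * (g * c * g⁻¹) = g * (g⁻¹ * y * g⁻¹⁻¹ * c) * g⁻¹ by group, this]; group

theorem mem_J {y k d g : Γ} (hk : k ∈ centralizer {d}) (hg : g ∈ centralizer {d}) : y * k * g * (y * k)⁻¹ ∈ J A (y * d * y⁻¹) := by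
  have h1 := mem_centralizer_singleton_iff.1 hk
  have h2 := mem_centralizer_singleton_iff.1 hg
  have : Commute (y * k * g * (y * k)⁻¹) (y * d * y⁻¹) := by
    rw [show y * d * y⁻¹ = y * k * d * (y * k)⁻¹ by rw [mul_assoc y k d, h1]; group, Commute, SemiconjBy, conj_mul, conj_mul, h2]
  exact centralizer_le_normalizer _ fun _ ⟨i, hi⟩ => hi ▸ ((this.map A.θ).zpow_right i).symm

theorem torH_mem_X (h3 : A.R3) (ξ : Kˣ) {Ψ : List ℕ} (T : List ℕ) (h : ∀ t ∈ T, t < 72 ∧ t ∈ Ψ ∧ 71 - t ∈ Ψ) :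
    h3.torH (cz ξ fun i => (T.map (tabE6.co · i)).sum) ∈ A.X (rs Ψ) := by
  induction T with
  | nil =>
    rw [show (cz ξ fun i => (([] : List ℕ).map (tabE6.co · i)).sum) = 1 from funext fun _ => zpow_zero ξ, map_one]
    exact one_mem _
  | cons t T ih =>
    obtain ⟨h1, h2, h4⟩ := h t List.mem_cons_self
    have e : (cz ξ fun i => ((t :: T).map (tabE6.co · i)).sum) = (fun i => ξ ^ cor (D := chevE6) ⟨t, h1⟩ i) *
        cz ξ fun i => (T.map (tabE6.co · i)).sum := funext fun i => by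
      rw [Pi.mul_apply, cz, cz, ← _root_.zpow_add, List.map_cons, List.sum_cons, ← tab_E6]; rfl
    have h5 : ng (D := chevE6) ⟨t, h1⟩ ∈ rs Ψ := by rw [rs, Set.mem_ofPred_eq, ng_val']; exact h4
    rw [e, map_mul, ← h3.h_eq, A.h_def]
    exact mul_mem (mul_mem (A.n_mem_X h2 h5 _) (A.n_mem_X h2 h5 _)) (ih fun t ht => h t (List.mem_cons_of_mem _ ht))

variable [CharP K 2] (hρ : ∀ r, (τ.ρ r).val = φE6 r) (hf : ∀ r t, τ.T.f r t = ηE6 r * t ^ 2)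
include hρ hf

theorem psi_ev (L : List (Fin 6)) (a : List (Fin 72)) :
    A.nw (nw L) * τ.σ (H12Inv2.ev A (rw' a)) * (A.nw (nw L))⁻¹ = H12Inv2.ev A ((rw' a).map (φw L)) := by
  induction a with
  | nil => simp [rw']
  | cons r a ih =>
    have h1 := psi_x hf L r 1
    have h2 := wd_val hρ L r
    rw [one_pow] at h1
    rw [rw', List.map_cons, List.map_cons, ev_cons' A r, map_mul, ← conj_mul, h1]
    exact (congrArg _ ih).trans ((ev_cons' A _ _).symm.trans (congrArg (fun x => H12Inv2.ev A (x :: _)) h2))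

variable {ξ : Kˣ} (hξ : orderOf ξ = 9) [IsAlgClosed K] (S : A.SC 2) (hσ : A.Frob 2 τ.σ)
include hξ S hσ

theorem frame {L L0 : List (Fin 6)} {y : Γ} (hy : τ.σ y = y * A.nw (nw L)) {ε : ℤ} {Ψ : List ℕ} {u : List ℤ}
    (hE : EChk L ε Ψ u) (hε : ε = 1 ∨ ε = -1) (h : actChk tabE6 (L0.map Fin.val) id 1 (gl u) (gl u) 9 = true) :
    ∃ k ∈ centralizer {S.h3.torH (cz ξ (gl u))}, τ.σ (y * k) = y * k * A.nw (nw (L0 ++ L)) := by
  obtain ⟨e', h1, h2⟩ := chi hf S.h3 L (cz ξ (gl u))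
  have h3 := act_spec tab_E6 (nw L0) (ι := id) (fun _ => rfl) h (ζ := ξ) (by exact_mod_cast hξ ▸ pow_orderOf_eq_one ξ)
  have h4 := S.h3.conj_torH (A.act_nw (nw L0)) (cz ξ (gl u))
  rw [show nw (L0 ++ L) = nw L0 ++ nw L from rfl, A.nw_append]
  refine τ.std' S hσ hy (A.nw_mem _) (A.nw_mem _) h1 (fun r hr => ?_) (mem_centralizer_singleton_iff.2
    (mul_inv_eq_iff_eq_mul.1 (h4.trans (congrArg _ ?_))))
  · obtain ⟨r, rfl⟩ := (wd (nw L) * τ.ρ).surjective r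
    rw [Perm.mul_apply, Psi, Set.mem_ofPred_eq, h2, tor_cz, ← Units.val_pow_eq_pow_val, ← zpow_natCast, ← _root_.zpow_mul] at hr
    have := (z9 hξ (b := 0)).1 (hr.trans (by simp))
    have h5 : (ε * ex (gl u) (φw L r.val) - 2 * ex (gl u) r.val) % 9 = 0 := (hE r).1
    rw [Perm.mul_apply, mem_psi hξ, wd_val hρ]
    rcases hε with rfl | rfl <;> omega
  · generalize wd (nw L0) = w at h3
    exact (pow_one _).symm.trans h3

theorem cond3U {L L0 : List (Fin 6)} {y : Γ} (hy : τ.σ y = y * A.nw (nw L)) {ε : ℤ} {Ψ T : List ℕ} {u : List ℤ}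
    (hE : EChk L ε Ψ u) (hε : ε = 1 ∨ ε = -1) {a b w : List (Fin 72)} (h : UChk L L0 Ψ T u a b w) {c : Nd chevE6 → Kˣ}
    (hc : Psi c = rs Ψ) : ∃ g : τ.F, g.1 ∈ J A (y * S.h3.torH (cz ξ (gl u)) * y⁻¹) ∧
      g.1 ∉ normalizer (zpowers (y * S.h3.torH c * y⁻¹) : Set Γ) := by
  obtain ⟨h0, ⟨h1, h2, h3, h4⟩, ⟨h5, h6, h7, h8⟩, h9, h10, h11⟩ := h
  obtain ⟨k, hk, e⟩ := frame hρ hf hξ S hσ hy hE hε h0
  have hC := S.h3.cent_eq S.G S.inj (S.finOrd (cz ξ (gl u)))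
  have m : ∀ a : List (Fin 72), col1 tabE6 ((rw' a).map (φw (L0 ++ L))) (rw' a) = true → (∀ r ∈ a, ex (gl u) r % 9 = 0) →
      ∃ g : τ.F, g.1 ∈ J A (y * S.h3.torH (cz ξ (gl u)) * y⁻¹) ∧ g.1 = y * k * H12Inv2.ev A (rw' a) * (y * k)⁻¹ := fun a h1 h2 =>
    ⟨⟨_, (τ.conj_mem_F e).2 ((psi_ev hρ hf _ a).trans (ev_of_col1 A tab_E6 h1))⟩, mem_J hk (hC.ge (mem_sup_left
      (ev_mem A fun r hr => by
        obtain ⟨r', h, e⟩ := List.mem_map.1 hr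
        exact (mem_psi hξ).2 (e ▸ h2 r' h)))), rfl⟩
  obtain ⟨ga, a1, a2⟩ := m a h1 fun r hr => h5 r (List.mem_append_left _ hr)
  obtain ⟨gb, b1, b2⟩ := m b h2 fun r hr => h5 r (List.mem_append_right _ hr)
  by_contra hn
  push Not at hn
  have e1 := comm_cent ((mem_normalizer_iff.1 (hn ga a1) _).1 (mem_zpowers _)) ((mem_normalizer_iff.1 (hn gb b1) _).1
    (mem_zpowers _))
  have e2 := ev_of_col1 A tab_E6 h3
  have e3 := ev_of_col1 A tab_E6 h4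
  simp only [ev_append, ev_nil] at e2 e3
  have hO : ∀ r : Rt chevE6, ex (gl u) r.val % 9 = 0 → r.val ∉ Ψ → ∀ t, A.x r t ∈ centralizer (A.X (rs Ψ) : Set Γ) :=
    fun r h1 h2 t g hg => (A.X_le (M := centralizer {A.x r t})).2 (fun s hs t' => mem_centralizer_singleton_iff.2
      (Sys0.orth_of_chk A.toSys0 tab_E6 (by simp) (((h9 r h1).resolve_left h2) s hs) _ (A.x_mem (Set.mem_insert _ _) t) _
        (A.x_mem (Set.mem_insert _ _) t')).symm) hg _ rfl |>.symm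
  have hN : ∀ {c}, (∀ r ∈ Psi c, ex (gl u) r.val % 9 = 0) → centralizer {S.h3.torH c} ≤ normalizer (A.X (rs Ψ) : Set Γ) :=
    fun {c} h => (S.h3.cent_eq S.G S.inj (S.finOrd c)).le.trans (sup_le (A.X_le.2 fun r hr t => by
      by_cases h' : r.val ∈ Ψ
      exacts [le_normalizer (A.x_mem h' t), centralizer_le_normalizer _ (hO r (h r hr) h' t)]) (A.H_le_normalizer _))
  have hw : H12Inv2.ev A (rw' w) ∈ centralizer (A.X (rs Ψ) : Set Γ) := (A.X_le (S := {r | ex (gl u) r.val % 9 = 0 ∧ r.val ∉ Ψ})).2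
    (fun r hr => hO r hr.1 hr.2) (ev_mem A fun r hr => by
      obtain ⟨r', h, e⟩ := List.mem_map.1 hr
      exact ⟨e ▸ (h8 r' h).2.1, e ▸ (h8 r' h).2.2⟩)
  obtain ⟨m', k', -, hk', h12⟩ := hσ.pow
  obtain ⟨z, hz, e4⟩ := S.exists_conj_U h12 hk' (c := c) (u := k * H12Inv2.ev A (rw' w) * k⁻¹) (n := 1)
    (mem_centralizer_singleton_iff.2 (by
      rw [a2, b2, show (y * k * H12Inv2.ev A (rw' a) * (y * k)⁻¹)⁻¹ * (y * k * H12Inv2.ev A (rw' b) * (y * k)⁻¹)⁻¹ * (y * k * H12Inv2.ev A (rw' a) *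
        (y * k)⁻¹) * (y * k * H12Inv2.ev A (rw' b) * (y * k)⁻¹) = y * k * ((H12Inv2.ev A (rw' b) * H12Inv2.ev A (rw' a))⁻¹ * (H12Inv2.ev A (rw' a) *
        H12Inv2.ev A (rw' b))) * (y * k)⁻¹ by group, e2, inv_mul_cancel_left] at e1
      rw [show k * H12Inv2.ev A (rw' w) * k⁻¹ * S.h3.torH c = y⁻¹ * (y * k * H12Inv2.ev A (rw' w) * (y * k)⁻¹ * (y * S.h3.torH c * y⁻¹)) * y by
        group, e1.eq]
      group)) (by rw [pow_one, conj_pow, sq, e3]; simp)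
  have e5 := conj_cent (inv_mem (hN (fun r hr => (hE r).2.1 (hc.le hr)) hz)) (conj_cent (hN (fun r hr => (mem_psi hξ).1 hr) hk) hw)
  rw [inv_inv] at e5
  have e6 := (S.h3.comm_iff (nil_pos.psi c) _).2 ⟨e4, mul_inv_eq_iff_eq_mul.2 (e5 _ (torH_mem_X S.h3 ξ T h10))⟩
  rw [Set.eq_empty_of_forall_notMem (s := _ ∩ _) fun r hr => h11 _ (hc.le hr.1.2) ((mem_psi hξ).1 hr.2), A.X_empty,
    mem_bot, show z⁻¹ * (k * H12Inv2.ev A (rw' w) * k⁻¹) * z = (z⁻¹ * k) * H12Inv2.ev A (rw' w) * (z⁻¹ * k)⁻¹ by group, conj_eq_one_iff] at e6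
  obtain ⟨r, hr⟩ := List.exists_mem_of_ne_nil w h7
  have e7 : A.P (D := chevE6) w (fun _ => 1) = A.P (D := chevE6) w fun _ => 0 :=
    (ev_eq_P A w).symm.trans (e6.trans (List.prod_eq_one fun x hx => by
      obtain ⟨r, -, rfl⟩ := List.mem_map.1 hx; exact A.x_zero r).symm)
  exact one_ne_zero (A.P_unique nil_pos h6 (fun r hr => (h8 r hr).1) e7 r hr)

variable (hα : ∀ r t, τ.T.α r t = t ^ 2) (hι : τ.ι = ιE6)
include hα hι

/-- exponent of a torus -/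
def XChk (L : List (Fin 6)) (T : List ℕ) (f : List ℤ) : Prop :=
  (∀ i : Fin 6, getN T i = apW tabE6 (L.map Fin.val) (tabE6.simple i)) ∧
  kill 6 6 (mps 6 (mkM 6 fun i j => 1 * tabE6.co (getN T (io i)) j) 6) (getG 0 f) = true ∧ Chev.ev 7 (getG 0 f) 2 % 7 = 1
noncomputable instance (L T f) : Decidable (XChk L T f) := by unfold XChk; infer_instance

omit hρ hf hξ hσ [IsAlgClosed K] [CharP K 2] in
theorem seven {L : List (Fin 6)} {T : List ℕ} {f : List ℤ} (h : XChk L T f) {y m : Γ} (hy : τ.σ y = y * m)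
    (hm : A.Act m (wd (nw L))) {c : Nd chevE6 → Kˣ} (hc : ∀ r, r ∉ Psi c) {t : Γ} (ht : t ∈ τ.F) (h7 : t ^ 7 = 1)
    (h1 : Commute t (y * S.h3.torH c * y⁻¹)) : t = 1 := by
  obtain ⟨e, he⟩ := S.h3.torH_range.ge ((cent_reg S hc).le (mem_centralizer_singleton_iff.2 (show y⁻¹ * t * y * _ = _ by
    rw [show y⁻¹ * t * y * S.h3.torH c = y⁻¹ * (t * (y * S.h3.torH c * y⁻¹)) * y by group, h1.eq]; group)))
  obtain rfl : t = y * S.h3.torH e * y⁻¹ := by rw [he]; group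
  have h2 := (τ.mem_TW' fun _ => hα _).1 ((τ.fix_torH _ S.inj hm).1 ((τ.conj_mem_F hy).1 ht))
  have h3 : ∀ i : Nd chevE6, getN T i = (wd (nw L) (sim i)).1 := fun i => by
    rw [← apW_eq, tab_E6, show (nw L).map Fin.val = L.map Fin.val from rfl, show (sim i).val = tabE6.simple i from tab_E6 ▸ rfl]
    exact h.1 i
  have h4 := toMat_co h3 τ.ι (ι' := io) (fun i => by rw [hι]; rfl) fun _ => 1
  have h5 := kill_spec h.2.1
  generalize wd (nw L) = w at h2 h4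
  rw [tab_E6] at h4
  simp only [one_mul] at h4 h5
  have h6 := zpow_ev_eq_one h2 (h4 ▸ h5)
  rw [conj_pow, conj_eq_one_iff, ← map_pow, map_eq_one_iff _ S.inj] at h7
  rw [Nat.cast_ofNat, ← Int.mul_ediv_add_emod (Chev.ev 7 (getG 0 f) 2) 7, h.2.2, _root_.zpow_add, _root_.zpow_mul,
    zpow_ofNat, h7, _root_.one_zpow, one_mul, zpow_one] at h6
  simp [h6]

omit hξ S hσ in
/-- the general argument -/
theorem core (Φ : Form τ 2 X) (hξ : orderOf ξ = 9) {L : List (Fin 6)} {y : Γ} (hy : τ.σ y = y * A.nw (nw L)) {ε : ℤ}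
    {Ψ T : List ℕ} {u k0 : List ℤ} (h : DChk L ε Ψ T u k0) (hE : EChk L ε Ψ u) {V : Subgroup Γ} {r : ℕ} (hr : r.Coprime 3)
    (hF : V ≤ τ.F) (hV : ∀ s ∈ V, s ^ r = 1) (hC : ∀ g, g ∈ centralizer (V : Set Γ) ↔ y⁻¹ * g * y ∈ A.X (rs Ψ) ⊔ A.H)
    (h2 : ∃ g ∈ τ.F, g ∉ J A (y * Φ.S.h3.torH (cz ξ (gl u)) * y⁻¹))
    (h3 : ∃ g : τ.F, g.1 ∈ J A (y * Φ.S.h3.torH (cz ξ (gl u)) * y⁻¹) ∧ g.1 ∉ normalizer (V : Set Γ)) :
    ¬ IsCoatom (normalizer ((V.subgroupOf τ.F).map Φ.π : Set X)) :=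
  not_coatom Φ (fun g hg => cond1 hρ hf hξ Φ.S hy h hE hC g.2 (fun s => (mem_normalizer_iff.1 (norm_lift Φ hr hF hV hg) s).1)
    fun s => (mem_normalizer_iff.1 (inv_mem (norm_lift Φ hr hF hV hg)) s).1) h2
    (h3.imp fun g hg => ⟨hg.1, fun h => hg.2 (norm_lift Φ hr hF hV h)⟩)

omit hξ S hσ in
theorem core1 (Φ : Form τ 2 X) (hξ : orderOf ξ = 9) {L : List (Fin 6)} {y : Γ} (hy : τ.σ y = y * A.nw (nw L)) {ε : ℤ}
    {Ψ T : List ℕ} {u k0 : List ℤ} (h : DChk L ε Ψ T u k0) (hE : EChk L ε Ψ u) {c : Nd chevE6 → Kˣ} {r : ℕ}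
    (hr : r.Coprime 3) {s : τ.F} (hs : s.1 = y * Φ.S.h3.torH c * y⁻¹) (h1 : c ^ r = 1) (hc : Psi c = rs Ψ)
    (h2 : ∃ g ∈ τ.F, g ∉ J A (y * Φ.S.h3.torH (cz ξ (gl u)) * y⁻¹))
    (h3 : ∃ g : τ.F, g.1 ∈ J A (y * Φ.S.h3.torH (cz ξ (gl u)) * y⁻¹) ∧ g.1 ∉ normalizer (zpowers s.1 : Set Γ)) :
    ¬ IsCoatom (normalizer (zpowers (Φ.π s) : Set X)) := by
  have e : zpowers (Φ.π s) = ((zpowers s.1).subgroupOf τ.F).map Φ.π := by
    rw [← MonoidHom.map_zpowers, ← subtype_apply, ← MonoidHom.map_zpowers, subgroupOf, comap_map_eq_self_of_injective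
      (subtype_injective _)]
  rw [e]
  refine core hρ hf hα hι Φ hξ hy h hE hr (zpowers_le.2 s.2) ?_ (fun g => ?_) h2 h3
  · rintro _ ⟨i, rfl⟩
    rw [← zpow_natCast, zpow_comm, zpow_natCast, hs, conj_pow, ← map_pow, h1]; simp
  · rw [zpowers_eq_closure, centralizer_closure, ← hc, ← Φ.S.h3.cent_eq Φ.S.G Φ.S.inj (Φ.S.finOrd c),
      mem_centralizer_singleton_iff, mem_centralizer_singleton_iff, hs]
    constructor <;> intro h
    · rw [show y⁻¹ * g * y * Φ.S.h3.torH c = y⁻¹ * (g * (y * Φ.S.h3.torH c * y⁻¹)) * y by group, h]; group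
    · rw [show g * (y * Φ.S.h3.torH c * y⁻¹) = y * (y⁻¹ * g * y * Φ.S.h3.torH c) * y⁻¹ by group, h]; group

end CA.Chev.E6loc
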