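/-
Certificates for the local subgroups of ²E₆(2).
-/
import Cfsg.Agent.Lib.Lie.H23E6f

set_option autoImplicit false

namespace CA.Chev.E6loc

open Matrix Equiv Cfsg.Lie Cfsg.Lie.ChevalleyDatum E6five Subgroup H12Inv2

/-- all checks for a cyclic subgroup -/
def CChk (p : ℕ) (v : List ℤ) (L L0 : List (Fin 6)) (ε : ℤ) (Ψ T S : List ℕ) (u k0 : List ℤ) (a b w : List (Fin 72)) : Prop :=
  DChk L ε Ψ S u k0 ∧ EChk L ε Ψ u ∧ UChk L L0 Ψ T u a b w ∧ (∀ r : Fin 72, ex (gl v) r % p = 0 ↔ r.val ∈ Ψ) ∧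
  (ε = 1 ∧ cnt u ≠ 72 ∧ cnt u ≠ 18 ∨ ε = -1 ∧ cnt u ≠ 72)
noncomputable instance (p v L L0 ε Ψ T S u k0 a b w) : Decidable (CChk p v L L0 ε Ψ T S u k0 a b w) := by
  unfold CChk; infer_instance

def L19 : List (Fin 6) := [3, 2, 1, 0]
def L13 : List (Fin 6) := [2, 3, 0, 2, 1, 0]
def M19 : List (Fin 6) := [5, 1, 3, 4, 2, 3, 0, 2, 1, 3, 4, 5, 2, 1, 3, 4, 2, 3, 0, 2, 1, 3, 2, 1, 0]
def M49 : List (Fin 6) := [1, 3, 4, 2, 3, 0, 2, 1, 3, 4, 5, 4, 3, 2, 1, 3, 4, 3, 0, 2, 1, 3, 2, 1]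
def v19 : List ℤ := [10, 8, 3, 12, 6, 1]
def v13 : List ℤ := [7, 12, 4, 5, 8, 1]
def v17 : List ℤ := [0, 15, 9, 14, 1, 0]
def v11 : List ℤ := [6, 0, 2, 2, 4, 1]
def vA : List ℤ := [0, 3, 0, 1, 0, 0]
def vB : List ℤ := [4, 0, 5, 0, 3, 1]
def v7 : List ℤ := [4, 4, 0, 3, 6, 1]
def x1 : List ℤ := [1, 5, 6, 6, 1, 0]
def x2 : List ℤ := [6, 3, 4, 5, 0, 1]
def u19 : List ℤ := [0, 3, 6, 0, 0, 3]
def u13 : List ℤ := [6, 0, 0, 0, 3, 0]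
def LL (a b : ℕ) : List (Fin 6) := (([[[], [0, 3, 1, 4, 3, 1, 2, 0, 3, 2, 4], [0, 3, 1, 4, 3, 1, 2, 0, 3, 2, 4], [0,
  3, 1, 4, 3, 1, 2, 0, 3, 2, 4], [0, 3, 1, 4, 3, 1, 2, 0, 3, 2, 4], [0, 3, 1, 4, 3, 1, 2, 0, 3, 2, 4], [0, 3, 1, 4, 3,
  1, 2, 0, 3, 2, 4]], [[1, 2, 0, 4, 3, 2], [2, 4, 3, 1, 2, 5], [0, 3, 1, 4, 3, 1, 2, 3, 5], [2, 4], [3, 2, 0, 4, 3, 1,
  2, 3, 5, 4, 3, 1, 2, 3], [0, 2, 3, 1, 2, 3, 4, 3, 1, 5], [2, 0, 3, 4, 3, 1, 5, 4]], [[3, 2, 0, 4, 3, 2], [1, 2, 0,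
  4, 3, 1, 2, 3, 5, 4, 3, 1, 2, 3], [2, 4, 3, 1, 2, 5], [4, 3, 1, 2, 3, 4, 5, 4, 3, 1], [0, 3, 1, 4, 3, 1, 2, 3, 5],
  [2, 0, 3, 4, 3, 1, 5, 4], [0, 5]], [[1, 2, 0, 4, 3, 2], [0, 2, 3, 1, 2, 3, 4, 3, 1, 5], [0, 5], [2, 3, 2, 4, 3, 5],
  [3, 2, 4, 3, 2, 0, 5, 4], [2, 0, 3, 2, 4, 3, 2, 0, 5, 4, 3, 1, 2, 3], [0, 3, 1, 4, 3, 1, 2, 3, 5]], [[3, 2, 0, 4, 3,
  2], [0, 3, 1, 4, 3, 1, 2, 3, 5], [3, 2, 0, 4, 3, 1, 2, 3, 5, 4, 3, 1, 2, 3], [2, 0, 3, 4, 3, 1, 5, 4], [2, 4, 3, 1,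
  2, 5], [2, 4], [4, 3, 1, 2, 3, 4, 5, 4, 3, 1]], [[1, 2, 0, 4, 3, 2], [2, 4], [3, 2, 4, 3, 2, 0, 5, 4], [0, 3, 1, 4,
  3, 1, 2, 3, 5], [0, 2, 3, 1, 2, 3, 4, 3, 1, 5], [1, 2, 3, 4, 3, 5], [2, 0, 3, 2, 4, 3, 2, 0, 5, 4, 3, 1, 2, 3]],
  [[3, 2, 0, 4, 3, 2], [1, 2, 4, 3, 2, 0, 5, 4], [4, 3, 1, 2, 3, 4, 5, 4, 3, 1], [2, 0, 3, 2, 4, 3, 2, 0, 5, 4, 3, 1,
  2, 3], [0, 5], [0, 3, 1, 4, 3, 1, 2, 3, 5], [2, 3, 2, 4, 3, 5]]] : List (List (List (Fin 6)))).getD a []).getD b []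
def JJ (a b : ℕ) : ℤ := (([[1, 1, 2, 3, 4, 5, 6], [1, 1, 6, 3, 2, 3, 2], [1, 1, 2, 5, 5, 4, 3], [3, 2, 1, 1, 2, 4, 4],
  [2, 3, 1, 1, 4, 5, 3], [5, 1, 1, 2, 1, 1, 2], [3, 1, 1, 1, 2, 1, 2]] : List (List ℤ)).getD a []).getD b 0
def TT (a b : ℕ) : Bool := (([[false, true, true, true, true, true, true], [false, false, true, true, false, true,
  false], [false, false, false, true, true, false, true], [false, true, true, false, false, false, true], [false,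
  true, false, false, false, true, true], [false, true, false, true, true, false, false], [false, false, true, false,
  true, true, false]] : List (List Bool)).getD a []).getD b false

theorem a19 : actChk tabE6 (L19.map Fin.val) io 2 (gl v19) (gl v19) (19 : ℕ) = true := by decide +kernel
theorem a13 : actChk tabE6 (L13.map Fin.val) io 2 (gl v13) (gl v13) (13 : ℕ) = true := by decide +kernel
theorem a17 : actChk tabE6 (([3, 2, 1] : List (Fin 6)).map Fin.val) io 2 (gl v17) (gl v17) (17 : ℕ) = true := by decide +kernel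
theorem a11 : actChk tabE6 (([3, 2, 0] : List (Fin 6)).map Fin.val) io 2 (gl v11) (gl v11) (11 : ℕ) = true := by decide +kernel
theorem aA : actChk tabE6 (([3, 1] : List (Fin 6)).map Fin.val) io 2 (gl vA) (gl vA) (7 : ℕ) = true := by decide +kernel
theorem aB : actChk tabE6 (([2, 0] : List (Fin 6)).map Fin.val) io 2 (gl vB) (gl vB) (7 : ℕ) = true := by decide +kernel
theorem a7 : actChk tabE6 ((M19 ++ L19).map Fin.val) io 2 (gl v7) (gl v7) (7 : ℕ) = true := by decide +kernel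
theorem ax1 : actChk tabE6 ((M49 ++ L13).map Fin.val) io 2 (gl x1) (gl x1) (7 : ℕ) = true := by decide +kernel
theorem ax2 : actChk tabE6 ((M49 ++ L13).map Fin.val) io 2 (gl x2) (gl x2) (7 : ℕ) = true := by decide +kernel
theorem b19 : actChk tabE6 (M19.map Fin.val) id 1 (gl u19) (gl u19) 9 = true := by decide +kernel
theorem b49 : actChk tabE6 (M49.reverse.map Fin.val) id 1 (gl u13) (gl u13) 9 = true := by decide +kernel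
theorem r19 : ∀ r : Fin 72, ex (gl v19) r % (19 : ℕ) ≠ 0 := by decide +kernel
theorem r13 : ∀ r : Fin 72, ex (gl v13) r % (13 : ℕ) ≠ 0 := by decide +kernel
theorem d19 : DChk L19 1 [] [36, 24, 40, 50, 56, 13] u19 [-2, 2, 4, -3, -1, 2] := by decide +kernel
theorem d19' : DChk L19 (-1) [] [36, 24, 40, 50, 56, 13] [] [] := by decide +kernel
theorem e19 : EChk L19 1 [] u19 := by decide +kernel
theorem d49 : DChk (M49 ++ L13) 1 [] [36, 70, 37, 16, 14, 42] u13 [4, 0, -2, -1, 2, -1] := by decide +kernel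
theorem e49 : EChk (M49 ++ L13) 1 [] u13 := by decide +kernel
theorem n19 : cnt u19 = 18 := by decide +kernel
theorem n13 : cnt u13 = 24 := by decide +kernel
theorem n0 : cnt [] = 72 ∧ ∀ r : Fin 72, ex (gl []) r % 3 = 0 := by decide +kernel
theorem y19 : XChk L19 [13, 24, 56, 50, 40, 36] [1, 0, 0, -1, 0, 0, 1] := by decide +kernel
theorem y13 : XChk L13 [32, 21, 14, 61, 44, 36] [2, -2, 0, 2, 0, -2, 2] := by decide +kernel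
theorem c13 : CChk 13 v13 L13 [2, 1, 3, 2] 1 [] [] [36, 21, 44, 61, 14, 32] u13 [4, 0, -2, -1, 2, -1] [46] [70] [71] := by
  decide +kernel
theorem c17 : CChk 17 v17 [3, 2, 1] [2, 1, 3] 1 [] [] [36, 24, 40, 50, 28, 58] [8, 0, 4, 0, 5, 1] [4, 0, 0, -3, 3, -1]
  [39] [46] [47] := by decide +kernel
theorem c11 : CChk 11 v11 [3, 2, 0] [0, 2, 3, 2] 1 [0, 71] [71] [36, 47, 40, 42, 56, 13] [1, 0, 2, 6, 7, 8] [0, -2, -1, 1, 0, 3]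
  [36, 56] [44] [45, 59, 60] := by decide +kernel
theorem cA : CChk 7 vA [3, 1] [1, 3] (-1) [3, 4, 5, 15, 16, 35, 36, 55, 56, 66, 67, 68] [68, 66] [36, 24, 40, 46, 43, 56]
  [0, 3, 0, 6, 0, 0] [0, 0, -2, 3, -2, 0] [39] [46] [47] := by decide +kernel
theorem cB : CChk 7 vB [2, 0] [0, 2] (-1) [0, 1, 25, 46, 70, 71] [71] [36, 46, 37, 43, 56, 14] [6, 0, 3, 0, 3, 6]
  [3, 0, 0, -2, 0, 3] [36, 56] [37, 42] [38, 57] := by decide +kernel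
theorem cLL : ∀ a b : Fin 7, a ≠ 0 ∨ b ≠ 0 → JJ a b % 7 ≠ 0 ∧ actChk tabE6 ((LL a b).map Fin.val) id 1
    (fun i => gl x1 i * a.val + gl x2 i * b.val) (fun i => JJ a b * gl (if TT a b then vB else vA) i) 7 = true := by
  decide +kernel
theorem f49 : ∀ r : Fin 72, ex (gl x2) r % (7 : ℕ) = 0 → ex (gl x1) r % (7 : ℕ) ≠ 0 ∧
    ∀ s : Fin 72, ex (gl x2) s % (7 : ℕ) = 0 → (ex (gl x1) s - ex (gl x1) r) % 7 = 0 → s = r := by decide +kernel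
theorem nz : (∃ r : Fin 72, ex (gl v7) r % (7 : ℕ) ≠ 0) ∧ (∃ r : Fin 72, ex (gl x1) r % (7 : ℕ) ≠ 0) ∧
    (∃ r : Fin 72, ex (gl vA) r % (7 : ℕ) ≠ 0) ∧ (∃ r : Fin 72, ex (gl vB) r % (7 : ℕ) ≠ 0) ∧
    (∃ r : Fin 72, ex (gl v11) r % (11 : ℕ) ≠ 0) ∧ (∃ r : Fin 72, ex (gl v17) r % (17 : ℕ) ≠ 0) := by decide +kernel

end CA.Chev.E6loc
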