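/-
Local subgroups of ²E₆(2) for large primes are not maximal.
-/
import Cfsg.Agent.Lib.Lie.H23E6g

set_option autoImplicit false

namespace CA.Chev.E6loc

open Matrix Equiv Cfsg.Lie Cfsg.Lie.ChevalleyDatum E6five Subgroup H12Inv2

variable {K : Type*} [Field K] {Γ : Type*} [Group Γ] {A : Sys chevE6 K Γ} {τ : Twist A} {X : Type*} [Group X]

theorem th_ne (h3 : A.R3) {ζ : Kˣ} {n : ℕ} (hζ : orderOf ζ = n) {v : ℕ → ℤ} (h : ∃ r : Fin 72, ex v r % n ≠ 0) (y : Γ) :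
    A.θ (y * h3.torH (cz ζ v) * y⁻¹) ≠ 1 := fun e => by
  obtain ⟨r, hr⟩ := h
  rw [map_mul, map_mul, map_inv, conj_eq_one_iff, h3.θ_torH, ← map_one dgG, dgG_injective.eq_iff] at e
  exact hr ((mem_psi hζ (r := r)).1 (show tor (cz ζ v) _ = 1 by rw [e]; rfl))

theorem czp {ζ : Kˣ} {n : ℕ} (hζ : orderOf ζ = n) (v : ℕ → ℤ) : cz ζ v ^ n = 1 := by
  rw [cz_pow, ← hζ, pow_orderOf_eq_one, cz_one]

theorem pw (h3 : A.R3) {ζ : Kˣ} {n : ℕ} (hζ : orderOf ζ = n) (v : ℕ → ℤ) (y : Γ) : (y * h3.torH (cz ζ v) * y⁻¹) ^ n = 1 := by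
  rw [conj_pow, ← map_pow, czp hζ]; simp

theorem eq_of_prime {P R : Subgroup X} {p : ℕ} (hp : p.Prime) (h : P ≤ R) (hc : Nat.card R = p) (h1 : P ≠ ⊥) : P = R := by
  have : Finite R := Nat.finite_of_card_ne_zero (hc ▸ hp.ne_zero)
  refine eq_of_le_of_card_ge h ?_
  rcases (Nat.dvd_prime hp).1 (hc ▸ card_dvd_of_le h) with e | e
  exacts [(h1 (card_eq_one.1 e)).elim, (hc.trans e.symm).le]

theorem key7 (h3 : A.R3) {ζ : Kˣ} (hζ : orderOf ζ = 7) {a b : Fin 7} (h : a ≠ 0 ∨ b ≠ 0) : ∃ m ζ', orderOf ζ' = 7 ∧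
    ∃ v, (v = vA ∨ v = vB) ∧ h3.torH (cz ζ (gl x1) ^ a.val * cz ζ (gl x2) ^ b.val) = m * h3.torH (cz ζ' (gl v)) * m⁻¹ := by
  have : Fact (Nat.Prime 7) := ⟨by norm_num⟩
  obtain ⟨h0, h1⟩ := cLL a b h
  have z7 : ζ ^ (7 : ℤ) = 1 := by exact_mod_cast hζ ▸ pow_orderOf_eq_one ζ
  have h2 := act_spec tab_E6 (nw (LL a b)) (ι := id) (fun _ => rfl) h1 z7
  have h4 := h3.conj_torH (A.act_nw (nw (LL a b))) (cz ζ (gl x1) ^ a.val * cz ζ (gl x2) ^ b.val)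
  refine ⟨(A.nw (nw (LL a b)))⁻¹, ζ ^ JJ a b, orderOf_eq_prime (by
    rw [← zpow_natCast, zpow_comm, Nat.cast_ofNat, z7, _root_.one_zpow]) fun e => ?_, if TT a b then vB else vA,
    by split_ifs <;> simp, ?_⟩
  · rw [← orderOf_dvd_iff_zpow_eq_one, hζ] at e; omega
  rw [inv_inv, eq_comm, mul_assoc, inv_mul_eq_iff_eq_mul, ← eq_mul_inv_iff_mul_eq, h4]
  refine congrArg _ ?_
  generalize wd (nw (LL a b)) = w at h2
  rw [pow_one] at h2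
  refine Eq.trans (funext fun i => ?_) (h2.symm.trans (congrArg _ (funext fun i => ?_)))
  · rw [cz, ← _root_.zpow_mul]
  · simp [cz, _root_.zpow_add, _root_.zpow_mul]

theorem cent2 {p : ℕ} [Fact p.Prime] (S : A.SC p) {ζ : Kˣ} (hζ : orderOf ζ = 7) {g : Γ}
    (h1 : S.h3.torH (cz ζ (gl x1)) * g * (S.h3.torH (cz ζ (gl x1)))⁻¹ = g)
    (h2 : S.h3.torH (cz ζ (gl x2)) * g * (S.h3.torH (cz ζ (gl x2)))⁻¹ = g) : g ∈ A.H := by
  obtain ⟨v, hv, m, hm, w, hw, e, u, hu, rfl⟩ := S.h3.cent_decomp S.inj (S.mem_G g) h2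
  obtain ⟨v', hv', m', hm', w', hw', e', u', hu', e2⟩ := S.h3.cent_decomp S.inj (S.mem_G _) h1
  have hU : ∀ {T : Set (Rt chevE6)} {x}, x ∈ A.X ({r | Pos r} ∩ T) → x ∈ A.U := fun h => A.X_mono Set.inter_subset_left h
  have hV : ∀ {T : Set (Rt chevE6)} {w : Perm (Rt chevE6)} {x}, x ∈ A.X (invs w ∩ T) → x ∈ A.B := fun h =>
    A.U_le_B (A.X_mono (fun r hr => (mem_invs.1 hr.1).1) h)
  obtain rfl : w = w' := A.bruhat_unique (b := v'⁻¹ * v) (b' := u * u'⁻¹) (A.U_le_B (mul_mem (inv_mem (hU hv')) (hU hv)))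
    (mul_mem (hV hu) (inv_mem (hV hu'))) hm hw hw' (by
      rw [show v'⁻¹ * v * m * (u * u'⁻¹) = v'⁻¹ * (v * m * u) * u'⁻¹ by group, e2]; group)
  obtain rfl : w = 1 := (stab_Psi (S.finOrd _) hw.1 e).2 fun r hr hp => by
    have a1 := tor_mact hw.ra (cz ζ (gl x2)) r
    have a2 := tor_mact hw.ra (cz ζ (gl x1)) r
    rw [e] at a1
    rw [e', tor_cz, tor_cz, Units.val_inj, zpow_eq_zpow_iff_modEq, hζ, Int.modEq_comm, Int.modEq_iff_dvd,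
      Int.dvd_iff_emod_eq_zero] at a2
    rwa [show w r = r from (f49 r ((mem_psi hζ).1 hr)).2 (w r) ((mem_psi hζ).1 (a1.trans hr)) a2]
  rw [invs_one, Finset.coe_empty, Set.empty_inter, A.X_empty, mem_bot] at hu hu'
  rw [hu, hu', mul_one, mul_one] at e2
  obtain ⟨rfl, -⟩ := A.UH_unique (hU hv) (hU hv') (A.mem_H_of_act hm hw) (A.mem_H_of_act hm' hw') e2
  have h3 := (S.h3.comm_iff (nil_pos.psi _) _).2 ⟨hv, ((S.h3.comm_iff nil_pos _).1 hv').2⟩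
  have h4 := A.X_mono (T := ∅) (fun r hr => (f49 r ((mem_psi hζ).1 hr.1.2)).1 ((mem_psi hζ).1 hr.2)) h3
  rw [A.X_empty, mem_bot] at h4
  rw [h4, hu, one_mul, mul_one]
  exact A.mem_H_of_act hm hw

variable [CharP K 2] [IsAlgClosed K] (hρ : ∀ r, (τ.ρ r).val = φE6 r) (hf : ∀ r t, τ.T.f r t = ηE6 r * t ^ 2)
  (hα : ∀ r t, τ.T.α r t = t ^ 2) (hι : τ.ι = ιE6) (Φ : Form τ 2 X) {ξ : Kˣ} (hξ : orderOf ξ = 9)

theorem ex_ord {n : ℕ} (h : n % 2 = 1) : ∃ ζ : Kˣ, orderOf ζ = n :=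
  exists_unit_order (by rw [Ne, CharP.cast_eq_zero_iff _ 2]; omega)

include hα hι

theorem cyc [Finite X] {p : ℕ} [hp : Fact p.Prime] (hX : ¬ p ^ 2 ∣ Nat.card X) {P : Subgroup X} (hP : IsPGroup p P) (h1 : P ≠ ⊥)
    {L : List (Fin 6)} {v : ℕ → ℤ} (ha : actChk tabE6 (L.map Fin.val) io 2 v v p = true) (hv : ∃ r : Fin 72, ex v r % p ≠ 0)
    {ζ : Kˣ} (hζ : orderOf ζ = p) : ∃ (y : Γ) (s : τ.F), τ.σ y = y * A.nw (nw L) ∧ s.1 = y * Φ.S.h3.torH (cz ζ v) * y⁻¹ ∧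
      P = zpowers (Φ.π s) := by
  obtain ⟨y, hy⟩ := τ.exists_lang Φ.S Φ.fr (A.nw_mem (nw L))
  obtain ⟨s, hs⟩ : ∃ s : τ.F, s.1 = y * Φ.S.h3.torH (cz ζ v) * y⁻¹ :=
    ⟨⟨_, tw_mem Φ.S hα hι ha (hζ ▸ pow_orderOf_eq_one ζ) hy (A.act_nw _)⟩, rfl⟩
  have ho : orderOf (Φ.π s) = p := orderOf_eq_prime (by
    rw [← map_pow, show s ^ p = 1 from Subtype.ext (by rw [coe_pow, hs]; exact pw _ hζ _ _), map_one])
    fun e => th_ne _ hζ hv y (hs ▸ (Φ.ker _).1 e)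
  obtain ⟨g, hg⟩ := sylow_conj hP (R := zpowers (Φ.π s)) (k := 1) (by rw [Nat.card_zpowers, ho, pow_one]) hX
  obtain ⟨g, rfl⟩ := Φ.surj g
  refine ⟨g.1⁻¹ * y, g⁻¹ * s * g⁻¹⁻¹, by rw [map_mul, map_inv, τ.mem_F.1 g.2, hy]; group, by
    simp only [coe_mul, coe_inv, hs]; group, eq_of_prime hp.out (fun x hx => ?_) ?_ h1⟩
  · obtain ⟨i, hi⟩ := hg x hx
    exact ⟨i, by simp only [map_mul, map_inv] at hi ⊢; rw [conj_zpow, hi]; group⟩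
  · rw [Nat.card_zpowers, map_mul, map_mul, map_inv _ g⁻¹, ← ho]
    exact (MulAut.conj (Φ.π g⁻¹)).orderOf_eq _

include hρ hf hξ

theorem caseU {p : ℕ} (hp : p.Coprime 3) {v L L0 ε Ψ T S u k0 a b w} (h : CChk p v L L0 ε Ψ T S u k0 a b w) {ζ : Kˣ}
    (hζ : orderOf ζ = p) {y : Γ} (hy : τ.σ y = y * A.nw (nw L)) {s : τ.F} (hs : s.1 = y * Φ.S.h3.torH (cz ζ (gl v)) * y⁻¹) :
    ¬ IsCoatom (normalizer (zpowers (Φ.π s) : Set X)) := by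
  obtain ⟨h1, h2, h3, h4, h5⟩ := h
  have : Fact (Nat.Prime 19) := ⟨by norm_num⟩
  have hc : Psi (cz ζ (gl v)) = rs Ψ := Set.ext fun r => (mem_psi hζ).trans (h4 r)
  have hQ := Q_of hρ hf hξ Φ.S.h3 hy h2
  refine core1 hρ hf hα hι Φ hξ hy h1 h2 hp hs (czp hζ _) hc ?_
    (hs ▸ cond3U hρ hf hξ Φ.S Φ.fr hy h2 (h5.imp And.left And.left) h3 hc)
  rcases h5 with ⟨rfl, h5⟩ | ⟨rfl, h5⟩
  · exact cond2 hρ hf hξ Φ.S Φ.fr hα hι (r := 19) (by norm_num) a19 r19 d19 (fun s => (e19 s).2.2) hQ (n19 ▸ h5)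
  · exact cond2 hρ hf hξ Φ.S Φ.fr hα hι (r := 19) (by norm_num) a19 r19 d19' n0.2 hQ ⟨h5, n0.1 ▸ h5⟩

theorem case19 {ζ : Kˣ} (hζ : orderOf ζ = 19) {y : Γ} (hy : τ.σ y = y * A.nw (nw L19)) {s : τ.F}
    (hs : s.1 = y * Φ.S.h3.torH (cz ζ (gl v19)) * y⁻¹) : ¬ IsCoatom (normalizer (zpowers (Φ.π s) : Set X)) := by
  have : Fact (Nat.Prime 13) := ⟨by norm_num⟩
  have : Fact (Nat.Prime 7) := ⟨by norm_num⟩
  have : Fact (Nat.Prime 19) := ⟨by norm_num⟩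
  have hc : ∀ r, r ∉ Psi (cz ζ (gl v19)) := fun r hr => r19 r ((mem_psi hζ).1 hr)
  refine core1 hρ hf hα hι Φ hξ hy d19 e19 (r := 19) (by norm_num) hs (czp hζ _)
    (Set.ext fun r => iff_of_false (hc r) List.not_mem_nil) (cond2 hρ hf hξ Φ.S Φ.fr hα hι (r := 13) (by norm_num) a13 r13 c13.1
      (fun s => (c13.2.1 s).2.2) (Q_of hρ hf hξ Φ.S.h3 hy e19) (by rw [n19, n13]; decide)) ?_
  obtain ⟨k, hk, e⟩ := frame hρ hf hξ Φ.S Φ.fr hy e19 (.inl rfl) b19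
  obtain ⟨η, hη⟩ := ex_ord (K := K) (n := 7) rfl
  have ht := tw_mem Φ.S hα hι a7 (hη ▸ pow_orderOf_eq_one η) e (A.act_nw _)
  refine ⟨⟨_, ht⟩, mem_J hk (mem_centralizer_singleton_iff.2 (Φ.S.h3.H_comm _ (Φ.S.h3.torH_mem _) _ (Φ.S.h3.torH_mem _))),
    fun hn => ?_⟩
  have ho : Nat.card (zpowers s.1) = 19 := (Nat.card_zpowers _).trans (orderOf_eq_prime (hs ▸ pw _ hζ _ _)
    fun e => th_ne Φ.S.h3 hζ ⟨0, r19 0⟩ y (by rw [← hs, e, map_one]))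
  have : Finite (zpowers s.1) := Nat.finite_of_card_ne_zero (by omega)
  have h1 := cent_of_card (r := 7) (pw _ hη _ _) hn (fun d hd e => by
    rw [ho] at hd e ⊢
    rcases (Nat.dvd_prime (by norm_num)).1 hd with rfl | rfl
    exacts [absurd e (by decide), rfl]) _ (mem_zpowers _)
  exact th_ne Φ.S.h3 hη nz.1 _ (by rw [seven Φ.S hα hι y19 hy (A.act_nw _) hc ht (pw _ hη _ _) (hs ▸ h1), map_one])

theorem case49 {ζ : Kˣ} (hζ : orderOf ζ = 7) {y : Γ} (hy : τ.σ y = y * A.nw (nw (M49 ++ L13))) {V : Subgroup Γ}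
    (hV : ∀ s ∈ V, ∃ a b : ℕ, s = y * Φ.S.h3.torH (cz ζ (gl x1) ^ a * cz ζ (gl x2) ^ b) * y⁻¹) (hF : V ≤ τ.F)
    (h1 : y * Φ.S.h3.torH (cz ζ (gl x1)) * y⁻¹ ∈ V) (h2 : y * Φ.S.h3.torH (cz ζ (gl x2)) * y⁻¹ ∈ V) (hc : Nat.card V = 7 ^ 2) :
    ¬ IsCoatom (normalizer ((V.subgroupOf τ.F).map Φ.π : Set X)) := by
  have : Fact (Nat.Prime 13) := ⟨by norm_num⟩
  have : Fact (Nat.Prime 19) := ⟨by norm_num⟩
  refine core hρ hf hα hι Φ hξ hy d49 e49 (r := 7) (by norm_num) hF (fun s hs => ?_) (fun g => ?_)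
    (cond2 hρ hf hξ Φ.S Φ.fr hα hι (r := 19) (by norm_num) a19 r19 d19
      (fun s => (e19 s).2.2) (Q_of hρ hf hξ Φ.S.h3 hy e49) (by rw [n19, n13]; decide)) ?_
  · obtain ⟨a, b, rfl⟩ := hV s hs
    rw [conj_pow, ← map_pow, mul_pow, ← pow_mul, ← pow_mul, mul_comm a, mul_comm b, pow_mul, pow_mul, czp hζ, czp hζ]; simp
  · rw [show rs [] = ∅ from Set.eq_empty_of_forall_notMem fun _ => List.not_mem_nil, A.X_empty, bot_sup_eq]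
    have k : ∀ t, y * t * y⁻¹ * g = g * (y * t * y⁻¹) ↔ t * (y⁻¹ * g * y) * t⁻¹ = y⁻¹ * g * y := fun t => ⟨fun h => by
      rw [show t * (y⁻¹ * g * y) = y⁻¹ * (y * t * y⁻¹ * g) * y by group, h]; group, fun h => by
      rw [show y * t * y⁻¹ * g = y * (t * (y⁻¹ * g * y) * t⁻¹) * t * y⁻¹ by group, h]; group⟩
    refine ⟨fun h => cent2 Φ.S hζ ((k _).1 (h _ h1)) ((k _).1 (h _ h2)), fun h s hs => ?_⟩
    obtain ⟨a, b, rfl⟩ := hV s hs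
    exact (k _).2 (mul_inv_eq_iff_eq_mul.2 (Φ.S.h3.H_comm _ (Φ.S.h3.torH_mem _) _ h))
  obtain ⟨k, hk, e⟩ := frame hρ hf hξ Φ.S Φ.fr hy e49 (.inl rfl) b49
  obtain ⟨η, hη⟩ := ex_ord (K := K) (n := 13) rfl
  have hm := A.act_nw (nw (M49.reverse ++ (M49 ++ L13)))
  rw [show wd (nw (M49.reverse ++ (M49 ++ L13))) = wd (nw L13) by
    rw [show nw (M49.reverse ++ (M49 ++ L13)) = (nw M49).reverse ++ (nw M49 ++ nw L13) from rfl, wd_append, wd_append,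
      wd_reverse, inv_mul_cancel_left]] at hm
  have ht := tw_mem Φ.S hα hι a13 (hη ▸ pow_orderOf_eq_one η) e hm
  refine ⟨⟨_, ht⟩, mem_J hk (mem_centralizer_singleton_iff.2 (Φ.S.h3.H_comm _ (Φ.S.h3.torH_mem _) _ (Φ.S.h3.torH_mem _))),
    fun hn => ?_⟩
  have : Finite V := Nat.finite_of_card_ne_zero (by omega)
  have h3 := cent_of_card (r := 13) (pw _ hη _ _) hn (fun d hd e => by
    rw [hc] at hd e ⊢
    obtain ⟨i, hi, rfl⟩ := (Nat.dvd_prime_pow (by norm_num)).1 hd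
    interval_cases i
    exacts [absurd e (by decide), absurd e (by decide), rfl]) _ h1
  exact th_ne Φ.S.h3 hζ nz.2.1 _ (by
    rw [seven Φ.S hα hι y13 e hm (fun r hr => r13 r ((mem_psi hη).1 hr)) (hF h1) (pw _ hζ _ _) h3.symm, map_one])

include Φ

theorem case7 [Finite X] (hX : ¬ 7 ^ 3 ∣ Nat.card X) {P : Subgroup X} (hP : IsPGroup 7 P) (h1 : P ≠ ⊥) :
    ¬ IsCoatom (normalizer (P : Set X)) := by
  have : Fact (Nat.Prime 7) := ⟨by norm_num⟩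
  obtain ⟨ζ, hζ⟩ := ex_ord (K := K) (n := 7) rfl
  let κ0 : Multiplicative (ZMod 7 × ZMod 7) →* Γ := MonoidHom.mk' (fun a =>
    Φ.S.h3.torH (cz ζ (gl x1) ^ a.toAdd.1.val * cz ζ (gl x2) ^ a.toAdd.2.val)) fun a b => by
      simp only [toAdd_mul, Prod.fst_add, Prod.snd_add, ZMod.val_add]
      rw [← pow_eq_pow_mod _ (czp hζ _), ← pow_eq_pow_mod _ (czp hζ _), pow_add, pow_add, mul_mul_mul_comm, map_mul]
  let κ : Γ → Multiplicative (ZMod 7 × ZMod 7) →* Γ := fun y => (MulAut.conj y).toMonoidHom.comp κ0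
  have hκ : ∀ y a, κ y a = y * Φ.S.h3.torH (cz ζ (gl x1) ^ a.toAdd.1.val * cz ζ (gl x2) ^ a.toAdd.2.val) * y⁻¹ := fun _ _ => rfl
  have key : ∀ y a, a ≠ 1 → ∃ m ζ', orderOf ζ' = 7 ∧ ∃ v, (v = vA ∨ v = vB) ∧
      κ y a = m * Φ.S.h3.torH (cz ζ' (gl v)) * m⁻¹ := fun y a ha => by
    obtain ⟨m, ζ', h1, v, h2, h3⟩ := key7 Φ.S.h3 hζ (a := a.toAdd.1) (b := a.toAdd.2) (by
      by_contra h; push Not at h; exact ha (Prod.ext h.1 h.2))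
    exact ⟨y * m, ζ', h1, v, h2, (hκ y a).trans ((congrArg (y * · * y⁻¹) h3).trans (by group))⟩
  have hθ : ∀ y a, A.θ (κ y a) = 1 → a = 1 := fun y a e => by
    by_contra h
    obtain ⟨m, ζ', h1, v, h2, h3⟩ := key y a h
    refine th_ne Φ.S.h3 h1 ?_ m (h3 ▸ e)
    rcases h2 with rfl | rfl
    exacts [nz.2.2.1, nz.2.2.2.1]
  have hF : ∀ y, τ.σ y = y * A.nw (nw (M49 ++ L13)) → (κ y).range ≤ τ.F := by
    rintro y hy _ ⟨a, rfl⟩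
    rw [hκ, map_mul, map_pow, map_pow, ← conj_mul, ← conj_pow, ← conj_pow]
    exact mul_mem (pow_mem (tw_mem Φ.S hα hι ax1 (hζ ▸ pow_orderOf_eq_one ζ) hy (A.act_nw _)) _)
      (pow_mem (tw_mem Φ.S hα hι ax2 (hζ ▸ pow_orderOf_eq_one ζ) hy (A.act_nw _)) _)
  have c1 : ∀ y, Nat.card (κ y).range = 7 ^ 2 := fun y => by
    rw [← Nat.card_congr (MonoidHom.ofInjective ((injective_iff_map_eq_one _).2 fun a ha => hθ y a (by
      rw [ha, map_one]))).toEquiv]; simp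
  have c2 : ∀ y, τ.σ y = y * A.nw (nw (M49 ++ L13)) → Nat.card (((κ y).range.subgroupOf τ.F).map Φ.π) = 7 ^ 2 := fun y hy => by
    have e : ((κ y).range.subgroupOf τ.F).map Φ.π = (Φ.π.comp ((κ y).codRestrict _ fun a => hF y hy ⟨a, rfl⟩)).range :=
      le_antisymm (by rintro _ ⟨t, ⟨a, ha⟩, rfl⟩; exact ⟨a, congrArg Φ.π (Subtype.ext ha)⟩)
        (by rintro _ ⟨a, rfl⟩; exact ⟨_, ⟨a, rfl⟩, rfl⟩)
    rw [e, ← Nat.card_congr (MonoidHom.ofInjective ((injective_iff_map_eq_one _).2 fun a ha => hθ y a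
      ((Φ.ker _).1 ha))).toEquiv]; simp
  obtain ⟨y0, hy0⟩ := τ.exists_lang Φ.S Φ.fr (A.nw_mem (nw (M49 ++ L13)))
  obtain ⟨g, hg⟩ := sylow_conj hP (c2 y0 hy0) hX
  obtain ⟨g, rfl⟩ := Φ.surj g
  obtain ⟨y, hy, hle⟩ : ∃ y, τ.σ y = y * A.nw (nw (M49 ++ L13)) ∧ P ≤ ((κ y).range.subgroupOf τ.F).map Φ.π := by
    refine ⟨g.1⁻¹ * y0, by rw [map_mul, map_inv, τ.mem_F.1 g.2, hy0]; group, fun x hx => ?_⟩
    obtain ⟨t, ⟨a, ha⟩, ht⟩ := hg x hx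
    refine ⟨g⁻¹ * t * g, ⟨a, ?_⟩, by rw [map_mul, map_mul, map_inv, ht]; group⟩
    rw [hκ] at ha ⊢
    simp only [subtype_apply, coe_mul, coe_inv] at ha ⊢
    rw [← ha]; group
  obtain ⟨i, hi, hc⟩ := (Nat.dvd_prime_pow (by norm_num)).1 (c2 y hy ▸ card_dvd_of_le hle)
  interval_cases i
  · exact (h1 (card_eq_one.1 hc)).elim
  · obtain ⟨⟨x, hx⟩, hx1⟩ := ne_bot_iff_exists_ne_one.1 h1
    replace hx1 : x ≠ 1 := fun e => hx1 (Subtype.ext e)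
    obtain ⟨t, ⟨a, ha⟩, rfl⟩ := hle hx
    rw [← eq_of_prime (by norm_num) (zpowers_le.2 hx) hc (zpowers_ne_bot.2 hx1)]
    obtain ⟨m, ζ', h1, v, h2, h3⟩ := key y a (by
      rintro rfl; exact hx1 (by rw [show t = 1 from Subtype.ext (ha.symm.trans (map_one _)), map_one]))
    have e : m⁻¹ * t.1 * m = Φ.S.h3.torH (cz ζ' (gl v)) := by rw [show t.1 = _ from ha.symm.trans h3]; group
    have k : ∀ L : List (Fin 6), actChk tabE6 (L.map Fin.val) io 2 (gl v) (gl v) (7 : ℕ) = true →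
        ∃ y', τ.σ y' = y' * A.nw (nw L) ∧ t.1 = y' * Φ.S.h3.torH (cz ζ' (gl v)) * y'⁻¹ := fun L h => by
      obtain ⟨y', e1, e2⟩ := τ.std Φ.S Φ.fr t.2 e (A.nw_mem (nw L)) (A.act_nw _) ((τ.mem_TW' fun _ => hα _).2
        (act_spec tab_E6 (nw L) (fun i => by rw [hι]; rfl) h (by exact_mod_cast h1 ▸ pow_orderOf_eq_one ζ')))
      exact ⟨y', e2, by rw [← e1]; group⟩
    rcases h2 with rfl | rfl
    · obtain ⟨y', e1, e2⟩ := k _ aA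
      exact caseU hρ hf hα hι Φ hξ (by norm_num) cA h1 e1 e2
    · obtain ⟨y', e1, e2⟩ := k _ aB
      exact caseU hρ hf hα hι Φ hξ (by norm_num) cB h1 e1 e2
  · rw [eq_of_le_of_card_ge hle ((c2 y hy).trans hc.symm).le]
    exact case49 hρ hf hα hι Φ hξ hζ hy (by rintro _ ⟨a, rfl⟩; exact ⟨_, _, hκ y a⟩) (hF y hy)
      ⟨Multiplicative.ofAdd (1, 0), by rw [hκ]; exact congrArg (y * Φ.S.h3.torH · * y⁻¹) (show _ ^ 1 * _ ^ 0 = _ by simp)⟩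
      ⟨Multiplicative.ofAdd (0, 1), by rw [hκ]; exact congrArg (y * Φ.S.h3.torH · * y⁻¹) (show _ ^ 0 * _ ^ 1 = _ by simp)⟩ (c1 y)

theorem main (hX : Nat.card X = 2 ^ 36 * 3 ^ 9 * 5 ^ 2 * 7 ^ 2 * 11 * 13 * 17 * 19) {p : ℕ} (hp : p.Prime) (h5 : 5 < p)
    {P : Subgroup X} (hP : IsPGroup p P) (h1 : P ≠ ⊥) : ¬ IsCoatom (normalizer (P : Set X)) := by
  have : Finite X := Nat.finite_of_card_ne_zero (by rw [hX]; norm_num)
  have := Fact.mk hp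
  have h2 : p ∣ Nat.card X := ((hP.card_eq_or_dvd).resolve_left fun e => h1 (card_eq_one.1 e)).trans (card_subgroup_dvd_card P)
  have h3 : ∀ q : ℕ, q.Prime → p ∣ q → p = q := fun q hq => (Nat.prime_dvd_prime_iff_eq hp hq).1
  simp only [hX, hp.dvd_mul] at h2
  rcases h2 with ((((((h | h) | h) | h) | h) | h) | h) | h
  · have := h3 _ (by norm_num) (hp.dvd_of_dvd_pow h); omega
  · have := h3 _ (by norm_num) (hp.dvd_of_dvd_pow h); omega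
  · have := h3 _ (by norm_num) (hp.dvd_of_dvd_pow h); omega
  · obtain rfl := h3 _ (by norm_num) (hp.dvd_of_dvd_pow h)
    exact case7 hρ hf hα hι Φ hξ (by rw [hX]; norm_num) hP h1
  · obtain rfl := h3 _ (by norm_num) h
    obtain ⟨ζ, hζ⟩ := ex_ord (K := K) (n := 11) rfl
    obtain ⟨y, s, e1, e2, rfl⟩ := cyc hα hι Φ (by rw [hX]; norm_num) hP h1 a11 nz.2.2.2.2.1 hζ
    exact caseU hρ hf hα hι Φ hξ (by norm_num) c11 hζ e1 e2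
  · obtain rfl := h3 _ (by norm_num) h
    obtain ⟨ζ, hζ⟩ := ex_ord (K := K) (n := 13) rfl
    obtain ⟨y, s, e1, e2, rfl⟩ := cyc hα hι Φ (by rw [hX]; norm_num) hP h1 a13 ⟨0, r13 0⟩ hζ
    exact caseU hρ hf hα hι Φ hξ (by norm_num) c13 hζ e1 e2
  · obtain rfl := h3 _ (by norm_num) h
    obtain ⟨ζ, hζ⟩ := ex_ord (K := K) (n := 17) rfl
    obtain ⟨y, s, e1, e2, rfl⟩ := cyc hα hι Φ (by rw [hX]; norm_num) hP h1 a17 nz.2.2.2.2.2 hζ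
    exact caseU hρ hf hα hι Φ hξ (by norm_num) c17 hζ e1 e2
  · obtain rfl := h3 _ (by norm_num) h
    obtain ⟨ζ, hζ⟩ := ex_ord (K := K) (n := 19) rfl
    obtain ⟨y, s, e1, e2, rfl⟩ := cyc hα hι Φ (by rw [hX]; norm_num) hP h1 a19 ⟨0, r19 0⟩ hζ
    exact case19 hρ hf hα hι Φ hξ hζ e1 e2

end CA.Chev.E6loc
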