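/-
Inner-diagonal elements centralising elements with non-zero simple root coordinates.
-/
import Cfsg.Agent.Lib.Lie.ChevTwE6

set_option autoImplicit false

namespace CA.Chev.H25C

open Equiv Cfsg.Lie Cfsg.Lie.ChevalleyDatum

variable {D : ChevalleyDatum} [Good D] {K : Type*} [Field K] {Γ : Type*} [Group Γ]

/-- `y ∈ U` has the coordinate `t` at the simple root `i` -/
def Co (A : Sys D K Γ) (i : Nd D) (t : K) (y : Γ) : Prop :=
  ∃ a ∈ A.X {s | Pos s ∧ s ≠ sim i}, y = A.x (sim i) t * a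

variable {A : Sys D K Γ} {i : Nd D} {t u : K} {y : Γ}

theorem Co.unique (h : Co A i t y) (h' : Co A i u y) : t = u := by
  obtain ⟨a, ha, e⟩ := h
  obtain ⟨b, hb, e'⟩ := h'
  exact A.x_mul_inj i (e.symm.trans e') ha hb

theorem Co.mem (h : Co A i t y) : y ∈ A.U := by
  obtain ⟨a, ha, rfl⟩ := h
  exact mul_mem (A.x_mem (pos_sim i) t) (A.X_mono (fun _ h => h.1) ha)

theorem cmb_ne {r s k : Rt D} (hr : Pos r) (hs : Pos s) (h : Cmb r s k) : k ≠ s := by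
  rintro rfl
  obtain ⟨i, j, hi, hj, e⟩ := h.coord
  have e' : ht k = i * ht r + j * ht k := by simp only [ht, Finset.mul_sum, ← Finset.sum_add_distrib, ← e]
  have := hr.ht_pos
  have := hs.ht_pos
  nlinarith

theorem Co.conj (h : Co A i t y) {v : Γ} (hv : v ∈ A.U) : Co A i t (v * y * v⁻¹) := by
  obtain ⟨a, ha, rfl⟩ := h
  have h0 := fun r (hr : r ∈ {r : Rt D | Pos r}) => nil_Up i r (Or.inl hr)
  refine ⟨_, mul_mem (A.central_mod h0 (r := sim i) (fun s hs => ⟨nil_pos.ne_ng hs (pos_sim i), fun k hk =>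
    ⟨nil_pos.2 s hs _ (pos_sim i) k hk, cmb_ne hs (pos_sim i) hk⟩⟩) t (inv_mem hv)) (A.conj_mem h0 hv _ ha), ?_⟩
  group

theorem mem_B_of_co {g : Γ} (hg : g ∈ A.G) (hc : ∀ i, ∃ t y, t ≠ 0 ∧ Co A i t y ∧ g * y * g⁻¹ ∈ A.U) : g ∈ A.B := by
  obtain ⟨b, hb, m, hm, w, hw, v, hv, rfl⟩ := A.bruhat_canon hg
  have hU : v ∈ A.U := A.X_mono (fun _ hr => (mem_invs.1 hr).1) hv
  obtain rfl : w = 1 := eq_one_of_pos hw.1 fun i => by
    by_contra hn
    obtain ⟨t, y, h0, hy, h1⟩ := hc i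
    have h2 := A.B_conj_U (inv_mem hb) h1
    rw [show b⁻¹ * (b * m * v * y * (b * m * v)⁻¹) * b⁻¹⁻¹ = m * (v * y * v⁻¹) * m⁻¹ by group] at h2
    have h3 := hy.conj hU
    obtain ⟨a, ha, a', ha', e⟩ := A.exists_U_split w h3.mem
    have : m * a' * m⁻¹ = 1 := by
      refine A.U_inf_V ?_ (hw.conj_X (fun s hs => (mem_invs.1 hs).2) ha')
      have : m * a' * m⁻¹ = (m * a * m⁻¹)⁻¹ * (m * (v * y * v⁻¹) * m⁻¹) := by rw [e]; group
      rw [this]
      exact mul_mem (inv_mem (hw.conj_X (fun s hs => hs.2) ha)) h2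
    rw [conj_eq_one_iff.1 this, mul_one] at e
    refine h0 (h3.unique ⟨a, A.X_mono (T := {s | Pos s ∧ s ≠ sim i}) (fun r hr => ⟨hr.1, fun e => hn (e ▸ hr.2)⟩) ha, ?_⟩)
    rw [e, A.x_zero, one_mul]
  exact mul_mem (mul_mem hb (A.H_le_B (A.mem_H_of_act hm hw))) (A.U_le_B hU)

theorem dg_conj_X (χ : Ch D K) {S : Set (Rt D)} {y : GL D.Idx K} (hy : y ∈ (adj D K).X S) :
    dgG χ * y * (dgG χ)⁻¹ ∈ (adj D K).X S :=
  (adj D K).conj_mem_of (fun s hs u => by rw [adj_x, dgG_conj]; exact (adj D K).x_mem hs _) hy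

theorem Co.dg {y : GL D.Idx K} (h : Co (adj D K) i t y) (χ : Ch D K) :
    Co (adj D K) i (χ (rt (sim i)) * t) (dgG χ * y * (dgG χ)⁻¹) := by
  obtain ⟨a, ha, rfl⟩ := h
  refine ⟨_, dg_conj_X χ ha, ?_⟩
  rw [adj_x, adj_x, ← dgG_conj]; group

theorem ch_ne (χ : Ch D K) (v : Nd D → ℤ) : χ v ≠ 0 := fun e => by
  have := χ.map_add_eq_mul v (-v)
  rw [add_neg_cancel, e, AddChar.map_zero_eq_one, zero_mul] at this
  exact one_ne_zero this

/-- an inner-diagonal element centralising enough unipotent elements has an inner diagonal part -/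
theorem exists_tor (χ : Ch D K) {g : GL D.Idx K} (hg : g ∈ (adj D K).G)
    (h : ∀ i, ∃ s, Co (adj D K) i 1 s ∧ g * dgG χ * s * (g * dgG χ)⁻¹ = s) :
    ∃ c : Nd D → Kˣ, ∀ i, tor c (rt (sim i)) * χ (rt (sim i)) = 1 := by
  have hB : g ∈ (adj D K).B := mem_B_of_co hg fun i => by
    obtain ⟨s, hs, e⟩ := h i
    refine ⟨_, _, mul_ne_zero (ch_ne χ _) one_ne_zero, hs.dg χ, ?_⟩
    rw [show g * (dgG χ * s * (dgG χ)⁻¹) * g⁻¹ = g * dgG χ * s * (g * dgG χ)⁻¹ by group, e]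
    exact hs.mem
  obtain ⟨v, hv, k, hk, rfl⟩ := (adj D K).mem_B.1 hB
  rw [adj_H_eq] at hk
  obtain ⟨c, rfl⟩ := hk
  refine ⟨c, fun i => ?_⟩
  obtain ⟨s, hs, e⟩ := h i
  have := (hs.dg (tor c * χ)).conj hv
  rw [show v * (dgG (tor c * χ) * s * (dgG (tor c * χ))⁻¹) * v⁻¹ =
    v * (dgG.comp tor) c * dgG χ * s * (v * (dgG.comp tor) c * dgG χ)⁻¹ by
      rw [map_mul, MonoidHom.comp_apply]; group, e] at this
  simpa using this.unique hs

theorem dg_conj_G (χ : Ch D K) {y : GL D.Idx K} (hy : y ∈ (adj D K).G) : dgG χ * y * (dgG χ)⁻¹ ∈ (adj D K).G :=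
  dg_conj_X χ hy

end CA.Chev.H25C
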