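/-
The diagonal automorphisms of order three of `²E₆(2)`.
-/
import Cfsg.Agent.Lib.Lie.H25Cls1

set_option autoImplicit false

namespace CA.Chev.H25C

open Equiv Cfsg.Lie Cfsg.Lie.ChevalleyDatum

variable {K : Type*} [Field K]

theorem map_xG' {D : ChevalleyDatum} [Good D] {K' : Type*} [Field K'] (β : K →+* K') (r : Rt D) (t : K) :
    Matrix.GeneralLinearGroup.map β (xG r t) = xG r (β t) := Units.ext (map_xR β r t)

theorem map_mem_G {D : ChevalleyDatum} [Good D] {K' : Type*} [Field K'] (β : K →+* K') {g : GL D.Idx K}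
    (hg : g ∈ (adj D K).G) : Matrix.GeneralLinearGroup.map β g ∈ (adj D K').G :=
  ((adj D K).X_le (M := (adj D K').G.comap (Matrix.GeneralLinearGroup.map β))).2
    (fun r _ t => by rw [Subgroup.mem_comap, adj_x, map_xG']; exact (adj D K').x_mem_G r _) hg

/-- the linear form -/
noncomputable def Lf : (Nd chevE6 → ℤ) →ₗ[ℤ] ℤ :=
  (LinearMap.proj (nE6 0) : (Nd chevE6 → ℤ) →ₗ[ℤ] ℤ) - (LinearMap.proj (nE6 5) : (Nd chevE6 → ℤ) →ₗ[ℤ] ℤ)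

/-- the diagonal elements -/
noncomputable def δ : Kˣ →* GL chevE6.Idx K :=
  MonoidHom.mk' (fun a => dgG (zp a Lf)) fun a b => by rw [zp_mul, map_mul]

theorem δ_apply (a : Kˣ) : δ a = dgG (zp a Lf) := rfl

theorem map_δ (β : K →+* K) (a : Kˣ) : Matrix.GeneralLinearGroup.map β (δ a) = δ (Units.map β.toMonoidHom a) := by
  refine Units.ext (Matrix.ext fun i j => ?_)
  change β (dg (zp a Lf) i j) = dg (zp _ Lf) i j
  simp only [dg, Matrix.diagonal_apply]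
  split_ifs <;> simp

theorem Lf_sim (i : Fin 6) : Lf (rt (sim (nE6 i))) = ![1, 0, 0, 0, 0, -1] i := by
  rw [rt_sim]; revert i; decide +kernel

theorem δ_eq_one (h3 : ∀ a : Kˣ, a ^ 3 = 1) {e : Kˣ} {g : GL chevE6.Idx K} (hg : g ∈ (adj chevE6 K).G)
    (h : ∀ i, ∃ s, Co (adj chevE6 K) i 1 s ∧ g * δ e * s * (g * δ e)⁻¹ = s) : e = 1 := by
  obtain ⟨c, hc⟩ := exists_tor _ hg h
  have w : ∀ j i : Fin 6, wt (sim (nE6 j)) (nE6 i) = ![![2, 0, -1, 0, 0, 0], ![0, 2, 0, -1, 0, 0], ![-1, 0, 2, -1, 0, 0],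
    ![0, -1, -1, 2, -1, 0], ![0, 0, 0, -1, 2, -1], ![0, 0, 0, 0, -1, 2]] j i := by decide +kernel
  have k : ∀ j : Fin 6, (∏ i : Fin 6, c (nE6 i) ^ wt (sim (nE6 j)) (nE6 i)) * e ^ Lf (rt (sim (nE6 j))) = 1 := fun j => by
    have := hc (nE6 j)
    rw [tor_rt, zp_apply] at this
    refine Units.ext ?_
    push_cast
    exact this
  have k0 := k 0
  have k2 := k 2
  have k4 := k 4
  have k5 := k 5
  simp only [w, Lf_sim, Fin.prod_univ_six] at k0 k2 k4 k5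
  simp at k0 k2 k4 k5
  have : ∀ a b c d f e : Additive Kˣ, 2 • a + -b + e = 0 → -a + 2 • b + -c = 0 → -c + 2 • d + -f = 0 →
      -d + 2 • f + -e = 0 → 3 • b = 0 → 3 • c = 0 → 3 • f = 0 → e = 0 := by
    intro a b c d f e h1 h2 h3 h4 h5 h6 h7
    linear_combination (norm := module) -h1 - 2 • h2 - h3 - 2 • h4 + h5 - h6 + h7
  exact this _ _ _ _ _ e k0 k2 k4 k5 (h3 _) (h3 _) (h3 _)

theorem not_conj (h3 : ∀ a : Kˣ, a ^ 3 = 1) (β : K →+* K) (hβ : ∀ t, β t = t ^ 2) {F : Subgroup (GL chevE6.Idx K)}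
    (hF : ∀ f ∈ F, Matrix.GeneralLinearGroup.map β f = f) (hs : ∀ i, ∃ s ∈ F, Co (adj chevE6 K) i 1 s) {a b : Kˣ}
    {g : GL chevE6.Idx K} (hg : g ∈ (adj chevE6 K).G)
    (h : ∀ f ∈ F, (δ b)⁻¹ * (g * (δ a * f * (δ a)⁻¹) * g⁻¹) * δ b ∈ F) : a = b := by
  set φ := Matrix.GeneralLinearGroup.map (n := chevE6.Idx) β with hφ
  have hδ : ∀ c : Kˣ, φ (δ c) = (δ c)⁻¹ := fun c => by
    rw [hφ, map_δ, ← map_inv]
    congr 1
    refine Units.ext ?_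
    rw [eq_comm, inv_eq_of_mul_eq_one_right (b := c ^ 2) (by rw [← pow_succ', h3])]
    simpa using (hβ c).symm
  have e3 : ∀ c : Kˣ, (δ c)⁻¹ = δ c * δ c := fun c => by
    rw [← map_mul, ← map_inv, inv_eq_of_mul_eq_one_right (b := c * c) (by rw [← h3 c, pow_succ', sq])]
  rw [← mul_inv_eq_one]
  refine δ_eq_one h3 (g := (δ a⁻¹ * g⁻¹ * (δ a⁻¹)⁻¹) * (δ (a⁻¹ * b⁻¹) * φ g * (δ (a⁻¹ * b⁻¹))⁻¹))
    (mul_mem (dg_conj_G _ (inv_mem hg)) (dg_conj_G _ (map_mem_G β hg))) fun i => ?_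
  obtain ⟨s, hsF, hs⟩ := hs i
  refine ⟨s, hs, ?_⟩
  have e1 := hF _ (h s hsF)
  simp only [map_mul, map_inv, hδ, hF s hsF, inv_inv] at e1
  have e2 : δ a⁻¹ * g⁻¹ * (δ a⁻¹)⁻¹ * (δ (a⁻¹ * b⁻¹) * φ g * (δ (a⁻¹ * b⁻¹))⁻¹) * δ (a * b⁻¹) =
      ((δ b)⁻¹ * g * δ a)⁻¹ * (δ b * φ g * (δ a)⁻¹) := by
    have a1 : (δ a⁻¹)⁻¹ * δ (a⁻¹ * b⁻¹) = δ b * δ b := by
      rw [← e3, ← map_inv, ← map_mul, ← map_inv]; congr 1; group
    have a2 : (δ (a⁻¹ * b⁻¹))⁻¹ * δ (a * b⁻¹) = (δ a)⁻¹ := by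
      rw [e3 a, ← map_inv, ← map_mul, ← map_mul]; congr 1
      rw [mul_inv_rev, inv_inv, inv_inv, mul_comm b a, mul_assoc, mul_left_comm b, mul_inv_cancel, mul_one]
    calc _ = δ a⁻¹ * g⁻¹ * ((δ a⁻¹)⁻¹ * δ (a⁻¹ * b⁻¹)) * φ g * ((δ (a⁻¹ * b⁻¹))⁻¹ * δ (a * b⁻¹)) := by group
      _ = _ := by rw [a1, a2, map_inv]; group
  rw [e2]
  calc _ = ((δ b)⁻¹ * g * δ a)⁻¹ * (δ b * (φ g * ((δ a)⁻¹ * s * δ a) * (φ g)⁻¹) * (δ b)⁻¹) * ((δ b)⁻¹ * g * δ a) := by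
        group
    _ = s := by rw [e1]; group

theorem twisted_eq (q : ℕ) : twistedE6 K q = Subgroup.closure (wN (adj chevE6 K).x '' e6Words K q) := by
  rw [twistedE6, genSubgroup_eq, MonoidHom.map_closure, Set.image_image]
  congr 2
  funext w
  exact map_wN (adjG chevE6 K).x (chevE6.group K).subtype (y' := (adj chevE6 K).x) (fun r t => adjG_x r t) w

theorem δ_xN (a : Kˣ) (k : ℕ) (m : ℤ) (h : ∃ i : Fin 6, (k = (sim (nE6 i)).val ∧ m = ![1, 0, 0, 0, 0, -1] i) ∨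
    (k = (ng (sim (nE6 i))).val ∧ m = -![1, 0, 0, 0, 0, -1] i)) (t : K) :
    δ a * xN (adj chevE6 K).x k t * (δ a)⁻¹ = xN (adj chevE6 K).x k ((a : K) ^ m * t) := by
  obtain ⟨i, ⟨rfl, rfl⟩ | ⟨rfl, rfl⟩⟩ := h <;>
  simp only [xN_val, adj_x, δ_apply, dgG_conj, zp_apply, rt_ng, map_neg, Lf_sim]

theorem δ_conj (h3 : ∀ a : Kˣ, a ^ 3 = 1) (a : Kˣ) {g : GL chevE6.Idx K} (hg : g ∈ twistedE6 K 2) :
    δ a * g * (δ a)⁻¹ ∈ twistedE6 K 2 := by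
  rw [twisted_eq] at hg ⊢
  refine (Subgroup.closure_le ((Subgroup.closure _).comap (MulAut.conj (δ a)).toMonoidHom)).2 ?_ hg
  rintro _ ⟨w, hw, rfl⟩
  refine Subgroup.subset_closure ?_
  have ha : (a : K) ^ 3 = 1 := by rw [← Units.val_pow_eq_pow_val, h3, Units.val_one]
  have e1 : ∀ t : K, (a : K) ^ (-1 : ℤ) * t ^ 2 = ((a : K) ^ (1 : ℤ) * t) ^ 2 := fun t => by
    rw [zpow_one, zpow_neg_one, mul_pow, inv_eq_of_mul_eq_one_right (b := (a : K) ^ 2) (by rw [← pow_succ', ha])]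
  have e2 : ∀ t : K, (a : K) ^ (1 : ℤ) * t ^ 2 = ((a : K) ^ (-1 : ℤ) * t) ^ 2 := fun t => by
    rw [zpow_one, zpow_neg_one, mul_pow, inv_pow, inv_eq_of_mul_eq_one_right (b := (a : K)) (by rw [← pow_succ, ha])]
  have c2 : ∀ x y : GL chevE6.Idx K, (MulAut.conj (δ a)).toMonoidHom (x * (y * 1)) =
      (δ a * x * (δ a)⁻¹) * ((δ a * y * (δ a)⁻¹) * 1) := fun x y => by
    change δ a * _ * (δ a)⁻¹ = _
    group
  have c1 : ∀ x : GL chevE6.Idx K, (MulAut.conj (δ a)).toMonoidHom (x * 1) = (δ a * x * (δ a)⁻¹) * 1 := fun x => by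
    change δ a * _ * (δ a)⁻¹ = _
    group
  have hw' := hw
  simp only [e6Words, List.mem_cons, List.not_mem_nil, or_false] at hw'
  obtain ⟨t, h, _, rfl | rfl | rfl | rfl, rfl⟩ | ⟨t, _, rfl | rfl | rfl | rfl, rfl⟩ := hw' <;>
    simp only [wN_cons, wN_nil, c1, c2]
  · rw [δ_xN a _ 0 (by decide +kernel), zpow_zero, one_mul]; exact ⟨_, hw, rfl⟩
  · rw [δ_xN a _ 0 (by decide +kernel), zpow_zero, one_mul]; exact ⟨_, hw, rfl⟩
  · rw [δ_xN a _ 0 (by decide +kernel), zpow_zero, one_mul]; exact ⟨_, hw, rfl⟩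
  · rw [δ_xN a _ 0 (by decide +kernel), zpow_zero, one_mul]; exact ⟨_, hw, rfl⟩
  · rw [δ_xN a e6p1 1 (by decide +kernel), δ_xN a e6p6 (-1) (by decide +kernel), e1]
    exact ⟨_, Or.inr ⟨_, (e6p1, e6p6), by simp, rfl⟩, rfl⟩
  · rw [δ_xN a e6m1 (-1) (by decide +kernel), δ_xN a e6m6 1 (by decide +kernel), e2]
    exact ⟨_, Or.inr ⟨_, (e6m1, e6m6), by simp, rfl⟩, rfl⟩
  · rw [δ_xN a e6p3 0 (by decide +kernel), δ_xN a e6p5 0 (by decide +kernel), zpow_zero, one_mul, one_mul]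
    exact ⟨_, hw, rfl⟩
  · rw [δ_xN a e6m3 0 (by decide +kernel), δ_xN a e6m5 0 (by decide +kernel), zpow_zero, one_mul, one_mul]
    exact ⟨_, hw, rfl⟩

end CA.Chev.H25C
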