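/-
Three classes of subgroups `F₄(2)` in `²E₆(2)`.
-/
import Cfsg.Agent.Lib.Lie.H25Cls2
import Cfsg.Agent.Lib.Lie.H23Fold2

set_option autoImplicit false

namespace CA.Chev.H25C

open Equiv Cfsg.Lie Cfsg.Lie.ChevalleyDatum

variable {K : Type*} [Field K]

theorem map_inj {n : Type*} [Fintype n] [DecidableEq n] {K' : Type*} [Field K'] (β : K →+* K') :
    Function.Injective (Matrix.GeneralLinearGroup.map (n := n) β) := fun a b h =>
  Units.ext (Matrix.ext fun i j => β.injective (by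
    rw [← Matrix.GeneralLinearGroup.map_apply, ← Matrix.GeneralLinearGroup.map_apply, h]))

theorem exists_emb (β : ZMod 2 →+* K) : ∃ j : chevF4.group (ZMod 2) →* GL chevE6.Idx K, Function.Injective j ∧
    j.range ≤ twistedE6 K 2 ∧ (∀ i, ∃ s ∈ j.range, Co (adj chevE6 K) i 1 s) ∧
    ∀ f ∈ j.range, ∃ f₀, f = Matrix.GeneralLinearGroup.map β f₀ := by
  obtain ⟨ψ, h, hU, hV⟩ := exists_fold (adjG chevE6 (ZMod 2)).toSys0 tab_E6 tab_F4 fold_F4 tor_injective_F4
  let j := (Matrix.GeneralLinearGroup.map β).comp ((chevE6.group (ZMod 2)).subtype.comp ψ)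
  have hj : ∀ r t, j ((adjG chevF4 (ZMod 2)).x r t) =
      wN (adj chevE6 K).x ((LF4.getD r []).map fun c => (c.1, c.2 * β t)) := fun r t => by
    change Matrix.GeneralLinearGroup.map β ((chevE6.group (ZMod 2)).subtype (ψ _)) = _
    rw [h, Sys0.fx, map_wN (adjG chevE6 (ZMod 2)).x (chevE6.group (ZMod 2)).subtype (y' := (adj chevE6 (ZMod 2)).x)
      (fun r t => adjG_x r t)]
    induction LF4.getD r [] with
    | nil => simp
    | cons c L ih =>
      rw [List.map_cons, List.map_cons, wN_cons, wN_cons, map_mul, ih]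
      congr 1
      unfold xN
      split_ifs
      · rw [adj_x, adj_x, map_xG', map_mul, map_intCast]
      · exact map_one _
  have co : ∀ (a : Nd chevF4) (i : Nd chevE6), (LF4.getD (sim a).val [] = [((sim i).val, 1)] ∨ ∃ k, k ≠ i ∧
      (LF4.getD (sim a).val [] = [((sim i).val, 1), ((sim k).val, 1)] ∨
        LF4.getD (sim a).val [] = [((sim k).val, 1), ((sim i).val, 1)])) →
      Co (adj chevE6 K) i 1 (j ((adjG chevF4 (ZMod 2)).x (sim a) 1)) := fun a i hh => by
    rw [hj]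
    obtain e | ⟨k, hk, e | e⟩ := hh <;>
      simp only [e, List.map_cons, List.map_nil, wN_cons, wN_nil, xN_val, Int.cast_one, map_one, mul_one]
    · exact ⟨1, one_mem _, (mul_one _).symm⟩
    · exact ⟨_, (adj chevE6 K).x_mem_Up (pos_sim _) (sim_injective.ne hk) 1, rfl⟩
    · have := Co.conj (A := adj chevE6 K) (i := i) (t := 1)
        ⟨_, (adj chevE6 K).x_mem_Up (pos_sim _) (sim_injective.ne hk) 1, rfl⟩ ((adj chevE6 K).x_mem (pos_sim k) 1)
      simpa [mul_assoc] using this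
  refine ⟨j, (map_inj β).comp (Subtype.val_injective.comp
    ((adjG chevF4 (ZMod 2)).inj_of adjG_G adjG_θ_injective _ hU hV fun a e => ?_)), ?_, fun i => ?_, ?_⟩
  · obtain ⟨i, hi⟩ := (by decide +kernel : ∀ a : Nd chevF4, ∃ i : Nd chevE6,
      LF4.getD (sim a).val [] = [((sim i).val, 1)] ∨ ∃ k, k ≠ i ∧
      (LF4.getD (sim a).val [] = [((sim i).val, 1), ((sim k).val, 1)] ∨
        LF4.getD (sim a).val [] = [((sim k).val, 1), ((sim i).val, 1)])) a
    have := co a i hi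
    rw [show j ((adjG chevF4 (ZMod 2)).x (sim a) 1) = 1 by simp [j, e]] at this
    exact one_ne_zero (this.unique ⟨1, one_mem _, by rw [Sys0.x_zero, one_mul]⟩)
  · rintro _ ⟨g, rfl⟩
    have hβ : ∀ t : ZMod 2, β t ^ 2 = β t := fun t => by rw [← map_pow, ZMod.pow_card]
    have key : ∀ (r : Rt chevF4) t, ((∃ k ∈ [e6p2, e6m2, e6p4, e6m4], LF4.getD r.val [] = [(k, 1)]) ∨
        ∃ rs ∈ [(e6p1, e6p6), (e6m1, e6m6), (e6p3, e6p5), (e6m3, e6m5)], LF4.getD r.val [] = [(rs.1, 1), (rs.2, 1)]) →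
        j ((adjG chevF4 (ZMod 2)).x r t) ∈ twistedE6 K 2 := fun r t hh => by
      rw [hj, twisted_eq]
      refine Subgroup.subset_closure ⟨_, ?_, rfl⟩
      obtain ⟨k, hk, e⟩ | ⟨rs, hk, e⟩ := hh <;> simp only [e, List.map_cons, List.map_nil, Int.cast_one, one_mul]
      · exact Or.inl ⟨_, hβ t, k, hk, rfl⟩
      · exact Or.inr ⟨β t, rs, hk, by rw [hβ]⟩
    exact (adjG chevF4 (ZMod 2)).G_le_of_sim (M := (twistedE6 K 2).comap j)
      (fun a t => key _ t (by revert a; decide +kernel)) (fun a t => key _ t (by revert a; decide +kernel))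
      (by rw [adjG_G]; trivial)
  · obtain ⟨a, ha⟩ := (by decide +kernel : ∀ i : Nd chevE6, ∃ a : Nd chevF4,
      LF4.getD (sim a).val [] = [((sim i).val, 1)] ∨ ∃ k, k ≠ i ∧
      (LF4.getD (sim a).val [] = [((sim i).val, 1), ((sim k).val, 1)] ∨
        LF4.getD (sim a).val [] = [((sim k).val, 1), ((sim i).val, 1)])) i
    exact ⟨_, ⟨_, rfl⟩, co a i ha⟩
  · rintro _ ⟨g, rfl⟩
    exact ⟨_, rfl⟩

theorem three_classes [Fintype K] (hK : Fintype.card K = 4) : ∃ H : Fin 3 → Subgroup (twistedE6 K 2),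
    (∀ i, Nonempty ((H i) ≃* chevF4.group (ZMod 2))) ∧
      (∀ i j, i ≠ j → ∀ g : (twistedE6 K 2), (H i).map (MulAut.conj g).toMonoidHom ≠ H j) := by
  classical
  obtain ⟨α, h1, h2, -, -⟩ := exists_tE6 (K := K) (q := 2) Nat.prime_two.isPrimePow hK
  have : CharP K 2 := by
    have := h1 (-1)
    rw [map_neg, map_one] at this
    have h0 : (2 : K) = 0 := by linear_combination -this
    exact (CharP.charP_iff_prime_eq_zero Nat.prime_two).2 h0
  have hc : Fintype.card Kˣ = 3 := by rw [Fintype.card_units, hK]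
  have h3 : ∀ a : Kˣ, a ^ 3 = 1 := fun a => by rw [← hc, pow_card_eq_one]
  obtain ⟨j, hj, hle, hs, hf⟩ := exists_emb (ZMod.castHom (dvd_refl 2) K)
  let e := (Fintype.equivFinOfCardEq hc).symm
  have hle' : ∀ a : Kˣ, j.range.map (MulAut.conj (δ a)).toMonoidHom ≤ twistedE6 K 2 := by
    rintro a _ ⟨f, hf, rfl⟩
    exact δ_conj h3 a (hle hf)
  refine ⟨fun i => (j.range.map (MulAut.conj (δ (e i))).toMonoidHom).subgroupOf _, fun i =>
    ⟨(Subgroup.subgroupOfEquivOfLe (hle' _)).trans (((MulAut.conj (δ (e i))).subgroupMap j.range).symm.trans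
      (MonoidHom.ofInjective hj).symm)⟩, fun i i' hne g hg => hne (e.injective ?_)⟩
  refine not_conj h3 α h1 (fun f hf' => ?_) hs (g := g) (group_eq (D := chevE6) (K := K) ▸ (TE6.real h1 h2).le g.2)
    fun f hf' => ?_
  · obtain ⟨f₀, rfl⟩ := hf f hf'
    rw [← Matrix.GeneralLinearGroup.map_comp_apply, ← Matrix.GeneralLinearGroup.map_comp, Subsingleton.elim (α.comp _) (ZMod.castHom (dvd_refl 2) K)]
  · have := hg.le (Subgroup.mem_map_of_mem _ (x := ⟨_, hle' (e i) ⟨f, hf', rfl⟩⟩) ⟨f, hf', rfl⟩)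
    obtain ⟨f', hf'', e'⟩ := this
    have e'' : δ (e i') * f' * (δ (e i'))⁻¹ = g * (δ (e i) * f * (δ (e i))⁻¹) * (g : GL chevE6.Idx K)⁻¹ := e'
    rw [← e'']
    simpa [mul_assoc] using hf''

end CA.Chev.H25C
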