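import Cfsg.Agent.Lib.Lie.H4HigA
import Cfsg.Agent.Lib.Lie.Higman2

/-!
Higman's theorem on Suzuki 2-groups for a fixed-point-free cyclic group of automorphisms of large order, I.
-/

set_option autoImplicit false

namespace CA.H4Hig

open Subgroup
open CA.HigLin hiding Gen nondeg alt_zero exists_coord card_eq_of_closure
open CA.Higman hiding Hig Crd
open scoped commutatorElement

universe u

variable {G : Type u} [Group G]

/-- the standing hypothesis -/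
structure Hig (ξ : MulAut G) (P Z : Subgroup G) : Prop where
  pg : IsPGroup 2 P
  inv : Inv ξ P
  memZ : ∀ x, x ∈ Z ↔ x ∈ P ∧ x * x = 1
  cent : ∀ z ∈ Z, ∀ x ∈ P, z * x = x * z
  fpf : ∀ n : ℕ, ∀ x ∈ P, (ξ ^ n) x = x → x = 1 ∨ ξ ^ n = 1
  card : ∃ n, Nat.card Z = 2 ^ n ∧ NT n (orderOf ξ)
  two : 2 < Nat.card Z

/-- field coordinates on an invariant section -/
structure Crd {F : Type*} [Field F] [Fintype F] (ξ : MulAut G) (A B : Subgroup G) (c : G → F) (μ : F) : Prop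
    extends Add A B c where
  gen : Gen (orderOf ξ) μ
  act : ∀ x ∈ A, c (ξ x) = μ * c x

variable {ξ : MulAut G} {P Z A B X Y M : Subgroup G}

theorem crd_of {F : Type*} [Field F] [Fintype F] {c : G → F} {l : F} (hl : Gen (orderOf ξ) l) (hi : Inv ξ A)
    (hm : ∀ x ∈ A, ∀ y ∈ A, c (x * y) = c x + c y) (h0 : ∀ x ∈ A, (c x = 0 ↔ x ∈ B))
    (ha : ∀ x ∈ A, c (ξ x) = l * c x) {x0 : G} (hx0 : x0 ∈ A) (hx0' : x0 ∉ B) : Crd ξ A B c l := by
  have h1 : c 1 = 0 := by simpa using hm 1 (one_mem _) 1 (one_mem _)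
  let S : AddSubgroup F :=
    { carrier := {z | ∃ x ∈ A, c x = z}
      zero_mem' := ⟨1, one_mem _, h1⟩
      add_mem' := by
        rintro _ _ ⟨x, hx, rfl⟩ ⟨y, hy, rfl⟩
        exact ⟨_, mul_mem hx hy, hm x hx y hy⟩
      neg_mem' := by
        rintro _ ⟨x, hx, rfl⟩
        exact ⟨_, inv_mem hx, by rw [eq_neg_iff_add_eq_zero, ← hm _ (inv_mem hx) _ hx, inv_mul_cancel, h1]⟩ }
  exact ⟨⟨hm, h0, hl.surj S (by rintro _ ⟨x, hx, rfl⟩; exact ⟨_, hi x hx, ha x hx⟩) ⟨x0, hx0, rfl⟩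
    fun e => hx0' ((h0 _ hx0).1 e)⟩, hl, ha⟩

variable [Finite G]

namespace Hig

variable (h : Hig ξ P Z)
include h

omit [Finite G] in
theorem Z_le : Z ≤ P := fun x hx => ((h.memZ x).1 hx).1

omit [Finite G] in
theorem sq {z : G} (hz : z ∈ Z) : z * z = 1 := ((h.memZ z).1 hz).2

omit [Finite G] in
theorem invZ : Inv ξ Z := fun x hx => (h.memZ _).2 ⟨h.inv x (h.Z_le hx), by rw [← map_mul, h.sq hx, map_one]⟩

omit [Finite G] in
theorem Z_ne_bot : Z ≠ ⊥ := fun e => by have := h.two; rw [e, card_bot] at this; omega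

theorem fpf_sec (hB : B ≤ P) (hi : Inv ξ B) (n : ℕ) {x : G} (hx : x ∈ P) (e : x⁻¹ * (ξ ^ n) x ∈ B) :
    x ∈ B ∨ ξ ^ n = 1 := by
  by_cases h1 : ξ ^ n = 1
  · exact Or.inr h1
  left
  have key : ∀ x ∈ P, ∀ y ∈ P, x⁻¹ * (ξ ^ n) x = y⁻¹ * (ξ ^ n) y → x = y := fun x hx y hy e => by
    refine mul_inv_eq_one.1 ((h.fpf n _ (mul_mem hx (inv_mem hy)) ?_).resolve_right h1)
    rw [map_mul, map_inv, ← mul_inv_cancel_left x ((ξ ^ n) x), e]; group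
  obtain ⟨b, hb⟩ := (Finite.injective_iff_surjective (f := fun b : B =>
    (⟨(b : G)⁻¹ * (ξ ^ n) b, mul_mem (inv_mem b.2) (hi.pow n _ b.2)⟩ : B))).1
    (fun b c e => Subtype.ext (key _ (hB b.2) _ (hB c.2) (congrArg Subtype.val e))) ⟨_, e⟩
  exact key _ (hB b.2) _ hx (congrArg Subtype.val hb) ▸ b.2

variable {F : Type*} [Field F] [Fintype F] [CharP F 2] (hF : Fintype.card F = Nat.card Z)
include hF

theorem exists_crd (hA : A ≤ P) (hi : Inv ξ A) (hM : Max ξ B A) : ∃ (c : G → F) (μ : F), Crd ξ A B c μ := by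
  have hsq := hM.sq (h.pg.to_le hA) hi
  obtain ⟨V, _, π, hπ⟩ := exists_add hM.lt.le (fun x hx y hy => comm_mem hsq hx hy)
  have := hπ.finite
  obtain ⟨x0, hx0, hx0B⟩ := SetLike.exists_of_lt hM.lt
  have : Nontrivial V := ⟨π x0, 0, fun e => hx0B ((hπ.zero x0 hx0).1 e)⟩
  obtain ⟨α, hα⟩ := hπ.lift (fun x => π (ξ x)) (fun x hx y hy => by rw [map_mul, hπ.mul _ (hi x hx) _ (hi y hy)])
    (fun x hx hB => (hπ.zero _ (hi x hx)).2 (hM.inv x hB))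
  let α' : AddMonoid.End V := α
  have hp : ∀ (n : ℕ), ∀ x ∈ A, (α' ^ n) (π x) = π ((ξ ^ n) x) := fun n => by
    induction n with
    | zero => exact fun _ _ => rfl
    | succ n ih => intro x hx; rw [pow_succ, pow_succ, MulAut.mul_apply, ← ih _ (hi x hx), ← hα x hx]; rfl
  obtain ⟨m, hm1, hm2⟩ := h.card
  obtain ⟨e, μ, hμ, he⟩ := exists_coord (F := F) (fun v => by
      obtain ⟨x, hx, rfl⟩ := hπ.surj v
      rw [← hπ.mul x hx x hx, hπ.zero _ (mul_mem hx hx)]; exact hsq x hx) α'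
    (fun W hW => hπ.eq_bot_or_top hM.lt.le (hM.max _ (fun x hx => ⟨hi x hx.1, hα x hx.1 ▸ hW _ hx.2⟩)
      (hπ.le_pre hM.lt.le W) fun x hx => hx.1)) (hF.trans hm1) hm2 (by
      refine orderOf_eq_orderOf_iff.2 fun n => ⟨fun e => ?_, fun e => ?_⟩
      · refine (h.fpf_sec (hM.lt.le.trans hA) hM.inv n (hA hx0) ?_).resolve_left hx0B
        rw [← hπ.eq_iff hx0 (hi.pow n _ hx0), ← hp n _ hx0, e]; rfl
      · ext v
        obtain ⟨x, hx, rfl⟩ := hπ.surj v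
        rw [hp n x hx, e]; rfl)
  exact ⟨_, μ, hπ.comp e, hμ, fun x hx => by rw [← hα x hx]; exact he _⟩

theorem card_max (hA : A ≤ P) (hi : Inv ξ A) (hM : Max ξ B A) : Nat.card A = Nat.card B * Nat.card Z := by
  obtain ⟨c, μ, hc⟩ := h.exists_crd hF hA hi hM
  rw [hc.card hM.lt.le, ← hF, Nat.card_eq_fintype_card (α := F)]

theorem card_pow (hA : A ≤ P) (hi : Inv ξ A) : ∃ l, Nat.card A = Nat.card Z ^ l := by
  induction A using WellFoundedLT.induction with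
  | ind A ih =>
    by_cases hA1 : A = ⊥
    · exact ⟨0, by rw [hA1, card_bot, pow_zero]⟩
    obtain ⟨M, -, hM⟩ := exists_max (ξ := ξ) inv_bot (bot_lt_iff_ne_bot.2 hA1)
    obtain ⟨l, hl⟩ := ih M hM.lt (hM.lt.le.trans hA) hM.inv
    exact ⟨l + 1, by rw [h.card_max hF hA hi hM, hl, pow_succ]⟩

theorem card_mul_le (hA : A ≤ P) (hi : Inv ξ A) (hi' : Inv ξ B) (hBA : B < A) :
    Nat.card B * Nat.card Z ≤ Nat.card A := by
  obtain ⟨M, h1, hM⟩ := exists_max hi' hBA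
  rw [h.card_max hF hA hi hM]
  exact Nat.mul_le_mul_right _ (card_le_of_le h1)

theorem max_of_card (hA : A ≤ P) (hi : Inv ξ A) (hi' : Inv ξ B) (hBA : B ≤ A)
    (hc : Nat.card A = Nat.card B * Nat.card Z) : Max ξ B A := by
  have h1 := h.two
  have h2 : 0 < Nat.card B := Nat.card_pos
  refine ⟨lt_of_le_of_ne hBA fun e => by rw [← e] at hc; nlinarith, hi', fun Y hY h3 h4 => ?_⟩
  by_contra h5
  push Not at h5
  have h6 := h.card_mul_le hF (h4.trans hA) hY hi' (lt_of_le_of_ne h3 h5.1.symm)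
  have h7 := CA.PGBasic.card_lt_of_lt (lt_of_le_of_ne h4 h5.2)
  omega

theorem max_Z : Max ξ ⊥ Z := h.max_of_card hF h.Z_le h.invZ inv_bot bot_le (by rw [card_bot, one_mul])

theorem Z_le_of_ne_bot (hA : A ≤ P) (hi : Inv ξ A) (h1 : A ≠ ⊥) : Z ≤ A := by
  rcases (h.max_Z hF).max (Z ⊓ A) (fun x hx => ⟨h.invZ x hx.1, hi x hx.2⟩) bot_le inf_le_left with e | e
  · obtain ⟨x, hx, hx1, -, hx2⟩ := CA.PGBasic.exists_mem_normalizer (h.pg.to_le hA) (bot_lt_iff_ne_bot.2 h1)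
    exact absurd (e ▸ (⟨(h.memZ x).2 ⟨hA hx, by rw [← pow_two]; exact hx2⟩, hx⟩ : x ∈ Z ⊓ A)) hx1
  · exact inf_eq_left.1 e

theorem sub (hA : A ≤ P) (hi : Inv ξ A) (h1 : A ≠ ⊥) : Hig ξ A Z :=
  ⟨h.pg.to_le hA, hi, fun x => ⟨fun hx => ⟨h.Z_le_of_ne_bot hF hA hi h1 hx, h.sq hx⟩,
    fun hx => (h.memZ x).2 ⟨hA hx.1, hx.2⟩⟩, fun z hz x hx => h.cent z hz x (hA hx),
    fun n x hx => h.fpf n x (hA hx), h.card, h.two⟩

theorem max_Sq (hP : ∀ a ∈ P, ∀ b ∈ P, a * b = b * a) : Max ξ (Sq P) P := by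
  refine h.max_of_card hF le_rfl h.inv h.inv.Sq Sq_le_self ?_
  let f : P →* G := MonoidHom.mk' (fun x => x * x) fun x y => by
    show (x * y : G) * (x * y) = x * x * (y * y)
    rw [mul_assoc (x : G) y, ← mul_assoc (y : G) x, hP _ y.2 _ x.2]; group
  have h1 : f.range = Sq P := Subgroup.ext fun y => by
    rw [mem_Sq_iff hP]
    exact ⟨by rintro ⟨x, rfl⟩; exact ⟨x, x.2, rfl⟩, by rintro ⟨x, hx, rfl⟩; exact ⟨⟨x, hx⟩, rfl⟩⟩
  have h2 : f.ker = Z.subgroupOf P := Subgroup.ext fun x =>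
    ⟨fun hx => (h.memZ x).2 ⟨x.2, hx⟩, fun hx => h.sq hx⟩
  rw [← h1, ← f.ker.card_mul_index, index_ker, h2, CA.Coprime.card_subgroupOf h.Z_le, mul_comm]

theorem le_Sq (hP : ∀ a ∈ P, ∀ b ∈ P, a * b = b * a) (hY : Inv ξ Y) (h1 : Y < P) : Y ≤ Sq P := by
  rcases (h.max_Sq hF hP).max _ (hY.sup h.inv.Sq) le_sup_right (sup_le h1.le Sq_le_self) with e | e
  · exact e ▸ le_sup_left
  · exact absurd (nak h.pg h1.le e.ge) h1.ne

theorem crd_ab (hP : ∀ a ∈ P, ∀ b ∈ P, a * b = b * a) {cZ : G → F} {l : F} (hZ : Crd ξ Z ⊥ cZ l) :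
    ∃ c : G → F, Crd ξ P (Sq P) c l := by
  classical
  have hex : ∃ j, ∀ a ∈ P, a ^ 2 ^ j = 1 := by
    obtain ⟨j, hj⟩ := IsPGroup.iff_card.1 h.pg
    exact ⟨j, fun a ha => by rw [← hj]; exact congrArg Subtype.val (pow_card_eq_one' (x := (⟨a, ha⟩ : P)))⟩
  obtain ⟨j, hj⟩ : ∃ j, Nat.find hex = j + 1 := Nat.exists_eq_succ_of_ne_zero fun e => by
    have := Nat.find_spec hex
    rw [e] at this
    exact h.Z_ne_bot (eq_bot_iff.2 fun z hz => by simpa using this z (h.Z_le hz))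
  have h1 := Nat.find_spec hex
  have h2 := Nat.find_min hex (m := j) (by omega)
  rw [hj] at h1
  push Not at h2
  obtain ⟨a0, ha0, h2⟩ := h2
  have h3 : ∀ a ∈ P, a ^ 2 ^ j ∈ Z := fun a ha =>
    (h.memZ _).2 ⟨pow_mem ha _, by rw [← pow_add, ← two_mul, ← pow_succ', h1 a ha]⟩
  have hm : ∀ x ∈ P, ∀ y ∈ P, (x * y) ^ 2 ^ j = x ^ 2 ^ j * y ^ 2 ^ j := fun x hx y hy =>
    Commute.mul_pow (hP x hx y hy) _
  let Y : Subgroup G :=
    { carrier := {a | a ∈ P ∧ a ^ 2 ^ j = 1}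
      one_mem' := ⟨one_mem _, one_pow _⟩
      mul_mem' := fun hx hy => ⟨mul_mem hx.1 hy.1, by rw [hm _ hx.1 _ hy.1, hx.2, hy.2, one_mul]⟩
      inv_mem' := fun hx => ⟨inv_mem hx.1, by rw [inv_pow, hx.2, inv_one]⟩ }
  have hY : Y = Sq P := le_antisymm (h.le_Sq hF hP (fun x hx => ⟨h.inv x hx.1, by rw [← map_pow, hx.2, map_one]⟩)
    (lt_of_le_of_ne (fun x hx => hx.1) fun e => h2 (show a0 ∈ Y from e ▸ ha0).2))
    (Sq_le fun x hx => ⟨mul_mem hx hx, by rw [← pow_two, ← pow_mul, ← pow_succ', h1 x hx]⟩)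
  exact ⟨fun a => cZ (a ^ 2 ^ j), crd_of hZ.gen h.inv
    (fun x hx y hy => by rw [hm x hx y hy, hZ.mul _ (h3 x hx) _ (h3 y hy)])
    (fun x hx => by rw [hZ.zero _ (h3 x hx), ← hY]; exact ⟨fun e => ⟨hx, e⟩, fun e => e.2⟩)
    (fun x hx => by rw [← map_pow, hZ.act _ (h3 x hx)]) ha0 (by rw [← hY]; exact fun e => h2 e.2)⟩

end Hig

end CA.H4Hig
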