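/-
Cyclic Hall subgroups whose non-identity elements share one centralizer; counting elements by order.
-/
import Cfsg.Agent.Lib.Lie.TorusCount
import Cfsg.Agent.Lib.Lie.Singer
import Cfsg.Agent.Lib.Grp.H13Inv

set_option autoImplicit false

namespace CA.HallTorus

open Subgroup CA.TorusCount

variable {G : Type*} [Group G]

theorem orderOf_conj (y x : G) : orderOf (y * x * y⁻¹) = orderOf x := (MulAut.conj y).orderOf_eq x

theorem card_pred [Finite G] {T : Subgroup G} {P : G → Prop} (hc : ∀ x g, P x → P (g * x * g⁻¹))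
    (hcov : ∀ x, P x → ∃ g, g * x * g⁻¹ ∈ T)
    (hti : ∀ y ∈ T, P y → ∀ g, g * y * g⁻¹ ∈ T → g ∈ normalizer (T : Set G)) :
    Nat.card {x // P x} * Nat.card (normalizer (T : Set G)) = Nat.card G * Nat.card {y : T // P y} := by
  rw [← Nat.card_prod G, ← CA.H13Count.card_eq_mul_of_fibers (fun p : G × {y : T // P y} =>
    (⟨p.1⁻¹ * p.2.1 * p.1⁻¹⁻¹, hc _ _ p.2.2⟩ : {x // P x})) _ ?_]
  rintro ⟨g, hg⟩
  obtain ⟨h, e⟩ := hcov g hg
  refine (Nat.card_congr (Equiv.ofBijective (fun n : normalizer (T : Set G) =>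
    (⟨((n : G) * h, ⟨⟨n * (h * g * h⁻¹) * (n : G)⁻¹, (mem_normalizer_iff.1 n.2 _).1 e⟩, hc _ _ (hc _ _ hg)⟩),
      Subtype.ext (by simp [mul_assoc])⟩ : {a // _ = (⟨g, hg⟩ : {x // P x})})) ⟨fun n n' e => ?_, ?_⟩)).symm
  · exact Subtype.ext (mul_right_cancel (congrArg (fun a => a.1.1) e))
  · rintro ⟨⟨k, ⟨y, hy⟩, hy1⟩, e'⟩
    have e2 : (k * h⁻¹) * (h * g * h⁻¹) * (k * h⁻¹)⁻¹ = y := by rw [← Subtype.mk.inj e']; group
    exact ⟨⟨k * h⁻¹, hti _ e (hc _ _ hg) _ (e2 ▸ hy)⟩, Subtype.ext (Prod.ext (by simp) (Subtype.ext (Subtype.ext e2)))⟩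

theorem card_order_mul [Finite G] {a b c : ℕ} (hab : a.Coprime b)
    (h : ∀ y : G, orderOf y = a → Nat.card {z : centralizer {y} // orderOf z = b} = c) (ha : a ≠ 0) (hb : b ≠ 0) :
    Nat.card {x : G // orderOf x = a * b} = Nat.card {x : G // orderOf x = a} * c := by
  have k : ∀ {a b : ℕ} {x : G}, b ≠ 0 → orderOf x = a * b → orderOf (x ^ b) = a := fun hb e => by
    rw [orderOf_pow' _ hb, e, Nat.gcd_mul_left_left, Nat.mul_div_cancel _ (Nat.pos_of_ne_zero hb)]
  have g : (a : ℤ) * a.gcdA b + b * a.gcdB b = 1 := by rw [← Nat.gcd_eq_gcd_ab, hab]; rfl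
  have inj : ∀ {x y : G}, x ^ a = y ^ a → x ^ b = y ^ b → x = y := fun {x y} h1 h2 => by
    rw [← zpow_one x, ← zpow_one y, ← g]; simp only [zpow_add, zpow_mul, zpow_natCast, h1, h2]
  refine CA.H13Count.card_eq_mul_of_fibers (fun x : {x : G // orderOf x = a * b} =>
    (⟨x.1 ^ b, k hb x.2⟩ : {x : G // orderOf x = a})) _ fun ⟨y, hy⟩ => (h y hy) ▸ Nat.card_congr (Equiv.ofBijective
    (fun x => ⟨⟨x.1.1 ^ a, mem_centralizer_singleton_iff.2 (Commute.eq ((Subtype.mk.inj x.2).subst (motive := Commute _) (Commute.pow_pow_self ..)))⟩,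
      (orderOf_coe _).symm.trans (k ha (x.1.2.trans (mul_comm ..)))⟩) ⟨fun x x' e => ?_, fun ⟨⟨z, hz⟩, e⟩ => ?_⟩)
  · exact Subtype.ext (Subtype.ext (inj (congrArg (·.1.1) e) ((Subtype.mk.inj x.2).trans (Subtype.mk.inj x'.2).symm)))
  have e : orderOf z = b := (orderOf_coe _).trans e
  have hc : Commute z y := mem_centralizer_singleton_iff.1 hz
  have e1 : (z ^ a.gcdA b * y ^ a.gcdB b) ^ a = z := by
    rw [(hc.zpow_zpow ..).mul_pow, ← zpow_natCast, ← zpow_natCast, ← zpow_mul, ← zpow_mul, mul_comm (a.gcdB b), zpow_mul y,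
      zpow_natCast, ← hy, pow_orderOf_eq_one, one_zpow, mul_one, hy]
    refine (zpow_eq_zpow_iff_modEq.2 ?_).trans (zpow_one z)
    rw [e]; exact Int.modEq_iff_dvd.2 ⟨a.gcdB b, by linear_combination -g⟩
  have e2 : (z ^ a.gcdA b * y ^ a.gcdB b) ^ b = y := by
    rw [(hc.zpow_zpow ..).mul_pow, ← zpow_natCast, ← zpow_natCast, ← zpow_mul, ← zpow_mul, mul_comm (a.gcdA b), zpow_mul z,
      zpow_natCast, ← e, pow_orderOf_eq_one, one_zpow, one_mul, e]
    refine (zpow_eq_zpow_iff_modEq.2 ?_).trans (zpow_one y)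
    rw [hy]; exact Int.modEq_iff_dvd.2 ⟨a.gcdA b, by linear_combination -g⟩
  refine ⟨⟨⟨z ^ a.gcdA b * y ^ a.gcdB b, Nat.dvd_antisymm (orderOf_dvd_of_pow_eq_one ?_) (hab.mul_dvd_of_dvd_of_dvd ?_ ?_)⟩,
    Subtype.ext e2⟩, Subtype.ext (Subtype.ext e1)⟩
  · rw [pow_mul, e1, ← e, pow_orderOf_eq_one]
  · exact (hy.symm.trans (congrArg _ e2.symm)).dvd.trans (orderOf_pow_dvd _)
  · exact (e.symm.trans (congrArg _ e1.symm)).dvd.trans (orderOf_pow_dvd _)

theorem card_normalizer_sylow [Finite G] {p : ℕ} [Fact p.Prime] (P : Sylow p G) {a : G} (ha : a ∈ centralizer (P : Set G)) :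
    Nat.card (normalizer (P : Set G)) = Nat.card {b : centralizer (P : Set G) // IsConj a b} *
      Nat.card ↥(normalizer (P : Set G) ⊓ centralizer {a}) := by
  refine CA.H13Count.card_eq_mul_of_fibers (fun n : normalizer (P : Set G) => (⟨⟨n * a * (n : G)⁻¹, fun x hx => by
    have := ha _ ((mem_normalizer_iff''.1 n.2 x).1 hx)
    calc _ = n * ((n : G)⁻¹ * x * n * a) * (n : G)⁻¹ := by group
      _ = _ := by rw [this]; group⟩, isConj_iff.2 ⟨_, rfl⟩⟩ : {b : centralizer (P : Set G) // IsConj a b})) _ ?_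
  rintro ⟨⟨b, hb⟩, h⟩
  obtain ⟨g, rfl⟩ := isConj_iff.1 h
  obtain ⟨n, hn, e⟩ := P.conj_eq_normalizer_conj_of_mem_centralizer a g⁻¹ ha (by rwa [inv_inv])
  rw [inv_inv] at e
  refine Nat.card_congr (Equiv.ofBijective (fun x => ⟨n * x.1, mul_mem hn x.1.2, mem_centralizer_singleton_iff.2 ?_⟩)
    ⟨fun x y e => Subtype.ext (Subtype.ext (mul_left_cancel (Subtype.mk.inj e))), fun ⟨c, h1, h2⟩ => ?_⟩)
  · have := (Subtype.mk.inj (Subtype.mk.inj x.2)).trans e
    calc _ = n * (x.1 * a * (x.1 : G)⁻¹) * x.1 := by group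
      _ = _ := by rw [this]; group
  · refine ⟨⟨⟨n⁻¹ * c, mul_mem (inv_mem hn) h1⟩, Subtype.ext (Subtype.ext (Eq.trans ?_ e.symm))⟩, Subtype.ext (by simp)⟩
    simp [mul_assoc, ← mul_assoc c, mem_centralizer_singleton_iff.1 h2]

theorem eq_of_three {C : Subgroup G} [Finite G] {a b : G} (ha : a ∈ C) (hb : b ∈ C) (oa : orderOf a = 2) (ob : orderOf b = 2)
    (ab : a ≠ b) (hab : a * b = b * a) (h3 : ∀ x ∈ C, ¬ 3 ∣ orderOf x)
    (hc : ∀ j ∈ C, orderOf j = 2 → ∀ x ∈ C, ∀ y ∈ C, x * j = j * x → y * j = j * y → x * y = y * x)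
    (hT : ∀ j ∈ C, orderOf j = 2 → j * a = a * j → j = a ∨ j = b ∨ j = a * b) : ∀ x ∈ C, x * a = a * x := by
  have aa := CA.H13Inv.mul_self oa
  have bb := CA.H13Inv.mul_self ob
  have oab : orderOf (a * b) = 2 := orderOf_eq_prime (by rw [sq, mul_assoc, ← mul_assoc b, ← hab, mul_assoc, bb, mul_one, aa])
    fun e => ab (mul_left_cancel (aa.trans e.symm))
  have nc : ∀ a ∈ C, ∀ b ∈ C, orderOf a = 2 → orderOf b = 2 → a * a = 1 → b * b = 1 → orderOf (a * b) = 2 → a ≠ b → a * b = b * a →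
      (∀ j ∈ C, orderOf j = 2 → j * a = a * j → j = a ∨ j = b ∨ j = a * b) → ∀ g ∈ C, g * a * g⁻¹ ≠ b := by
    intro a ha b hb oa ob aa bb oab ab hab hT g hg e
    have e1 : g * b * g⁻¹ * b = b * (g * b * g⁻¹) := by
      calc _ = g * b * g⁻¹ * (g * a * g⁻¹) := by rw [e]
        _ = g * a * g⁻¹ * (g * b * g⁻¹) := by rw [conj_mul, conj_mul, hab]
        _ = _ := by rw [e]
    rcases hT _ (mul_mem (mul_mem hg hb) (inv_mem hg)) ((orderOf_conj ..).trans ob)
      (hc b hb ob _ (mul_mem (mul_mem hg hb) (inv_mem hg)) a ha e1 hab) with h | h | h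
    · have := hc _ (mul_mem ha hb) oab g hg a ha (by rw [← mul_inv_eq_iff_eq_mul, ← conj_mul, e, h, hab]) (by rw [hab, ← mul_assoc, hab])
      exact ab (by rw [← e, this, mul_inv_cancel_right])
    · exact ab ((MulAut.conj g).injective (e.trans h.symm))
    · have e2 : g * (a * b) * g⁻¹ = a := by rw [← conj_mul, e, h, hab, ← mul_assoc, bb, one_mul]
      have e3 : ∀ k : ℕ, g ^ (3 * k) * a * (g ^ (3 * k))⁻¹ = a := fun k => by
        refine mul_inv_eq_iff_eq_mul.2 (Commute.eq (pow_mul g 3 k ▸ Commute.pow_left (mul_inv_eq_iff_eq_mul.1 ?_) k))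
        calc _ = g * (g * (g * a * g⁻¹) * g⁻¹) * g⁻¹ := by simp [pow_three, mul_assoc]
          _ = a := by rw [e, h, e2]
      have o := pow_orderOf_eq_one g
      obtain ⟨k, e4 | e4⟩ : ∃ k, orderOf g + 1 = 3 * k ∨ 2 * orderOf g + 1 = 3 * k := by
        have := h3 g hg
        rcases (by omega : orderOf g % 3 = 1 ∨ orderOf g % 3 = 2) with h | h
        exacts [⟨(2 * orderOf g + 1) / 3, by omega⟩, ⟨(orderOf g + 1) / 3, by omega⟩]
      all_goals
        have := e3 k
        rw [← e4] at this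
        exact ab (by simpa [pow_succ, pow_mul', o, e] using this.symm)
  have hT' : ∀ j ∈ C, orderOf j = 2 → j * a = a * j := fun j hj oj => by
    have k : ∀ a ∈ C, orderOf a = 2 → j * a = a * j ∨ ∃ g ∈ C, g * a * g⁻¹ = j := fun a ha oa => by
      have aa := CA.H13Inv.mul_self oa
      have jj := CA.H13Inv.mul_self oj
      rcases Nat.even_or_odd (orderOf (a * j)) with h | h
      · exact Or.inl (hc _ (pow_mem (mul_mem ha hj) _) (CA.H13Inv.orderOf_pow_half h) j hj a ha
          (CA.H13Inv.commute_pow_half_right aa jj h).symm (CA.H13Inv.commute_pow_half_left aa jj h).symm)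
      · obtain ⟨k, e⟩ := CA.H13Inv.exists_conj_of_odd aa jj h
        exact Or.inr ⟨_, zpow_mem (mul_mem ha hj) k, e⟩
    rcases k a ha oa with h | ⟨g, hg, e⟩
    · exact h
    rcases k b hb ob with h | ⟨g', hg', e'⟩
    · exact hc b hb ob j hj a ha h hab
    · exact absurd (by rw [mul_inv_rev, inv_inv, mul_assoc g'⁻¹, mul_assoc, ← mul_assoc _ g⁻¹, e, ← e']; group)
        (nc a ha b hb oa ob aa bb oab ab hab hT _ (mul_mem (inv_mem hg') hg))
  intro x hx
  have h1 := mul_mem (mul_mem hx ha) (inv_mem hx)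
  have h2 := (orderOf_conj x a).trans oa
  rcases hT _ h1 h2 (hT' _ h1 h2) with h | h | h
  · exact mul_inv_eq_iff_eq_mul.1 h
  · exact absurd h (nc a ha b hb oa ob aa bb oab ab hab hT x hx)
  · refine absurd h (nc a ha _ (mul_mem ha hb) oa oab aa (CA.H13Inv.mul_self oab) (by rwa [← mul_assoc, aa, one_mul])
      (fun e => CA.H13Inv.ne_one ob (mul_eq_left.1 e.symm)) (by rw [mul_assoc, ← hab]) (fun j hj oj e => ?_) x hx)
    rw [← mul_assoc, aa, one_mul]
    rcases hT j hj oj e with h | h | h <;> simp [h]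

theorem singer_succ {F V : Type*} [Field F] [AddCommGroup V] [Module F V] [Finite F] [Finite V] [Finite G]
    (ρ : G →* Module.End F V) (hρ : Function.Injective ρ) {x : G} (hp : (orderOf x).Prime) (hpF : (orderOf x : F) ≠ 0)
    {n : ℕ} (hn : Module.finrank F V = n + 1)
    (hk : ∀ k, 0 < k → k ≤ n + 1 → Nat.card F ^ k ≡ 1 [MOD orderOf x] → k = n)
    (hc : ∀ g ∈ centralizer {x}, g ^ (Nat.card F - 1) = 1 → g = 1) :
    IsCyclic (centralizer {x}) ∧ (centralizer {x}).relIndex (normalizer (zpowers x : Set G)) ∣ n := by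
  have hM : ρ x ^ orderOf x = 1 := by rw [← map_pow, pow_orderOf_eq_one, map_one]
  set W := LinearMap.range (ρ x - 1)
  have hi : ∀ v, ρ x v = v → ∀ i : ℕ, (ρ x ^ i) v = v := fun v h i =>
    (Module.End.pow_apply ..).trans (Function.IsFixedPt.iterate h i)
  have hfix : ∀ v ∈ W, ρ x v = v → v = 0 := by
    rintro _ ⟨w, rfl⟩ h
    have h1 : (∑ i ∈ Finset.range (orderOf x), ρ x ^ i) ((ρ x - 1) w) = 0 := by
      rw [← Module.End.mul_apply, geom_sum_mul, hM, sub_self]; rfl
    simp only [LinearMap.sum_apply, hi _ h, Finset.sum_const, Finset.card_range, ← Nat.cast_smul_eq_nsmul F] at h1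
    exact (smul_eq_zero.1 h1).resolve_left hpF
  have hN : ∀ g ∈ normalizer (zpowers x : Set G), ∃ i : ℕ, g * x = x ^ i * g := fun g hg => by
    obtain ⟨i, e⟩ := mem_powers_iff_mem_zpowers.2 ((mem_normalizer_iff.1 hg x).1 (mem_zpowers x))
    exact ⟨i, by simp [show x ^ i = _ from e]⟩
  have hW : ∀ g : normalizer (zpowers x : Set G), W ≤ W.comap (ρ.comp (Subgroup.subtype _) g) := by
    rintro g _ ⟨w, rfl⟩
    obtain ⟨i, e⟩ := hN g g.2
    refine ⟨(∑ j ∈ Finset.range i, ρ x ^ j) (ρ g w), ?_⟩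
    rw [← Module.End.mul_apply, mul_geom_sum]
    simp [← Module.End.mul_apply, ← map_mul, e, ← map_pow]
  have hx : x ∈ normalizer (zpowers x : Set G) := le_normalizer (mem_zpowers x)
  have hx1 : ρ x ≠ 1 := fun e => hp.ne_one (orderOf_eq_one_iff.2 (hρ (e.trans (map_one ρ).symm)))
  have hW0 : W ≠ ⊥ := fun e => hx1 (sub_eq_zero.1 (LinearMap.range_eq_bot.1 e))
  have := Module.Finite.of_finite (R := F) (M := V)
  have hd : Module.finrank F W = n := hk _ (Nat.pos_of_ne_zero fun e => hW0 (Submodule.finrank_eq_zero.1 e))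
    (hn ▸ W.finrank_le) (Module.natCard_eq_pow_finrank (K := F) (V := W) ▸ CA.Singer.card_modEq_one hp hM W (hW ⟨x, hx⟩) hfix)
  obtain ⟨v0, -, hv⟩ := finrank_eq_one_iff'.1 (show Module.finrank F (LinearMap.ker (ρ x - 1)) = 1 by
    have : Module.finrank F W + _ = _ := (ρ x - 1).finrank_range_add_finrank_ker; omega)
  have hker : ∀ v, v ∈ LinearMap.ker (ρ x - 1) ↔ ρ x v = v := fun v => by simp [sub_eq_zero]
  have hsup : ∀ v, ∃ w ∈ W, ∃ c : F, v = w + c • v0 := fun v => by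
    obtain ⟨w, hw, u, hu, rfl⟩ := Submodule.mem_sup.1 ((Submodule.eq_top_of_disjoint W (LinearMap.ker (ρ x - 1))
      (by rw [(ρ x - 1).finrank_range_add_finrank_ker]) (Submodule.disjoint_def.2 fun v h h' => hfix v h ((hker v).1 h'))).ge (Submodule.mem_top (x := v)))
    obtain ⟨c, e⟩ := hv ⟨u, hu⟩
    exact ⟨w, hw, c, congrArg (w + ·) (congrArg Subtype.val e).symm⟩
  let σ : normalizer (zpowers x : Set G) →* Module.End F W := Representation.subrepresentation (ρ.comp (Subgroup.subtype _)) W hW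
  have hσ : Function.Injective σ := (injective_iff_map_eq_one σ).2 fun g h => by
    have h1 : ∀ w ∈ W, ρ g w = w := fun w hw => congrArg Subtype.val (DFunLike.congr_fun h (⟨w, hw⟩ : W))
    have h2 : ρ x (ρ g v0) = ρ g v0 := by
      obtain ⟨i, e⟩ := hN _ (inv_mem g.2)
      have : x * g = g * x ^ i := by rw [← inv_mul_eq_iff_eq_mul, ← mul_assoc, e, inv_mul_cancel_right]
      rw [← Module.End.mul_apply, ← map_mul, this, map_mul, map_pow, Module.End.mul_apply, hi _ ((hker _).1 v0.2)]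
    obtain ⟨c, e⟩ := hv ⟨_, (hker _).2 h2⟩
    have e : c • (v0 : V) = ρ g v0 := congrArg Subtype.val e
    refine Subtype.ext (hc g (mem_centralizer_singleton_iff.2 (hρ (LinearMap.ext fun v => ?_))) (hρ (LinearMap.ext fun v => ?_)))
    · obtain ⟨w, hw, d, rfl⟩ := hsup v
      simp [h1 w hw, h1 (ρ x w) (hW ⟨x, hx⟩ hw), (hker _).1 v0.2, h2]
    · obtain ⟨w, hw, d, rfl⟩ := hsup v
      have h3 : ∀ i : ℕ, (ρ g ^ i) w = w ∧ (ρ g ^ i) v0 = c ^ i • v0 := fun i => by
        induction i with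
        | zero => simp
        | succ i ih => simp [pow_succ', ih, h1 w hw, ← e, smul_smul, mul_comm]
      by_cases hc : c = 0
      · have : ρ (g : G)⁻¹ (ρ g v0) = v0 := by rw [← Module.End.mul_apply, ← map_mul]; simp
        rw [← e, hc, zero_smul, map_zero] at this
        simp [h3, ← this]
      · have := Fintype.ofFinite F
        simp [h3, FiniteField.pow_card_sub_one_eq_one c hc]
  have : Nontrivial W := Submodule.nontrivial_iff_ne_bot.2 hW0
  obtain ⟨h1, h2⟩ := CA.Singer.cyclic_and_index σ hσ ⟨x, hx⟩ (CA.Singer.irreducible_of_prime hp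
    (by rw [← map_pow, ← map_one σ]; exact congrArg σ (Subtype.ext (pow_orderOf_eq_one x)))
    (fun e => hx1 (by rw [show x = 1 from congrArg Subtype.val (hσ (e.trans (map_one σ).symm)), map_one])) hpF
    fun k h0 h1 h => by have := hk k h0 (by omega) h; omega)
  have hle : centralizer {x} ≤ normalizer (zpowers x : Set G) := by
    rw [← centralizer_closure, ← zpowers_eq_closure]; exact centralizer_le_normalizer _
  have e : centralizer {(⟨x, hx⟩ : normalizer (zpowers x : Set G))} = (centralizer {x}).subgroupOf _ := by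
    ext g; simp [mem_centralizer_singleton_iff, mem_subgroupOf, Subtype.ext_iff]
  have : (zpowers (⟨x, hx⟩ : normalizer (zpowers x : Set G))).Normal := by
    rw [show zpowers (⟨x, hx⟩ : normalizer (zpowers x : Set G)) = (zpowers x).subgroupOf _ by
      ext g; simp [mem_zpowers_iff, mem_subgroupOf, Subtype.ext_iff]]
    exact normal_in_normalizer
  rw [normalizer_eq_top (zpowers (⟨x, hx⟩ : normalizer (zpowers x : Set G))), relIndex_top_right, e, hd] at h2
  exact ⟨isCyclic_of_surjective _ (subgroupOfEquivOfLe hle).surjective (hH := e ▸ h1), h2⟩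

/-- a cyclic Hall subgroup all of whose non-identity elements have the same centralizer -/
structure Tor (A : Subgroup G) : Prop where
  cyc : IsCyclic A
  cop : (Nat.card A).Coprime A.index
  cent : ∀ y ∈ A, y ≠ 1 → centralizer {y} = centralizer (A : Set G)

namespace Tor

variable [Finite G] {A : Subgroup G} (h : Tor A)
include h

omit [Finite G] in
theorem le : A ≤ centralizer (A : Set G) := have := h.cyc; le_centralizer A

omit [Finite G] in
theorem mem {x : G} (hx : x ∈ centralizer (A : Set G)) (e : orderOf x ∣ Nat.card A) : x ∈ A := by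
  have : (A.subgroupOf (centralizer (A : Set G))).Normal := normal_subgroupOf_of_le_normalizer (centralizer_le_normalizer _)
  have := Nat.eq_one_of_dvd_coprimes h.cop ((orderOf_map_dvd (QuotientGroup.mk' (A.subgroupOf _)) ⟨x, hx⟩).trans (orderOf_mk x hx ▸ e))
    ((_root_.orderOf_dvd_natCard _).trans (relIndex_dvd_index_of_le h.le))
  exact (QuotientGroup.eq_one_iff (N := A.subgroupOf _) ⟨x, hx⟩).1 (orderOf_eq_one_iff.1 this)

theorem ti : TI A := fun g y hy h1 e => mem_normalizer_fintype fun x hx => h.mem (by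
  rw [← h.cent _ e (conj_ne_one h1 g), mem_cent_conj, h.cent y hy h1]
  simpa [mul_assoc] using h.le hx) (orderOf_conj g x ▸ A.orderOf_dvd_natCard hx)

theorem normalizer_eq {A₀ : Subgroup G} (hA : A₀ ≤ A) (h1 : A₀ ≠ ⊥) : normalizer (A₀ : Set G) = normalizer (A : Set G) := by
  obtain ⟨⟨y, hy⟩, hy1⟩ := ne_bot_iff_exists_ne_one.1 h1
  refine le_antisymm (fun g hg => h.ti g y (hA hy) (fun e => hy1 (Subtype.ext e)) (hA ((mem_normalizer_iff.1 hg y).1 hy)))
    fun g hg => mem_normalizer_fintype fun a ha => ?_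
  obtain ⟨b, hb⟩ := h.cyc.exists_generator
  obtain ⟨i, hi⟩ := hb ⟨_, (mem_normalizer_iff.1 hg b).1 b.2⟩
  obtain ⟨j, hj⟩ := hb ⟨a, hA ha⟩
  have hi : (b : G) ^ i = g * b * g⁻¹ := congrArg Subtype.val hi
  obtain rfl : (b : G) ^ j = a := congrArg Subtype.val hj
  rw [← conj_zpow, ← hi, ← zpow_mul, mul_comm, zpow_mul]
  exact zpow_mem ha i

theorem normalizer_cent : normalizer (centralizer (A : Set G) : Set G) = normalizer (A : Set G) :=
  le_antisymm (fun g hg => mem_normalizer_fintype fun x hx => h.mem ((mem_normalizer_iff.1 hg x).1 (h.le hx))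
    (orderOf_conj g x ▸ A.orderOf_dvd_natCard hx)) fun g hg => mem_normalizer_fintype fun x hx a ha => by
      have := hx _ ((mem_normalizer_iff''.1 hg a).1 ha)
      calc _ = g * (g⁻¹ * a * g * x) * g⁻¹ := by group
        _ = _ := by rw [this]; group

theorem exists_sylow {p : ℕ} [hp : Fact p.Prime] (hA : p ∣ Nat.card A) : ∃ P : Sylow p G, (P : Subgroup G) ≤ A ∧ (P : Subgroup G) ≠ ⊥ := by
  obtain ⟨Q⟩ : Nonempty (Sylow p A) := inferInstance
  have : ¬ p ∣ ((Q : Subgroup A).map A.subtype).index := by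
    rw [index_map_subtype, hp.out.dvd_mul, not_or]
    exact ⟨Q.not_dvd_index, fun e => hp.out.ne_one (Nat.eq_one_of_dvd_coprimes h.cop hA e)⟩
  exact ⟨(Q.2.map _).toSylow this, map_subtype_le _, Sylow.ne_bot_of_dvd_card _ (hA.trans (card_subgroup_dvd_card A))⟩

theorem exists_conj_le {p : ℕ} [Fact p.Prime] (hA : p ∣ Nat.card A) {P : Subgroup G} (hP : IsPGroup p P) :
    ∃ g : G, ∀ x ∈ P, g * x * g⁻¹ ∈ A := by
  obtain ⟨S, hS, -⟩ := h.exists_sylow hA
  obtain ⟨S', hS'⟩ := hP.exists_le_sylow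
  obtain ⟨g, rfl⟩ := MulAction.exists_smul_eq G S' S
  exact ⟨g, fun x hx => hS (smul_mem_pointwise_smul x (MulAut.conj g) _ (hS' hx))⟩

theorem isCyclic_of {p : ℕ} [Fact p.Prime] (hA : p ∣ Nat.card A) {P : Subgroup G} (hP : IsPGroup p P) : IsCyclic P := by
  obtain ⟨g, hg⟩ := h.exists_conj_le hA hP
  have := h.cyc
  exact isCyclic_of_injective (((MulAut.conj g).toMonoidHom.comp P.subtype).codRestrict A fun x => hg x x.2)
    fun x y e => Subtype.ext ((MulAut.conj g).injective (Subtype.mk.inj e))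

omit h in
theorem exists_pow {x : G} {n : ℕ} (hx : ¬ (orderOf x).Coprime n) : ∃ k, (orderOf (x ^ k)).Prime ∧ orderOf (x ^ k) ∣ n := by
  obtain ⟨p, hp, h1, h2⟩ := Nat.Prime.not_coprime_iff_dvd.1 hx
  exact ⟨orderOf x / p, by rwa [orderOf_pow_orderOf_div (orderOf_pos x).ne' h1, and_iff_left h2]⟩

theorem exists_conj_pow {x : G} (hx : ¬ (orderOf x).Coprime (Nat.card A)) :
    ∃ (k : ℕ) (g : G), x ^ k ≠ 1 ∧ g * x ^ k * g⁻¹ ∈ A := by
  obtain ⟨k, hp, hd⟩ := exists_pow hx
  have := Fact.mk hp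
  obtain ⟨g, hg⟩ := h.exists_conj_le hd (P := zpowers (x ^ k)) (IsPGroup.of_card (n := 1) (by simp))
  exact ⟨k, g, fun e => hp.ne_one (by simp [e]), hg _ (mem_zpowers _)⟩

theorem exists_conj_cent {x : G} (hx : ¬ (orderOf x).Coprime (Nat.card A)) : ∃ g : G, g * x * g⁻¹ ∈ centralizer (A : Set G) := by
  obtain ⟨k, g, h1, h2⟩ := h.exists_conj_pow hx
  refine ⟨g, h.cent _ h2 (conj_ne_one h1 g) ▸ mem_centralizer_singleton_iff.2 ?_⟩
  rw [← conj_pow]; exact Commute.self_pow ..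

theorem exists_conj {x : G} (hx : orderOf x ∣ Nat.card A) : ∃ g : G, g * x * g⁻¹ ∈ A := by
  by_cases h1 : x = 1
  · exact ⟨1, by simp [h1]⟩
  obtain ⟨g, hg⟩ := h.exists_conj_cent (x := x) fun e => h1 (orderOf_eq_one_iff.1 (Nat.eq_one_of_dvd_coprimes e dvd_rfl hx))
  exact ⟨g, h.mem hg (orderOf_conj g x ▸ hx)⟩

theorem card_pred {P : G → Prop} (hc : ∀ x g, P x → P (g * x * g⁻¹)) (hP : ∀ x, P x → ¬ (orderOf x).Coprime (Nat.card A)) :
    Nat.card {x // P x} * Nat.card (normalizer (A : Set G)) = Nat.card G * Nat.card {y : centralizer (A : Set G) // P y} := by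
  rw [← h.normalizer_cent]
  refine HallTorus.card_pred hc (fun x hx => h.exists_conj_cent (hP x hx)) fun y hy hy' g hg => h.normalizer_cent.ge ?_
  obtain ⟨k, hp, hd⟩ := exists_pow (hP y hy')
  exact h.ti g _ (h.mem (pow_mem hy k) hd) (fun e => hp.ne_one (by simp [e])) (h.mem (by simpa using pow_mem hg k) (by rwa [orderOf_conj]))

theorem card_order {i : ℕ} (h1 : 1 < i) (hi : i ∣ Nat.card A) :
    Nat.card {x : G // orderOf x = i} * Nat.card (normalizer (A : Set G)) = Nat.card G * i.totient := by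
  classical
  have := h.cyc
  have := Fintype.ofFinite A
  rw [HallTorus.card_pred (fun x g e => (orderOf_conj g x).trans e) (fun x e => h.exists_conj (e ▸ hi))
    fun y hy e g => h.ti g y hy (by rintro rfl; simp at e; omega), ← IsCyclic.card_orderOf_eq_totient (α := A) (by simpa using hi)]
  simp [Fintype.card_subtype]

omit [Finite G] in
theorem conj (g : G) : Tor (A.map (MulAut.conj g).toMonoidHom) where
  cyc := have := h.cyc; isCyclic_of_surjective _ (equivMapOfInjective A _ (MulAut.conj g).injective).surjective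
  cop := by rw [card_map_of_injective (MulAut.conj g).injective, index_map_of_bijective (MulAut.conj g).bijective]; exact h.cop
  cent := by
    rintro _ ⟨y, hy, rfl⟩ h1
    ext x
    refine mem_cent_conj.trans ?_
    rw [h.cent y hy (by rintro rfl; simp at h1)]
    simp only [mem_centralizer_iff, coe_map, Set.forall_mem_image]
    exact forall₂_congr fun a _ => (MulAut.conj g).injective.eq_iff.symm.trans (by simp [mul_assoc])

theorem eq_conj {B C : Subgroup G} (hB : IsCyclic B) (hC : IsCyclic C) (e : Nat.card B = Nat.card C) (hd : Nat.card B ∣ Nat.card A) :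
    ∃ g : G, C = B.map (MulAut.conj g).toMonoidHom := by
  have k : ∀ B : Subgroup G, IsCyclic B → Nat.card B ∣ Nat.card A → ∃ g : G, ∀ x, x ∈ B.map (MulAut.conj g).toMonoidHom ↔
      x ∈ A ∧ x ^ Nat.card B = 1 := fun B hB hd => by
    obtain ⟨b, rfl⟩ := (Subgroup.isCyclic_iff_exists_zpowers_eq_top _).1 hB
    obtain ⟨g, hg⟩ := h.exists_conj (Nat.card_zpowers b ▸ hd)
    have := h.cyc
    let _ := IsCyclic.commGroup (α := A)
    have : (zpowers b).map (MulAut.conj g).toMonoidHom = (powMonoidHom (Nat.card (zpowers b)) : A →* A).ker.map A.subtype := by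
      refine eq_of_le_of_card_ge ?_ (le_of_eq ?_)
      · rw [MonoidHom.map_zpowers, zpowers_le]
        exact ⟨⟨_, hg⟩, Subtype.ext (by simp [conj_pow]), rfl⟩
      · rw [card_map_of_injective A.subtype_injective, IsCyclic.card_powMonoidHom_ker, Nat.gcd_eq_right hd,
          card_map_of_injective (MulAut.conj g).injective]
    exact ⟨g, fun x => this ▸ ⟨fun ⟨y, h1, h2⟩ => h2 ▸ ⟨y.2, congrArg Subtype.val h1⟩, fun ⟨h1, h2⟩ => ⟨⟨x, h1⟩, Subtype.ext h2, rfl⟩⟩⟩
  obtain ⟨g, hg⟩ := k B hB hd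
  obtain ⟨g', hg'⟩ := k C hC (e ▸ hd)
  refine ⟨g'⁻¹ * g, map_injective (MulAut.conj g').injective (f := (MulAut.conj g').toMonoidHom) ?_⟩
  rw [map_map, show (MulAut.conj g').toMonoidHom.comp (MulAut.conj (g'⁻¹ * g)).toMonoidHom = (MulAut.conj g).toMonoidHom by
    ext; simp [mul_assoc]]
  ext x; rw [hg, hg', e]

theorem of_card {B : Subgroup G} (hB : IsCyclic B) (e : Nat.card B = Nat.card A) : ∃ g : G, B = A.map (MulAut.conj g).toMonoidHom :=
  h.eq_conj h.cyc hB e.symm dvd_rfl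

end Tor

theorem Tor.of_cc [Finite G] {T : Subgroup G} (h : CC T) (hc : IsCyclic T) : Tor T ∧ (T ≠ ⊥ → centralizer (T : Set G) = T) := by
  have k : ∀ y ∈ T, y ≠ 1 → centralizer (T : Set G) = T := fun y hy h1 =>
    le_antisymm ((centralizer_le (Set.singleton_subset_iff.2 hy)).trans (h y hy h1).le) (le_centralizer T)
  refine ⟨⟨hc, h.coprime_index, fun y hy h1 => by rw [h y hy h1, k y hy h1]⟩, fun h1 => ?_⟩
  obtain ⟨⟨y, hy⟩, hy1⟩ := ne_bot_iff_exists_ne_one.1 h1
  exact k y hy fun e => hy1 (Subtype.ext e)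

end CA.HallTorus
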