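/-
The small Ree groups: the unipotent subgroup, fixed points, simplicity, two generators.
-/
import Cfsg.Agent.Lib.Lie.ReeDef
import Cfsg.Agent.Lib.Grp.Core

set_option autoImplicit false

namespace CA.Ree

open MulAction Subgroup CA.SplitOne CA.SplitOne2 CA.TorusCount

variable {K G : Type*} [Field K] [Group G] (R : Ree K G)

include R in
theorem two_ne : (2 : K) ≠ 0 := fun h => one_ne_zero (by linear_combination R.three - h : (1 : K) = 0)

include R in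
theorem charP : CharP K 3 := (CharP.charP_iff_prime_eq_zero Nat.prime_three).2 (by simpa using R.three)

include R in
theorem sq_ne (i : K) : i ^ 2 ≠ -1 := fun h => by
  have h1 : R.s i ^ 2 = i ^ 2 := by rw [← map_pow, h]; simp
  have h2 : i ^ 3 = i := by rcases sq_eq_sq_iff_eq_or_eq_neg.1 h1 with e | e <;> simp [← R.ss, e]
  exact R.two_ne (by linear_combination i * h2 - (i ^ 2 - 2) * h)

include R in
theorem card_mod [Finite K] : Nat.card K % 4 = 3 := by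
  have := Fintype.ofFinite K
  by_contra h
  obtain ⟨i, e⟩ := FiniteField.isSquare_neg_one_iff.2 (by rwa [Nat.card_eq_fintype_card] at h)
  exact R.sq_ne i (by rw [e, sq])

include R in
theorem exists_card [Finite K] : ∃ m, Nat.card K = 3 ^ (2 * m + 1) := by
  have := Fintype.ofFinite K
  have := R.charP
  obtain ⟨k, -, e⟩ := FiniteField.card K 3
  have h := R.card_mod
  rw [Nat.card_eq_fintype_card, e] at h ⊢
  obtain ⟨m, e | e⟩ := Nat.even_or_odd' (k : ℕ)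
  · rw [e, pow_mul, Nat.pow_mod] at h; simp at h
  · exact ⟨m, by rw [e]⟩

theorem sq_eq_one_of {κ : K} (h : κ * R.s κ = 1) : κ ^ 2 = 1 := by
  have := congrArg R.s h
  rw [map_mul, ss, map_one] at this
  linear_combination this - κ ^ 2 * h

theorem eq_one_of {κ : K} (h : κ ^ 2 * R.s κ = 1) : κ = 1 := by
  have := congrArg R.s h
  rw [map_mul, map_pow, ss, map_one] at this
  linear_combination (κ ^ 2 * R.s κ + 1) * h - κ * this

theorem exists_u (ν : Kˣ) : ∃ κ : Kˣ, κ * R.s κ = ν ^ 2 :=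
  ⟨Units.map (R.s : K →* K) ν / ν, by simp [ss]; field_simp⟩

theorem exists_v (μ : Kˣ) : ∃ κ : Kˣ, κ ^ 2 * R.s κ = μ :=
  ⟨μ ^ 2 / Units.map (R.s : K →* K) μ, by simp [ss]; field_simp⟩

include R in
theorem exists_sq [Finite K] (μ : Kˣ) : ∃ ν : Kˣ, ν ^ 2 = μ ∨ ν ^ 2 = -μ := by
  obtain ⟨ν, h⟩ := exists_sq_or R.card_mod (μ : K)
  have : ν ≠ 0 := by rintro rfl; simp [eq_comm] at h
  exact ⟨Units.mk0 ν this, by simpa [Units.ext_iff] using h⟩

theorem exists_sq_ne [Finite K] (hq : 3 < Nat.card K) : ∃ κ : Kˣ, κ ^ 2 ≠ 1 := by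
  by_contra h
  push Not at h
  have := Nat.le_of_dvd two_pos (Monoid.exponent_dvd_of_forall_pow_eq_one h)
  rw [IsCyclic.exponent_eq_card, Nat.card_units] at this
  omega

theorem exists_s_ne [Finite K] (hq : 3 < Nat.card K) : ∃ t, R.s t ≠ t := by
  obtain ⟨κ, h⟩ := exists_sq_ne hq
  refine ⟨κ, fun e => h (Units.ext (mul_left_cancel₀ κ.ne_zero ?_))⟩
  have := R.ss κ
  rw [e, e] at this
  push_cast; linear_combination -this

theorem D_fix {κ : Kˣ} (hκ : κ ^ 2 ≠ 1) {x : G} (hx : x ∈ R.U) (h : R.D κ * x * (R.D κ)⁻¹ = x) : x = 1 := by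
  obtain ⟨t, u, v, rfl⟩ := hx
  rw [D_X, X_eq_iff] at h
  have k : ∀ {a b : K}, a ≠ 1 → a * b = b → b = 0 := fun h e => by_contra fun hb => h (mul_left_eq_self₀.1 e |>.resolve_right hb)
  have h1 : (κ : K) ≠ 1 := fun e => hκ (by rw [Units.val_eq_one.1 e, one_pow])
  exact R.X_eq_one.2 ⟨k h1 h.1, k (fun e => hκ (Units.ext (R.sq_eq_one_of e))) h.2.1, k (fun e => h1 (R.eq_one_of e)) h.2.2⟩

/-- the involution of the split torus -/
def J : G := R.D (-1)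

theorem J_J : R.J * R.J = 1 := by simp [J, ← map_mul]
theorem J_inv : R.J⁻¹ = R.J := inv_eq_of_mul_eq_one_right R.J_J
theorem J_ne : R.J ≠ 1 := fun e => R.two_ne (by
  have := congrArg Units.val (R.D_eq_one.1 e)
  push_cast at this; linear_combination -this)
theorem J_X (t u v : K) : R.J * R.X t u v * R.J⁻¹ = R.X (-t) u (-v) := by simp [J, D_X]
theorem J_n : R.J * R.n = R.n * R.J := by simp [J, D_mul_n]
theorem J_D (κ : Kˣ) : R.J * R.D κ = R.D κ * R.J := R.D_comm ..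
theorem orderOf_J : orderOf R.J = 2 := orderOf_eq_prime (by rw [sq, J_J]) R.J_ne
theorem J_fix {t u v : K} : R.J * R.X t u v * R.J⁻¹ = R.X t u v ↔ t = 0 ∧ v = 0 := by
  have k : ∀ a : K, -a = a ↔ a = 0 := fun a => ⟨fun e => (mul_eq_zero.1 (by linear_combination -e : 2 * a = 0)).resolve_left R.two_ne,
    by rintro rfl; simp⟩
  simp [J_X, X_eq_iff, k]
theorem D_sq {κ : Kˣ} (h : κ ^ 2 = 1) : R.D κ = 1 ∨ R.D κ = R.J :=
  (sq_eq_one_iff.1 (congrArg Units.val h : (κ : K) ^ 2 = 1)).imp (fun e => R.D_eq_one.2 (Units.ext e))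
    fun e => congrArg R.D (Units.ext e)

theorem X_cube (t u v : K) : R.X t u v ^ 3 = R.X 0 0 (-(t ^ 2 * R.s t)) := by
  rw [pow_three', X_mul, X_mul, X_eq_iff]
  exact ⟨by linear_combination t * R.three, by linear_combination (u - t * R.s t) * R.three,
    by linear_combination (v - u * t) * R.three⟩

theorem X_cube_eq_one {t u v : K} : R.X t u v ^ 3 = 1 ↔ t = 0 := by
  simp [X_cube, X_eq_one]

theorem X_nine (t u v : K) : R.X t u v ^ 9 = 1 := by
  rw [show 9 = 3 * 3 from rfl, pow_mul, X_cube, X_cube_eq_one]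

theorem orderOf_X_three {t u v : K} : orderOf (R.X t u v) = 3 ↔ t = 0 ∧ ¬ (u = 0 ∧ v = 0) := by
  have : Fact (Nat.Prime 3) := ⟨Nat.prime_three⟩
  rw [orderOf_eq_prime_iff, X_cube_eq_one, Ne, X_eq_one]; tauto

theorem orderOf_X_nine {t u v : K} : orderOf (R.X t u v) = 9 ↔ t ≠ 0 := by
  have : Fact (Nat.Prime 3) := ⟨Nat.prime_three⟩
  refine ⟨fun h e => ?_, fun h => orderOf_eq_prime_pow (p := 3) (n := 1) (by simpa [X_cube_eq_one]) (R.X_nine t u v)⟩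
  have := orderOf_dvd_of_pow_eq_one (R.X_cube_eq_one (u := u) (v := v).2 e)
  rw [h] at this; omega

theorem card_three [Finite K] : Nat.card {u : R.U // orderOf u = 3} = Nat.card K ^ 2 - 1 := by
  classical
  have := Fintype.ofFinite K
  rw [← Nat.card_congr (Equiv.ofBijective (fun p : {p : K × K // p ≠ 0} => (⟨⟨_, R.X_mem 0 p.1.1 p.1.2⟩, by
      simpa [← orderOf_coe, orderOf_X_three, Prod.ext_iff] using p.2⟩ : {u : R.U // orderOf u = 3}))
    ⟨fun a b e => by simpa [X_eq_iff, Prod.ext_iff, Subtype.ext_iff] using e, fun ⟨⟨_, t, u, v, rfl⟩, e⟩ => by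
      obtain ⟨rfl, e'⟩ := R.orderOf_X_three.1 ((orderOf_coe _).trans e)
      exact ⟨⟨(u, v), by simpa [Prod.ext_iff] using e'⟩, rfl⟩⟩)]
  simp [sq]

theorem isPGroup_U : IsPGroup 3 R.U := fun ⟨_, t, u, v, rfl⟩ => ⟨2, Subtype.ext (R.X_nine t u v)⟩

theorem normalizer_U : normalizer (R.U : Set G) = R.B := by rw [R.split.normalizer_eq R.U_ne_bot, stab_inf]

theorem ti_U : TI R.U := fun _ _ hy hy1 e => by
  rw [normalizer_U]; exact R.fix_inf.1 (R.split.fix_of_conj_mem hy hy1 e)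

theorem sup_eq : R.H ⊔ R.U = R.B := le_antisymm (sup_le R.H_le_B R.U_le_B) <| by
  rintro _ ⟨x, hx, κ, rfl⟩; exact mul_mem (mem_sup_right hx) (mem_sup_left (R.D_mem κ))

theorem D_pt {κ : Kˣ} {x : G} (hx : x ∈ R.U) : R.D κ • x • R.zero = x • R.zero ↔ R.D κ * x * (R.D κ)⁻¹ = x := by
  have : R.D κ • x • R.zero = (R.D κ * x * (R.D κ)⁻¹) • R.zero := by rw [mul_smul, mul_smul, ← map_inv, D_zero]
  rw [this]
  exact ⟨R.split.unique (R.D_conj_mem κ hx) hx R.zero_ne, fun e => by rw [e]⟩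

theorem D_fix_pt {κ : Kˣ} (hκ : κ ^ 2 ≠ 1) {p : R.Ω} (h : R.D κ • p = p) : p = R.inf ∨ p = R.zero :=
  or_iff_not_imp_left.2 fun hp => by
    obtain ⟨x, hx, rfl⟩ := R.exists_U hp
    rw [R.D_fix hκ hx ((R.D_pt hx).1 h), one_smul]

theorem fix_two {a b : R.Ω} (hab : a ≠ b) : ∃ k : G, k • R.inf = a ∧ k • R.zero = b ∧
    ∀ g : G, g • a = a → g • b = b → ∃ κ, g = k * R.D κ * k⁻¹ := by
  obtain ⟨k, rfl, rfl⟩ := R.split.two' R.zero_ne.symm hab
  refine ⟨k, rfl, rfl, fun g h1 h2 => ?_⟩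
  obtain ⟨κ, e⟩ := R.mem_H_iff.2 ⟨show (k⁻¹ * g * k) • _ = _ by rw [mul_smul, mul_smul, h1, inv_smul_smul],
    by rw [mul_smul, mul_smul, h2, inv_smul_smul]⟩
  exact ⟨κ, by rw [e]; group⟩

theorem fix_three {a b c : R.Ω} (hab : a ≠ b) (hac : a ≠ c) (hbc : b ≠ c) : ∃ k : G,
    ∀ g : G, g • a = a → g • b = b → g • c = c → g = 1 ∨ g = k * R.J * k⁻¹ := by
  obtain ⟨k, rfl, rfl, h⟩ := R.fix_two hab
  refine ⟨k, fun g h1 h2 h3 => ?_⟩
  obtain ⟨κ, rfl⟩ := h g h1 h2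
  by_cases hκ : κ ^ 2 = 1
  · rcases R.D_sq hκ with e | e <;> simp [e]
  · rcases R.D_fix_pt hκ (p := k⁻¹ • c) (by rwa [eq_inv_smul_iff, ← mul_smul, ← mul_smul]) with e | e
    exacts [absurd (inv_smul_eq_iff.1 e).symm hac, absurd (inv_smul_eq_iff.1 e).symm hbc]

theorem X_zero_ne {t u v : K} (h : R.X t u v • R.zero = R.zero) : t = 0 ∧ u = 0 ∧ v = 0 :=
  R.X_eq_one.1 (R.split.semireg _ (R.X_mem ..) _ R.zero_ne h)

theorem X_ne_inf (t u v : K) : R.X t u v • R.zero ≠ R.inf := R.split.smul_ne (R.split.fix (R.X_mem ..)) R.zero_ne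

theorem card_three_le {a b c : R.Ω} (hab : a ≠ b) (hac : a ≠ c) (hbc : b ≠ c) :
    Nat.card ↥(stabilizer G a ⊓ stabilizer G b ⊓ stabilizer G c) ≤ 2 := by
  obtain ⟨k, h⟩ := R.fix_three hab hac hbc
  refine (Set.ncard_le_ncard (t := {1, k * R.J * k⁻¹}) (fun g hg => h g hg.1.1 hg.1.2 hg.2)).trans ?_
  exact (Set.ncard_insert_le ..).trans (by simp)

theorem card_three_eq : Nat.card ↥(stabilizer G R.inf ⊓ stabilizer G R.zero ⊓ stabilizer G (R.X 0 1 0 • R.zero)) = 2 := by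
  rw [← R.orderOf_J, ← Nat.card_zpowers, stab_two]
  congr 2
  refine le_antisymm ?_ (zpowers_le.2 ⟨R.D_mem _, (R.D_pt (R.X_mem ..)).2 (R.J_fix.2 ⟨rfl, rfl⟩)⟩)
  rintro _ ⟨⟨κ, rfl⟩, h⟩
  by_cases hκ : κ ^ 2 = 1
  · rcases R.D_sq hκ with e | e <;> simp [e]
  · simpa [X_eq_one] using R.D_fix hκ (R.X_mem ..) ((R.D_pt (R.X_mem ..)).1 h)

theorem faithful : FaithfulSMul G R.Ω := ⟨fun {g h} e => by
  obtain ⟨κ, e'⟩ := R.mem_H_iff.2 ⟨show (h⁻¹ * g) • _ = _ by rw [mul_smul, e, inv_smul_smul],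
    by rw [mul_smul, e, inv_smul_smul]⟩
  have := (R.D_pt (κ := κ) (R.X_mem 1 0 0)).1 (by rw [e', mul_smul, e, inv_smul_smul])
  rw [D_X, X_eq_iff, mul_one, Units.val_eq_one] at this
  rw [this.1, map_one, eq_comm, inv_mul_eq_one] at e'
  exact e'.symm⟩

theorem eq_top_of_le {N : Subgroup G} (hU : R.U ≤ N) (hH : R.H ≤ N) (hn : R.n ∈ N) : N = ⊤ := eq_top_iff.2 fun g _ => by
  have hB : R.B ≤ N := R.sup_eq ▸ sup_le hH hU
  rcases R.mem_or g with h | ⟨x, hx, b, hb, rfl⟩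
  exacts [hB h, mul_mem (mul_mem (hU hx) hn) (hB hb)]

variable [Finite K]

theorem isSolvable_B : Group.IsSolvable R.B := by
  have := R.finite
  have : Fact (Nat.Prime 3) := ⟨Nat.prime_three⟩
  have := R.isPGroup_U.isNilpotent
  have := R.isCyclic_H
  rw [← sup_eq]
  exact CA.Core.isSolvable_sup (R.normalizer_U ▸ R.H_le_B) inferInstance inferInstance

omit [Field K] [Finite K] in
theorem three_lt {m : ℕ} (hm : 1 ≤ m) (h : Nat.card K = 3 ^ (2 * m + 1)) : 3 < Nat.card K :=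
  h ▸ (pow_one 3).symm.trans_lt (Nat.pow_lt_pow_right (by omega) (by omega))

include R in
theorem three_dvd : 3 ∣ Nat.card K := by
  obtain ⟨m, e⟩ := R.exists_card
  exact e ▸ dvd_pow_self 3 (by omega)

theorem index_U : R.U.index = (Nat.card K - 1) * (Nat.card K ^ 3 + 1) := by
  have := R.finite
  rw [R.split.index_U R.zero_ne, stab_two, card_U, card_H]

theorem not_dvd_index : ¬ 3 ∣ R.U.index := by
  have := R.three_dvd
  have := Nat.card_pos (α := K)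
  have : 3 ∣ Nat.card K ^ 3 := dvd_pow ‹_› (by omega)
  rw [index_U, Nat.prime_three.dvd_mul]; omega

/-- `U` as a Sylow subgroup -/
def sylU : Sylow 3 G := @IsPGroup.toSylow 3 G _ ⟨Nat.prime_three⟩ _ R.isPGroup_U R.not_dvd_index

theorem sylow_conj (P : Sylow 3 G) : ∃ g : G, (P : Subgroup G) = R.U.map (MulAut.conj g).toMonoidHom := by
  have := R.finite
  have : Fact (Nat.Prime 3) := ⟨Nat.prime_three⟩
  obtain ⟨g, rfl⟩ := exists_smul_eq G R.sylU P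
  exact ⟨g, rfl⟩

include R in
theorem sylow_ti {P Q : Sylow 3 G} (h : P ≠ Q) : (P : Subgroup G) ⊓ Q = ⊥ := eq_bot_iff.2 fun x ⟨h1, h2⟩ => by_contra fun hx => by
  obtain ⟨g, e⟩ := R.sylow_conj P
  obtain ⟨k, e'⟩ := R.sylow_conj Q
  have a := e ▸ R.split.conj g
  have b := e' ▸ R.split.conj k
  have c := a.eq_of_fix h1 hx (b.fix h2)
  refine h (Sylow.ext ?_)
  have := Sylow.smul_eq_iff_mem_normalizer (P := R.sylU).2 (R.normalizer_U.ge (R.fix_inf.1 (show (g⁻¹ * k) • _ = _ by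
    rw [mul_smul, c, inv_smul_smul])))
  rw [mul_smul, inv_smul_eq_iff] at this
  exact e.trans ((congrArg Sylow.toSubgroup this).symm.trans e'.symm)

theorem card_odd {C : Type*} [Group C] [Finite C] [IsCyclic C] (h : Nat.card C % 4 = 2) :
    2 * Nat.card {h : C // Odd (orderOf h)} = Nat.card C := by
  let _ := IsCyclic.commGroup (α := C)
  obtain ⟨d, e⟩ : 2 ∣ Nat.card C := by omega
  have hd : Odd d := Nat.odd_iff.2 (by omega)
  rw [Nat.card_congr (Equiv.subtypeEquivRight (q := (· ∈ (powMonoidHom d : C →* C).ker)) fun x => ⟨fun h =>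
    orderOf_dvd_iff_pow_eq_one.1 ((Nat.coprime_two_right.2 h).dvd_of_dvd_mul_left (e ▸ orderOf_dvd_natCard x)),
    fun h => hd.of_dvd_nat (orderOf_dvd_of_pow_eq_one h)⟩), IsCyclic.card_powMonoidHom_ker, e, Nat.gcd_mul_left_left]

omit [Finite K] in
theorem eq_one_of_odd {h x : G} (hh : h ∈ R.H) (h1 : h ≠ 1) (ho : Odd (orderOf h)) (hx : x ∈ R.U) (e : x * h = h * x) : x = 1 := by
  obtain ⟨κ, rfl⟩ := hh
  refine R.D_fix (fun e => ?_) hx (mul_inv_eq_iff_eq_mul.2 e.symm)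
  rcases R.D_sq e with e | e
  · exact h1 e
  · rw [e, orderOf_J] at ho; contradiction

theorem U_le_of {N : Subgroup G} {κ : Kˣ} (hκ : κ ^ 2 ≠ 1) (h : ∀ x ∈ R.U, x⁻¹ * (R.D κ * x * (R.D κ)⁻¹) ∈ N) : R.U ≤ N := by
  have := R.finite
  have : Function.Injective fun x : R.U => (⟨_, mul_mem (inv_mem x.2) (R.D_conj_mem κ x.2)⟩ : R.U) := fun x y e => by
    have e' : (x : G)⁻¹ * (R.D κ * x * (R.D κ)⁻¹) = (y : G)⁻¹ * (R.D κ * y * (R.D κ)⁻¹) := congrArg Subtype.val e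
    refine Subtype.ext (mul_inv_eq_one.1 (R.D_fix hκ (mul_mem x.2 (inv_mem y.2)) ?_))
    calc _ = x * ((x : G)⁻¹ * (R.D κ * x * (R.D κ)⁻¹)) * (R.D κ * y * (R.D κ)⁻¹)⁻¹ := by group
      _ = _ := by rw [e']; group
  intro x hx
  obtain ⟨y, e⟩ := Finite.injective_iff_surjective.1 this ⟨x, hx⟩
  exact (Subtype.mk.inj e) ▸ h y y.2

theorem eq_top_of_U {N : Subgroup G} [hN : N.Normal] (hU : R.U ≤ N) : N = ⊤ := by
  have k : ∀ x ∈ R.U, R.n * x * R.n ∈ N := fun x hx => by simpa [n_inv] using hN.conj_mem _ (hU hx) R.n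
  have hn : R.n ∈ N := by
    have := k _ (R.X_mem 0 1 0)
    rwa [R.rel, mul_mem_cancel_right (hU (R.X_mem ..)), mul_mem_cancel_left (hU (R.X_mem ..))] at this
  have hJ : R.D (-1) ∈ N := by
    rw [← mul_mem_cancel_right hn, R.rel2]
    exact mul_mem (mul_mem (hU (R.X_mem ..)) (k _ (R.X_mem ..))) (hU (R.X_mem ..))
  have h2 : ∀ κ, R.D (κ ^ 2) ∈ N := fun κ => by
    have := mul_mem (hN.conj_mem _ hn (R.D κ)) hn
    rwa [← map_inv, mul_assoc, ← n_mul_D, mul_assoc, ← mul_assoc R.n, n_n, one_mul, ← map_mul, ← sq] at this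
  refine R.eq_top_of_le hU ?_ hn
  rintro _ ⟨μ, rfl⟩
  obtain ⟨ν, e | e⟩ := R.exists_sq μ
  · exact e ▸ h2 ν
  · simpa [e, ← map_mul] using mul_mem hJ (h2 ν)

include R in
theorem perfect (hq : 3 < Nat.card K) : commutator G = ⊤ := by
  obtain ⟨κ, hκ⟩ := exists_sq_ne hq
  refine R.eq_top_of_U (R.U_le_of hκ fun x _ => ?_)
  simpa [commutatorElement_def, mul_assoc, commutator_def] using commutator_mem_commutator (mem_top x⁻¹) (mem_top (R.D κ))

include R in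
theorem simple (hq : 3 < Nat.card K) : IsSimpleGroup G :=
  have : Nontrivial G := ⟨_, _, R.J_ne⟩
  have := R.faithful
  simple_of_solvable R.split.two R.inf (R.stab_inf.symm ▸ R.isSolvable_B) (R.perfect hq)

theorem U_le_of_H (hq : 3 < Nat.card K) {N : Subgroup G} (hH : R.H ≤ N) {t u v : K} (ht : t ≠ 0) (h : R.X t u v ∈ N) :
    R.U ≤ N := by
  have c : ∀ {t u v : K} (κ : Kˣ), R.X t u v ∈ N → R.X (κ * t) (κ * R.s κ * u) (κ ^ 2 * R.s κ * v) ∈ N := fun κ h =>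
    R.D_X .. ▸ mul_mem (mul_mem (hH (R.D_mem κ)) h) (inv_mem (hH (R.D_mem κ)))
  have h1 : ∀ a, ∃ b c, R.X a b c ∈ N := fun a => by
    rcases eq_or_ne a 0 with rfl | ha
    · exact ⟨0, 0, R.X_zero ▸ one_mem _⟩
    · exact ⟨_, _, by simpa [ht] using c (Units.mk0 _ (div_ne_zero ha ht)) h⟩
  have h2 : ∀ a, R.X 0 0 a ∈ N := fun a => by
    rcases eq_or_ne a 0 with rfl | ha
    · exact R.X_zero ▸ one_mem _
    obtain ⟨b, d, e⟩ := h1 1
    obtain ⟨κ, hκ⟩ := R.exists_v (Units.mk0 _ (neg_ne_zero.2 ha))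
    simpa [hκ] using c κ (R.X_cube 1 b d ▸ pow_mem e 3 :)
  have h3 : ∀ {t u v} (w), R.X t u v ∈ N → R.X t u w ∈ N := fun {t u v} w h => by
    simpa [X_mul] using mul_mem h (h2 (w - v))
  have h4 : ∀ a, R.X 0 a 0 ∈ N := fun a => by
    rcases eq_or_ne a 0 with rfl | ha
    · exact R.X_zero ▸ one_mem _
    obtain ⟨r, hr⟩ := R.exists_s_ne hq
    obtain ⟨b, d, e⟩ := h1 1
    obtain ⟨b', d', e'⟩ := h1 r
    have h5 := h3 0 (R.X_mul .. ▸ R.X_inv .. ▸ R.X_mul .. ▸ R.X_mul .. ▸ mul_mem (inv_mem (mul_mem e e')) (mul_mem e' e))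
    rw [show -(1 + r) + (r + 1) = 0 by ring, show -(b + b' - 1 * R.s r) - (1 + r) * R.s (1 + r) + (b' + b - r * R.s 1) -
      -(1 + r) * R.s (r + 1) = R.s r - r by simp; ring] at h5
    obtain ⟨ν, hν⟩ := R.exists_sq (Units.mk0 _ (div_ne_zero ha (sub_ne_zero.2 hr)))
    obtain ⟨κ, hκ⟩ := R.exists_u ν
    have h6 := c κ h5
    simp only [Units.ext_iff, Units.val_pow_eq_pow_val, Units.val_neg, Units.val_mk0] at hν
    rcases hν with e | e <;> rw [hκ, e] at h6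
    · simpa [sub_ne_zero.2 hr] using h6
    · simpa [sub_ne_zero.2 hr, X_inv] using inv_mem h6
  rintro _ ⟨a, b, d, rfl⟩
  obtain ⟨b', d', e⟩ := h1 a
  exact h3 d (by simpa [X_mul] using mul_mem e (h4 (b - b')))

include R in
theorem two_gen (hq : 3 < Nat.card K) : ∃ a b : G, closure {a, b} = ⊤ := by
  obtain ⟨κ, hκ⟩ := IsCyclic.exists_generator (α := Kˣ)
  obtain ⟨μ, hμ⟩ := exists_sq_ne hq
  have hH : R.H ≤ closure {R.D κ, R.X 1 0 0 * R.n} := by
    rintro _ ⟨ν, rfl⟩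
    obtain ⟨i, rfl⟩ := hκ ν
    exact map_zpow R.D .. ▸ zpow_mem (subset_closure (by simp)) i
  have hb : R.X 1 0 0 * R.n ∈ closure {R.D κ, R.X 1 0 0 * R.n} := subset_closure (by simp)
  have h := mul_mem (mul_mem (mul_mem hb (hH (R.D_mem μ⁻¹))) (inv_mem hb)) (inv_mem (hH (R.D_mem μ)))
  rw [show R.X 1 0 0 * R.n * R.D μ⁻¹ * (R.X 1 0 0 * R.n)⁻¹ * (R.D μ)⁻¹ = R.X 1 0 0 * ((R.n * R.D μ⁻¹ * R.n⁻¹) *
    (R.X 1 0 0)⁻¹ * (R.D μ)⁻¹) by group, n_D, map_inv, inv_inv, X_inv, D_X, X_mul] at h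
  have hU := R.U_le_of_H hq hH (fun e => hμ (by rw [Units.val_eq_one.1 (by linear_combination -e : (μ : K) = 1), one_pow])) h
  exact ⟨_, _, R.eq_top_of_le hU hH ((mul_mem_cancel_left (hU (R.X_mem ..))).1 hb)⟩

end CA.Ree
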