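/-
The small Ree groups: centralizers of involutions and the Sylow 2-subgroups.
-/
import Cfsg.Agent.Lib.Lie.ReeBasic
import Cfsg.Agent.Lib.Lie.SL2Hom
import Cfsg.Agent.Lib.Lie.HallTorus
import Cfsg.Agent.Lib.Lin.PSL2Four
import Cfsg.Agent.Lib.Grp.Trf

set_option autoImplicit false

namespace CA.Ree

open MulAction Subgroup CA.SplitOne CA.TorusCount CA.HallTorus CA.SL2Unip CA.PSL2Struct CA.PSL2Four
open CA.SL2Torus hiding D
open scoped MatrixGroups

variable {K G : Type*} [Field K] [Group G]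

/-- the group of order two -/
abbrev Z2 := Multiplicative (ZMod 2)
/-- its generator -/
def ε : Z2 := Multiplicative.ofAdd 1

theorem Z2_cases (e : Z2) : e = 1 ∨ e = ε := by revert e; decide
@[simp] theorem Z2_sq (e : Z2) : e * e = 1 := by revert e; decide
@[simp] theorem ε_ne : ε ≠ 1 := by decide

/-- the centralizer of `j` is `⟨j⟩ × PSL₂(K)` -/
structure InvC (j : G) (Θ : Z2 × PSL(2, K) →* G) : Prop where
  inj : Function.Injective Θ
  range : Θ.range = centralizer {j}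
  eq : Θ (ε, 1) = j

namespace InvC

variable {j : G} {Θ : Z2 × PSL(2, K) →* G} (h : InvC j Θ)
include h

theorem conj (g : G) : InvC (g * j * g⁻¹) ((MulAut.conj g).toMonoidHom.comp Θ) :=
  ⟨(MulAut.conj g).injective.comp h.inj, by rw [MonoidHom.range_comp, h.range, cent_conj], by simp [h.eq]⟩

theorem ex {x : G} (e : x * j = j * x) : ∃ a y, x = Θ (a, y) := by
  obtain ⟨⟨a, y⟩, e⟩ := h.range.ge (mem_centralizer_singleton_iff.2 e)
  exact ⟨a, y, e.symm⟩

theorem comm (p : Z2 × PSL(2, K)) : Θ p * j = j * Θ p := mem_centralizer_singleton_iff.1 (h.range.le ⟨p, rfl⟩)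

theorem eq_iff {p q : Z2 × PSL(2, K)} : Θ p = Θ q ↔ p = q := h.inj.eq_iff
theorem eq_one {p : Z2 × PSL(2, K)} : Θ p = 1 ↔ p = 1 := map_eq_one_iff _ h.inj
theorem comm_iff {a b : Z2} {x y : PSL(2, K)} : Θ (a, x) * Θ (b, y) = Θ (b, y) * Θ (a, x) ↔ x * y = y * x := by
  simp [← map_mul, h.eq_iff, mul_comm a]

theorem card_eq {W : Subgroup G} {Y : Subgroup PSL(2, K)} (hW : W ≤ centralizer {j}) (hY : ∀ a y, Θ (a, y) ∈ W ↔ y ∈ Y) :
    Nat.card W = 2 * Nat.card Y := by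
  rw [← map_comap_eq_self (hW.trans h.range.ge), card_map_of_injective h.inj, show W.comap Θ = (⊤ : Subgroup Z2).prod Y from
    Subgroup.ext fun p => by simpa [mem_prod] using hY p.1 p.2, Nat.card_congr (Subgroup.prodEquiv ..).toEquiv]
  simp

theorem card_cent [Finite K] (h2 : (2 : K) ≠ 0) : Nat.card (centralizer {j}) = Nat.card K * (Nat.card K ^ 2 - 1) := by
  rw [h.card_eq (Y := ⊤) le_rfl fun a y => by simpa [mem_centralizer_singleton_iff] using h.comm _, card_top,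
    ← card_PSL, dd_odd h2]

end InvC

variable (R : Ree K G)

theorem cent_J {g : G} (h : g * R.J = R.J * g) :
    (∃ u κ, g = R.X 0 u 0 * R.D κ) ∨ ∃ u κ u', g = R.X 0 u 0 * R.D κ * R.n * R.X 0 u' 0 := by
  rcases R.bruhat g with ⟨t, u, v, κ, rfl⟩ | ⟨t, u, v, κ, t', u', v', rfl⟩
  · rw [mul_assoc, ← J_D, ← mul_assoc, ← mul_assoc, mul_left_inj, eq_comm, ← mul_inv_eq_iff_eq_mul, J_fix] at h
    exact Or.inl ⟨u, κ, by rw [h.1, h.2]⟩
  · obtain ⟨h1, -, h2⟩ := R.split.canon_unique3 (w := R.n) (by rw [n_inf]; exact R.zero_ne) R.zero_ne (R.D_conj_mem (-1) (R.X_mem t u v))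
      (R.X_mem t u v) (R.D_inf κ) (R.D_zero κ) (R.D_inf κ) (R.D_zero κ) (R.D_conj_mem (-1) (R.X_mem t' u' v')) (R.X_mem t' u' v') (by
        rw [← mul_left_inj R.J, h]
        calc _ = R.J * R.X t u v * (R.J⁻¹ * (R.D κ * R.n * R.J)) * R.X t' u' v' := by simp [J, mul_assoc]
          _ = _ := by rw [mul_assoc (R.D κ), ← J_n, ← mul_assoc (R.D κ), ← J_D]; group)
    obtain ⟨rfl, rfl⟩ := R.J_fix.1 h1
    obtain ⟨rfl, rfl⟩ := R.J_fix.1 h2
    exact Or.inr ⟨_, _, _, rfl⟩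

variable [Finite K]

theorem exists_SL2 : ∃ φ : SL(2, K) →* G, (∀ b, φ (u b) = R.X 0 b 0) ∧
    (∀ a, φ (dg a) = R.D (Units.map (R.s : K →* K) a / a)) ∧ φ w0 = R.n := by
  let h : Kˣ →* G := R.D.comp (Units.map (R.s : K →* K) / MonoidHom.id _)
  have h1 : h (-1) = 1 := R.D_eq_one.2 (Units.ext (by simp))
  have hx : ∀ (a : Kˣ) b, h a * R.X 0 b 0 = R.X 0 (a ^ 2 * b) 0 * h a := fun a b => (R.D_mul_X ..).trans (by
    congr 2 <;> simp [ss]; field_simp; simp)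
  have wh : ∀ a, R.n * h a = h a⁻¹ * R.n := fun a => (R.n_mul_D _).trans (by rw [map_inv, map_inv h]; rfl)
  refine CA.SL2Hom.exists_hom (R.X 0 · 0) h R.n (fun a b => by simp [X_mul]) hx wh (by rw [n_n, h1]) fun a => ?_
  have k : ∀ (e : Kˣ) (ν : Kˣ), h e = 1 → (e : K) * e = 1 → R.n * R.X 0 e 0 * R.n = R.X 0 (-e) 0 * R.n * R.X 0 (-e) 0 →
      R.n * R.X 0 ((e * ν ^ 2)⁻¹ : Kˣ) 0 = R.X 0 (-(e * ν ^ 2 : Kˣ)) 0 * h (e * ν ^ 2) * R.n * R.X 0 (-(e * ν ^ 2 : Kˣ)) 0 * R.n := by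
    intro e ν he ee r
    have e1 : R.X 0 ((e * ν ^ 2)⁻¹ : Kˣ) 0 = h ν⁻¹ * R.X 0 e 0 * h ν := by
      rw [hx, mul_assoc, ← map_mul, inv_mul_cancel, map_one, mul_one]
      congr 1; push_cast; rw [mul_inv, ← eq_inv_of_mul_eq_one_left ee]; ring
    have e2 : R.X 0 (-(e * ν ^ 2 : Kˣ)) 0 = h ν * R.X 0 (-e) 0 * h ν⁻¹ := by
      rw [hx, mul_assoc, ← map_mul, mul_inv_cancel, map_one, mul_one]
      congr 1; push_cast; ring
    have w2 : R.n * h ν⁻¹ = h ν * R.n := by rw [wh, inv_inv]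
    rw [e1, e2, map_mul, he, one_mul, sq, map_mul, ← mul_assoc, ← mul_assoc, w2, ← mul_left_inj R.n]
    calc _ = h ν * (R.n * R.X 0 e 0 * R.n) * h ν⁻¹ := by simp only [mul_assoc, w2]
      _ = h ν * R.X 0 (-e) 0 * (h ν⁻¹ * h ν) * (h ν * (R.n * h ν)) * R.X 0 (-e) 0 * h ν⁻¹ * (R.n * R.n) := by
        simp [r, wh, n_n, mul_assoc]
      _ = _ := by simp only [mul_assoc]
  obtain ⟨ν, e | e⟩ := R.exists_sq a
  · simpa only [one_mul, e] using k 1 ν (map_one h) (by simp) R.rel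
  · simpa only [neg_one_mul, e, neg_neg] using k (-1) ν h1 (by simp) (by simpa [X_inv, n_inv, mul_assoc] using congrArg (·⁻¹) R.rel)

theorem exists_invC_J : ∃ Θ : Z2 × PSL(2, K) →* G, InvC R.J Θ ∧ (∀ b, Θ (1, pr K (u b)) = R.X 0 b 0) := by
  obtain ⟨φ, h1, h2, h3⟩ := R.exists_SL2
  let f : Z2 →* G := MonoidHom.mk' (fun e => if e = 1 then 1 else R.J) fun a b => by
    rcases Z2_cases a with rfl | rfl <;> rcases Z2_cases b with rfl | rfl <;> simp [J_J]
  have fε : f ε = R.J := by simp [f]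
  let ψ : PSL(2, K) →* G := QuotientGroup.lift _ φ fun x hx => by
    rcases (CA.SL2Basic.mem_center_iff x).1 hx with rfl | rfl
    · exact map_one φ
    · rw [MonoidHom.mem_ker, ← CA.SL2Reps.dg_neg_one, h2]; exact R.D_eq_one.2 (Units.ext (by simp))
  have c : ∀ x, φ x * R.J = R.J * φ x := fun x => by
    have hu : ∀ b, u b ∈ (centralizer {R.J}).comap φ := fun b => mem_centralizer_singleton_iff.2 <| by
      rw [h1, eq_comm, ← mul_inv_eq_iff_eq_mul, J_fix]; simp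
    exact mem_centralizer_singleton_iff.1 ((eq_top_of_U_le' (H := (centralizer {R.J}).comap φ) (by rintro _ ⟨b, rfl⟩; exact hu _)
      w0_not_mem_B (mem_centralizer_singleton_iff.2 (h3 ▸ R.J_n.symm))).ge (mem_top x))
  let Θ := f.noncommCoprod ψ fun a x => by
    obtain ⟨x, rfl⟩ := pr_surj x
    rcases Z2_cases a with rfl | rfl
    exacts [by simp, fε ▸ (c x).symm]
  have hΘ : ∀ a x, Θ (a, pr K x) = f a * φ x := fun _ _ => rfl
  have hf : ∀ a, ∃ e : Kˣ, e ^ 2 = 1 ∧ f a = R.D e ∧ (e = 1 → a = 1) := fun a => by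
    rcases Z2_cases a with rfl | rfl
    exacts [⟨1, by simp⟩, ⟨-1, by simp, fε, fun e => absurd (R.D_eq_one.2 e) R.J_ne⟩]
  have hB : ∀ x ∈ SL2Unip.B K, φ x ∈ R.B := fun x hx => by
    obtain ⟨a, b, rfl⟩ := exists_of_mem_B hx
    rw [map_mul, h1, h2]; exact mul_mem (R.X_mem_B ..) (R.D_mem_B _)
  refine ⟨Θ, ⟨(injective_iff_map_eq_one _).2 fun ⟨a, x⟩ h => ?_, le_antisymm ?_ fun g hg => ?_, by simpa [fε] using hΘ ε 1⟩,
    fun b => by rw [hΘ, h1, map_one, one_mul]⟩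
  · obtain ⟨x, rfl⟩ := pr_surj x
    obtain ⟨e, e2, e3, e4⟩ := hf a
    rw [hΘ, e3] at h
    by_cases hx : x ∈ SL2Unip.B K
    · obtain ⟨c, b, rfl⟩ := exists_of_mem_B hx
      rw [map_mul, h1, h2, ← mul_assoc, D_mul_X, mul_assoc, ← map_mul] at h
      obtain ⟨h4, h5⟩ := R.split.decomp_unique R.zero_ne (R.X_mem ..) (one_mem _) (R.D_zero _) (one_smul _ _) (h.trans (mul_one 1).symm)
      obtain rfl : b = 0 := by simpa [X_eq_one] using h4
      have h5 : e * R.s c = c := by simpa [Units.ext_iff, ← mul_div_assoc, div_eq_one_iff_eq] using R.D_eq_one.1 h5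
      have e2 : (e : K) ^ 2 = 1 := congrArg Units.val e2
      have h6 : (c : K) ^ 2 = 1 := mul_left_cancel₀ c.ne_zero (by
        have := congrArg R.s h5
        rcases sq_eq_one_iff.1 e2 with e | e <;> simp only [e, map_mul, map_neg, map_one, ss] at this h5
        · linear_combination this + h5
        · linear_combination h5 - this)
      rcases sq_eq_one_iff.1 h6 with e5 | e5
      · obtain rfl : c = 1 := Units.ext e5
        simp [e4 (Units.ext (by simpa using h5)), dg, ← one_eq_mk2]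
      · obtain rfl : c = -1 := Units.ext e5
        simp [e4 (Units.ext (by simpa using h5)), CA.SL2Reps.dg_neg_one, CA.SL2Basic.mem_center_iff]
    · obtain ⟨c, b, hb, rfl⟩ := SL2Unip.bruhat hx
      rw [map_mul, map_mul, h3, h1, ← mul_assoc, ← mul_assoc] at h
      exact absurd ((mul_mem_cancel_left (mul_mem (R.D_mem_B _) (R.X_mem_B ..))).1 ((mul_mem_cancel_right (hB b hb)).1 (h ▸ one_mem _))) R.n_not_mem
  · rintro _ ⟨⟨a, x⟩, rfl⟩
    obtain ⟨x, rfl⟩ := pr_surj x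
    obtain ⟨e, -, e3, -⟩ := hf a
    exact hΘ a x ▸ mul_mem (mem_centralizer_singleton_iff.2 (e3 ▸ (R.J_D e).symm)) (mem_centralizer_singleton_iff.2 (c x))
  · have m : ∀ x, φ x ∈ Θ.range := fun x => ⟨(1, pr K x), by rw [hΘ, map_one, one_mul]⟩
    have hD : ∀ κ, R.D κ ∈ Θ.range := fun κ => by
      obtain ⟨ν, e⟩ := R.exists_sq κ
      have : R.D (ν ^ 2) ∈ Θ.range := by
        convert h2 (ν * Units.map (R.s : K →* K) ν) ▸ m _ using 2
        ext; simp [ss]; field_simp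
      rcases e with rfl | e
      · exact this
      · simpa [e, J, ← map_mul] using mul_mem (show R.J ∈ Θ.range from ⟨(ε, pr K 1), by rw [hΘ, fε, map_one, mul_one]⟩) this
    rcases R.cent_J (mem_centralizer_singleton_iff.1 hg) with ⟨u, κ, rfl⟩ | ⟨u, κ, u', rfl⟩
    · exact mul_mem (h1 u ▸ m _) (hD κ)
    · exact mul_mem (mul_mem (mul_mem (h1 u ▸ m _) (hD κ)) (h3 ▸ m _)) (h1 u' ▸ m _)

theorem exists_invC_of {j : G} (h : IsConj R.J j) : ∃ Θ : Z2 × PSL(2, K) →* G, InvC j Θ := by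
  obtain ⟨g, rfl⟩ := isConj_iff.1 h
  obtain ⟨Θ, h, -⟩ := R.exists_invC_J
  exact ⟨_, h.conj g⟩

include R

theorem exists_t : ∃ t, Nat.card K = 8 * t + 3 := by
  obtain ⟨m, e⟩ := R.exists_card
  refine ⟨Nat.card K / 8, ?_⟩
  have : Nat.card K % 8 = 3 := by rw [e, pow_succ, pow_mul, Nat.mul_mod, Nat.pow_mod]; simp
  omega

theorem card_G' : Nat.card G = Nat.card K * (Nat.card K ^ 2 - 1) * (Nat.card K ^ 2 * (Nat.card K ^ 2 - Nat.card K + 1)) := by
  obtain ⟨t, e⟩ := R.exists_t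
  rw [R.card_G, e, show (8 * t + 3) ^ 2 - 1 = (8 * t + 2) * (8 * t + 4) from Nat.sub_eq_of_eq_add (by ring),
    show (8 * t + 3) ^ 2 - (8 * t + 3) = (8 * t + 2) * (8 * t + 3) from Nat.sub_eq_of_eq_add (by ring), show 8 * t + 3 - 1 = 8 * t + 2 from rfl]
  ring

theorem index_cent : (centralizer {R.J}).index = Nat.card K ^ 2 * (Nat.card K ^ 2 - Nat.card K + 1) := by
  have := R.finite
  obtain ⟨Θ, h, -⟩ := R.exists_invC_J
  refine Nat.eq_of_mul_eq_mul_left (Nat.card_pos (α := centralizer {R.J})) ?_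
  rw [card_mul_index, h.card_cent R.two_ne, R.card_G']

theorem odd_index_cent : Odd (centralizer {R.J}).index := by
  obtain ⟨t, e⟩ := R.exists_t
  rw [index_cent, e, show (8 * t + 3) ^ 2 - (8 * t + 3) = 2 * ((4 * t + 1) * (8 * t + 3)) from Nat.sub_eq_of_eq_add (by ring)]
  exact Odd.mul (Odd.pow ⟨4 * t + 1, by ring⟩) ⟨_, rfl⟩

theorem mod_eight : Nat.card K % 8 = 3 ∨ Nat.card K % 8 = 5 := by obtain ⟨t, e⟩ := R.exists_t; omega

theorem card_sylow (S : Sylow 2 G) : Nat.card S = 8 := by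
  have := R.finite
  obtain ⟨Θ, h, -⟩ := R.exists_invC_J
  obtain ⟨m, h1, h2⟩ := card_PSL_eq_four_mul R.mod_eight
  refine card_sylow_of_odd S (k := 3) ?_ (h1.mul R.odd_index_cent)
  rw [← (centralizer {R.J}).card_mul_index, h.card_eq (Y := ⊤) le_rfl fun a y => by simpa [mem_centralizer_singleton_iff] using h.comm _,
    card_top, h2]
  ring

theorem exists_conj_cent {P : Subgroup G} (hP : IsPGroup 2 P) : ∃ g : G, ∀ x ∈ P, g * x * g⁻¹ ∈ centralizer {R.J} := by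
  have := R.finite
  obtain ⟨S, hS⟩ := hP.exists_le_sylow
  obtain ⟨g, hg⟩ := exists_sylow_le S R.odd_index_cent.not_two_dvd_nat
  refine ⟨g⁻¹, fun x hx => ?_⟩
  obtain ⟨y, hy, rfl⟩ := hg (hS hx)
  simpa [mul_assoc] using hy

theorem sq_eq_one {x : G} {k : ℕ} (h : x ^ 2 ^ k = 1) : x * x = 1 := by
  have := R.finite
  obtain ⟨i, -, e⟩ := (Nat.dvd_prime_pow Nat.prime_two).1 (orderOf_dvd_of_pow_eq_one h)
  obtain ⟨g, hg⟩ := R.exists_conj_cent (P := zpowers x) (IsPGroup.of_card ((Nat.card_zpowers x).trans e))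
  obtain ⟨Θ, hΘ, -⟩ := R.exists_invC_J
  obtain ⟨a, y, e'⟩ := hΘ.ex (mem_centralizer_singleton_iff.1 (hg x (mem_zpowers x)))
  have h1 : y ^ 2 ^ k = 1 := congrArg Prod.snd (hΘ.eq_one.1 (by rw [map_pow, ← e', conj_pow, h]; simp) : (a, y) ^ 2 ^ k = 1)
  obtain ⟨i, -, e⟩ := (Nat.dvd_prime_pow Nat.prime_two).1 (orderOf_dvd_of_pow_eq_one h1)
  obtain ⟨P, hP⟩ := IsPGroup.exists_le_sylow (P := zpowers y) (IsPGroup.of_card ((Nat.card_zpowers y).trans e))
  have := isKleinFour_sylow R.mod_eight P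
  have h2 : y * y = 1 := congrArg Subtype.val (IsKleinFour.mul_self (⟨y, hP (mem_zpowers y)⟩ : (P : Subgroup PSL(2, K))))
  exact (MulAut.conj g).injective (by simp [-mul_left_inj, ← conj_mul, e', ← map_mul, h2, ← Prod.one_eq_mk])

theorem sq_of_pgroup {P : Subgroup G} (hP : IsPGroup 2 P) {x : G} (hx : x ∈ P) : x * x = 1 :=
  let ⟨_, h⟩ := hP ⟨x, hx⟩; R.sq_eq_one (congrArg Subtype.val h)

theorem comm_of_pgroup {P : Subgroup G} (hP : IsPGroup 2 P) {x y : G} (hx : x ∈ P) (hy : y ∈ P) : x * y = y * x := by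
  rw [← inv_eq_of_mul_eq_one_right (R.sq_of_pgroup hP (mul_mem hx hy)), mul_inv_rev,
    inv_eq_of_mul_eq_one_right (R.sq_of_pgroup hP hx), inv_eq_of_mul_eq_one_right (R.sq_of_pgroup hP hy)]

omit [Finite K] in
theorem eq_J {a : G} (h : a ∈ R.H) (h1 : a ≠ 1) (h2 : a * a = 1) : a = R.J := by
  obtain ⟨κ, rfl⟩ := h
  exact (R.D_sq (by rwa [← map_mul, D_eq_one, ← sq] at h2)).resolve_left h1

theorem isConj_J (hq : 3 < Nat.card K) {j : G} (h1 : j ≠ 1) (h2 : j * j = 1) : IsConj R.J j := by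
  have := R.finite
  have := R.simple hq
  obtain ⟨Θ, h, -⟩ := R.exists_invC_J
  obtain ⟨P, hP⟩ := IsPGroup.exists_le_sylow (P := zpowers R.J) (IsPGroup.of_card (p := 2) (n := 1) ((Nat.card_zpowers _).trans R.orderOf_J))
  have hJ := hP (mem_zpowers _)
  have k : ∀ u : G, u ≠ 1 → u * u = 1 → ∃ y, y ≠ 1 ∧ y * y = 1 ∧ IsConj u (Θ (1, y)) := fun u u1 u2 => by
    obtain ⟨g, -, ⟨y, e⟩⟩ := CA.Trf.exists_conj_mem_of_index_two (fun H e => by
      rcases (normal_of_index_eq_two e).eq_bot_or_eq_top with rfl | rfl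
      · have := R.card_sylow P ▸ card_subgroup_dvd_card (P : Subgroup G)
        rw [← index_bot, e] at this; omega
      · simp at e) P (Q := (Θ.comp (MonoidHom.inr _ _)).range) (relIndex_eq_two_iff.2 ⟨R.J, hJ, fun b hb => by
        obtain ⟨a, y, rfl⟩ := h.ex (R.comm_of_pgroup P.2 hb hJ)
        rw [← h.eq, ← map_mul]
        rcases Z2_cases a with rfl | rfl <;> simp [h.eq_iff, eq_comm]⟩) (sq u ▸ u2)
    have e : Θ (1, y) = _ := e
    exact ⟨y, fun e' => conj_ne_one u1 g (by simp [← e, e', ← Prod.one_eq_mk]), congrArg Prod.snd (h.eq_one.1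
      ((map_mul Θ (1, y) (1, y)).trans (by simp [e, u2]))), isConj_iff.2 ⟨g, e.symm⟩⟩
  obtain ⟨y, y1, y2, y3⟩ := k j h1 h2
  obtain ⟨z, z1, z2, z3⟩ := k _ R.J_ne R.J_J
  exact z3.trans (((Θ.comp (MonoidHom.inr _ _)).map_isConj (isConj_involution z1 z2 y1 y2)).trans y3.symm)

theorem exists_invC (hq : 3 < Nat.card K) {j : G} (h1 : j ≠ 1) (h2 : j * j = 1) : ∃ Θ : Z2 × PSL(2, K) →* G, InvC j Θ :=
  R.exists_invC_of (R.isConj_J hq h1 h2)

omit R in
theorem cent_four (h2 : (2 : K) ≠ 0) {V : Subgroup PSL(2, K)} [IsKleinFour V] {y : PSL(2, K)}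
    (h : ∀ v ∈ V, y * v = v * y) : y ∈ V := by
  obtain ⟨a, ha, b, hb, hp⟩ := exists_pair V
  obtain ⟨g, h1, hs, rfl, h3⟩ := exists_of_involution h2 hp.a1 hp.aa
  obtain ⟨b1, b2⟩ := (isPair_iff hs h1).1 hp
  have k : ∀ y ∈ Tb g, y * b = b * y → y ∈ V := fun y hy e => by
    have := conj_of_mem_Db hs.ns b1 b2 hy
    rw [← e, mul_inv_cancel_right, eq_inv_iff_mul_eq_one] at this
    by_cases y1 : y = 1
    exacts [y1 ▸ one_mem _, eq_of_sq_eq_one (isCyclic_Tb hs) (self_mem_Tb g) hy hp.a1 y1 hp.aa this ▸ ha]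
  by_cases hy : y ∈ Tb g
  · exact k y hy (h b hb)
  · exact (mul_mem_cancel_right hb).1 (k _ (mul_mem_Tb hs (h3 ▸ mem_C_iff.2 (h _ ha)) hy b1 b2) (by rw [← mul_assoc, h b hb]))

theorem sylow_two (hq : 3 < Nat.card K) (S : Sylow 2 G) :
    centralizer ((S : Subgroup G) : Set G) = S ∧ Nat.card (normalizer ((S : Subgroup G) : Set G)) = 168 := by
  have := R.finite
  have h8 := R.card_sylow S
  obtain ⟨⟨j, hj⟩, j1⟩ := ne_bot_iff_exists_ne_one.1 (show (S : Subgroup G) ≠ ⊥ from fun e => by simp [e] at h8)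
  have j1 : j ≠ 1 := fun e => j1 (Subtype.ext e)
  obtain ⟨Θ, h⟩ := R.exists_invC hq j1 (R.sq_of_pgroup S.2 hj)
  set V := (S : Subgroup G).comap (Θ.comp (MonoidHom.inr _ _))
  have hV : ∀ a y, Θ (a, y) ∈ (S : Subgroup G) ↔ y ∈ V := fun a y => by
    rcases Z2_cases a with rfl | rfl
    · rfl
    · rw [← mul_mem_cancel_left hj, ← h.eq, ← map_mul]; simp [V]
  have hS : (S : Subgroup G) ≤ centralizer {j} := fun x hx => mem_centralizer_singleton_iff.2 (R.comm_of_pgroup S.2 hx hj)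
  have : IsKleinFour V := isKleinFour_of (by have := h.card_eq hS hV; omega) fun x hx =>
    congrArg Prod.snd (h.eq_one.1 ((map_mul Θ (1, x) (1, x)).trans (R.sq_of_pgroup S.2 hx)))
  have hC : centralizer ((S : Subgroup G) : Set G) = S := le_antisymm (fun x hx => by
    obtain ⟨a, y, rfl⟩ := h.ex (hx j hj).symm
    exact (hV a y).2 (cent_four R.two_ne fun v hv => (h.comm_iff.1 (hx _ ((hV 1 v).2 hv))).symm))
    fun x hx y hy => R.comm_of_pgroup S.2 hy hx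
  refine ⟨hC, (card_normalizer_sylow S (hC.ge hj)).trans ?_⟩
  rw [h.card_eq (Y := normalizer (V : Set PSL(2, K))) inf_le_right fun a y => ?_, card_normalizer_of_conj R.two_ne V fun W _ => conj_four R.mod_eight V W,
    show centralizer (S : Set G) = S from hC, Nat.card_congr (Equiv.subtypeEquivRight (q := (· ≠ 1)) fun x => ⟨fun e e' => j1 (by simpa [e'] using e),
      fun e => (R.isConj_J hq j1 (R.sq_of_pgroup S.2 hj)).symm.trans (R.isConj_J hq (fun e' => e (Subtype.ext e')) (R.sq_of_pgroup S.2 x.2))⟩)]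
  · classical
    have := Fintype.ofFinite (S : Subgroup G)
    simp_all
  · refine ⟨fun e => mem_normalizer_fintype fun v hv => (hV 1 _).1 ?_, fun e => ⟨mem_normalizer_fintype fun x hx => ?_,
      mem_centralizer_singleton_iff.2 (h.comm _)⟩⟩
    · simpa [← map_inv, ← map_mul] using (mem_normalizer_iff.1 e.1 _).1 ((hV 1 v).2 hv)
    · obtain ⟨b, v, rfl⟩ := h.ex (mem_centralizer_singleton_iff.1 (hS hx))
      rw [← map_inv, ← map_mul, ← map_mul]
      exact (hV _ _).2 ((mem_normalizer_iff.1 e _).1 ((hV b v).1 hx))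

end CA.Ree
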