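/-
The small Ree groups: the tori of orders `(q - 1) / 2` and `(q + 1) / 4`, elements of orders 2, 3, 6, 9.
-/
import Cfsg.Agent.Lib.Lie.ReeInv

set_option autoImplicit false

namespace CA.HallTorus

open Subgroup CA.TorusCount CA.SylIn

variable {G : Type*} [Group G]

theorem Tor.mk' {A T : Subgroup G} (hc : IsCyclic A) {m : ℕ} (h1 : Nat.card G = Nat.card A * m) (h2 : (Nat.card A).Coprime m)
    (h3 : 1 < Nat.card A) (h : ∀ y ∈ A, y ≠ 1 → centralizer {y} = T) : Tor A ∧ centralizer (A : Set G) = T := by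
  have k : ∀ y ∈ A, y ≠ 1 → centralizer {y} = centralizer (A : Set G) := fun y hy y1 =>
    le_antisymm (fun x hx a ha => by
      by_cases a1 : a = 1
      · simp [a1]
      · exact (mem_centralizer_singleton_iff.1 ((h a ha a1).ge ((h y hy y1).le hx))).symm) (centralizer_le (Set.singleton_subset_iff.2 hy))
  obtain ⟨⟨y, hy⟩, y1⟩ := ne_bot_iff_exists_ne_one.1 (show A ≠ ⊥ by rintro rfl; simp at h3)
  have y1 : y ≠ 1 := fun e => y1 (Subtype.ext e)
  exact ⟨⟨hc, by rwa [Nat.eq_of_mul_eq_mul_left (by omega) (A.card_mul_index.trans h1)], k⟩, (k y hy y1).symm.trans (h y hy y1)⟩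

theorem Tor.cent_sub {A B : Subgroup G} (h : Tor A) (hB : B ≤ A) (h1 : B ≠ ⊥) : centralizer (B : Set G) = centralizer (A : Set G) := by
  obtain ⟨⟨y, hy⟩, y1⟩ := ne_bot_iff_exists_ne_one.1 h1
  exact le_antisymm ((centralizer_le (Set.singleton_subset_iff.2 hy)).trans (h.cent y (hB hy) fun e => y1 (Subtype.ext e)).le) (centralizer_le hB)

theorem Tor.mem' {A : Subgroup G} (h : Tor A) {x : G} (hx : x ∈ normalizer (A : Set G)) (e : orderOf x ∣ Nat.card A) : x ∈ A := by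
  have : (A.subgroupOf (normalizer (A : Set G))).Normal := normal_in_normalizer
  have := Nat.eq_one_of_dvd_coprimes h.cop ((orderOf_map_dvd (QuotientGroup.mk' (A.subgroupOf _)) ⟨x, hx⟩).trans (orderOf_mk x hx ▸ e))
    ((_root_.orderOf_dvd_natCard _).trans (relIndex_dvd_index_of_le le_normalizer))
  exact (QuotientGroup.eq_one_iff (N := A.subgroupOf _) ⟨x, hx⟩).1 (orderOf_eq_one_iff.1 this)

omit [Group G] in
theorem card_or [Finite G] {P Q : G → Prop} (h : ∀ x, P x → ¬ Q x) :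
    Nat.card {x // P x ∨ Q x} = Nat.card {x // P x} + Nat.card {x // Q x} := by
  classical
  rw [Nat.card_congr (subtypeOrEquiv P Q (Pi.disjoint_iff.2 fun x => Prop.disjoint_iff.2 fun e => h x e.1 e.2)), Nat.card_sum]

/-- a torus of odd order `k` with abelian centralizer of order `c` containing `i` involutions and normalizer of order `n` -/
structure TorD (A : Subgroup G) (k c n i : ℕ) : Prop extends Tor A where
  card : Nat.card A = k
  one_lt : 1 < k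
  odd : Odd k
  card_C : Nat.card (centralizer (A : Set G)) = c
  card_N : Nat.card (normalizer (A : Set G)) = n
  comm : IsMulCommutative (centralizer (A : Set G))
  exp : ∀ x ∈ centralizer (A : Set G), orderOf x ∣ 2 * k
  inv : Nat.card {z : centralizer (A : Set G) // orderOf z = 2} = i

namespace TorD

variable {A : Subgroup G} {k c n i : ℕ} (h : TorD A k c n i)
include h

theorem conj (g : G) : TorD (g •ᶜ A) k c n i where
  toTor := h.toTor.conj g
  card := (card_conj ..).trans h.card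
  one_lt := h.one_lt
  odd := h.odd
  card_C := by rw [← conj_centralizer, card_conj, h.card_C]
  card_N := by rw [← conj_normalizer, card_conj, h.card_N]
  comm := by have := h.comm; rw [← conj_centralizer]; infer_instance
  exp := by rw [← conj_centralizer]; rintro _ ⟨x, hx, rfl⟩; exact (orderOf_conj g x).dvd.trans (h.exp x hx)
  inv := by
    rw [← conj_centralizer, ← h.inv]
    exact (Nat.card_congr ((conjEquiv g _).toEquiv.subtypeEquiv fun a => by rw [← (conjEquiv g _).orderOf_eq a]; rfl)).symm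

theorem ne_bot : A ≠ ⊥ := by rintro rfl; have := h.card; have := h.one_lt; simp_all

variable [Finite G]

theorem of_card {B : Subgroup G} (hB : IsCyclic B) (e : Nat.card B = k) : TorD B k c n i := by
  obtain ⟨g, rfl⟩ := h.toTor.of_card hB (e.trans h.card.symm)
  exact h.conj g

theorem ex {y : G} (hy : orderOf y ∣ k) : ∃ B, TorD B k c n i ∧ y ∈ B := by
  obtain ⟨g, e⟩ := h.exists_conj (h.card ▸ hy)
  exact ⟨_, h.conj g⁻¹, mem_conj_inv.2 e⟩

theorem ex_cent {y : G} (hy : ¬ (orderOf y).Coprime k) : ∃ B : Subgroup G, TorD B k c n i ∧ y ∈ centralizer (B : Set G) := by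
  obtain ⟨g, e⟩ := h.exists_conj_cent (h.card ▸ hy)
  exact ⟨_, h.conj g⁻¹, conj_centralizer g⁻¹ A ▸ mem_conj_inv.2 e⟩

theorem card_cent {y : G} (h1 : y ≠ 1) (hy : orderOf y ∣ k) : Nat.card (centralizer {y}) = c := by
  obtain ⟨B, hB, e⟩ := h.ex hy
  rw [hB.cent y e h1, hB.card_C]

theorem dvd {y : G} (hy : ¬ (orderOf y).Coprime k) : orderOf y ∣ 2 * k ∧ orderOf y ∣ c := by
  obtain ⟨B, hB, e⟩ := h.ex_cent hy
  exact ⟨hB.exp y e, hB.card_C ▸ Subgroup.orderOf_dvd_natCard _ e⟩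

theorem card_ord {j : ℕ} (h1 : 1 < j) (hj : j ∣ k) : Nat.card {x : G // orderOf x = j} * n = Nat.card G * j.totient :=
  h.card_N ▸ h.card_order h1 (h.card ▸ hj)

theorem card_two_mul {j : ℕ} (h1 : 1 < j) (hj : j ∣ k) : Nat.card {x : G // orderOf x = 2 * j} = Nat.card {x : G // orderOf x = j} * i := by
  rw [mul_comm 2]
  refine card_order_mul (Nat.coprime_two_right.2 (h.odd.of_dvd_nat hj)) (fun y e => ?_) (by omega) two_ne_zero
  obtain ⟨B, hB, e'⟩ := h.ex (e ▸ hj)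
  rw [hB.cent y e' (by rintro rfl; simp at e; omega), hB.inv]

theorem card_big : Nat.card {x : G // ¬ (orderOf x).Coprime k} * n + Nat.card G * (1 + i) = Nat.card G * c := by
  rw [← h.card_N, h.toTor.card_pred (fun x g => by rw [orderOf_conj]; exact id) (fun x => h.card ▸ id), ← mul_add, ← h.card_C, ← h.inv,
    ← Nat.card_unique (α := {z : centralizer (A : Set G) // z = 1}), ← card_or (by simp), ← card_or fun x hx e => hx (by
      rcases e with rfl | e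
      · simp
      · rw [orderOf_coe, e]; exact Nat.coprime_two_left.2 h.odd), Nat.card_congr (Equiv.subtypeUnivEquiv fun x => ?_)]
  refine or_iff_not_imp_left.2 fun e => ?_
  rw [← orderOf_eq_one_iff, ← Nat.dvd_prime Nat.prime_two, ← orderOf_coe]
  exact (not_not.1 e).dvd_of_dvd_mul_right (h.exp _ x.2)

end TorD

end CA.HallTorus

namespace CA.Ree

open MulAction Subgroup CA.SplitOne CA.TorusCount CA.HallTorus CA.SL2Unip CA.PSL2Struct CA.PSL2Four CA.SylIn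
open CA.SL2Torus hiding D
open scoped MatrixGroups

variable {K G : Type*} [Field K] [Group G] (R : Ree K G)

theorem mem_H_or {g : G} {μ ν : Kˣ} (hμ : μ ^ 2 ≠ 1) (h : g * R.D ν * g⁻¹ = R.D μ) : g ∈ R.H ∨ ∃ κ, g = R.D κ * R.n := by
  have h1 : ∀ p : R.Ω, R.D ν • p = p → R.D μ • g • p = g • p := fun p hp => by
    rw [← h, mul_smul, mul_smul, inv_smul_smul, hp]
  have hne : g • R.inf ≠ g • R.zero := fun e => R.zero_ne (smul_left_cancel g e).symm
  rcases R.D_fix_pt hμ (h1 _ (R.D_inf ν)) with e1 | e1 <;> rcases R.D_fix_pt hμ (h1 _ (R.D_zero ν)) with e2 | e2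
  · exact absurd (e1.trans e2.symm) hne
  · exact Or.inl (R.mem_H_iff.2 ⟨e1, e2⟩)
  · obtain ⟨κ, e⟩ := R.mem_H_iff.2 ⟨show (g * R.n) • _ = _ by rw [mul_smul, n_inf, e2], by rw [mul_smul, n_zero, e1]⟩
    exact Or.inr ⟨κ, by rw [e, mul_assoc, n_n, mul_one]⟩
  · exact absurd (e1.trans e2.symm) hne

theorem cent_D {μ : Kˣ} (hμ : μ ^ 2 ≠ 1) : centralizer {R.D μ} = R.H := Subgroup.ext fun g => by
  refine mem_centralizer_singleton_iff.trans ⟨fun h => (R.mem_H_or hμ (mul_inv_eq_iff_eq_mul.2 h)).resolve_right ?_, ?_⟩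
  · rintro ⟨κ, rfl⟩
    rw [mul_assoc, n_mul_D, ← mul_assoc, ← mul_assoc, mul_left_inj, D_comm, mul_left_inj, R.D_injective.eq_iff, inv_eq_iff_mul_eq_one] at h
    exact hμ (sq μ ▸ h)
  · rintro ⟨ν, rfl⟩; exact R.D_comm ..

theorem n_mem_normalizer : R.n ∈ normalizer (R.H : Set G) := mem_normalizer_iff.2 fun x =>
  ⟨by rintro ⟨κ, rfl⟩; exact R.n_D κ ▸ inv_mem (R.D_mem κ), fun ⟨κ, e⟩ => ⟨κ⁻¹, (MulAut.conj R.n).injective (by rw [MulAut.conj_apply, MulAut.conj_apply, ← e, n_D, map_inv, inv_inv])⟩⟩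

variable [Finite K]
include R

theorem arith : ∃ t, Nat.card K = 24 * t + 3 ∧ Nat.card K - 1 = 24 * t + 2 ∧ (Nat.card K - 1) / 2 = 12 * t + 1 ∧ (Nat.card K + 1) / 4 = 6 * t + 1 ∧
    Nat.card K ^ 2 - Nat.card K + 1 = 576 * t ^ 2 + 120 * t + 7 ∧ Nat.card K ^ 2 - 1 = 8 * (12 * t + 1) * (6 * t + 1) ∧
    Nat.card G = (24 * t + 3) ^ 3 * 8 * (12 * t + 1) * (6 * t + 1) * (576 * t ^ 2 + 120 * t + 7) := by
  obtain ⟨t, e⟩ : ∃ t, Nat.card K = 24 * t + 3 := ⟨Nat.card K / 24, by have := R.mod_eight; have := R.three_dvd; have := R.card_mod; omega⟩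
  refine ⟨t, e, by omega, by omega, by omega, ?_, Nat.sub_eq_of_eq_add (by rw [e]; ring), ?_⟩
  · rw [e, show (24 * t + 3) ^ 2 - (24 * t + 3) = 576 * t ^ 2 + 120 * t + 6 from Nat.sub_eq_of_eq_add (by ring)]
  · rw [R.card_G, e, show 24 * t + 3 - 1 = 24 * t + 2 from rfl]; ring

omit R [Finite K] in
theorem cop (t : ℕ) : (12 * t + 1).Coprime (6 * t + 1) ∧ (12 * t + 1).Coprime (576 * t ^ 2 + 120 * t + 7) ∧
    (6 * t + 1).Coprime (576 * t ^ 2 + 120 * t + 7) ∧ ∀ k ∈ [12 * t + 1, 6 * t + 1, 576 * t ^ 2 + 120 * t + 7],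
      k.Coprime 2 ∧ k.Coprime 3 ∧ k.Coprime (24 * t + 3) := by
  simp only [List.mem_cons, forall_eq_or_imp, List.not_mem_nil, ← Nat.isCoprime_iff_coprime]
  push_cast
  exact ⟨⟨-1, 2, by ring⟩, ⟨-48 * t - 6, 1, by ring⟩, ⟨192 * t ^ 2 + 8 * t + 1, -2 * t, by ring⟩,
    ⟨⟨1, -6 * t, by ring⟩, ⟨1, -4 * t, by ring⟩, ⟨-2, 1, by ring⟩⟩, ⟨⟨1, -3 * t, by ring⟩, ⟨1, -2 * t, by ring⟩, ⟨4, -1, by ring⟩⟩,
    ⟨⟨1, -288 * t ^ 2 - 60 * t - 3, by ring⟩, ⟨1, -192 * t ^ 2 - 40 * t - 2, by ring⟩, ⟨1, -24 * t - 2, by ring⟩⟩, by simp⟩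

theorem tor_one (hq : 3 < Nat.card K) : ∃ A : Subgroup G, TorD A ((Nat.card K - 1) / 2) (Nat.card K - 1) (2 * (Nat.card K - 1)) 1 ∧
    centralizer (A : Set G) = R.H := by
  have := R.finite
  obtain ⟨t, e, e0, e1, -, -, -, eG⟩ := R.arith
  obtain ⟨c1, c2, -, c⟩ := cop t
  obtain ⟨c3, -, c4⟩ := c _ (.head _)
  have hA : Nat.card ((powMonoidHom 2 : Kˣ →* Kˣ).range.map R.D) = 12 * t + 1 := by
    rw [card_map_of_injective R.D_injective, IsCyclic.card_powMonoidHom_range, Nat.card_units, Nat.gcd_eq_right (by omega), e1]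
  obtain ⟨h1, h2⟩ := Tor.mk' (A := (powMonoidHom 2 : Kˣ →* Kˣ).range.map R.D) (T := R.H)
    (isCyclic_of_surjective _ (equivMapOfInjective _ _ R.D_injective).surjective)
    (m := (24 * t + 3) ^ 3 * 2 ^ 3 * (6 * t + 1) * (576 * t ^ 2 + 120 * t + 7)) (by rw [hA, eG]; ring)
    (hA ▸ (((c4.pow_right _).mul_right (c3.pow_right _)).mul_right c1).mul_right c2) (by omega) (by
      rintro _ ⟨_, ⟨κ, rfl⟩, rfl⟩ h
      refine R.cent_D fun e => (R.D_sq e).elim h fun e => R.sq_ne κ ?_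
      simpa [Units.ext_iff] using R.D_injective e)
  have := R.isCyclic_H
  refine ⟨_, ⟨h1, e1 ▸ hA, by omega, e1 ▸ ⟨6 * t, by ring⟩, h2 ▸ R.card_H, ?_, h2 ▸ inferInstance, fun x hx => ?_, ?_⟩, h2⟩
  · obtain ⟨μ, hμ⟩ := exists_sq_ne hq
    rw [← h1.normalizer_cent, h2, mul_comm, ← R.card_H, ← CA.PGBasic.card_sup_zpowers Nat.prime_two R.n_mem_normalizer
      (fun h => R.n_not_mem (R.H_le_B h)) (by rw [sq, n_n]; exact one_mem _)]
    congr 2
    refine le_antisymm (fun g hg => ?_) (sup_le le_normalizer (zpowers_le.2 R.n_mem_normalizer))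
    obtain ⟨ν, e⟩ := (mem_normalizer_iff''.1 hg _).1 (R.D_mem μ)
    rcases R.mem_H_or hμ (g := g) (ν := ν) (by rw [e]; group) with h | ⟨κ, rfl⟩
    exacts [mem_sup_left h, mul_mem_sup (R.D_mem κ) (mem_zpowers _)]
  · rw [show 2 * ((Nat.card K - 1) / 2) = Nat.card R.H by rw [card_H]; omega]
    exact Subgroup.orderOf_dvd_natCard _ (h2 ▸ hx)
  · rw [h2]
    exact Nat.card_eq_one_iff_exists.2 ⟨⟨⟨R.J, R.D_mem _⟩, (orderOf_coe _).symm.trans R.orderOf_J⟩, fun ⟨⟨x, hx⟩, e⟩ =>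
      have e := (orderOf_coe _).trans e
      Subtype.ext (Subtype.ext (R.eq_J hx (CA.H13Inv.ne_one e) (CA.H13Inv.mul_self e)))⟩

theorem exists_conj_U {x : G} {k : ℕ} (h : orderOf x ∣ 3 ^ k) : ∃ g : G, g * x * g⁻¹ ∈ R.U := by
  have := R.finite
  obtain ⟨i, -, e⟩ := (Nat.dvd_prime_pow Nat.prime_three).1 h
  obtain ⟨P, hP⟩ := IsPGroup.exists_le_sylow (P := zpowers x) (IsPGroup.of_card ((Nat.card_zpowers x).trans e))
  obtain ⟨g, hg⟩ := R.sylow_conj P
  exact ⟨g⁻¹, by simpa using mem_conj.1 (hg.le (hP (mem_zpowers x)))⟩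

theorem card_cent_three {z : G} (h : orderOf z = 3) : Nat.card (centralizer {z}) ∣ Nat.card K ^ 3 * (Nat.card K - 1) := by
  obtain ⟨g, hg⟩ := R.exists_conj_U (x := z) (k := 1) h.dvd
  rw [← card_conj g, conj_centralizer_singleton, ← R.card_B]
  exact card_dvd_of_le fun x hx => R.fix_inf.1 (R.split.fix_of_comm hg (conj_ne_one (by rintro rfl; simp at h) g)
    (mem_centralizer_singleton_iff.1 hx))

theorem loc {j y : G} {Θ : Z2 × PSL(2, K) →* G} (h : InvC j Θ) (y1 : y ≠ 1) (hy : orderOf y ∣ (Nat.card K + 1) / 4) (e : y * j = j * y) :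
    ∃ g : SL(2, K), SS g ∧ 2 ∣ Nat.card (Tb g) ∧ ∀ a w, Θ (a, w) * y = y * Θ (a, w) ↔ w ∈ Tb g := by
  obtain ⟨t, eq, -, e1, e2, -⟩ := R.arith
  obtain ⟨c1, -, -, c⟩ := cop t
  obtain ⟨c3, c4, -⟩ := c _ (.tail _ (.head _))
  obtain ⟨a, z, rfl⟩ := h.ex e
  rw [e2] at hy
  have z2 : z * z ≠ 1 := fun e => y1 (orderOf_eq_one_iff.1 (Nat.eq_one_of_dvd_coprimes c3 hy (orderOf_dvd_of_pow_eq_one
    (by simp [sq, ← map_mul, e, ← Prod.one_eq_mk]))))
  have z3 : z ^ (6 * t + 1) = 1 := congrArg Prod.snd (h.eq_one.1 ((map_pow Θ (a, z) _).trans (orderOf_dvd_iff_pow_eq_one.1 hy)))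
  have := R.charP
  obtain ⟨g, hs, rfl⟩ := exists_ss_of_pow (fun e => z2 (by simp [e])) (fun e => by
    have := (CharP.cast_eq_zero_iff K 3 _).1 e; omega) z3
  refine ⟨g, hs, ?_, fun a w => by rw [h.comm_iff, ← C_eq_Tb hs (self_mem_Tb g) z2, mem_C_iff]⟩
  have := orderOf_dvd_card_Tb g
  rcases card_Tb_cases hs with e | e <;> rw [e, dd_odd R.two_ne] at this ⊢
  · exact absurd (by rw [orderOf_eq_one_iff.1 (Nat.eq_one_of_dvd_coprimes c1 (e1 ▸ this) (orderOf_dvd_of_pow_eq_one z3)), one_mul]) z2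
  · omega

omit R in
theorem inv_cases {j : G} {Θ : Z2 × PSL(2, K) →* G} (h : InvC j Θ) {g : SL(2, K)} (hs : SS g) {t w : PSL(2, K)} (ht : t ∈ Tb g)
    (ot : orderOf t = 2) (hw : w ∈ Tb g) {a : Z2} (o : orderOf (Θ (a, w)) = 2) :
    Θ (a, w) = j ∨ Θ (a, w) = Θ (1, t) ∨ Θ (a, w) = j * Θ (1, t) := by
  have w2 : w * w = 1 := congrArg Prod.snd (h.eq_one.1 ((map_mul Θ (a, w) (a, w)).trans (CA.H13Inv.mul_self o)))
  have a1 := CA.H13Inv.ne_one o
  rw [← h.eq, ← map_mul]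
  by_cases w1 : w = 1
  · rcases Z2_cases a with rfl | rfl <;> simp_all [← Prod.one_eq_mk]
  · rw [eq_of_sq_eq_one (isCyclic_Tb hs) hw ht w1 (CA.H13Inv.ne_one ot) w2 (CA.H13Inv.mul_self ot)]
    rcases Z2_cases a with rfl | rfl <;> simp

theorem cent_le (hq : 3 < Nat.card K) {j y : G} (oj : orderOf j = 2) (y1 : y ≠ 1) (hy : orderOf y ∣ (Nat.card K + 1) / 4)
    (e : y * j = j * y) {x : G} (hx : x * y = y * x) : x * j = j * x := by
  have := R.finite
  have k : ∀ j : G, orderOf j = 2 → ∃ Θ : Z2 × PSL(2, K) →* G, InvC j Θ := fun j h =>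
    R.exists_invC hq (CA.H13Inv.ne_one h) (CA.H13Inv.mul_self h)
  obtain ⟨Θ, h⟩ := k j oj
  obtain ⟨g, hs, h2, h3⟩ := R.loc h y1 hy e
  obtain ⟨t, ht, ot⟩ := exists_orderOf_of_dvd hs h2
  refine eq_of_three (C := centralizer {y}) (b := Θ (1, t)) (mem_centralizer_singleton_iff.2 e.symm)
    (mem_centralizer_singleton_iff.2 ((h3 ..).2 ht)) oj ((orderOf_injective (Θ.comp (MonoidHom.inr _ _)) (h.inj.comp (Prod.mk_right_injective 1)) t).trans ot)
    (by simp [← h.eq, h.eq_iff]) (h.comm _).symm (fun x hx h3 => y1 ?_) (fun i hi oi a ha b hb e1 e2 => ?_) (fun i hi oi e => ?_) x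
    (mem_centralizer_singleton_iff.2 hx)
  · obtain ⟨t, eq, e0, -, e2, -⟩ := R.arith
    obtain ⟨c1, -, -, c⟩ := cop t
    obtain ⟨c3, -, c4⟩ := c _ (.tail _ (.head _))
    have := (Subgroup.orderOf_dvd_natCard _ (show y ∈ centralizer {x ^ (orderOf x / 3)} from mem_centralizer_singleton_iff.2
      (Commute.pow_right (mem_centralizer_singleton_iff.1 hx).symm _))).trans (R.card_cent_three (orderOf_pow_orderOf_div (orderOf_pos x).ne' h3))
    rw [e0, eq, show 24 * t + 2 = 2 * (12 * t + 1) by ring] at this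
    exact orderOf_eq_one_iff.1 (Nat.eq_one_of_dvd_coprimes ((c4.pow_right 3).mul_right (c3.mul_right c1.symm)) (e2 ▸ hy) this)
  · obtain ⟨Θ, h⟩ := k i oi
    obtain ⟨g, hs, -, h3⟩ := R.loc h y1 hy (mem_centralizer_singleton_iff.1 hi).symm
    obtain ⟨a, w, rfl⟩ := h.ex e1
    obtain ⟨b, v, rfl⟩ := h.ex e2
    exact h.comm_iff.2 (Tb_comm hs.ns ((h3 ..).1 (mem_centralizer_singleton_iff.1 ha)) ((h3 ..).1 (mem_centralizer_singleton_iff.1 hb)))
  · obtain ⟨a, w, rfl⟩ := h.ex e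
    exact inv_cases h hs ht ot ((h3 ..).1 (mem_centralizer_singleton_iff.1 hi)) oi

theorem tor_two' (hq : 3 < Nat.card K) {j : G} {Θ : Z2 × PSL(2, K) →* G} (h : InvC j Θ) {g : SL(2, K)} (hg : g.1.trace = 0) :
    ∃ x ∈ Tb g, TorD (zpowers (Θ (1, x))) ((Nat.card K + 1) / 4) (Nat.card K + 1) (6 * (Nat.card K + 1)) 3 ∧
      ∀ a w, Θ (a, w) ∈ normalizer (zpowers (Θ (1, x)) : Set G) ↔ w ∈ Db g := by
  have := R.finite
  obtain ⟨t, e, -, -, e2, -, -, eG⟩ := R.arith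
  obtain ⟨c1, -, c2, c⟩ := cop t
  obtain ⟨c3, -, c4⟩ := c _ (.tail _ (.head _))
  have hs := SS_of_trace_zero R.two_ne hg
  have hT : Nat.card (Tb g) = 2 * (6 * t + 1) := by rw [card_Tb_aniso (aniso_of_trace_zero hg R.card_mod), dd_odd R.two_ne]; omega
  obtain ⟨x, hx, ox⟩ := exists_orderOf_of_dvd hs (hT ▸ dvd_mul_left (6 * t + 1) 2)
  have inj : Function.Injective (Θ.comp (MonoidHom.inr _ _)) := h.inj.comp (Prod.mk_right_injective 1)
  have oj : orderOf j = 2 := orderOf_eq_prime (by simp [sq, ← h.eq, ← map_mul, ← Prod.one_eq_mk]) (by simp [← h.eq, h.eq_one])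
  have hA : Nat.card (zpowers (Θ (1, x))) = 6 * t + 1 := by rw [Nat.card_zpowers, ← ox]; exact orderOf_injective _ inj x
  have mT : ∀ a w, Θ (a, w) ∈ ((⊤ : Subgroup Z2).prod (Tb g)).map Θ ↔ w ∈ Tb g := fun a w => by
    rw [mem_map_iff_mem h.inj]; simp [mem_prod]
  have lT : ((⊤ : Subgroup Z2).prod (Tb g)).map Θ ≤ centralizer {j} := (map_le_range ..).trans h.range.le
  obtain ⟨h1, h2⟩ := Tor.mk' (A := zpowers (Θ (1, x))) (T := ((⊤ : Subgroup Z2).prod (Tb g)).map Θ) inferInstance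
    (m := (24 * t + 3) ^ 3 * 2 ^ 3 * (12 * t + 1) * (576 * t ^ 2 + 120 * t + 7)) (by rw [hA, eG]; ring)
    (hA ▸ (((c4.pow_right _).mul_right (c3.pow_right _)).mul_right c1.symm).mul_right c2) (by omega) fun y hy y1 => by
      have o := hA ▸ Subgroup.orderOf_dvd_natCard _ hy
      obtain ⟨i, rfl⟩ := mem_zpowers_iff.1 hy
      rw [← map_zpow, Prod.pow_mk, one_zpow] at o y1 ⊢
      have := C_eq_Tb hs (zpow_mem hx i) fun e => y1 (orderOf_eq_one_iff.1 (Nat.eq_one_of_dvd_coprimes c3 o (orderOf_dvd_of_pow_eq_one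
        (by simp [sq, ← map_mul, e, ← Prod.one_eq_mk]))))
      refine le_antisymm (fun z hz => ?_) ?_
      · obtain ⟨a, w, rfl⟩ := h.ex (R.cent_le hq oj y1 (e2 ▸ o) (h.comm _) (mem_centralizer_singleton_iff.1 hz))
        exact (mT ..).2 (this.le (mem_C_iff.2 (h.comm_iff.1 (mem_centralizer_singleton_iff.1 hz))))
      · rintro _ ⟨⟨a, w⟩, hw, rfl⟩
        exact mem_centralizer_singleton_iff.2 (h.comm_iff.2 (mem_C_iff.1 (this.ge hw.2)))
  have hN : ∀ a w, Θ (a, w) ∈ normalizer (zpowers (Θ (1, x)) : Set G) ↔ w ∈ Db g := fun a w => by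
    rw [← normalizer_eq_Db hs (zpowers_le.2 hx) (by rw [Ne, zpowers_eq_bot, ← orderOf_eq_one_iff]; omega), mem_normalizer_iff_conj_eq,
      mem_normalizer_iff_conj_eq, conj_zpowers, conj_zpowers, ← map_inv, ← map_mul, ← map_mul, ← (map_injective inj).eq_iff,
      MonoidHom.map_zpowers, MonoidHom.map_zpowers]
    simp
  have h3 : Nat.card {z : centralizer (zpowers (Θ (1, x)) : Set G) // orderOf z = 2} = 3 := by
    have ot : orderOf (pr K g) = 2 := orderOf_eq_prime (by rw [sq, pr_mul_self_of_trace hg]) (pr_ne_one_iff.2 hs.ns)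
    rw [h2, ← Set.ncard_eq_three.2 ⟨j, Θ (1, pr K g), j * Θ (1, pr K g), by simp [← h.eq, h.eq_iff], by
      simpa [h.eq_one] using CA.H13Inv.ne_one ot, by simp [← h.eq, h.eq_one], rfl⟩]
    refine Nat.card_congr (Equiv.ofBijective (fun z => ⟨z.1.1, ?_⟩) ⟨fun a b e => Subtype.ext (Subtype.ext (Subtype.mk.inj e)), ?_⟩)
    · obtain ⟨⟨_, ⟨a, w⟩, hw, rfl⟩, e⟩ := z
      exact inv_cases h hs (self_mem_Tb g) ot hw.2 ((orderOf_coe _).trans e)
    · rintro ⟨_, rfl | rfl | rfl⟩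
      · exact ⟨⟨⟨_, h.eq ▸ (mT ..).2 (one_mem _)⟩, (orderOf_coe _).symm.trans oj⟩, rfl⟩
      · exact ⟨⟨⟨_, (mT ..).2 (self_mem_Tb g)⟩, (orderOf_coe _).symm.trans ((orderOf_injective _ inj _).trans ot)⟩, rfl⟩
      · refine ⟨⟨⟨_, mul_mem (h.eq ▸ (mT ..).2 (one_mem _)) ((mT ..).2 (self_mem_Tb g))⟩, (orderOf_coe _).symm.trans (orderOf_eq_prime ?_ ?_)⟩, rfl⟩ <;>
          simp [sq, ← h.eq, ← map_mul Θ, h.eq_one, show (g : PSL(2, K)) * g = 1 from pr_mul_self_of_trace hg]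
  refine ⟨x, hx, ⟨h1, e2 ▸ hA, by omega, e2 ▸ ⟨3 * t, by ring⟩, by rw [h2, h.card_eq lT mT]; omega, ?_, h2 ▸ CA.PGBasic.isMulCommutative_iff.2 ?_,
    h2 ▸ ?_, h3⟩, hN⟩
  · obtain ⟨p, hp, hd⟩ := Nat.exists_prime_and_dvd (show 6 * t + 1 ≠ 1 by omega)
    have := Fact.mk hp
    obtain ⟨P, hP, P1⟩ := h1.exists_sylow (hA ▸ hd)
    have hC := h1.cent_sub hP P1
    rw [← h1.normalizer_eq hP P1]
    refine (card_normalizer_sylow P (a := j) (hC.ge (h2.ge (h.eq ▸ (mT ..).2 (one_mem _))))).trans ?_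
    rw [h.card_eq (W := normalizer (P : Set G) ⊓ _) (Y := Db g) inf_le_right fun a w => ⟨fun e => (hN ..).1 ((h1.normalizer_eq hP P1).le e.1), fun e =>
      ⟨(h1.normalizer_eq hP P1).ge ((hN ..).2 e), mem_centralizer_singleton_iff.2 (h.comm _)⟩⟩, card_Db hs, hT,
      show centralizer (P : Set G) = _ from hC, Nat.card_congr (Equiv.subtypeEquivRight (q := (orderOf · = 2)) fun z =>
      ⟨fun e => (orderOf_coe _).symm.trans (by obtain ⟨c, e⟩ := isConj_iff.1 e; rw [← e, HallTorus.orderOf_conj, oj]), fun e =>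
        have e := (orderOf_coe _).trans e
        (R.isConj_J hq (CA.H13Inv.ne_one oj) (CA.H13Inv.mul_self oj)).symm.trans (R.isConj_J hq (CA.H13Inv.ne_one e) (CA.H13Inv.mul_self e))⟩), h3]
    omega
  · rintro _ ⟨⟨a, w⟩, hw, rfl⟩ _ ⟨⟨b, v⟩, hv, rfl⟩
    exact h.comm_iff.2 (Tb_comm hs.ns hw.2 hv.2)
  · rintro _ ⟨⟨a, w⟩, hw, rfl⟩
    rw [e2, orderOf_dvd_iff_pow_eq_one, ← map_pow, h.eq_one, Prod.pow_mk, pow_mul, sq, Z2_sq, one_pow, ← hT,
      orderOf_dvd_iff_pow_eq_one.1 (Subgroup.orderOf_dvd_natCard _ hw.2), Prod.one_eq_mk]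

theorem tor_two (hq : 3 < Nat.card K) : ∃ A : Subgroup G, TorD A ((Nat.card K + 1) / 4) (Nat.card K + 1) (6 * (Nat.card K + 1)) 3 :=
  let ⟨_, h, _⟩ := R.exists_invC_J
  let ⟨_, _, h, _⟩ := R.tor_two' hq h trace_w0
  ⟨_, h⟩

theorem card_ord_two (hq : 3 < Nat.card K) : Nat.card {x : G // orderOf x = 2} = Nat.card K ^ 2 * (Nat.card K ^ 2 - Nat.card K + 1) := by
  rw [← R.index_cent, ← CA.H13Count.card_isConj]
  exact Nat.card_congr (Equiv.subtypeEquivRight fun z => ⟨fun e => R.isConj_J hq (CA.H13Inv.ne_one e) (CA.H13Inv.mul_self e), fun e => by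
    obtain ⟨c, rfl⟩ := isConj_iff.1 e; rw [HallTorus.orderOf_conj, orderOf_J]⟩)

theorem card_ord_U {i : ℕ} (h1 : i ≠ 1) (hi : i ∣ 3 ^ 2) :
    Nat.card {x : G // orderOf x = i} = (Nat.card K ^ 3 + 1) * Nat.card {u : R.U // orderOf u = i} := by
  have := R.finite
  have h := card_pred (T := R.U) (P := (orderOf · = i)) (fun x g e => (HallTorus.orderOf_conj g x).trans e) (fun x e => R.exists_conj_U (e ▸ hi))
    fun y hy e g => R.ti_U g y hy (by rintro rfl; simp at e; omega)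
  rw [normalizer_U, R.card_G, ← R.card_B] at h
  refine Nat.eq_of_mul_eq_mul_right (Nat.card_pos (α := R.B)) (h.trans ?_)
  simp only [orderOf_coe]; ring

theorem card_nine : Nat.card {u : R.U // orderOf u = 9} = Nat.card K ^ 2 * (Nat.card K - 1) := by
  classical
  have := Fintype.ofFinite K
  rw [← Nat.card_congr (Equiv.ofBijective (fun p : (K × K) × {t : K // t ≠ 0} => (⟨⟨_, R.X_mem p.2 p.1.1 p.1.2⟩, by
      simpa [← orderOf_coe, orderOf_X_nine] using p.2.2⟩ : {u : R.U // orderOf u = 9}))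
    ⟨fun a b e => by simpa [X_eq_iff, Prod.ext_iff, Subtype.ext_iff, and_comm] using e, fun ⟨⟨_, t, u, v, rfl⟩, e⟩ =>
      ⟨((u, v), ⟨t, R.orderOf_X_nine.1 ((orderOf_coe _).trans e)⟩), rfl⟩⟩)]
  simp [sq]

theorem card_PSL_three : Nat.card {w : PSL(2, K) // orderOf w = 3} = Nat.card K ^ 2 - 1 := by
  have := R.charP
  have : Fact (Nat.Prime 3) := ⟨Nat.prime_three⟩
  have h := card_pred (T := Ub K) (P := (orderOf · = 3)) (fun x g e => (HallTorus.orderOf_conj g x).trans e) (fun x e => by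
      obtain ⟨y, b, -, e⟩ := exists_conj_u_of_cast (x := x) (by rintro rfl; simp at e) (by rw [e]; simpa using R.three)
      exact ⟨y, mem_Ub.2 ⟨b, e.symm⟩⟩)
    fun y hy e g hg => by
      obtain ⟨b, rfl⟩ := mem_Ub.1 hy
      exact normalizer_Ub.ge (mem_Bb_of_conj (by rintro rfl; simp at e) (Ub_le_Bb hg))
  have h1 : Nat.card {y : Ub K // orderOf (y : PSL(2, K)) = 3} = Nat.card K - 1 := by
    classical
    have := Fintype.ofFinite (Ub K)
    rw [← card_Ub (F := K), Nat.card_congr (Equiv.subtypeEquivRight (q := (· ≠ 1)) fun ⟨y, hy⟩ => ⟨by rintro e ⟨⟩; simp at e, fun e => by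
      obtain ⟨b, rfl⟩ := mem_Ub.1 hy
      exact orderOf_pr_u 3 (by rintro rfl; exact e (Subtype.ext (by simp)))⟩)]
    simp
  have h2 := card_Bb (F := K)
  have h3 := card_PSL (F := K)
  rw [normalizer_Ub, h1] at h
  obtain ⟨t, e, e0, -⟩ := R.arith
  refine Nat.eq_of_mul_eq_mul_right (show 0 < Nat.card K * (Nat.card K - 1) by rw [e0, e]; positivity) ?_
  calc _ = dd K * (Nat.card {w : PSL(2, K) // orderOf w = 3} * Nat.card (Bb K)) := by rw [← h2]; ring
    _ = _ := by rw [h, ← mul_assoc, h3]; ring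

theorem card_ord_six (hq : 3 < Nat.card K) :
    Nat.card {x : G // orderOf x = 6} = Nat.card K ^ 2 * (Nat.card K ^ 2 - Nat.card K + 1) * (Nat.card K ^ 2 - 1) := by
  have := R.finite
  rw [← R.card_ord_two hq, ← R.card_PSL_three]
  refine card_order_mul (a := 2) (b := 3) (by norm_num) (fun j e => ?_) two_ne_zero three_ne_zero
  obtain ⟨Θ, h⟩ := R.exists_invC hq (CA.H13Inv.ne_one e) (CA.H13Inv.mul_self e)
  have inj : Function.Injective (Θ.comp (MonoidHom.inr _ _)) := h.inj.comp (Prod.mk_right_injective 1)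
  refine (Nat.card_congr (Equiv.ofBijective (fun w => ⟨⟨Θ (1, w.1), mem_centralizer_singleton_iff.2 (h.comm _)⟩,
    (orderOf_coe _).symm.trans ((orderOf_injective _ inj _).trans w.2)⟩) ⟨fun a b e => Subtype.ext (inj (congrArg (·.1.1) e)), fun ⟨⟨z, hz⟩, e⟩ => ?_⟩)).symm
  obtain ⟨a, w, rfl⟩ := h.ex (mem_centralizer_singleton_iff.1 hz)
  have e' := (orderOf_coe _).trans e
  obtain rfl : a = 1 := by
    simpa [pow_three] using congrArg Prod.fst (h.eq_one.1 ((map_pow Θ (a, w) 3).trans (e' ▸ pow_orderOf_eq_one _)))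
  exact ⟨⟨w, (orderOf_injective _ inj _).symm.trans e'⟩, rfl⟩

end CA.Ree
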