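/-
The small Ree groups: the tori of orders `q ± √(3q) + 1`, element orders, solvable subgroups.
-/
import Cfsg.Agent.Lib.Lie.ReeTori
import Cfsg.Agent.Lib.Grp.Fitting

set_option autoImplicit false

namespace CA.Ree

open MulAction Subgroup CA.SplitOne CA.TorusCount CA.HallTorus CA.SL2Unip CA.PSL2Struct CA.PSL2Four CA.SylIn
open CA.SL2Torus hiding D
open scoped MatrixGroups

theorem arith_two {q k1 k2 n1 n2 : ℚ} (hq : 27 ≤ q) (h1 : 5 ≤ k1) (h2 : 5 ≤ k2) (hk : k1 * k2 = q ^ 2 - q + 1)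
    (hn1 : n1 = 1 ∨ n1 = 2 ∨ n1 = 3 ∨ n1 = 6) (hn2 : n2 = 1 ∨ n2 = 2 ∨ n2 = 3 ∨ n2 = 6)
    (h : (k1 - 1) / (k1 * n1) + (k2 - 1) / (k2 * n2) = q * (q - 2) / (3 * (q ^ 2 - q + 1))) :
    n1 = 6 ∧ n2 = 6 ∧ k1 + k2 = 2 * q + 2 := by
  rw [← hk] at h
  have e1 : 25 ≤ k1 * k2 := by nlinarith
  have e2 : 5 * k1 ≤ k1 * k2 := by nlinarith
  have e3 : 5 * k2 ≤ k1 * k2 := by nlinarith
  rcases hn1 with rfl | rfl | rfl | rfl <;> rcases hn2 with rfl | rfl | rfl | rfl <;> field_simp at h <;>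
    first | (exfalso; nlinarith) | (refine ⟨rfl, rfl, ?_⟩; nlinarith)

theorem arith_one {q n : ℚ} (hq : 27 ≤ q) (hn : n = 1 ∨ n = 2 ∨ n = 3 ∨ n = 6)
    (h : (q ^ 2 - q + 1 - 1) / ((q ^ 2 - q + 1) * n) = q * (q - 2) / (3 * (q ^ 2 - q + 1))) : False := by
  have : 0 < q ^ 2 - q + 1 := by nlinarith
  rw [div_eq_div_iff (by rcases hn with e | e | e | e <;> rw [e] <;> positivity) (by positivity)] at h
  have : 3 * (q - 1) = n * (q - 2) := mul_left_cancel₀ (show q * (q ^ 2 - q + 1) ≠ 0 by positivity) (by linear_combination h)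
  rcases hn with rfl | rfl | rfl | rfl <;> linarith

theorem arith_roots {q r k1 k2 : ℕ} (hr : r ^ 2 = 3 * q) (hq : r ≤ q) (h1 : k1 * k2 = q ^ 2 - q + 1) (h2 : k1 + k2 = 2 * q + 2) :
    (k1 = q - r + 1 ∧ k2 = q + r + 1) ∨ (k2 = q - r + 1 ∧ k1 = q + r + 1) := by
  have h0 : q ≤ q ^ 2 := by nlinarith
  zify [h0, hq] at *
  have : ((k1 : ℤ) - (q - r + 1)) * (k1 - (q + r + 1)) = 0 := by linear_combination k1 * h2 - h1 - hr
  rcases mul_eq_zero.1 this with h | h
  · left; constructor <;> linarith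
  · right; constructor <;> linarith

variable {K G : Type*} [Field K] [Group G] (R : Ree K G) [Finite K] (hq : 3 < Nat.card K)
include R hq

theorem order_cases (x : G) (h1 : (orderOf x).Coprime ((Nat.card K - 1) / 2)) (h2 : (orderOf x).Coprime ((Nat.card K + 1) / 4))
    (h3 : (orderOf x).Coprime (Nat.card K ^ 2 - Nat.card K + 1)) : orderOf x ∣ 6 ∨ orderOf x ∣ 9 := by
  have := R.finite
  rcases Nat.even_or_odd (orderOf x) with h | h
  · have o := CA.H13Inv.orderOf_pow_half h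
    obtain ⟨Θ, hΘ⟩ := R.exists_invC hq (CA.H13Inv.ne_one o) (CA.H13Inv.mul_self o)
    obtain ⟨a, w, rfl⟩ := hΘ.ex (x := x) (Commute.self_pow ..)
    have e : orderOf w ∣ orderOf (Θ (a, w)) := (orderOf_injective Θ hΘ.inj _).symm ▸ orderOf_snd_dvd_orderOf
    have : orderOf w ∣ 6 := by
      have := R.charP
      have : Fact (Nat.Prime 3) := ⟨Nat.prime_three⟩
      by_cases hw : (orderOf w : K) = 0
      · rw [orderOf_eq_char 3 hw]; norm_num
      rcases dd_odd R.two_ne ▸ orderOf_dvd_of_cast hw with h | h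
      · rw [Nat.eq_one_of_dvd_coprimes h1 e h]; norm_num
      · rw [show (Nat.card K + 1) / 2 = 2 * ((Nat.card K + 1) / 4) by have := R.card_mod; omega] at h
        exact ((h2.coprime_dvd_left e).dvd_of_dvd_mul_right h).trans (by norm_num)
    refine Or.inl (orderOf_dvd_of_pow_eq_one ?_)
    rw [← map_pow, hΘ.eq_one, Prod.pow_mk, orderOf_dvd_iff_pow_eq_one.1 this, show 6 = 2 * 3 from rfl, pow_mul, sq, Z2_sq, one_pow, Prod.one_eq_mk]
  · obtain ⟨t, e, -, e1, e2, e3, -, eG⟩ := R.arith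
    obtain ⟨m, e4⟩ := R.exists_card
    have := _root_.orderOf_dvd_natCard x
    rw [eG, ← e1, ← e2, ← e3, ← e, e4, ← pow_mul, ← e4] at this
    obtain ⟨g, t, u, v, hg⟩ := R.exists_conj_U (((Nat.coprime_two_right.2 h).pow_right 3).dvd_of_dvd_mul_right
      (h1.dvd_of_dvd_mul_right (h2.dvd_of_dvd_mul_right (h3.dvd_of_dvd_mul_right this))))
    exact Or.inr (HallTorus.orderOf_conj g x ▸ hg ▸ orderOf_dvd_of_pow_eq_one (R.X_nine ..))

theorem cent_coprime {z : G} (hp : (orderOf z).Prime) (h : ¬ orderOf z ∣ Nat.card K ^ 2 - Nat.card K + 1) :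
    (Nat.card (centralizer {z})).Coprime (Nat.card K ^ 2 - Nat.card K + 1) := by
  have := R.finite
  obtain ⟨t, e, e0, e1, e2, e3, e4, eG⟩ := R.arith
  obtain ⟨-, c1, c2, c⟩ := cop t
  obtain ⟨c3, -, c4⟩ := c _ (.tail _ (.tail _ (.head _)))
  have z1 : z ≠ 1 := fun e => hp.ne_one (by simp [e])
  have c5 : (Nat.card K - 1).Coprime (Nat.card K ^ 2 - Nat.card K + 1) := by
    rw [e3, e0, show 24 * t + 2 = 2 * (12 * t + 1) by ring]; exact c3.symm.mul_left c1
  have c6 : (Nat.card K + 1).Coprime (Nat.card K ^ 2 - Nat.card K + 1) := by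
    rw [e3, e, show 24 * t + 3 + 1 = 2 ^ 2 * (6 * t + 1) by ring]; exact (c3.symm.pow_left _).mul_left c2
  have c7 : (Nat.card K).Coprime (Nat.card K ^ 2 - Nat.card K + 1) := by rw [e3, e]; exact c4.symm
  by_cases h1 : orderOf z ∣ (Nat.card K - 1) / 2
  · obtain ⟨A, hA, -⟩ := R.tor_one hq
    rwa [hA.card_cent z1 h1]
  by_cases h2 : orderOf z ∣ (Nat.card K + 1) / 4
  · obtain ⟨A, hA⟩ := R.tor_two hq
    rwa [hA.card_cent z1 h2]
  have : orderOf z = 2 ∨ orderOf z = 3 := by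
    rcases R.order_cases hq z (hp.coprime_iff_not_dvd.2 h1) (hp.coprime_iff_not_dvd.2 h2) (hp.coprime_iff_not_dvd.2 h) with h | h
    · exact (hp.dvd_mul.1 (show _ ∣ 2 * 3 from h)).imp (Nat.prime_dvd_prime_iff_eq hp Nat.prime_two).1 (Nat.prime_dvd_prime_iff_eq hp Nat.prime_three).1
    · exact Or.inr ((Nat.prime_dvd_prime_iff_eq hp Nat.prime_three).1 (hp.dvd_of_dvd_pow (show _ ∣ 3 ^ 2 from h)))
  rcases this with h | h
  · obtain ⟨Θ, hΘ⟩ := R.exists_invC hq z1 (CA.H13Inv.mul_self h)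
    rw [hΘ.card_cent R.two_ne, CA.SLnCard.sq_sub_one]
    exact c7.mul_left (by first | exact c5.mul_left c6 | exact c6.mul_left c5)
  · exact ((c7.pow_left 3).mul_left c5).coprime_dvd_left (R.card_cent_three h)

theorem card_cent_dvd {x : G} (h : ¬ (orderOf x).Coprime (Nat.card K ^ 2 - Nat.card K + 1)) :
    Nat.card (centralizer {x}) ∣ Nat.card K ^ 2 - Nat.card K + 1 := by
  have := R.finite
  obtain ⟨t, e, e0, e1, e2, e3, e4, eG⟩ := R.arith
  obtain ⟨-, c1, c2, c⟩ := cop t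
  obtain ⟨c3, -, c4⟩ := c _ (.tail _ (.tail _ (.head _)))
  refine e3 ▸ Nat.Coprime.dvd_of_dvd_mul_left (by_contra fun h' => ?_) (eG ▸ card_subgroup_dvd_card _)
  obtain ⟨p, hp, h1, h2⟩ := Nat.Prime.not_coprime_iff_dvd.1 h'
  have := Fact.mk hp
  obtain ⟨⟨z, hz⟩, e5⟩ := exists_prime_orderOf_dvd_card' p h1
  rw [orderOf_mk] at e5
  refine h ((R.cent_coprime hq (e5 ▸ hp) fun h => hp.ne_one (Nat.eq_one_of_dvd_coprimes ?_ h2 (e5 ▸ e3 ▸ h))).coprime_dvd_left
    (Subgroup.orderOf_dvd_natCard _ (mem_centralizer_singleton_iff.2 (mem_centralizer_singleton_iff.1 hz).symm)))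
  exact (((c4.symm.pow_left 3).mul_left (c3.symm.pow_left 3)).mul_left c1).mul_left c2

theorem injective_ρ : Function.Injective R.ρ := by
  have := R.simple hq
  rcases R.ρ.normal_ker.eq_bot_or_eq_top with h | h
  exacts [(MonoidHom.ker_eq_bot_iff _).1 h, absurd (h.ge (mem_top _)) R.ρ_ne]

theorem singer {x : G} (hp : (orderOf x).Prime) (h : orderOf x ∣ Nat.card K ^ 2 - Nat.card K + 1) :
    IsCyclic (centralizer {x}) ∧ (centralizer {x}).relIndex (normalizer (zpowers x : Set G)) ∣ 6 := by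
  have := R.finite
  have := R.charP
  obtain ⟨t, e, e0, e1, e2, e3, e4, eG⟩ := R.arith
  obtain ⟨-, c1, c2, c⟩ := cop t
  obtain ⟨c3, c5, c4⟩ := c _ (.tail _ (.tail _ (.head _)))
  have n : ∀ k, (576 * t ^ 2 + 120 * t + 7).Coprime k → ¬ orderOf x ∣ k := fun k hk e => hp.ne_one (Nat.eq_one_of_dvd_coprimes hk (e3 ▸ h) e)
  refine singer_succ R.ρ (R.injective_ρ hq) hp (fun e => n 3 c5 ?_) (Module.finrank_fin_fun K) (fun k k0 k7 hk => ?_) fun g hg h1 => ?_
  · rw [← (Nat.prime_dvd_prime_iff_eq Nat.prime_three hp).1 ((CharP.cast_eq_zero_iff K 3 _).1 e)]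
  · have h6 := n 6 (c3.mul_right c5)
    rw [← ZMod.natCast_eq_zero_iff] at h h6
    rw [← ZMod.natCast_eq_natCast_iff] at hk
    have := Fact.mk hp
    push_cast [show Nat.card K ≤ Nat.card K ^ 2 by nlinarith] at h hk h6
    generalize (Nat.card K : ZMod (orderOf x)) = q at h hk
    by_contra
    interval_cases k <;> grind
  · rw [e0, show 24 * t + 2 = 2 * (12 * t + 1) by ring] at h1
    exact orderOf_eq_one_iff.1 (Nat.eq_one_of_dvd_coprimes (c3.mul_right c1.symm) ((Subgroup.orderOf_dvd_natCard _ hg).trans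
      (e3 ▸ R.card_cent_dvd hq (hp.dvd_iff_not_coprime.1 h))) (orderOf_dvd_of_pow_eq_one h1))

theorem card_big : Nat.card {x : G // ¬ (orderOf x).Coprime (Nat.card K ^ 2 - Nat.card K + 1)} * 3 =
    Nat.card K ^ 4 * (Nat.card K ^ 2 - 1) * (Nat.card K - 2) := by
  have := R.finite
  obtain ⟨A, hA, -⟩ := R.tor_one hq
  obtain ⟨B, hB⟩ := R.tor_two hq
  have h1 := hA.card_big
  have h2 := hB.card_big
  have h3 := R.card_ord_two hq
  have h4 := R.card_three ▸ R.card_ord_U (i := 3) (by omega) (by norm_num)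
  have h5 := R.card_ord_six hq
  have h6 := R.card_nine ▸ R.card_ord_U (i := 9) (by omega) (by norm_num)
  have h7 := R.order_cases hq
  obtain ⟨t, e, e0, e1, e2, e3, e4, eG⟩ := R.arith
  obtain ⟨c0, c1, c2, c⟩ := cop t
  simp only [e1, e2, e3] at hA hB h1 h2 h3 h5 h7 ⊢
  have c6 : ∀ k ∈ [12 * t + 1, 6 * t + 1, 576 * t ^ 2 + 120 * t + 7], ∀ x : G,
      orderOf x = 1 ∨ orderOf x = 2 ∨ orderOf x = 3 ∨ orderOf x = 6 ∨ orderOf x = 9 → (orderOf x).Coprime k := fun k hk x h =>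
    ((c k hk).1.mul_right ((c k hk).2.1.pow_right 2)).symm.coprime_dvd_left (by rcases h with h | h | h | h | h <;> simp [h])
  have h : Nat.card G = Nat.card {x : G // ¬ (orderOf x).Coprime (576 * t ^ 2 + 120 * t + 7) ∨ ¬ (orderOf x).Coprime (12 * t + 1) ∨
      ¬ (orderOf x).Coprime (6 * t + 1) ∨ orderOf x = 1 ∨ orderOf x = 2 ∨ orderOf x = 3 ∨ orderOf x = 6 ∨ orderOf x = 9} :=
    (Nat.card_congr (Equiv.subtypeUnivEquiv fun x => by
      simp only [← imp_iff_not_or]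
      intro a b c
      rcases h7 x b c a with h | h <;> have := Nat.le_of_dvd (by omega) h <;> interval_cases orderOf x <;> simp_all)).symm
  rw [card_or, card_or, card_or, card_or, card_or, card_or, card_or, h3, h4, h5, h6] at h
  rotate_left
  any_goals omega
  · exact fun x h h' => h (c6 _ (by simp) x h')
  · exact fun x h h' => h'.elim (fun h' => h' ((c0.mul_left (c _ (by simp)).1.symm).coprime_dvd_left (mul_comm 2 _ ▸ (hA.dvd h).1)))
      fun h' => h (c6 _ (by simp) x h')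
  · have k := (c _ (.tail _ (.tail _ (.head _)))).1.symm
    exact fun x h h' => h'.elim (fun h' => h ((k.mul_left c1).coprime_dvd_left (hA.dvd h').1)) fun h' => h'.elim
      (fun h' => h ((k.mul_left c2).coprime_dvd_left (hB.dvd h').1)) fun h' => h (c6 _ (by simp) x h')
  simp only [orderOf_eq_one_iff, Nat.card_unique, e4, e0] at h h1
  rw [e4, show Nat.card K - 2 = 24 * t + 1 by omega]
  simp only [eG, e] at h h1 h2 ⊢
  have h8 : Nat.card {x : G // ¬ (orderOf x).Coprime (12 * t + 1)} = 12 * t * (24 * t + 3) ^ 3 * 4 * (6 * t + 1) * (576 * t ^ 2 + 120 * t + 7) :=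
    Nat.eq_of_mul_eq_mul_right (show 0 < 2 * (24 * t + 2) by omega) (by zify at h1 ⊢; linear_combination h1)
  have h9 : Nat.card {x : G // ¬ (orderOf x).Coprime (6 * t + 1)} = 8 * t * (24 * t + 3) ^ 3 * (12 * t + 1) * (576 * t ^ 2 + 120 * t + 7) :=
    Nat.eq_of_mul_eq_mul_right (show 0 < 6 * (24 * t + 3 + 1) by omega) (by zify at h2 ⊢; linear_combination h2)
  rw [h8, h9] at h
  zify at h ⊢
  linear_combination -3 * h

theorem tor_three {r : ℕ} (hr : r ^ 2 = 3 * Nat.card K) : ∃ A B : Subgroup G,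
    TorD A (Nat.card K - r + 1) (Nat.card K - r + 1) (6 * (Nat.card K - r + 1)) 0 ∧
    TorD B (Nat.card K + r + 1) (Nat.card K + r + 1) (6 * (Nat.card K + r + 1)) 0 := by
  classical
  have := R.finite
  set Φ := Nat.card K ^ 2 - Nat.card K + 1 with hΦ
  let E : Set G := {x | ¬ (orderOf x).Coprime Φ}
  have E1 : (1 : G) ∉ E := by simp [E]
  have E2 : ∀ x ∈ E, ∀ y ∈ centralizer {x}, y ≠ 1 → y ∈ E := fun x hx y hy y1 h => y1 (orderOf_eq_one_iff.1
    (Nat.eq_one_of_dvd_coprimes h dvd_rfl ((Subgroup.orderOf_dvd_natCard _ hy).trans (R.card_cent_dvd hq hx))))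
  have cyc : ∀ x ∈ E, IsCyclic (centralizer {x}) := fun x hx => by
    obtain ⟨k, h1, h2⟩ := Tor.exists_pow hx
    have := (R.singer hq h1 h2).1
    exact isCyclic_of_le (H' := centralizer {x ^ k}) fun g hg => mem_centralizer_singleton_iff.2
      (Commute.pow_right (mem_centralizer_singleton_iff.1 hg) k)
  have cc : ∀ x ∈ E, CC (centralizer {x}) := fun x hx => cc_of_comm (fun x hx => have := cyc x hx; inferInstance) E2 hx
  obtain ⟨S, h1, h2, h3, h4⟩ := exists_reps E1 (fun x hx g => by simpa [E, HallTorus.orderOf_conj] using hx) cc E2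
  have hcc : ∀ T ∈ S, CC T := fun T hT => by obtain ⟨x, hx, rfl⟩ := h1 T hT; exact cc x hx
  have hd : ∀ T ∈ S, Nat.card T ∣ Φ := fun T hT => by obtain ⟨x, hx, rfl⟩ := h1 T hT; exact R.card_cent_dvd hq hx
  have hprod : ∏ T ∈ S, Nat.card T = Φ := Nat.dvd_antisymm
    (Finset.prod_dvd_of_isRelPrime (fun T hT T' hT' hne => Nat.coprime_iff_isRelPrime.1 (h2 T hT T' hT' hne)) hd)
    (dvd_prod_of_cover (R.card_G' ▸ (dvd_mul_left ..).mul_left _) S hcc fun x hx hd => h3 x (hx.dvd_iff_not_coprime.1 hd))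
  obtain ⟨t, e, e0, -, -, e3, e4, eG⟩ := R.arith
  obtain ⟨c3, c4, -⟩ := (cop t).2.2.2 _ (.tail _ (.tail _ (.head _)))
  rw [← e3, ← hΦ] at c3 c4
  have h5 : ∀ T ∈ S, 5 ≤ Nat.card T := fun T hT => by
    have a := c3.coprime_dvd_left (hd T hT)
    have b := c4.coprime_dvd_left (hd T hT)
    obtain ⟨x, hx, rfl⟩ := h1 T hT
    have : Nat.card (centralizer {x}) ≠ 1 := fun e => E1 (mem_bot.1 ((card_eq_one.1 e).le (mem_centralizer_singleton_iff.2 rfl)) ▸ hx)
    by_contra h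
    interval_cases Nat.card (centralizer {x}) <;> simp_all; contradiction
  have hn : ∀ T ∈ S, ((T.relIndex (normalizer (T : Set G)) : ℕ) : ℚ) = 1 ∨ ((T.relIndex (normalizer (T : Set G)) : ℕ) : ℚ) = 2 ∨
      ((T.relIndex (normalizer (T : Set G)) : ℕ) : ℚ) = 3 ∨ ((T.relIndex (normalizer (T : Set G)) : ℕ) : ℚ) = 6 := fun T hT => by
    obtain ⟨x, hx, rfl⟩ := h1 T hT
    obtain ⟨k, h1, h2⟩ := Tor.exists_pow hx
    have h3 : zpowers (x ^ k) ≤ centralizer {x} := zpowers_le.2 (pow_mem (mem_centralizer_singleton_iff.2 rfl) k)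
    have h4 : x ^ k ≠ 1 := fun e => h1.ne_one (by simp [e])
    have := (R.singer hq h1 h2).2
    rw [(cc x hx).normalizer_eq (cyc x hx) h3 (by simpa using h4), cc x hx _ (h3 (mem_zpowers _)) h4] at this
    have := Nat.le_of_dvd (by omega) this
    interval_cases (centralizer {x}).relIndex (normalizer (centralizer {x} : Set G)) <;> simp_all
  have hq' : (27 : ℚ) ≤ Nat.card K := by exact_mod_cast (by omega : 27 ≤ Nat.card K)
  have hΦ' : (Φ : ℚ) = (Nat.card K : ℚ) ^ 2 - Nat.card K + 1 := by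
    rw [hΦ]; push_cast [show Nat.card K ≤ Nat.card K ^ 2 by nlinarith]; rfl
  have hsum : ∑ T ∈ S, ((Nat.card T : ℚ) - 1) / (Nat.card T * (T.relIndex (normalizer (T : Set G)) : ℕ)) =
      Nat.card K * (Nat.card K - 2) / (3 * ((Nat.card K : ℚ) ^ 2 - Nat.card K + 1)) := by
    have hG : (Nat.card G : ℚ) ≠ 0 := by exact_mod_cast Nat.card_pos.ne'
    have h6 : ∀ T ∈ S, ((Nat.card T : ℚ) - 1) / (Nat.card T * (T.relIndex (normalizer (T : Set G)) : ℕ)) =
        (Cls T).ncard / Nat.card G := fun T hT => by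
      have h7 := card_cls (hcc T hT).ti
      rw [← CA.PGBasic.card_mul_relIndex (le_normalizer (H := T))] at h7
      have h8 := h5 T hT
      rw [div_eq_div_iff _ hG]
      · zify [show 1 ≤ Nat.card T by omega] at h7
        qify at h7
        linear_combination -h7
      · rcases hn T hT with e | e | e | e <;> rw [e] <;> positivity
    have h9 : E.ncard * 3 = _ := R.card_big hq
    rw [Finset.sum_congr rfl h6, ← Finset.sum_div, ← Nat.cast_sum, ← h4, div_eq_div_iff hG (by nlinarith), R.card_G', ← hΦ]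
    qify at h9
    push_cast [show 2 ≤ Nat.card K by omega, hΦ'] at h9 ⊢
    linear_combination ((Nat.card K : ℚ) ^ 2 - Nat.card K + 1) * h9
  have hcard : S.card < 3 := by
    have h6 : ∀ T ∈ S, (2 / 15 : ℚ) ≤ ((Nat.card T : ℚ) - 1) / (Nat.card T * (T.relIndex (normalizer (T : Set G)) : ℕ)) := fun T hT => by
      have h8 : (5 : ℚ) ≤ Nat.card T := by exact_mod_cast h5 T hT
      rcases hn T hT with e | e | e | e <;> rw [e, div_le_div_iff₀ (by positivity) (by positivity)] <;> linarith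
    have h7 := Finset.card_nsmul_le_sum S _ _ h6
    rw [hsum, nsmul_eq_mul, le_div_iff₀ (by nlinarith)] at h7
    by_contra h
    have : (3 : ℚ) ≤ S.card := by exact_mod_cast not_lt.1 h
    nlinarith
  have fin : ∀ T ∈ S, ((T.relIndex (normalizer (T : Set G)) : ℕ) : ℚ) = 6 → ∀ k, Nat.card T = k → TorD T k k (6 * k) 0 := by
    rintro T hT h _ rfl
    have h5 := h5 T hT
    have o := Nat.coprime_two_right.1 (c3.coprime_dvd_left (hd T hT))
    obtain ⟨x, hx, rfl⟩ := h1 T hT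
    have := cyc x hx
    obtain ⟨a, b⟩ := Tor.of_cc (cc x hx) this
    have b := b (by rintro e; simp [e] at h5)
    refine ⟨a, rfl, by omega, o, by rw [b], by rw [← CA.PGBasic.card_mul_relIndex le_normalizer, show relIndex _ _ = 6 by exact_mod_cast h, mul_comm],
      b.symm ▸ inferInstance, fun y hy => (Subgroup.orderOf_dvd_natCard _ (b.le hy)).mul_left 2, ?_⟩
    rw [b, Nat.card_eq_zero]
    exact Or.inl ⟨fun z => o.not_two_dvd_nat (z.2 ▸ _root_.orderOf_dvd_natCard z.1)⟩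
  rcases (show S.card = 0 ∨ S.card = 1 ∨ S.card = 2 by omega) with h | h | h
  · rw [Finset.card_eq_zero.1 h, Finset.prod_empty] at hprod
    omega
  · obtain ⟨T, rfl⟩ := Finset.card_eq_one.1 h
    rw [Finset.prod_singleton] at hprod
    rw [Finset.sum_singleton, hprod, hΦ'] at hsum
    exact (arith_one hq' (hn T (Finset.mem_singleton_self T)) hsum).elim
  obtain ⟨T, T', hne, rfl⟩ := Finset.card_eq_two.1 h
  rw [Finset.prod_pair hne] at hprod
  rw [Finset.sum_pair hne] at hsum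
  have hT : T ∈ ({T, T'} : Finset _) := by simp
  have hT' : T' ∈ ({T, T'} : Finset _) := by simp
  obtain ⟨e1, e2, e5⟩ := arith_two hq' (by exact_mod_cast h5 T hT) (by exact_mod_cast h5 T' hT')
    (by rw [← hΦ']; exact_mod_cast hprod) (hn T hT) (hn T' hT') hsum
  rcases arith_roots hr (by nlinarith) hprod (by exact_mod_cast e5) with ⟨f1, f2⟩ | ⟨f1, f2⟩
  exacts [⟨T, T', fin T hT e1 _ f1, fin T' hT' e2 _ f2⟩, ⟨T', T, fin T' hT' e2 _ f1, fin T hT e1 _ f2⟩]

omit R [Field K] [Finite K] in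
theorem phi_eq {r : ℕ} (hr : r ^ 2 = 3 * Nat.card K) :
    Nat.card K ^ 2 - Nat.card K + 1 = (Nat.card K - r + 1) * (Nat.card K + r + 1) := by
  zify [show r ≤ Nat.card K by nlinarith, show Nat.card K ≤ Nat.card K ^ 2 by nlinarith] at hr ⊢
  linear_combination hr

theorem order_cases' {r : ℕ} (hr : r ^ 2 = 3 * Nat.card K) (x : G) : orderOf x ∣ 6 ∨ orderOf x ∣ 9 ∨
    ∃ (A : Subgroup G) (k c n i : ℕ), TorD A k c n i ∧ ¬ (orderOf x).Coprime k ∧
      (k = (Nat.card K - 1) / 2 ∧ c = Nat.card K - 1 ∨ k = (Nat.card K + 1) / 4 ∨ k = Nat.card K - r + 1 ∧ c = k ∨ k = Nat.card K + r + 1 ∧ c = k) := by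
  obtain ⟨A, hA, -⟩ := R.tor_one hq
  obtain ⟨B, hB⟩ := R.tor_two hq
  obtain ⟨C, E, hC, hE⟩ := R.tor_three hq hr
  by_contra h
  push Not at h
  refine (R.order_cases hq x (by_contra fun e => (h.2.2 _ _ _ _ _ hA e).1 rfl rfl) (by_contra fun e => (h.2.2 _ _ _ _ _ hB e).2.1 rfl)
    (phi_eq hq hr ▸ Nat.Coprime.mul_right (by_contra fun e => (h.2.2 _ _ _ _ _ hC e).2.2.1 rfl rfl)
      (by_contra fun e => (h.2.2 _ _ _ _ _ hE e).2.2.2 rfl rfl))).elim h.1 h.2.1

theorem exists_tor {r : ℕ} (hr : r ^ 2 = 3 * Nat.card K) {p : ℕ} [hp : Fact p.Prime] (h3 : 3 < p) {P : Subgroup G} (hP : IsPGroup p P)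
    (h : P ≠ ⊥) : ∃ (A : Subgroup G) (k c n i : ℕ), TorD A k c n i ∧ P ≤ A ∧
      (k = (Nat.card K - 1) / 2 ∨ k = (Nat.card K + 1) / 4 ∨ k = Nat.card K - r + 1 ∨ k = Nat.card K + r + 1) := by
  have := R.finite
  obtain ⟨x, -, -, e⟩ := CA.PGBasic.exists_mem_center_orderOf hP (M := ⊤) fun e => h (by simpa [← MonoidHom.range_eq_map] using congrArg (map P.subtype) e)
  rcases ((orderOf_coe x).trans e) ▸ R.order_cases' hq hr (x : G) with h | h | ⟨A, k, c, n, i, h1, h2, h4⟩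
  · have := Nat.le_of_dvd (by omega) h; have := hp.out; interval_cases p <;> simp_all; contradiction
  · have := (Nat.prime_dvd_prime_iff_eq hp.out Nat.prime_three).1 (hp.out.dvd_of_dvd_pow (show _ ∣ 3 ^ 2 from h)); omega
  · obtain ⟨g, hg⟩ := h1.exists_conj_le (h1.card ▸ hp.out.dvd_iff_not_coprime.2 h2) hP
    exact ⟨_, _, _, _, _, h1.conj g⁻¹, fun x hx => mem_conj_inv.2 (hg x hx), by tauto⟩

theorem order_iff {r : ℕ} (hr : r ^ 2 = 3 * Nat.card K) (d : ℕ) : (∃ g : G, orderOf g = d) ↔ d ∣ 6 ∨ d ∣ 9 ∨ d ∣ Nat.card K - 1 ∨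
    d ∣ (Nat.card K + 1) / 2 ∨ d ∣ Nat.card K - r + 1 ∨ d ∣ Nat.card K + r + 1 := by
  have := R.finite
  have hm := R.card_mod
  constructor
  · rintro ⟨x, rfl⟩
    rcases R.order_cases' hq hr x with h | h | ⟨A, k, c, n, i, h1, h2, h | h | h | h⟩
    · tauto
    · tauto
    · have := h.2 ▸ (h1.dvd h2).2; tauto
    · have := (show 2 * k = (Nat.card K + 1) / 2 by omega) ▸ (h1.dvd h2).1; tauto
    · have := h.1 ▸ h.2 ▸ (h1.dvd h2).2; tauto
    · have := h.1 ▸ h.2 ▸ (h1.dvd h2).2; tauto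
  have k : ∀ (x : G) {n}, orderOf x = n → d ∣ n → ∃ g : G, orderOf g = d := fun x n e h =>
    ⟨x ^ (orderOf x / d), orderOf_pow_orderOf_div (orderOf_pos x).ne' (e ▸ h)⟩
  have k' : ∀ (A : Subgroup G) {n}, IsCyclic A → Nat.card A = n → d ∣ n → ∃ g : G, orderOf g = d := fun A n h e =>
    let ⟨x, hx⟩ := IsCyclic.exists_ofOrder_eq_natCard (α := A); k x ((orderOf_coe x).trans (hx.trans e))
  obtain ⟨C, E, hC, hE⟩ := R.tor_three hq hr
  obtain ⟨Θ, hΘ, -⟩ := R.exists_invC_J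
  rintro (h | h | h | h | h | h)
  · refine k (R.J * R.X 0 1 0) ((Commute.orderOf_mul_eq_mul_orderOf_of_coprime (mul_inv_eq_iff_eq_mul.1 (R.J_fix.2 ⟨rfl, rfl⟩)) ?_).trans ?_) h <;>
      simp [orderOf_J, R.orderOf_X_three.2, show Odd 3 by decide]
  · exact k (R.X 1 0 0) (R.orderOf_X_nine.2 one_ne_zero) h
  · exact k' _ R.isCyclic_H R.card_H h
  · obtain ⟨x, -, e⟩ := exists_orderOf_of_dvd (SS_of_trace_zero R.two_ne trace_w0)
      (card_Tb_aniso (aniso_of_trace_zero trace_w0 hm) ▸ dd_odd R.two_ne ▸ h)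
    exact ⟨_, (orderOf_injective (Θ.comp (MonoidHom.inr _ _)) (hΘ.inj.comp (Prod.mk_right_injective 1)) x).trans e⟩
  · exact k' C hC.cyc hC.card h
  · exact k' E hE.cyc hE.card h

theorem normalizer_four {V : Subgroup G} (hV : Nat.card V = 4) : ∃ A : Subgroup G,
    TorD A ((Nat.card K + 1) / 4) (Nat.card K + 1) (6 * (Nat.card K + 1)) 3 ∧ normalizer (V : Set G) ≤ normalizer (A : Set G) := by
  have := R.finite
  have : IsKleinFour V := isKleinFour_of hV fun x => R.sq_of_pgroup (IsPGroup.of_card (n := 2) hV)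
  obtain ⟨a, ha, b, hb, hp⟩ := exists_pair V
  obtain ⟨Θ, h⟩ := R.exists_invC hq hp.a1 hp.aa
  obtain ⟨e, w, rfl⟩ := h.ex hp.comm.symm
  obtain ⟨g, h1, hs, rfl, h2⟩ := exists_of_involution R.two_ne (a := w) (by
    rintro rfl; rcases Z2_cases e with rfl | rfl; exacts [hp.b1 (map_one Θ), hp.ab h.eq.symm])
    (congrArg Prod.snd (h.eq_one.1 ((map_mul Θ (e, w) (e, w)).trans hp.bb)))
  obtain ⟨x, hx, hA, hN⟩ := R.tor_two' hq h h1
  refine ⟨_, hA, fun y hy => hA.ti y _ (mem_zpowers _) (fun e => hA.ne_bot (by simp [e])) (hA.toTor.mem' ?_ (by simp [HallTorus.orderOf_conj]))⟩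
  have : y * Θ (1, x) * y⁻¹ ∈ centralizer (V : Set G) := (mem_normalizer_iff.1 (normalizer_le_normalizer_centralizer V hy) _).1 (by
    rw [← four_eq hp ha hb]
    have e1 := (h.comm (1, x)).symm
    have e2 := (h.comm_iff (a := e) (b := 1)).2 (Tb_comm hs.ns (self_mem_Tb g) hx)
    rintro _ (rfl | rfl | rfl | rfl)
    exacts [by simp, e1, e2, Commute.mul_left e1 e2])
  obtain ⟨c, v, e'⟩ := h.ex (this a ha).symm
  exact e' ▸ (hN ..).2 (h2 ▸ mem_C_iff.2 (h.comm_iff.1 (e' ▸ this _ hb)).symm)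

theorem solvable_le {r : ℕ} (hr : r ^ 2 = 3 * Nat.card K) (S : Subgroup G) (hS : Group.IsSolvable S) :
    ∃ A : Subgroup G, S ≤ normalizer (A : Set G) ∧ ((∃ P : Sylow 2 G, A = P) ∨ (∃ P : Sylow 3 G, A = P) ∨
      (IsCyclic A ∧ (Nat.card A = (Nat.card K - 1) / 2 ∨ Nat.card A = (Nat.card K + 1) / 4 ∨ Nat.card A = Nat.card K - r + 1 ∨
        Nat.card A = Nat.card K + r + 1))) := by
  have := R.finite
  by_cases h : ∃ p : ℕ, p.Prime ∧ p ≠ 2 ∧ Cfsg.pCore p S ≠ ⊥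
  · obtain ⟨p, hp, p2, h⟩ := h
    have := Fact.mk hp
    have h1 := CA.Core.le_normalizer_map_pCore (p := p) S
    have h2 := CA.Core.isPGroup_map_pCore (p := p) S
    replace h : (Cfsg.pCore p S).map S.subtype ≠ ⊥ := by rwa [Ne, map_eq_bot_iff_of_injective _ S.subtype_injective]
    by_cases p3 : p = 3
    · subst p3
      obtain ⟨P, hP⟩ := h2.exists_le_sylow
      obtain ⟨g, e⟩ := R.sylow_conj P
      obtain ⟨⟨x, hx⟩, x1⟩ := ne_bot_iff_exists_ne_one.1 h
      have := e ▸ R.split.conj g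
      exact ⟨P, h1.trans ((this.normalizer_le hP ⟨x, hx, fun e => x1 (Subtype.ext e)⟩).trans this.stabilizer_le_normalizer), by simp⟩
    · obtain ⟨A, k, c, n, i, hA, h3, h4⟩ := R.exists_tor hq hr (by have := hp.two_le; omega) h2 h
      exact ⟨A, hA.normalizer_eq h3 h ▸ h1, Or.inr (Or.inr ⟨hA.cyc, hA.card ▸ h4⟩)⟩
  push Not at h
  have h0 : Cfsg.fittingSubgroup S = Cfsg.pCore 2 S := le_antisymm ((CA.Fitting.fitting_eq_iSup_pCore (G := S)).trans_le <| iSup_le fun p => by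
    by_cases e : (p : ℕ) = 2
    exacts [e ▸ le_rfl, h p p.2 e ▸ bot_le]) CA.Fitting.pCore_le_fitting
  have h1 := CA.Core.le_normalizer_map_pCore (p := 2) S
  obtain ⟨P, hP⟩ := (CA.Core.isPGroup_map_pCore (p := 2) S).exists_le_sylow
  obtain ⟨i, hi, e⟩ := (Nat.dvd_prime_pow Nat.prime_two (m := 3)).1 (R.card_sylow P ▸ card_dvd_of_le hP)
  rcases (by omega : i ≤ 1 ∨ i = 2 ∨ i = 3) with h2 | rfl | rfl
  · refine ⟨P, le_trans (fun x hx => hP ⟨⟨x, hx⟩, h0.le (CA.Fitting.centralizer_fitting_le (h0 ▸ fun y hy => Subtype.ext ?_)), rfl⟩)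
      le_normalizer, by simp⟩
    by_contra h3
    have h4 := (mem_normalizer_iff.1 (h1 hx) y).1 ⟨y, hy, rfl⟩
    have := Set.ncard_le_ncard (s := {1, (y : G), x * y * x⁻¹}) (t := (Cfsg.pCore 2 S).map S.subtype) (by
      rintro _ (rfl | rfl | rfl); exacts [one_mem _, ⟨y, hy, rfl⟩, h4])
    have y1 : (y : G) ≠ 1 := fun e => h3 (by simp [e])
    rw [Set.ncard_eq_three.2 ⟨_, _, _, y1.symm, (conj_ne_one y1 x).symm, fun e => h3 (eq_mul_inv_iff_mul_eq.1 e), rfl⟩] at this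
    have := this.trans_eq e
    interval_cases i <;> omega
  · obtain ⟨A, hA, h2⟩ := R.normalizer_four hq e
    exact ⟨A, h1.trans h2, Or.inr (Or.inr ⟨hA.cyc, by simp [hA.card]⟩)⟩
  · exact ⟨P, eq_of_le_of_card_ge hP (by rw [e, R.card_sylow]; rfl) ▸ h1, by simp⟩

end CA.Ree
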