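/-
Element orders of `G₂(q)`.
-/
import Cfsg.Agent.Lib.Lie.SST

set_option autoImplicit false

namespace CA.Chev

open Matrix Equiv Cfsg.Lie Cfsg.Lie.ChevalleyDatum

section
variable {D : ChevalleyDatum} [Good D] {K : Type*} [Field K] {p : ℕ} [CharP K p] {T : Tab}

/-- powers of an integral word -/
def rep (w : SV) (n : ℕ) : SV := (List.replicate n w).flatten

theorem wN_rep (w : SV) (n : ℕ) : wN (adjG D K).x ((rep w n).map fun a => (a.1, (a.2 : K))) =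
    wN (adjG D K).x (w.map fun a => (a.1, (a.2 : K))) ^ n := by
  induction n with
  | zero => simp [rep]
  | succ n ih => rw [rep, List.replicate_succ, List.flatten_cons, List.map_append, wN_append, ← rep, ih, pow_succ']

theorem wN_ne_one (hT : tab D = T) {w : SV} {i j : ℕ} (h : (w.all (fun a => decide (a.1 < T.n)) && decide (i < T.n) &&
    decide (j < T.n) && decide (i ≠ j) && decide (¬ (p : ℤ) ∣ coef (T.appW w [(j, 1)]) i)) = true) :
    wN (adjG D K).x (w.map fun a => (a.1, (a.2 : K))) ≠ 1 := fun e => by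
  subst hT
  simp only [Bool.and_eq_true, List.all_eq_true, decide_eq_true_eq] at h
  obtain ⟨⟨⟨⟨h1, hi⟩, hj⟩, h2⟩, h3⟩ := h
  have h4 := congrArg (fun g => ((adjG D K).θ g).1 (.inr ⟨i, hi⟩) (.inr ⟨j, hj⟩)) e
  simp only [map_wN _ _ (adjG D K).θx, ← cz_wordZ h1, map_one, Units.val_one, cz_apply] at h4
  have h5 := congrFun (vec_appW (D := D) w [(enc (.inr ⟨j, hj⟩ : D.Idx), 1)]) (.inr ⟨i, hi⟩)
  rw [vec_single, mulVec_single_one, col_apply, vec_apply] at h5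
  rw [one_apply_ne (fun e => h2 (congrArg Fin.val (Sum.inr.inj e))), CharP.intCast_eq_zero_iff K p, ← h5] at h4
  exact h3 h4

theorem exists_ord_word (hT : tab D = T) (w : SV) {n : ℕ} (hn : 0 < n) (c : ℕ → ℕ × ℕ)
    (h : (wordChk T p (rep w n) [] && n.primeFactorsList.all fun l => (rep w (n / l)).all (fun a => decide (a.1 < T.n)) &&
      decide ((c l).1 < T.n) && decide ((c l).2 < T.n) && decide ((c l).1 ≠ (c l).2) &&
      decide (¬ (p : ℤ) ∣ coef (T.appW (rep w (n / l)) [((c l).2, 1)]) (c l).1)) = true) : ∃ x : D.group K, orderOf x = n := by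
  rw [Bool.and_eq_true, List.all_eq_true] at h
  refine ⟨_, orderOf_eq_of_pow_and_pow_div_prime hn ((wN_rep w n).symm.trans (wN_eq_of_wordChk (adjG D K).toSys0
    adjG_θ_injective (by simp) hT h.1)) fun l h1 h2 => wN_rep (D := D) (K := K) w _ ▸ wN_ne_one hT
      (h.2 l ((Nat.mem_primeFactorsList hn.ne').2 ⟨h1, h2⟩))⟩
end

namespace G2

def R (k : Fin 12) : Rt chevG2 := k
def n0 : Nd chevG2 := (0 : Fin 2)
def n1 : Nd chevG2 := (1 : Fin 2)
abbrev w0 (r : Rt chevG2) : ℤ := wt r n0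
abbrev w1 (r : Rt chevG2) : ℤ := wt r n1

theorem dec1 : ∀ a b : Rt chevG2, pr a b = pr (R 9) (R 11) → pr b a = pr (R 11) (R 9) →
    (∃ t ∈ [((0 : ℤ), (-1 : ℤ)), (-1, 1), (1, 1)], w0 a * w0 a + w1 a * w0 b = t.1 * w0 a - t.2 ∧
      w0 a * w1 a + w1 a * w1 b = t.1 * w1 a ∧ w0 b * w0 a + w1 b * w0 b = t.1 * w0 b ∧
      w0 b * w1 a + w1 b * w1 b = t.1 * w1 b - t.2) ∧ ∀ r : Rt chevG2, ∃ ε ∈ [(-1 : ℤ), 1],
      (∃ i ∈ [(0 : ℤ), 1, -1, 2, -2, 3, -3], ∃ j ∈ [(0 : ℤ), 1, -1, 2, -2, 3, -3],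
        w0 a = ε + i * w0 r + j * (w0 r * w0 a + w1 r * w0 b) ∧ w1 a = i * w1 r + j * (w0 r * w1 a + w1 r * w1 b)) ∧
      ∃ i ∈ [(0 : ℤ), 1, -1, 2, -2, 3, -3], ∃ j ∈ [(0 : ℤ), 1, -1, 2, -2, 3, -3],
        w0 b = i * w0 r + j * (w0 r * w0 a + w1 r * w0 b) ∧ w1 b = ε + i * w1 r + j * (w0 r * w1 a + w1 r * w1 b) := by
  decide +kernel

theorem dec2 : ∀ s : Rt chevG2, Pos s → (1 ≤ pr (R 10) s + 2 * pr (R 11) s ∧ pr (R 10) s + 2 * pr (R 11) s ≤ 5) ∧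
    (s = R 7 ∨ s = R 11 → pr (R 10) s = 1) ∧ (s ≠ R 7 → 1 ≤ pr (R 11) s ∧ pr (R 11) s ≤ 2) ∧
    (s ≠ R 7 → s ≠ R 11 → pr (R 11) s = 1 ∧ w0 s + 2 * w1 s = 1 ∧ w0 s ∣ 3) := by decide +kernel

theorem wtR : (w0 (R 9) = 1 ∧ w1 (R 9) = 0) ∧ (w0 (R 11) = 0 ∧ w1 (R 11) = 1) ∧ w0 (R 7) = 2 ∧ w1 (R 7) = -1 := by
  decide +kernel

variable {K : Type*} [Field K]

theorem tor_eq (c : Nd chevG2 → Kˣ) (r : Rt chevG2) :
    tor c (rt r) = (Additive.toMul (w0 r • Additive.ofMul (c n0) + w1 r • Additive.ofMul (c n1)) : Kˣ) :=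
  (tor_rt c r).trans ((Fin.prod_univ_two _).trans (by simp; rfl))

theorem psi_iff {c : Nd chevG2 → Kˣ} {r : Rt chevG2} :
    r ∈ Psi c ↔ w0 r • Additive.ofMul (c n0) + w1 r • Additive.ofMul (c n1) = 0 := by
  rw [Psi, Set.mem_ofPred_eq, tor_eq, Units.val_eq_one, toMul_eq_one]

theorem tor_pow {c : Nd chevG2 → Kˣ} {n : ℕ} {m : ℤ} (e : m = n) (h0 : m • Additive.ofMul (c n0) = 0)
    (h1 : m • Additive.ofMul (c n1) = 0) : tor (c ^ n) = 1 := by
  subst e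
  rw [← map_one tor]; congr 1
  refine funext (Fin.forall_fin_two.2 ⟨show c n0 ^ n = 1 from ?_, show c n1 ^ n = 1 from ?_⟩)
  · simpa using congrArg Additive.toMul h0
  · simpa using congrArg Additive.toMul h1

theorem wt_map {w : Perm (Rt chevG2)} (hw : w ∈ RA chevG2) (r : Rt chevG2) (i : Nd chevG2) :
    wt (w r) i = w0 r * wt (w (R 9)) i + w1 r * wt (w (R 11)) i := by
  have k : ∀ s, wt (w s) i = cor (w⁻¹ (sim i)) n0 * w0 s + cor (w⁻¹ (sim i)) n1 * w1 s := fun s => by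
    rw [← pr_sim_left, ← pr_map (inv_mem hw), pinv_apply, pr, dotProduct]; exact Fin.sum_univ_two _
  simp only [k, wtR]; ring

theorem typ {w : Perm (Rt chevG2)} (hw : w ∈ W chevG2) {c : Nd chevG2 → Kˣ} {q : ℕ} (hq : 0 < q)
    (hc : mact (wM w) c ^ q = c) : (tor (c ^ (q ^ 2 - 1)) = 1 ∨ tor (c ^ (q ^ 2 + q + 1)) = 1 ∨
      tor (c ^ (q ^ 2 - q + 1)) = 1) ∧ ∀ r ∈ Psi c, tor (c ^ (q + 1)) = 1 ∨ tor (c ^ (q - 1)) = 1 := by
  have hw := W_le_RA hw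
  have h1 : ∀ r, w0 (w r) • Additive.ofMul (c n0) + w1 (w r) • Additive.ofMul (c n1) =
      (q : ℤ) • (w0 r • Additive.ofMul (c n0) + w1 r • Additive.ofMul (c n1)) := fun r => by
    have : tor c (rt (w r)) = tor c (rt r) ^ q := by
      rw [← tor_mact hw c r, ← AddChar.pow_apply, ← map_pow, hc]
    rw [tor_eq, tor_eq, ← Units.val_pow_eq_pow_val, Units.val_inj, ← toMul_nsmul] at this
    rw [natCast_zsmul]; exact Additive.toMul.injective this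
  have ha := h1 (R 9)
  have hb := h1 (R 11)
  simp only [wtR] at ha hb
  obtain ⟨⟨t, ht, e1, e2, e3, e4⟩, h2⟩ := dec1 _ _ (pr_map hw _ _) (pr_map hw _ _)
  refine ⟨?_, fun r hr => ?_⟩
  · have k : ∀ n : ℕ, (q : ℤ) ^ 2 - t.1 * q + t.2 = n → tor (c ^ n) = 1 := fun n e => tor_pow e
      (by linear_combination (norm := module) (t.1 - q - w0 (w (R 9))) • ha - w1 (w (R 9)) • hb +
        e1 • Additive.ofMul (c n0) + e2 • Additive.ofMul (c n1))
      (by linear_combination (norm := module) (t.1 - q - w1 (w (R 11))) • hb - w0 (w (R 11)) • ha +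
        e3 • Additive.ofMul (c n0) + e4 • Additive.ofMul (c n1))
    have : q ≤ q ^ 2 := Nat.le_self_pow two_ne_zero q
    simp only [List.mem_cons, List.not_mem_nil, or_false] at ht
    refine ht.imp ?_ (.imp ?_ ?_) <;> rintro rfl <;> refine k _ ?_ <;> push_cast [this, hq.trans_le this] <;> ring
  · obtain ⟨ε, h3, ⟨i, -, j, -, e1, e2⟩, i', -, j', -, e3, e4⟩ := h2 r
    have h4 := psi_iff.1 hr
    have h5 := h1 r
    rw [h4, w0, w1, wt_map hw, wt_map hw r] at h5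
    have k : ∀ n : ℕ, (q : ℤ) - ε = n → tor (c ^ n) = 1 := fun n e => tor_pow e
      (by linear_combination (norm := module) i • h4 + j • h5 - ha + e1 • Additive.ofMul (c n0) + e2 • Additive.ofMul (c n1))
      (by linear_combination (norm := module) i' • h4 + j' • h5 - hb + e3 • Additive.ofMul (c n0) +
        e4 • Additive.ofMul (c n1))
    simp only [List.mem_cons, List.not_mem_nil, or_false] at h3
    refine h3.imp ?_ ?_ <;> rintro rfl <;> refine k _ ?_ <;> push_cast [hq] <;> ring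

theorem unip {Γ : Type*} [Group Γ] {A : Sys chevG2 K Γ} {p : ℕ} [Fact p.Prime] [CharP K p] {c : Nd chevG2 → Kˣ} {v : Γ}
    (hv : v ∈ A.X ({r | Pos r} ∩ Psi c)) : v ^ p = 1 ∨ (tor (c ^ 1) = 1 ∧ ∀ k, 5 < p ^ k → v ^ p ^ k = 1) ∨
      p = 2 ∧ tor (c ^ 3) = 1 ∧ v ^ 4 = 1 := by
  have hp : p.Prime := Fact.out
  have k : ∀ (f : (Nd chevG2 → ℤ) →ₗ[ℤ] ℤ) (k m : ℕ), m < p ^ k → (∀ r, Pos r → r ∈ Psi c → 1 ≤ f (rt r) ∧ f (rt r) ≤ m) →
      v ^ p ^ k = 1 := fun f k m h1 h2 => Sys.pow_eq_one_of_ht (nil_pos.psi c) (f := f) one_pos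
    (fun r hr => ⟨(h2 r hr.1 hr.2).1, (h2 r hr.1 hr.2).2.trans_lt (by rw [one_mul]; exact_mod_cast h1)⟩) hv
  have k1 : ∀ t, (∀ r, Pos r → r ∈ Psi c → pr t r = 1) → v ^ p = 1 := fun t h => pow_one p ▸
    k (prL t) 1 1 (by simpa using hp.one_lt) fun r a b => by simp [prL_rt, h r a b]
  by_cases h1 : ∀ s, Pos s → s ∈ Psi c → s = R 7 ∨ s = R 11
  · exact .inl (k1 (R 10) fun r a b => (dec2 r a).2.1 (h1 r a b))
  push Not at h1
  obtain ⟨s, h1, h2, h3, h4⟩ := h1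
  obtain ⟨-, e1, m, e2⟩ := (dec2 s h1).2.2.2 h3 h4
  have h5 := psi_iff.1 h2
  by_cases h6 : R 7 ∈ Psi c
  · have h7 := psi_iff.1 h6
    simp only [wtR] at h7
    refine .inr (.inl ⟨tor_pow (m := 1) rfl ?_ ?_, fun n hn => k (prL (R 10) + 2 • prL (R 11)) n 5 hn fun r a _ => ?_⟩)
    · linear_combination (norm := module) h5 + w1 s • h7 - e1 • Additive.ofMul (c n0)
    · linear_combination (norm := module) (2 : ℤ) • h5 - w0 s • h7 - e1 • Additive.ofMul (c n1)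
    · simpa [prL_rt] using (dec2 r a).1
  have h7 : ∀ r ∈ Psi c, r ≠ R 7 := fun r a b => h6 (b ▸ a)
  by_cases h8 : R 11 ∈ Psi c
  swap
  · exact .inl (k1 (R 11) fun r a b => ((dec2 r a).2.2.2 (h7 r b) fun e => h8 (e ▸ b)).1)
  have h9 := psi_iff.1 h8
  simp only [wtR] at h9
  have k2 := fun n hn => k (prL (R 11)) n 2 hn fun r a b => by simpa [prL_rt] using (dec2 r a).2.2.1 (h7 r b)
  rcases hp.two_le.eq_or_lt with rfl | h
  · refine .inr (.inr ⟨rfl, tor_pow (m := 3) rfl ?_ ?_, k2 2 (by decide)⟩)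
    · linear_combination (norm := module) m • h5 - (m * w1 s) • h9 + e2 • Additive.ofMul (c n0)
    · linear_combination (norm := module) (3 : ℤ) • h9
  · exact .inl (pow_one p ▸ k2 1 (by simpa))

variable {F : Type*} [Field F] [Fintype F] (p : ℕ) [Fact p.Prime] [CharP F p] {q : ℕ} (hq : Fintype.card F = q)
include hq

theorem ord_dvd (x : chevG2.group F) : orderOf x ∣ p * (q + 1) ∨ orderOf x ∣ p * (q - 1) ∨ orderOf x ∣ q ^ 2 - 1 ∨
    orderOf x ∣ q ^ 2 + q + 1 ∨ orderOf x ∣ q ^ 2 - q + 1 ∨ (p = 2 ∧ orderOf x ∣ 12) ∨ ∀ k, 5 < p ^ k → orderOf x ∣ p ^ k := by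
  subst hq
  obtain ⟨τ, Φ, -, -, h3, -, -⟩ := form_untw (p := p) (D := chevG2) (by simp) F
  obtain ⟨w, hw, c, hc, v, hv, h⟩ := Φ.exists_typ x
  simp only [orderOf_dvd_iff_pow_eq_one, h]
  obtain ⟨h1, h2⟩ := typ hw Fintype.card_pos ((h3 _ _).1 hc)
  by_cases h4 : ∃ r, Pos r ∧ r ∈ Psi c
  swap
  · obtain rfl : v = 1 := Subgroup.mem_bot.1 ((stG chevG2 (AlgebraicClosure F)).X_empty ▸ (stG chevG2 _).X_mono (fun r hr => h4 ⟨r, hr⟩) hv)
    simp only [one_pow, and_true]; tauto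
  obtain ⟨r, -, hr⟩ := h4
  have k : ∀ m n, tor (c ^ m) = 1 → tor (c ^ (n * m)) = 1 := fun m n e => by rw [pow_mul', map_pow, e, one_pow]
  rcases unip (p := p) hv with e | ⟨e, e'⟩ | ⟨rfl, e, e'⟩
  · simp only [pow_mul v, e, one_pow, and_true]
    exact (h2 r hr).elim (fun h => .inl (k _ _ h)) fun h => .inr (.inl (k _ _ h))
  · iterate 6 right
    exact fun n hn => ⟨mul_one (p ^ n) ▸ k _ _ e, e' n hn⟩
  · iterate 5 right
    exact .inl ⟨rfl, k 3 4 e, by rw [show 12 = 4 * 3 from rfl, pow_mul, e', one_pow]⟩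

theorem exists_ord : ∀ n ∈ [p * (q + 1), p * (q - 1), q ^ 2 - 1, q ^ 2 + q + 1, q ^ 2 - q + 1],
    ∃ x : chevG2.group F, orderOf x = n := by
  subst hq
  obtain ⟨τ, Φ, h1, h2, h3, -, -⟩ := form_untw (p := p) (D := chevG2) (by simp) F
  set q := Fintype.card F
  have h0 : 1 < q := Fintype.one_lt_card
  have h4 : q ≤ q ^ 2 := Nat.le_self_pow two_ne_zero q
  have hq : (q : AlgebraicClosure F) = 0 := by rw [← map_natCast (algebraMap F _), FiniteField.cast_card_eq_zero, map_zero]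
  have k := fun (L : List (Nd chevG2)) S e f V μ h (m : ℕ) hm hd =>
    @exists_elt chevG2 _ (AlgebraicClosure F) _ _ _ tab_G2 L id id S (fun _ => rfl) e f V μ h q m hm hd
  have k1 : ∀ L m, (∃ c : Nd chevG2 → (AlgebraicClosure F)ˣ, mact (wM (wd L)) c ^ q = c ∧ orderOf (tor c) = m ∧ True) →
      ∃ x : chevG2.group F, orderOf x = m := fun L m ⟨c, a, b, _⟩ => b ▸ Φ.ord_ss (wd_mem L) ((h3 _ _).2 a)
  have k2 : ∀ (L : List (Nd chevG2)) (m : ℕ), (m : AlgebraicClosure F) ≠ 0 → apW tabG2 (L.map Fin.val) 11 = 11 →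
      (∃ c : Nd chevG2 → (AlgebraicClosure F)ˣ, mact (wM (wd L)) c ^ q = c ∧ orderOf (tor c) = m ∧
        R 11 ∈ Psi c) → ∃ x : chevG2.group F, orderOf x = p * m := fun L m h5 h6 ⟨c, a, b, d⟩ => by
    obtain ⟨x, hx⟩ := Φ.ord_mixed (wd_mem L) ((h3 _ _).2 a) (r := R 11) (by decide) d
      (by rw [h2]; exact Fin.ext ((apW_eq L (R 11)).symm.trans (by rw [tab_G2]; exact h6))) h0 (h1 _)
    exact ⟨x, by rw [hx, b, (((Fact.out : p.Prime).coprime_iff_not_dvd).2 fun h =>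
      h5 ((CharP.cast_eq_zero_iff _ p m).2 h)).symm.lcm_eq_mul, mul_comm]⟩
  simp only [List.mem_cons, List.not_mem_nil, or_false, forall_eq_or_imp, forall_eq]
  refine ⟨k2 [n0] _ ?_ (by decide +kernel) ((k [n0] (getN [4, 10]) 1 (getG 0 [1, 1]) (tb8 [0x80, 0x0, 0x1]) (getG 0 [-2, -1])
      (by decide +kernel) _ ?_ ?_).imp fun c h => ⟨h.1, h.2.1, h.2.2 _ (by decide +kernel)⟩),
    k2 [] _ ?_ (by decide +kernel) ((k [] (getN [7, 6]) 1 (getG 0 [-1, 1]) (tb8 [0x1, 0x0, 0x1]) (getG 0 [2, 1])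
      (by decide +kernel) _ ?_ ?_).imp fun c h => ⟨h.1, h.2.1, h.2.2 _ (by decide +kernel)⟩),
    k1 _ _ ((k [n0] (getN [4, 10]) 2 (getG 0 [-1, 0, 1]) (tb8 [0x101, 0x100, 0x0, 0x101]) (getG 0 [2, 1])
      (by decide +kernel) _ ?_ ?_).imp fun c h => ⟨h.1, h.2.1, trivial⟩),
    k1 _ _ ((k [n0, n1, n0, n1] (getN [8, 0]) 2 (getG 0 [1, 1, 1]) (tb8 [0x8080, 0x8180, 0x0, 0x101]) (getG 0 [-1, 0])
      (by decide +kernel) _ ?_ ?_).imp fun c h => ⟨h.1, h.2.1, trivial⟩),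
    k1 _ _ ((k [n0, n1] (getN [9, 1]) 2 (getG 0 [1, -1, 1]) (tb8 [0x8000, 0x201, 0x0, 0x100]) (getG 0 [1, 0])
      (by decide +kernel) _ ?_ ?_).imp fun c h => ⟨h.1, h.2.1, trivial⟩)⟩ <;>
  first
  | (push_cast [h0.le, h4, h0.le.trans h4, hq]; norm_num; done)
  | (refine dvd_of_eq ?_; simp [ev_eq, Finset.sum_range_succ, getG_eq, h0.le, h4, h0.le.trans h4]; try ring)

omit [Fintype F] [Fact p.Prime] hq in
theorem exists_ord' : (p = 2 → (∃ x : chevG2.group F, orderOf x = 8) ∧ ∃ x : chevG2.group F, orderOf x = 12) ∧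
    (p = 3 ∨ p = 5 → ∃ x : chevG2.group F, orderOf x = p ^ 2) := by
  refine ⟨?_, ?_⟩
  · rintro rfl
    exact ⟨exists_ord_word (p := 2) tab_G2 [(7, 1), (6, 1)] (by decide) (fun _ => (11, 0)) (by decide +kernel),
      exists_ord_word (p := 2) tab_G2 [(0, 1), (2, 1), (9, 1)] (by decide) (fun l => if l = 2 then (0, 1) else (5, 0))
        (by decide +kernel)⟩
  rintro (rfl | rfl)
  exacts [exists_ord_word (p := 3) tab_G2 [(7, 1), (6, 1)] (by decide) (fun _ => (3, 0)) (by decide +kernel),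
    exists_ord_word (p := 5) tab_G2 [(7, 1), (6, 1)] (by decide) (fun _ => (11, 0)) (by decide +kernel)]

end G2

end CA.Chev
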